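import Cfsg.Statements.S2530
import Mathlib
import Cfsg.Agent.Fischer.CoxA
import Cfsg.Agent.Fischer.Basic

set_option autoImplicit false
open Cfsg

namespace Cfsg.Agent.S2530

open Fischer

/-- The Coxeter presentation of the symmetric group: for every n, the symmetric group on n+1 letters is the Coxeter group of type A_n with the adjacent transpositions (i, i+1) as simple reflections; that is, it is presented by generators r_1, …, r_n subject to r_i² = 1, (r_i r_j)² = 1 for |i − j| > 1 and (r_i r_{i+1})³ = 1, with r_i mapping to (i, i+1). -/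
theorem result (n : ℕ) :
    ∃ cs : CoxeterSystem (CoxeterMatrix.A n) (Equiv.Perm (Fin (n + 1))), ∀ i : Fin n, cs.simple i = Equiv.swap i.castSucc i.succ := by
  let M := CoxeterMatrix.A n
  let cs := M.toCoxeterSystem
  let g : ℕ → M.Group := fun i => if h : i < n then cs.simple ⟨i, h⟩ else 1
  have hg : CoxARel n g := by
    refine ⟨fun i hi => ?_, fun i hi => ?_, fun i j hij hj => ?_⟩
    · simp only [g, dif_pos hi]
      exact cs.simple_mul_simple_self _
    · simp only [g, dif_pos hi, dif_pos (show i < n by omega)]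
      refine braid_of_cube (cs.simple_mul_simple_self _) (cs.simple_mul_simple_self _) ?_
      have := cs.simple_mul_simple_pow ⟨i, by omega⟩ ⟨i + 1, hi⟩
      simpa [M, CoxeterMatrix.A] using this
    · simp only [g, dif_pos hj, dif_pos (show i < n by omega)]
      refine commute_of_sq (cs.simple_mul_simple_self _) (cs.simple_mul_simple_self _) ?_
      have := cs.simple_mul_simple_pow ⟨i, by omega⟩ ⟨j, hj⟩
      have e : M ⟨i, by omega⟩ ⟨j, hj⟩ = 2 := by
        simp only [M, CoxeterMatrix.A, Matrix.of_apply, Fin.mk.injEq]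
        rw [if_neg (by omega), if_neg (by omega)]
      rwa [e] at this
  obtain ⟨φ, hφ⟩ := coxA_hom hg
  have hadj : ∀ i : Fin n, adjSwap n i = Equiv.swap i.castSucc i.succ := fun i => by
    simp only [adjSwap, dif_pos i.2]; rfl
  have hrel := adjSwap_rel n
  have hl : M.IsLiftable fun i : Fin n => adjSwap n i := by
    intro i j
    simp only [M, CoxeterMatrix.A, Matrix.of_apply]
    split_ifs with h1 h2
    · subst h1; rw [pow_one]; exact hrel.sq _ i.2
    · refine cube_of_braid (hrel.sq _ i.2) (hrel.sq _ j.2) ?_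
      rcases h2 with h2 | h2
      · rw [← h2]; exact (hrel.braid _ (by rw [h2]; exact i.2)).symm
      · rw [← h2]; exact hrel.braid _ (by rw [h2]; exact j.2)
    · refine sq_of_commute (hrel.sq _ i.2) (hrel.sq _ j.2) ?_
      have h3 : (i : ℕ) ≠ j := fun h => h1 (Fin.ext h)
      rcases lt_or_gt_of_ne h3 with h | h
      · exact hrel.comm _ _ (by omega) j.2
      · exact (hrel.comm _ _ (by omega) i.2).symm
  let ψ := cs.lift ⟨_, hl⟩
  have hψ : ∀ i : Fin n, ψ (cs.simple i) = adjSwap n i := cs.lift_apply_simple hl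
  have hφ' : ∀ i : Fin n, φ (adjSwap n i) = cs.simple i := fun i => by
    rw [hφ i i.2]; simp only [g, dif_pos i.2]
  have h1 : ψ.comp φ = MonoidHom.id _ := by
    apply MonoidHom.eq_of_eqOn_dense (coxSub_adjSwap n)
    rintro _ ⟨i, hi, rfl⟩
    exact (congrArg ψ (hφ' ⟨i, hi⟩)).trans (hψ ⟨i, hi⟩)
  have h2 : φ.comp ψ = MonoidHom.id _ := by
    apply MonoidHom.eq_of_eqOn_dense cs.subgroup_closure_range_simple
    rintro _ ⟨i, rfl⟩
    exact (congrArg φ (hψ i)).trans (hφ' i)
  exact ⟨⟨MonoidHom.toMulEquiv φ ψ h1 h2⟩, fun i => (hψ i).trans (hadj i)⟩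

end Cfsg.Agent.S2530
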