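import Mathlib
import Cfsg.Statements.S3335
import Cfsg.Agent.S2530

set_option autoImplicit false
open Cfsg

namespace Cfsg.Agent.S3335

open Equiv

def rels (m : ℕ) : Set (FreeGroup (Fin m)) :=
  ({g : FreeGroup (Fin m) | ∃ i : Fin m, i.val = 0 ∧ g = FreeGroup.of i ^ 3} ∪
       {g | ∃ i : Fin m, 1 ≤ i.val ∧ g = FreeGroup.of i ^ 2} ∪
       {g | ∃ i j : Fin m, j.val = i.val + 1 ∧ g = (FreeGroup.of i * FreeGroup.of j) ^ 3} ∪
       {g | ∃ i j : Fin m, i.val + 1 < j.val ∧ g = (FreeGroup.of i * FreeGroup.of j) ^ 2})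

structure Rel {m : ℕ} {G : Type*} [Group G] (x : Fin m → G) : Prop where
  r1 : ∀ i : Fin m, i.val = 0 → x i ^ 3 = 1
  r2 : ∀ i : Fin m, 1 ≤ i.val → x i ^ 2 = 1
  r3 : ∀ i j : Fin m, j.val = i.val + 1 → (x i * x j) ^ 3 = 1
  r4 : ∀ i j : Fin m, i.val + 1 < j.val → (x i * x j) ^ 2 = 1

section
variable {m : ℕ} {G : Type*} [Group G] {x : Fin m → G}

theorem Rel.lift (h : Rel x) : ∀ r ∈ rels m, FreeGroup.lift x r = 1 := by
  rintro r (((⟨i, hi, rfl⟩ | ⟨i, hi, rfl⟩) | ⟨i, j, hi, rfl⟩) | ⟨i, j, hi, rfl⟩)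
  · simpa using h.r1 i hi
  · simpa using h.r2 i hi
  · simpa using h.r3 i j hi
  · simpa using h.r4 i j hi

theorem rel_of : Rel (fun i => (PresentedGroup.of i : PresentedGroup (rels m))) where
  r1 i hi := PresentedGroup.one_of_mem (Or.inl (Or.inl (Or.inl ⟨i, hi, rfl⟩)))
  r2 i hi := PresentedGroup.one_of_mem (Or.inl (Or.inl (Or.inr ⟨i, hi, rfl⟩)))
  r3 i j hi := PresentedGroup.one_of_mem (Or.inl (Or.inr ⟨i, j, hi, rfl⟩))
  r4 i j hi := PresentedGroup.one_of_mem (Or.inr ⟨i, j, hi, rfl⟩)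

theorem pow_swap {a b : G} {k : ℕ} (h : (a * b) ^ k = 1) : (b * a) ^ k = 1 := by
  have : b * a = b * (a * b) * b⁻¹ := by group
  rw [this, conj_pow, h]; simp

theorem pow_inv {a b : G} {k : ℕ} (h : (a * b) ^ k = 1) : (a⁻¹ * b⁻¹) ^ k = 1 := by
  rw [← mul_inv_rev, inv_pow, pow_swap h, inv_one]

theorem Rel.inv (h : Rel x) : Rel (fun i => (x i)⁻¹) where
  r1 i hi := by rw [inv_pow, h.r1 i hi, inv_one]
  r2 i hi := by rw [inv_pow, h.r2 i hi, inv_one]
  r3 i j hi := pow_inv (h.r3 i j hi)
  r4 i j hi := pow_inv (h.r4 i j hi)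

theorem Rel.mix (h : Rel x) {i j : Fin m} (hij : i < j) :
    ((x i)⁻¹ * x j) ^ (CoxeterMatrix.A (m + 1)) i.succ j.succ = 1 := by
  have hj : x j = (x j)⁻¹ := by
    have := h.r2 j (by have : i.val < j.val := hij; omega)
    rw [eq_inv_iff_mul_eq_one, ← sq, this]
  rw [hj]
  have hij' : i.val < j.val := hij
  by_cases e : j.val = i.val + 1
  · have : (CoxeterMatrix.A (m + 1)) i.succ j.succ = 3 := by
      simp [CoxeterMatrix.A, hij.ne, e]
    rw [this]; exact h.inv.r3 i j e
  · have : (CoxeterMatrix.A (m + 1)) i.succ j.succ = 2 := by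
      simp only [CoxeterMatrix.A, Matrix.of_apply, Fin.succ_inj, hij.ne, if_false, Fin.val_succ]
      rw [if_neg (by omega)]
    rw [this]; exact h.inv.r4 i j (by omega)

theorem Rel.zero (h : Rel x) (i : Fin m) : x i ^ (CoxeterMatrix.A (m + 1)) 0 i.succ = 1 := by
  by_cases e : i.val = 0
  · have : (CoxeterMatrix.A (m + 1)) 0 i.succ = 3 := by
      simp [CoxeterMatrix.A, (Fin.succ_ne_zero i).symm, e]
    rw [this]; exact h.r1 i e
  · have : (CoxeterMatrix.A (m + 1)) 0 i.succ = 2 := by
      simp [CoxeterMatrix.A, (Fin.succ_ne_zero i).symm, e]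
    rw [this]; exact h.r2 i (by omega)

theorem rel_cox (s : Fin (m + 1) → G) (h : (CoxeterMatrix.A (m + 1)).IsLiftable s) :
    Rel (fun i : Fin m => s 0 * s i.succ) := by
  have h0 : s 0 * s 0 = 1 := by simpa using h 0 0
  have hs : ∀ i, s i * s i = 1 := fun i => by simpa using h i i
  have h2 : ∀ i : Fin m, 1 ≤ i.val → (s 0 * s i.succ) ^ 2 = 1 := fun i hi => by
    have := h 0 i.succ
    rwa [show (CoxeterMatrix.A (m + 1)) 0 i.succ = 2 by
      simp [CoxeterMatrix.A, (Fin.succ_ne_zero i).symm, show i.val ≠ 0 by omega]] at this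
  have h3 : ∀ i j : Fin m, 1 ≤ j.val → s 0 * s i.succ * (s 0 * s j.succ) = s 0 * (s i.succ * s j.succ) * (s 0)⁻¹ := by
    intro i j hj
    have e1 := h2 j hj
    have e2 : s 0 * s j.succ = s j.succ * (s 0)⁻¹ := by
      rw [sq, ← eq_inv_iff_mul_eq_one, mul_inv_rev, ← eq_inv_of_mul_eq_one_left (hs j.succ)] at e1
      exact e1
    rw [e2]; group
  refine ⟨fun i hi => ?_, h2, fun i j e => ?_, fun i j e => ?_⟩
  · have := h 0 i.succ
    rwa [show (CoxeterMatrix.A (m + 1)) 0 i.succ = 3 by
      simp [CoxeterMatrix.A, (Fin.succ_ne_zero i).symm, hi]] at this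
  · have := h i.succ j.succ
    have hne : i ≠ j := fun e' => by rw [e'] at e; omega
    rw [show (CoxeterMatrix.A (m + 1)) i.succ j.succ = 3 by simp [CoxeterMatrix.A, hne, e]] at this
    rw [h3 i j (by omega), conj_pow, this]; simp
  · have := h i.succ j.succ
    have hne : i ≠ j := fun e' => by rw [e'] at e; omega
    rw [show (CoxeterMatrix.A (m + 1)) i.succ j.succ = 2 by
      simp only [CoxeterMatrix.A, Matrix.of_apply, Fin.succ_inj, hne, if_false, Fin.val_succ]
      rw [if_neg (by omega)]] at this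
    rw [h3 i j (by omega), conj_pow, this]; simp

end

noncomputable def al (m : ℕ) : PresentedGroup (rels m) →* PresentedGroup (rels m) :=
  PresentedGroup.toGroup rel_of.inv.lift

theorem al_of {m : ℕ} (i : Fin m) : al m (PresentedGroup.of i) = (PresentedGroup.of i)⁻¹ :=
  PresentedGroup.toGroup.of _

theorem al_al {m : ℕ} (p : PresentedGroup (rels m)) : al m (al m p) = p := by
  have : (al m).comp (al m) = MonoidHom.id _ := PresentedGroup.ext fun i => by simp [al_of]
  exact DFunLike.congr_fun this p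

noncomputable def alE (m : ℕ) : MulAut (PresentedGroup (rels m)) :=
  MonoidHom.toMulEquiv (al m) (al m) (MonoidHom.ext al_al) (MonoidHom.ext al_al)

noncomputable def ph (m : ℕ) : ℤˣ →* MulAut (PresentedGroup (rels m)) where
  toFun u := if u = 1 then 1 else alE m
  map_one' := if_pos rfl
  map_mul' u v := by
    rcases Int.units_eq_one_or u with rfl | rfl <;> rcases Int.units_eq_one_or v with rfl | rfl <;> simp
    exact MulEquiv.ext fun p => (al_al p).symm

theorem main (m : ℕ) : Nonempty (PresentedGroup (rels m) ≃* alternatingGroup (Fin (m + 2))) := by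
  obtain ⟨cs, hcs⟩ := Cfsg.Agent.S2530.result (m + 1)
  have hR := rel_cox cs.simple cs.simple_mul_simple_pow
  let π : PresentedGroup (rels m) →* Perm (Fin (m + 2)) := PresentedGroup.toGroup hR.lift
  have hπ : ∀ i, π (PresentedGroup.of i) = cs.simple 0 * cs.simple i.succ := fun i => PresentedGroup.toGroup.of _
  have hsg : ∀ i, Perm.sign (cs.simple i) = -1 := fun i => by
    rw [hcs]; exact Perm.sign_swap (Fin.castSucc_lt_succ).ne
  have hsign : ∀ p, Perm.sign (π p) = 1 := fun p => by
    have : Perm.sign.comp π = 1 := PresentedGroup.ext fun i => by simp [hπ, hsg]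
    exact DFunLike.congr_fun this p
  let t : PresentedGroup (rels m) ⋊[ph m] ℤˣ := SemidirectProduct.inr (-1)
  have ht : t * t = 1 := by simp [t, ← map_mul]
  have htc : ∀ i, t * SemidirectProduct.inl (PresentedGroup.of i) * t =
      SemidirectProduct.inl (PresentedGroup.of i)⁻¹ := fun i => by
    have := SemidirectProduct.inl_aut (φ := ph m) (-1) (PresentedGroup.of i)
    rw [show ph m (-1) (PresentedGroup.of i) = (PresentedGroup.of i)⁻¹ from al_of i] at this
    rw [this]; rfl
  let f : Fin (m + 1) → PresentedGroup (rels m) ⋊[ph m] ℤˣ :=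
    Fin.cases t fun i => t * SemidirectProduct.inl (PresentedGroup.of i)
  have hf0 : ∀ i : Fin m, f 0 * f i.succ = SemidirectProduct.inl (PresentedGroup.of i) := fun i => by
    simp only [f, Fin.cases_zero, Fin.cases_succ, ← mul_assoc, ht, one_mul]
  have hfs : ∀ i j : Fin m, f i.succ * f j.succ =
      SemidirectProduct.inl ((PresentedGroup.of i)⁻¹ * PresentedGroup.of j) := fun i j => by
    simp only [f, Fin.cases_succ, ← mul_assoc, htc, map_mul]
  have hf : (CoxeterMatrix.A (m + 1)).IsLiftable f := by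
    intro i j
    wlog hij : i ≤ j generalizing i j
    · rw [(CoxeterMatrix.A (m + 1)).symmetric]
      exact pow_swap (this j i (le_of_not_ge hij))
    rcases hij.eq_or_lt with rfl | hij
    · rw [(CoxeterMatrix.A (m + 1)).diagonal, pow_one]
      refine Fin.cases ht (fun i => ?_) i
      rw [hfs]; simp
    obtain ⟨j, rfl⟩ := Fin.exists_succ_eq.2 (Fin.ne_zero_of_lt hij)
    rcases Fin.eq_zero_or_eq_succ i with rfl | ⟨i, rfl⟩
    · rw [hf0, ← map_pow, rel_of.zero, map_one]
    · rw [hfs, ← map_pow, rel_of.mix (Fin.succ_lt_succ_iff.1 hij), map_one]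
  have hinj : Function.Injective π := by
    have : (cs.lift ⟨f, hf⟩).comp π = SemidirectProduct.inl := PresentedGroup.ext fun i => by
      simp only [MonoidHom.comp_apply, hπ, map_mul, CoxeterSystem.lift_apply_simple, hf0]
    apply Function.Injective.of_comp (f := cs.lift ⟨f, hf⟩)
    rw [← MonoidHom.coe_comp, this]
    exact SemidirectProduct.inl_injective
  have hnorm : ∀ p, π p * cs.simple 0 = cs.simple 0 * π (al m p) := fun p => by
    have : (MulAut.conj (cs.simple 0)).toMonoidHom.comp (π.comp (al m)) = π := PresentedGroup.ext fun i => by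
      simp [al_of, hπ, mul_assoc]
    have h2 := DFunLike.congr_fun this p
    simp only [MulEquiv.toMonoidHom_eq_coe, MonoidHom.comp_apply, MonoidHom.coe_coe, MulAut.conj_apply] at h2
    rw [← h2]; group
  have hsurj : ∀ σ : Perm (Fin (m + 2)), ∃ p, σ = π p ∨ σ = cs.simple 0 * π p := by
    intro σ
    refine cs.simple_induction_right (p := fun σ => ∃ p, σ = π p ∨ σ = cs.simple 0 * π p) σ
      ⟨1, Or.inl (map_one _).symm⟩ ?_
    rintro w i ⟨p, hp⟩
    obtain ⟨q, hq⟩ : ∃ q, cs.simple i = cs.simple 0 * π q := by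
      rcases Fin.eq_zero_or_eq_succ i with rfl | ⟨i, rfl⟩
      · exact ⟨1, by simp⟩
      · exact ⟨PresentedGroup.of i, by simp [hπ]⟩
    refine ⟨al m p * q, ?_⟩
    rcases hp with rfl | rfl
    · right; rw [hq, ← mul_assoc, hnorm, map_mul, mul_assoc]
    · left; rw [hq, mul_assoc, ← mul_assoc (π p), hnorm, map_mul, mul_assoc, cs.simple_mul_simple_cancel_left]
  refine ⟨MulEquiv.ofBijective (π.codRestrict _ fun p => Perm.mem_alternatingGroup.2 (hsign p))
    ⟨fun a b h => hinj (congrArg Subtype.val h), fun σ => ?_⟩⟩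
  obtain ⟨p, hp | hp⟩ := hsurj σ.1
  · exact ⟨p, Subtype.ext hp.symm⟩
  · have := Perm.mem_alternatingGroup.1 σ.2
    rw [hp, map_mul, hsg, hsign] at this
    simp at this


/-- A presentation of the alternating group of degree n ≥ 3 on generators x_1, …, x_{n−2} (indexed here by 0, …, n−3): the first generator cubes to 1, every other generator squares to 1, the product of two consecutive generators has order dividing 3, and the product of two generators at distance at least 2 has order dividing 2. The group so presented is isomorphic to the alternating group of degree n. -/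
theorem result (n : ℕ) (hn : 3 ≤ n) :
    Nonempty (PresentedGroup
      ({g : FreeGroup (Fin (n - 2)) | ∃ i : Fin (n - 2), i.val = 0 ∧ g = FreeGroup.of i ^ 3} ∪
       {g | ∃ i : Fin (n - 2), 1 ≤ i.val ∧ g = FreeGroup.of i ^ 2} ∪
       {g | ∃ i j : Fin (n - 2), j.val = i.val + 1 ∧ g = (FreeGroup.of i * FreeGroup.of j) ^ 3} ∪
       {g | ∃ i j : Fin (n - 2), i.val + 1 < j.val ∧ g = (FreeGroup.of i * FreeGroup.of j) ^ 2})
      ≃* alternatingGroup (Fin n)) := by
  obtain ⟨m, rfl⟩ : ∃ m, n = m + 2 := ⟨n - 2, by omega⟩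
  exact main m

end Cfsg.Agent.S3335
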