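import Mathlib
import Cfsg.Statements.S0727
import Cfsg.Agent.Perm.Zass5

set_option autoImplicit false
open Cfsg

namespace Cfsg.Agent.S0727


/-- A sharply triply transitive permutation group of degree `2^f + 1` is isomorphic to the projective general linear group of degree 2 over the field with `2^f` elements. -/
theorem result {α : Type*} [Fintype α] [DecidableEq α] {f : ℕ} (hf : 1 ≤ f) (hα : Fintype.card α = 2 ^ f + 1) (G : Subgroup (Equiv.Perm α)) (h3 : MulAction.IsMultiplyPretransitive G α 3) (hsharp : ∀ x : Fin 3 ↪ α, MulAction.stabilizer G x = ⊥) : ∃ (F : Type) (_ : Field F) (_ : Fintype F), Fintype.card F = 2 ^ f ∧ Nonempty (G ≃* Matrix.ProjGenLinGroup (Fin 2) F) := by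
  rw [← Nat.card_eq_fintype_card] at hα
  have h2 : 2 ∣ 2 ^ f := dvd_pow_self 2 (by omega)
  have hc : 3 ≤ Nat.card α := by have := Nat.le_of_dvd (by positivity) h2; omega
  have h := Perm.Z3.of_sharp h3 hsharp hc
  obtain ⟨a, b, hab⟩ := Finite.one_lt_card_iff_nontrivial.mp (show 1 < Nat.card α by omega)
  obtain ⟨K, _, _, hK, e⟩ := h.sharp_odd hab (by rw [Nat.odd_iff]; omega)
    (h.card_two_of_three h3 hc hab)
  exact ⟨K, inferInstance, inferInstance, by rw [← Nat.card_eq_fintype_card]; omega, e⟩

end Cfsg.Agent.S0727
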