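import Mathlib
import Cfsg.Statements.S1230
import Cfsg.Agent.Inv.ElemC
import Cfsg.Agent.S0727
import Cfsg.Agent.Classical.PSL2Basic

set_option autoImplicit false
open Cfsg

namespace Cfsg.Agent.S1230

/-- Let G be a finite group with a Sylow 2-subgroup T that is neither cyclic nor normal, such that the centralizer of every involution is an elementary abelian 2-group. Then G ≅ PSL(2,F) for a finite field F with |F| = |T|. -/
theorem result {G : Type*} [Group G] [Finite G] (T : Sylow 2 G) (hnc : ¬ IsCyclic (T : Subgroup G)) (hnn : ¬ (T : Subgroup G).Normal) (hC : ∀ t : G, orderOf t = 2 → IsMulCommutative (Subgroup.centralizer ({t} : Set G)) ∧ ∀ c ∈ Subgroup.centralizer ({t} : Set G), c ^ 2 = 1) : ∃ (F : Type) (_ : Field F) (_ : Fintype F), Fintype.card F = Nat.card T ∧ Nonempty (G ≃* Matrix.ProjectiveSpecialLinearGroup (Fin 2) F) := by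
  classical
  haveI : Fact (Nat.Prime 2) := ⟨Nat.prime_two⟩
  have h : Inv.EC T := ⟨hnc, hnn, hC⟩
  obtain ⟨f, hf⟩ := IsPGroup.iff_card.mp T.isPGroup'
  have hf' : Nat.card T = 2 ^ f := hf
  have h4 := h.four_le
  have hf1 : 1 ≤ f := by
    rcases f with _ | f
    · rw [hf'] at h4; norm_num at h4
    · omega
  set X := G ⧸ Subgroup.normalizer ((T : Subgroup G) : Set G)
  haveI := Fintype.ofFinite X
  have hX : Fintype.card X = 2 ^ f + 1 := by rw [← Nat.card_eq_fintype_card, h.card_X, hf']
  obtain ⟨e⟩ : Nonempty (Fin 3 ↪ X) := Function.Embedding.nonempty_of_card_le (by rw [hX, ← hf']; simp; omega)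
  have hinj : Function.Injective (MulAction.toPermHom G X) := by
    rw [injective_iff_map_eq_one]
    intro g hg
    have : ∀ x : X, g • x = x := fun x => congrArg (fun σ : Equiv.Perm X => σ x) hg
    exact h.sharp g (e 0) (e 1) (e 2) (e.injective.ne (by decide)) (e.injective.ne (by decide))
      (e.injective.ne (by decide)) (this _) (this _) (this _)
  obtain ⟨F, _, _, hF, ⟨φ⟩⟩ := S0727.result hf1 hX (MulAction.toPermHom G X).range
    ⟨fun x y => by
      obtain ⟨g, g1, g2, g3⟩ := h.three_trans (x 0) (x 1) (x 2) (y 0) (y 1) (y 2) (x.injective.ne (by decide))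
        (x.injective.ne (by decide)) (x.injective.ne (by decide)) (y.injective.ne (by decide))
        (y.injective.ne (by decide)) (y.injective.ne (by decide))
      refine ⟨⟨_, g, rfl⟩, Function.Embedding.ext fun i => ?_⟩
      fin_cases i
      · exact g1
      · exact g2
      · exact g3⟩
    (fun x => by
      rw [eq_bot_iff]
      rintro ⟨_, g, rfl⟩ hg
      have : ∀ i, g • x i = x i := fun i => congrArg (fun y : Fin 3 ↪ X => y i) hg
      have := h.sharp g (x 0) (x 1) (x 2) (x.injective.ne (by decide)) (x.injective.ne (by decide))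
        (x.injective.ne (by decide)) (this _) (this _) (this _)
      subst this
      exact Subtype.ext (map_one _))
  have h2 : (2 : F) = 0 := by
    have := FiniteField.cast_card_eq_zero F
    rw [hF] at this
    push_cast at this
    exact pow_eq_zero_iff (by omega) |>.mp this
  exact ⟨F, inferInstance, inferInstance, by rw [hF, hf'],
    ⟨((MonoidHom.ofInjective hinj).trans φ).trans (Classical.PSL2Basic.pslEquivPGL h2).symm⟩⟩

end Cfsg.Agent.S1230
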