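import Mathlib
import Cfsg.Statements.S4444
import Cfsg.Agent.Isaacs.GlS
-- import your own Cfsg.Agent.* helpers here

set_option autoImplicit false
open Cfsg

namespace Cfsg.Agent.S4444

open Cfsg.Agent.Char Cfsg.Agent.Isaacs Subgroup

/-- The Glauberman correspondence for a p-group of operators. Inside a finite group Γ let S normalise G with the orders of G and S coprime, S a p-group, and let C = G ⊓ C(S) be the fixed points. Call an irreducible character χ of G S-invariant when χ(s g s⁻¹) = χ(g) for s ∈ S, g ∈ G. Then: (i) for every S-invariant χ there is exactly one irreducible character β of C whose multiplicity [χ_C, β] in the restriction of χ is not divisible by p; (ii) that multiplicity is ≡ 1 or ≡ −1 (mod p); (iii) distinct S-invariant χ give distinct β; (iv) every irreducible character of C arises in this way. So χ ↦ β is a bijection from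 the S-invariant irreducible characters of G onto the irreducible characters of C. -/
theorem result {Γ : Type*} [Group Γ] [Fintype Γ] (G S : Subgroup Γ) [Fintype G] (hnorm : ∀ s ∈ S, ∀ g ∈ G, s * g * s⁻¹ ∈ G) (hcop : (Nat.card G).Coprime (Nat.card S)) (p : ℕ) (hp : p.Prime) (hS : IsPGroup p S) (C : Subgroup Γ) [Fintype C] (hC : C = G ⊓ Subgroup.centralizer (S : Set Γ)) (hCG : C ≤ G) : (∀ χ : Cfsg.IrrCharacter G, (∀ s ∈ S, ∀ g g' : G, (g' : Γ) = s * g * s⁻¹ → (χ : G → ℂ) g' = (χ : G → ℂ) g) → ∃! β : Cfsg.IrrCharacter C, ∃ m : ℕ, Cfsg.classInner (fun c : C => (χ : G → ℂ) ⟨c, hCG c.2⟩) (β : C → ℂ) = (m : ℂ) ∧ ¬ p ∣ m) ∧ (∀ χ : Cfsg.IrrCharacter G, (∀ s ∈ S, ∀ g g' : G, (g' : Γ) = s * g * s⁻¹ → (χ : G → ℂ) g' = (χ : G → ℂ) g) → ∀ β : Cfsg.IrrCharacter C, ∀ m : ℕ, Cfsg.classInner (fun c : C => (χ : G → ℂ) ⟨c, hCG c.2⟩) (β : C → ℂ) = (m : ℂ) → ¬ p ∣ m →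 ((m : ℤ) ≡ 1 [ZMOD p] ∨ (m : ℤ) ≡ -1 [ZMOD p])) ∧ (∀ χ χ' : Cfsg.IrrCharacter G, (∀ s ∈ S, ∀ g g' : G, (g' : Γ) = s * g * s⁻¹ → (χ : G → ℂ) g' = (χ : G → ℂ) g) → (∀ s ∈ S, ∀ g g' : G, (g' : Γ) = s * g * s⁻¹ → (χ' : G → ℂ) g' = (χ' : G → ℂ) g) → ∀ β : Cfsg.IrrCharacter C, ∀ m m' : ℕ, Cfsg.classInner (fun c : C => (χ : G → ℂ) ⟨c, hCG c.2⟩) (β : C → ℂ) = (m : ℂ) → ¬ p ∣ m → Cfsg.classInner (fun c : C => (χ' : G → ℂ) ⟨c, hCG c.2⟩) (β : C → ℂ) = (m' : ℂ) → ¬ p ∣ m' → χ = χ') ∧ (∀ β : Cfsg.IrrCharacter C, ∃ χ : Cfsg.IrrCharacter G, (∀ s ∈ S, ∀ g g' : G, (g' : Γ) = s * g * s⁻¹ → (χ : G → ℂ) g' = (χ : G → ℂ) g) ∧ ∃ m : ℕ, Cfsg.classInner (fun c : C => (χ : G → ℂ) ⟨c, hCG c.2⟩) (β : C → ℂ) = (m : ℂ) ∧ ¬ p ∣ m) := by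
  subst hC
  have hn : S ≤ normalizer (G : Set Γ) := le_norm hnorm
  have d := glData_cop hp hS hcop hn
  simp only [← inv_ez_iff hn, inn_res_ez hCG]
  have key : ∀ (χ : IrrCharacter G) (β : IrrCharacter (G ⊓ centralizer (S : Set Γ) : Subgroup Γ)) (m : ℕ),
      Inv S G (ez G χ) → inn (G ⊓ centralizer (S : Set Γ)) (ez G χ) (ez (G ⊓ centralizer (S : Set Γ)) β) = m →
      ¬ p ∣ m → GlP p (G ⊓ centralizer (S : Set Γ)) (ez G χ) (ez (G ⊓ centralizer (S : Set Γ)) β) := by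
    intro χ β m h1 h2 h3
    obtain ⟨η, a1, -, a2⟩ := d.ex _ (irr_ez.mpr χ.2) h1
    exact a2.congr (Eqv.refl _ _) (a2.eqv a1 (irr_ez.mpr β.2) (m := m) h2 (by exact_mod_cast h3))
  have ex : ∀ (χ β : Γ → ℂ), Irr G χ → Irr (G ⊓ centralizer (S : Set Γ)) β → GlP p (G ⊓ centralizer (S : Set Γ)) χ β →
      ∃ m : ℕ, inn (G ⊓ centralizer (S : Set Γ)) χ β = m ∧ ¬ p ∣ m := by
    intro χ β h1 h2 h3
    obtain ⟨m, hm⟩ := (h1.chr.res hCG).inn_nat h2.chr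
    exact ⟨m, hm, by exact_mod_cast h3.not_dvd hp h2 (m := m) hm⟩
  refine ⟨fun χ h => ?_, fun χ h β m h1 h2 => ?_, fun χ χ' h h' β m m' h1 h2 h3 h4 => ?_, fun β => ?_⟩
  · obtain ⟨η, a1, -, a2⟩ := d.ex _ (irr_ez.mpr χ.2) h
    have a3 := a2.congr (Eqv.refl _ _) (ez_mk a1).symm
    refine ⟨⟨_, a1⟩, ex _ _ (irr_ez.mpr χ.2) (a1.congr (ez_mk a1).symm) a3, ?_⟩
    rintro β ⟨m, h1, h2⟩
    exact irr_ez_eq ((key χ β m h h1 h2).unique a3 hp (irr_ez.mpr β.2) (a1.congr (ez_mk a1).symm))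
  · obtain ⟨ε, n, a1, a2⟩ := (key χ β m h h1 h2).inn_self (irr_ez.mpr β.2)
    have a3 : (m : ℤ) = ε + p * n := by exact_mod_cast h1.symm.trans a2
    rcases a1 with rfl | rfl
    · exact Or.inl (a3 ▸ Int.modEq_iff_dvd.mpr ⟨-n, by ring⟩)
    · exact Or.inr (a3 ▸ Int.modEq_iff_dvd.mpr ⟨-n, by ring⟩)
  · exact irr_ez_eq (d.inj _ _ _ (irr_ez.mpr χ.2) h (irr_ez.mpr χ'.2) h' (irr_ez.mpr β.2)
      (key χ β m h h1 h2) (key χ' β m' h' h3 h4))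
  · obtain ⟨χ, a1, a2, a3⟩ := d.surj _ (irr_ez.mpr β.2) inv_bot
    exact ⟨⟨_, a1⟩, a2.congr hn (ez_mk a1).symm, ex _ _ (a1.congr (ez_mk a1).symm) (irr_ez.mpr β.2)
      (a3.congr ((ez_mk a1).mono hCG) (Eqv.refl _ _))⟩

end Cfsg.Agent.S4444
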