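import Mathlib
import Cfsg.Statements.S4706
import Cfsg.Agent.Block.Dih
import Cfsg.Agent.Perm.PrimeDegree
import Cfsg.Agent.Perm.Zass5
import Cfsg.Agent.Classical.PSL2Basic
-- import your own Cfsg.Agent.* helpers here

set_option autoImplicit false
open Cfsg

namespace Cfsg.Agent.S4706

open Cfsg.Agent.Block Cfsg.Agent.Char Cfsg.Agent.Perm MulAction in

/-- Let p > 2 be a prime and G a permutation group on p letters whose Sylow p-subgroup P has normalizer of order 2p. Then either P is normal in G, or p − 1 = 2^a for some a and G is isomorphic to SL(2, 2^a). -/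
theorem result {α : Type*} [Fintype α] [DecidableEq α] {p : ℕ} [Fact p.Prime] (hp : 2 < p) (hα : Fintype.card α = p) (G : Subgroup (Equiv.Perm α)) (P : Sylow p G) (hN : Nat.card (Subgroup.normalizer ((P : Subgroup G) : Set G)) = 2 * p) : (P : Subgroup G).Normal ∨ ∃ (a : ℕ) (F : Type) (_ : Field F) (_ : Fintype F), p = 2 ^ a + 1 ∧ Fintype.card F = 2 ^ a ∧ Nonempty (G ≃* Matrix.SpecialLinearGroup (Fin 2) F) := by
  have := Fintype.ofFinite G
  have hp' : p.Prime := Fact.out
  rw [← Nat.card_eq_fintype_card] at hα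
  have hdvd : p ∣ Nat.card G := (Dvd.intro_left 2 hN.symm).trans (Subgroup.card_subgroup_dvd_card _)
  have hP : Nat.card P = p := Perm.card_sylow_of_not_sq_dvd hdvd (not_sq_dvd_card (α := α) (by omega)) P
  obtain ⟨τ, hτ, -⟩ := exists_zpowers_eq_of_card_prime _ hP
  obtain ⟨e, he⟩ := exists_coord hα τ hτ
  have : IsPretransitive G α := ⟨fun x y => ⟨_, coord_trans he x y⟩⟩
  have : Nontrivial α := Finite.one_lt_card_iff_nontrivial.1 (by omega)
  refine or_iff_not_imp_left.2 fun hn => ?_
  have hs : SC p (P : Subgroup G) := ⟨ordP_sylow P hP, (prime_degree_centralizer hα _ hP).le⟩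
  have h3 : 3 < p := by
    refine lt_of_le_of_ne hp fun e => hn ?_
    subst e
    have h1 := Nat.le_of_dvd (Nat.factorial_pos _) (card_dvd_factorial (G := G) (α := α))
    rw [hα] at h1
    rw [← Subgroup.normalizer_eq_top_iff]
    exact Subgroup.eq_top_of_le_card _ (by rw [hN]; exact h1)
  have hsimp : IsSimpleGroup G := prime_degree_simple hα P (by
    rw [P.card_eq_index_normalizer]
    exact Subgroup.one_lt_index_of_ne_top fun e => hn (Subgroup.normalizer_eq_top_iff.1 e)) (by
    rw [← congrArg (Subgroup.relIndex · _) hs.cent, hs.relIndex_eq_two hN]; exact Nat.prime_two)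
  have hG : commutator G = ⊤ := (Subgroup.Normal.eq_bot_or_eq_top inferInstance).resolve_left fun e =>
    hn (by
      have := (commutator_eq_bot_iff_center_eq_top G).1 e
      exact ⟨fun x hx g => by
        rwa [(Subgroup.mem_center_iff.1 (this ▸ Subgroup.mem_top x) g), mul_inv_cancel_right]⟩)
  obtain ⟨t, Y, χ, hd, -, h1, h2, h4⟩ := hs.exists_dih_perm hN h3 hG α hα.symm.dvd (by omega)
  have hte := hd.te
  have h5 := h4 (by omega)
  obtain ⟨h6, h7⟩ := hd.main (by omega) (charKer_eq_bot_of_simple χ.2 fun e => hd.ne_one (Subtype.ext e))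
  have h : Perm.Z3 G α := by
    refine ⟨inferInstance, (isIrr_perm_sub_one_iff α).1 (h5 ▸ χ.2), fun g a b c hab hbc hac ha hb hc => ?_⟩
    have h1 : ({a, b, c} : Set α) ⊆ MulAction.fixedBy α g := by
      rintro x (rfl | rfl | rfl) <;> assumption
    have h2 := Set.ncard_le_ncard h1
    rw [Set.ncard_eq_three.2 ⟨a, b, c, hab, hac, hbc, rfl⟩] at h2
    change 3 ≤ Nat.card (fixedBy α g) at h2
    by_contra e
    have h8 := congrFun h5 g
    by_cases hg : p ∣ orderOf g
    · rw [hs.toOrdP.card_fixedBy_eq_zero α hα.symm.dvd hg] at h2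
      omega
    rcases h7 g hg e with e1 | e1 <;> rw [e1.1, sub_eq_iff_eq_add] at h8
    · have : Nat.card (fixedBy α g) = 0 + 1 := by exact_mod_cast h8
      omega
    · have : Nat.card (fixedBy α g) = 1 + 1 := by exact_mod_cast h8
      omega
  obtain ⟨a, b, hab⟩ := exists_pair_ne α
  have h8 := h.card_eq hab
  rw [h6, hα, show p - 1 = 2 * t by omega] at h8
  have h9 := Nat.eq_of_mul_eq_mul_left (by positivity [show 0 < 2 * t by omega]) h8
  obtain ⟨K, _, _, hK, ⟨e⟩⟩ := h.sharp_odd hab (hα ▸ hp'.odd_of_ne_two (by omega)) (by omega)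
  obtain ⟨q, hq, n, hq', hn⟩ := FiniteField.card' K
  rw [Nat.card_eq_fintype_card (α := K), hn] at hK
  have h2 : q = 2 := by
    refine (hq'.eq_two_or_odd').resolve_right fun ho => ?_
    have := ho.pow (n := n)
    rw [Nat.odd_iff] at this
    omega
  subst h2
  have h0 : (2 : K) = 0 := by simpa using CharP.cast_eq_zero K 2
  exact ⟨n, K, inferInstance, inferInstance, hα ▸ hK, hn,
    ⟨e.trans ((Classical.PSL2Basic.slEquivPSL h0).trans (Classical.PSL2Basic.pslEquivPGL h0)).symm⟩⟩

end Cfsg.Agent.S4706
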