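import Mathlib
import Cfsg.Statements.S1248
import Cfsg.Agent.Herm.SU3
import Cfsg.Agent.Classical.Congr
-- import your own Cfsg.Agent.* helpers here

set_option autoImplicit false
open Cfsg

namespace Cfsg.Agent.S1248

/-- Let F be a field with 16 elements and S a Sylow 2-subgroup of PSU(3) over F (the unitary group U₃(4)). Then |S| = 64; the centre Z(S) is a Klein four-group and coincides with the subgroup generated by the involutions of S and with the derived subgroup; and every element of S ⧸ Z(S) squares to the identity, S ⧸ Z(S) having order 16. -/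
theorem result {F : Type*} [Field F] [Fintype F] (hF : Fintype.card F = 16) (S : Sylow 2 (Cfsg.PSU 3 F 4)) : Nat.card S = 64 ∧ IsKleinFour (Subgroup.center (S : Subgroup (Cfsg.PSU 3 F 4))) ∧ Subgroup.center (S : Subgroup (Cfsg.PSU 3 F 4)) = Subgroup.closure {x : (S : Subgroup (Cfsg.PSU 3 F 4)) | orderOf x = 2} ∧ Subgroup.center (S : Subgroup (Cfsg.PSU 3 F 4)) = commutator (S : Subgroup (Cfsg.PSU 3 F 4)) ∧ Nat.card ((S : Subgroup (Cfsg.PSU 3 F 4)) ⧸ Subgroup.center (S : Subgroup (Cfsg.PSU 3 F 4))) = 16 ∧ ∀ x : (S : Subgroup (Cfsg.PSU 3 F 4)) ⧸ Subgroup.center (S : Subgroup (Cfsg.PSU 3 F 4)), x ^ 2 = 1 := by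
  have hF' : Nat.card F = 4 ^ 2 := Herm.natCard_of_card hF
  have : CharP F 2 := Classical.Congr.charP_of_card (k := 4) (by rw [hF']; norm_num)
  obtain ⟨e⟩ := Herm.sylow_PSU_three hF' (p := 2) (k := 2) rfl S
  have h1 : Nat.card S = 64 := by rw [Nat.card_congr e.toEquiv, Herm.Heis.card hF']; norm_num
  have h2 : Nat.card (Subgroup.center (S : Subgroup (Cfsg.PSU 3 F 4))) = 4 := by
    rw [Nat.card_congr (Orth.centerEquiv e).toEquiv, Herm.Heis.card_center hF']
  have h3 : ∀ x, x ∈ Subgroup.center (S : Subgroup (Cfsg.PSU 3 F 4)) ↔ x * x = 1 := fun x => by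
    rw [← Orth.mem_center_equiv e, Herm.Heis.mem_center_iff, ← Herm.Heis.mul_self_eq_one_iff,
      ← map_mul, map_eq_one_iff _ e.injective]
  refine ⟨h1, ⟨h2, ?_⟩, ?_, ?_, ?_, ?_⟩
  · have : Nontrivial (Subgroup.center (S : Subgroup (Cfsg.PSU 3 F 4))) :=
      Finite.one_lt_card_iff_nontrivial.1 (by omega)
    rw [Monoid.exponent_eq_prime_iff Nat.prime_two]
    intro g hg
    exact orderOf_eq_prime (Subtype.ext (by rw [sq]; exact (h3 _).1 g.2)) hg
  · apply le_antisymm
    · intro x hx
      by_cases h : x = 1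
      · rw [h]; exact Subgroup.one_mem _
      · exact Subgroup.subset_closure (orderOf_eq_prime (by rw [sq]; exact (h3 _).1 hx) h)
    · rw [Subgroup.closure_le]
      intro x hx
      exact (h3 x).2 (by rw [← sq]; exact orderOf_dvd_iff_pow_eq_one.1 (show orderOf x = 2 from hx).dvd)
  · ext x
    rw [← Orth.mem_center_equiv e, ← Orth.mem_commutator_equiv e, Herm.Heis.commutator_eq_center]
  · have := Subgroup.card_eq_card_quotient_mul_card_subgroup
      (Subgroup.center (S : Subgroup (Cfsg.PSU 3 F 4)))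
    rw [h1, h2] at this
    omega
  · intro x
    obtain ⟨x, rfl⟩ := QuotientGroup.mk_surjective x
    rw [← QuotientGroup.mk_pow, QuotientGroup.eq_one_iff, ← Orth.mem_center_equiv e,
      Herm.Heis.mem_center_iff, sq, map_mul, Herm.Heis.sq_a]

end Cfsg.Agent.S1248
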