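import Mathlib
import Cfsg.Statements.S3214
import Cfsg.Agent.CIT.F11
import Cfsg.Agent.S0486

set_option autoImplicit false
open Cfsg

namespace Cfsg.Agent.S3214


/-- Let G be a finite non-abelian simple group in which the centralizer of every involution has a normal 2-complement. Then G is isomorphic to PSL₂(q) for some prime power q > 3, to a Suzuki group Sz(2ⁿ) with n ≥ 3 odd, to the alternating group A₇, or to PSL₃(4). -/
theorem result {G : Type*} [Group G] [Finite G] [IsSimpleGroup G]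
    (hG : ¬ IsMulCommutative G)
    (hI : ∀ t : G, orderOf t = 2 → Cfsg.HasNormalPComplement 2 ↥(Subgroup.centralizer ({t} : Set G))) :
    (∃ (F : Type) (_ : Field F) (_ : Fintype F), 3 < Fintype.card F ∧
        Nonempty (G ≃* Matrix.ProjectiveSpecialLinearGroup (Fin 2) F)) ∨
      Cfsg.Lie.IsoSuzuki G ∨ Nonempty (G ≃* ↥(alternatingGroup (Fin 7))) ∨
      (∃ (F : Type) (_ : Field F) (_ : Fintype F), Fintype.card F = 4 ∧
        Nonempty (G ≃* Matrix.ProjectiveSpecialLinearGroup (Fin 3) F)) := by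
  have h : CIT.F.NPC G := hI
  by_cases h3 : Cfsg.PRankLE 2 2 G
  · haveI : Fact (Nat.Prime 2) := ⟨Nat.prime_two⟩
    obtain ⟨S⟩ : Nonempty (Sylow 2 G) := inferInstance
    obtain ⟨K, _, _, hK⟩ := CIT.F.exists_F16
    obtain ⟨P⟩ : Nonempty (Sylow 2 (Cfsg.PSU 3 K 4)) := inferInstance
    rcases S0516.result hG h3 S hK P with ⟨n, h1, ⟨e⟩⟩ | h1 | h1 | h1
    · rcases GW.known hG (GW.dihSyl_of_equiv S h1 e) with ⟨F, _, _, -, h5, f⟩ | f
      · exact Or.inl ⟨F, inferInstance, inferInstance, h5, f⟩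
      · exact Or.inr (Or.inr (Or.inl f))
    · exact absurd h1 (h.not_qd (CIT.F.no_index_two hG) S)
    · exact absurd h1 (h.not_wr (CIT.F.no_index_two hG) S)
    · obtain ⟨e⟩ := S0486.result hK S P h1
      exact absurd (h.equiv e) (CIT.F.not_npc_PSU hK)
  · rcases CIT.F.lst hG (h.ord2 hG h3) with ⟨F, _, _, n, hn, hF, e⟩ | h1 | ⟨F, _, _, -, h1, -, e⟩ |
      ⟨F, _, _, h1, e⟩ | h1
    · exact Or.inl ⟨F, inferInstance, inferInstance, hF ▸ CIT.F.four_le_pow hn, e⟩
    · exact Or.inr (Or.inl h1)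
    · exact Or.inl ⟨F, inferInstance, inferInstance, h1, e⟩
    · exact Or.inl ⟨F, inferInstance, inferInstance, by omega, e⟩
    · exact Or.inr (Or.inr (Or.inr h1))

end Cfsg.Agent.S3214
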