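import Mathlib
import Cfsg.Statements.S0496
import Cfsg.Agent.Perm.SieveChk

set_option autoImplicit false
open Cfsg

namespace Cfsg.Agent.S0496

def cert : List (ℕ × ℕ × ℕ) := [
    (0,2,2), (0,3,3), (0,2,2), (0,5,5), (0,3,2), (0,7,7), (0,2,2), (0,3,3), (0,5,2), (0,11,11),
    (0,3,2), (0,13,13), (0,7,2), (0,5,3), (0,2,2), (0,17,17), (0,3,2), (0,19,19), (0,5,2), (0,7,3),
    (0,11,2), (0,23,23), (0,3,2), (0,5,5), (0,13,2), (0,3,3), (0,7,2), (0,29,29), (1,5,80),
    (0,31,31), (0,2,2), (0,11,3), (0,17,2), (0,7,5), (0,3,2), (0,37,37), (0,19,2), (0,13,3),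
    (0,5,2), (0,41,41), (1,7,80), (0,43,43), (0,11,2), (0,5,3), (0,23,2), (0,47,47), (0,3,2),
    (0,7,7), (0,5,2), (0,17,3), (0,13,2), (0,53,53), (0,3,2), (0,11,5), (0,7,2), (0,19,3), (0,29,2),
    (0,59,59), (0,0,0), (0,61,61), (0,31,2), (0,7,3), (0,2,2), (0,13,5), (1,11,80), (0,67,67),
    (0,17,2), (0,23,3), (1,7,80), (0,71,71), (0,3,2), (0,73,73), (0,37,2), (0,5,3), (0,19,2),
    (0,11,7), (1,13,80), (0,79,79), (0,5,2), (0,3,3), (0,41,2), (0,83,83), (1,7,80), (0,17,5),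
    (0,43,2), (0,29,3), (0,11,2), (0,89,89), (1,5,80), (0,13,7), (0,23,2), (0,31,3), (0,47,2),
    (0,19,5), (0,3,2), (0,97,97), (0,7,2), (0,11,3), (0,5,2), (0,101,101), (1,17,80), (0,103,103),
    (0,13,2), (1,7,80), (0,53,2), (0,107,107), (0,3,2), (0,109,109), (1,11,80), (0,37,3), (0,7,2),
    (0,113,113), (1,19,80), (0,23,5), (0,29,2), (0,13,3), (0,59,2), (0,17,7), (2,2,0), (0,11,11),
    (0,61,2), (0,41,3), (0,31,2), (0,5,5), (1,7,80), (0,127,127), (0,2,2), (0,43,3), (1,13,80),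
    (0,131,131), (1,11,80), (0,19,7), (0,67,2), (0,5,3), (0,17,2), (0,137,137), (1,23,80),
    (0,139,139), (1,7,80), (0,47,3), (0,71,2), (0,13,11), (0,3,2), (0,29,5), (0,73,2), (0,7,3),
    (0,37,2), (0,149,149), (2,5,0), (0,151,151), (0,19,2), (0,17,3), (1,11,80), (0,31,5), (1,13,80),
    (0,157,157), (0,79,2), (0,53,3), (0,5,2), (0,23,7), (0,3,2), (0,163,163), (0,41,2), (1,11,80),
    (0,83,2), (0,167,167), (0,0,0), (0,13,13), (1,17,80), (0,19,3), (0,43,2), (0,173,173),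
    (1,29,80), (0,7,5), (0,11,2), (0,59,3), (0,89,2), (0,179,179), (1,5,80), (0,181,181), (1,13,80),
    (0,61,3), (0,23,2), (0,37,5), (1,31,80), (0,17,11), (0,47,2), (0,7,3), (1,19,80), (0,191,191),
    (0,3,2), (0,193,193), (0,97,2), (1,13,80), (0,7,2), (0,197,197), (1,11,80), (0,199,199),
    (0,5,2), (0,67,3), (0,101,2), (0,29,7), (1,17,80), (0,41,5), (0,103,2), (0,23,3), (0,13,2),
    (0,19,11), (1,7,80), (0,211,211), (0,53,2), (0,71,3), (0,107,2), (0,43,5), (0,3,2), (0,31,7),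
    (0,109,2), (0,73,3), (1,11,80), (0,17,13), (1,37,80), (0,223,223), (0,7,2), (0,5,3), (0,113,2),
    (0,227,227), (1,19,80), (0,229,229), (1,23,80), (1,11,80), (0,29,2), (0,233,233), (1,13,80),
    (0,47,5), (0,59,2), (0,79,3), (1,17,80), (0,239,239), (1,5,80), (0,241,241), (0,11,2), (0,3,3),
    (0,61,2), (0,7,5), (1,41,80), (0,19,13), (0,31,2), (0,83,3), (0,5,2), (0,251,251), (1,7,80),
    (0,23,11), (0,127,2), (1,17,80), (0,2,2), (0,257,257), (1,43,80), (0,37,7), (1,13,80), (0,29,3),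
    (0,131,2), (0,263,263), (1,11,80), (0,53,5), (1,19,80), (0,89,3), (0,67,2), (0,269,269),
    (1,5,80), (0,271,271), (0,17,2), (1,13,80), (0,137,2), (0,11,5), (1,23,80), (0,277,277),
    (0,139,2), (0,31,3), (1,7,80), (0,281,281), (1,47,80), (0,283,283), (0,71,2), (1,19,80),
    (1,13,80), (0,41,7), (0,3,2), (0,17,17), (1,29,80), (0,97,3), (0,73,2), (0,293,293), (2,7,0),
    (0,59,5), (0,37,2), (0,11,3), (0,149,2), (0,23,13), (2,5,0), (0,43,7), (0,151,2), (0,101,3),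
    (0,19,2), (0,61,5), (1,17,80), (0,307,307), (1,11,80), (0,103,3), (1,31,80), (0,311,311),
    (1,13,80), (0,313,313), (0,157,2), (1,7,80), (0,79,2), (0,317,317), (1,53,80), (0,29,11),
    (0,5,2), (0,107,3), (1,23,80), (0,19,17), (0,3,2), (0,13,5), (0,163,2), (0,109,3), (0,41,2),
    (0,47,7), (1,11,80), (0,331,331), (0,83,2), (0,37,3), (0,167,2), (0,67,5), (1,7,80),
    (0,337,337), (0,13,2), (0,113,3), (1,17,80), (0,31,11), (1,19,80), (0,7,7), (0,43,2), (1,23,80),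
    (0,173,2), (0,347,347), (1,29,80), (0,349,349), (1,7,80), (0,13,3), (0,11,2), (0,353,353),
    (1,59,80), (0,71,5), (0,89,2), (1,17,80), (0,179,2), (0,359,359), (0,0,0), (0,19,19), (0,181,2),
    (0,11,3), (1,13,80), (0,73,5), (1,61,80), (0,367,367), (0,23,2), (0,41,3), (1,37,80), (0,53,7),
    (1,31,80), (0,373,373), (1,17,80), (0,5,3), (0,47,2), (0,29,13), (1,7,80), (0,379,379),
    (1,19,80), (0,127,3), (0,191,2), (0,383,383), (0,3,2), (1,11,80), (0,193,2), (0,43,3), (0,97,2),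
    (0,389,389), (1,13,80), (0,23,17), (0,7,2), (0,131,3), (0,197,2), (0,79,5), (1,11,80),
    (0,397,397), (0,199,2), (1,19,80), (0,5,2), (0,401,401), (1,67,80), (0,31,13), (0,101,2),
    (0,5,3), (1,29,80), (0,37,11), (1,17,80), (0,409,409), (1,41,80), (0,137,3), (0,103,2),
    (0,59,7), (1,23,80), (0,83,5), (0,13,2), (0,139,3), (1,19,80), (0,419,419), (1,7,80),
    (0,421,421), (0,211,2), (0,47,3), (0,53,2), (0,17,5), (1,71,80), (0,61,7), (0,107,2), (1,13,80),
    (1,43,80), (0,431,431), (0,3,2), (0,433,433), (1,31,80), (1,29,80), (0,109,2), (0,23,19),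
    (1,73,80), (0,439,439), (1,11,80), (0,7,3), (1,17,80), (0,443,443), (1,37,80), (0,89,5),
    (0,223,2), (0,149,3), (0,7,2), (0,449,449), (2,5,0), (0,41,11), (0,113,2), (0,151,3), (0,227,2),
    (1,13,80), (1,19,80), (0,457,457), (0,229,2), (0,17,3), (1,23,80), (0,461,461), (1,11,80),
    (0,463,463), (0,29,2), (1,31,80), (0,233,2), (0,467,467), (1,13,80), (0,67,7), (1,47,80),
    (0,157,3), (0,59,2), (0,43,11), (1,79,80), (0,19,5), (1,17,80), (0,53,3), (0,239,2),
    (0,479,479), (2,2,0), (0,37,13), (0,241,2), (1,23,80), (0,11,2), (0,97,5), (0,3,2), (0,487,487),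
    (0,61,2), (0,163,3), (2,7,0), (0,491,491), (1,41,80), (0,29,17), (1,19,80), (1,11,80), (0,31,2),
    (0,71,7), (1,83,80), (0,499,499), (0,5,2), (0,167,3), (0,251,2), (0,503,503), (0,0,0),
    (0,101,5), (1,23,80), (0,13,3), (0,127,2), (0,509,509), (1,17,80), (0,73,7), (0,2,2), (0,19,3),
    (0,257,2), (0,103,5), (1,43,80), (0,47,11), (1,37,80), (0,173,3), (1,13,80), (0,521,521),
    (1,29,80), (0,523,523), (0,131,2), (1,7,80), (0,263,2), (0,31,17), (1,11,80), (0,23,23),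
    (1,53,80), (0,59,3), (1,19,80), (0,41,13), (1,89,80), (0,107,5), (0,67,2), (0,179,3), (0,269,2),
    (0,11,7), (1,5,80), (0,541,541), (0,271,2), (0,181,3), (0,17,2), (0,109,5), (1,13,80),
    (0,547,547), (0,137,2), (0,61,3), (1,11,80), (0,29,19), (1,23,80), (0,79,7), (0,277,2),
    (1,37,80), (0,139,2), (0,557,557), (1,31,80), (0,43,13), (1,7,80), (1,17,80), (0,281,2),
    (0,563,563), (1,47,80), (0,113,5), (0,283,2), (0,7,3), (0,71,2), (0,569,569), (1,19,80),
    (0,571,571), (1,13,80), (0,191,3), (1,41,80), (0,23,5), (0,3,2), (0,577,577), (0,17,2),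
    (0,193,3), (1,29,80), (0,83,7), (1,97,80), (0,53,11), (0,73,2), (1,13,80), (0,293,2),
    (0,587,587), (2,7,0), (0,31,19), (1,59,80), (0,197,3), (0,37,2), (0,593,593), (1,11,80),
    (1,17,80), (0,149,2), (0,199,3), (1,23,80), (0,599,599), (2,5,0), (0,601,601), (1,43,80),
    (0,67,3), (0,151,2), (0,11,5), (1,101,80), (0,607,607), (0,19,2), (1,29,80), (1,61,80),
    (0,47,13), (1,17,80), (0,613,613), (0,307,2), (1,41,80), (1,11,80), (0,617,617), (1,103,80),
    (0,619,619), (1,31,80), (0,23,3), (0,311,2), (0,89,7), (1,13,80), (0,5,5), (0,313,2), (1,19,80),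
    (0,157,2), (0,37,17), (1,5,80), (0,631,631), (0,79,2), (0,211,3), (0,317,2), (0,127,5),
    (1,53,80), (0,13,7), (1,29,80), (0,71,3), (0,5,2), (0,641,641), (1,107,80), (0,643,643),
    (1,23,80), (1,43,80), (1,19,80), (0,647,647), (0,3,2), (0,59,11), (1,13,80), (1,31,80),
    (0,163,2), (0,653,653), (1,109,80), (0,131,5), (0,41,2), (0,73,3), (1,47,80), (0,659,659),
    (0,0,0), (0,661,661), (0,331,2), (1,17,80), (0,83,2), (1,19,80), (1,37,80), (0,29,23),
    (0,167,2), (0,223,3), (1,67,80), (0,61,11), (1,7,80), (0,673,673), (0,337,2), (0,5,3), (0,13,2),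
    (0,677,677), (1,113,80), (0,97,7), (1,17,80), (0,227,3), (1,31,80), (0,683,683), (1,19,80),
    (0,137,5), (0,7,2), (0,229,3), (0,43,2), (0,53,13), (1,23,80), (0,691,691), (0,173,2),
    (1,11,80), (0,347,2), (0,139,5), (1,29,80), (0,41,17), (0,349,2), (0,233,3), (1,7,80),
    (0,701,701), (1,13,80), (0,37,19), (0,11,2), (1,47,80), (0,353,2), (0,101,7), (1,59,80),
    (0,709,709), (1,71,80), (0,79,3), (0,89,2), (0,31,23), (1,17,80), (1,13,80), (0,179,2),
    (0,239,3), (0,359,2), (0,719,719), (1,5,80), (0,103,7), (0,19,2), (0,241,3), (0,181,2),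
    (0,29,5), (2,11,0), (0,727,727), (1,13,80), (0,3,3), (1,73,80), (0,43,17), (1,61,80),
    (0,733,733), (0,367,2), (2,7,0), (0,23,2), (0,67,11), (1,41,80), (0,739,739), (1,37,80),
    (1,19,80), (1,53,80), (0,743,743), (1,31,80), (0,149,5), (0,373,2), (0,83,3), (1,17,80),
    (0,107,7), (2,5,0), (0,751,751), (0,47,2), (0,251,3), (1,29,80), (0,151,5), (1,7,80),
    (0,757,757), (0,379,2), (1,23,80), (1,19,80), (0,761,761), (1,127,80), (0,109,7), (0,191,2),
    (1,17,80), (0,383,2), (0,59,13), (0,3,2), (0,769,769), (1,11,80), (0,257,3), (0,193,2),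
    (0,773,773), (1,43,80), (0,31,5), (0,97,2), (1,37,80), (0,389,2), (0,41,19), (1,13,80),
    (0,71,11), (1,23,80), (0,29,3), (0,7,2), (0,157,5), (1,131,80), (0,787,787), (0,197,2),
    (0,263,3), (1,79,80), (0,113,7), (1,11,80), (0,61,13), (0,397,2), (1,53,80), (0,199,2),
    (0,797,797), (1,19,80), (0,47,17), (0,5,2), (0,89,3), (0,401,2), (0,73,11), (1,67,80),
    (1,23,80), (1,31,80), (0,269,3), (0,101,2), (0,809,809), (1,5,80), (0,811,811), (1,29,80),
    (0,271,3), (1,37,80), (0,163,5), (1,17,80), (0,43,19), (0,409,2), (1,13,80), (1,41,80),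
    (0,821,821), (1,137,80), (0,823,823), (0,103,2), (1,11,80), (1,59,80), (0,827,827), (1,23,80),
    (0,829,829), (1,83,80), (0,277,3), (0,13,2), (0,17,7), (1,139,80), (0,167,5), (1,19,80),
    (0,31,3), (0,419,2), (0,839,839), (1,7,80), (0,29,29), (0,421,2), (0,281,3), (0,211,2),
    (0,13,5), (1,47,80), (0,11,7), (0,53,2), (0,283,3), (1,17,80), (0,37,23), (1,71,80),
    (0,853,853), (1,61,80), (1,19,80), (0,107,2), (0,857,857), (1,13,80), (0,859,859), (1,43,80),
    (1,41,80), (0,431,2), (0,863,863), (0,3,2), (0,173,5), (0,433,2), (0,17,3), (1,31,80),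
    (0,79,11), (1,29,80), (0,67,13), (0,109,2), (0,97,3), (1,23,80), (0,7,5), (1,73,80),
    (0,877,877), (0,439,2), (0,293,3), (1,11,80), (0,881,881), (2,7,0), (0,883,883), (1,17,80),
    (1,59,80), (0,443,2), (0,887,887), (1,37,80), (0,127,7), (1,89,80), (0,11,3), (0,223,2),
    (0,47,19), (1,149,80), (0,179,5), (0,7,2), (1,23,80), (0,449,2), (0,31,29), (2,5,0), (0,53,17),
    (1,41,80), (1,43,80), (0,113,2), (0,181,5), (1,151,80), (0,907,907), (0,227,2), (0,101,3),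
    (1,13,80), (0,911,911), (1,19,80), (0,83,11), (0,457,2), (1,61,80), (0,229,2), (0,131,7),
    (1,17,80), (0,919,919), (1,23,80), (0,307,3), (0,461,2), (0,71,13), (1,11,80), (0,37,5),
    (0,463,2), (0,103,3), (0,29,2), (0,929,929), (1,31,80), (0,19,7), (0,233,2), (0,311,3),
    (0,467,2), (1,17,80), (1,13,80), (0,937,937), (1,67,80), (0,313,3), (1,47,80), (0,941,941),
    (1,157,80), (0,41,23), (0,59,2), (1,7,80), (1,43,80), (0,947,947), (1,79,80), (0,73,13),
    (1,19,80), (0,317,3), (1,17,80), (0,953,953), (1,53,80), (0,191,5), (0,239,2), (1,29,80),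
    (0,479,2), (0,137,7), (2,2,0), (0,31,31), (1,37,80), (0,107,3), (0,241,2), (0,193,5), (1,23,80),
    (0,967,967), (0,11,2), (1,19,80), (1,97,80), (0,971,971), (0,3,2), (0,139,7), (0,487,2),
    (1,13,80), (0,61,2), (0,977,977), (1,163,80), (0,89,11), (2,7,0), (0,109,3), (0,491,2),
    (0,983,983), (1,41,80), (0,197,5), (1,29,80), (1,47,80), (1,19,80), (0,43,23), (1,11,80),
    (0,991,991), (0,31,2), (0,331,3), (1,71,80), (0,199,5), (1,83,80), (0,997,997), (0,499,2),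
    (0,37,3), (0,5,2), (1,13,80), (1,167,80), (0,59,17), (0,251,2), (1,67,80), (0,503,2), (0,53,19),
    (1,7,80), (0,1009,1009), (1,101,80), (0,337,3), (1,23,80), (0,1013,1013), (2,13,0), (1,29,80),
    (0,127,2), (0,113,3), (0,509,2), (0,1019,1019), (1,17,80), (0,1021,1021), (1,73,80), (1,31,80),
    (0,2,2), (0,41,5), (1,19,80), (0,79,13), (0,257,2), (0,7,3), (1,103,80), (0,1031,1031),
    (1,43,80), (0,1033,1033), (1,47,80), (1,23,80), (1,37,80), (0,61,17), (1,173,80), (0,1039,1039),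
    (1,13,80), (0,347,3), (0,521,2), (0,149,7), (1,29,80), (1,19,80), (0,523,2), (0,349,3),
    (0,131,2), (0,1049,1049), (2,5,0), (0,1051,1051), (0,263,2), (0,13,3), (1,31,80), (0,211,5),
    (1,11,80), (0,151,7), (0,23,2), (0,353,3), (1,53,80), (0,1061,1061), (1,59,80), (0,1063,1063),
    (1,19,80), (1,71,80), (1,41,80), (0,97,11), (1,89,80), (0,1069,1069), (1,107,80), (1,17,80),
    (0,67,2), (0,37,29), (1,179,80), (0,43,5), (0,269,2), (0,359,3), (1,11,80), (0,83,13), (1,5,80),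
    (0,47,23), (0,541,2), (0,19,3), (0,271,2), (1,31,80), (1,181,80), (0,1087,1087), (0,17,2),
    (0,11,3), (1,109,80), (0,1091,1091), (0,0,0)]

/-- A non-abelian finite simple group of order at most 1092 has order 60, 168, 360, 504, 660 or 1092. -/
theorem result {G : Type*} [Group G] [Finite G] [IsSimpleGroup G]
    (hG : ¬ IsMulCommutative G) (h : Nat.card G ≤ 1092) :
    Nat.card G = 60 ∨ Nat.card G = 168 ∨ Nat.card G = 360 ∨ Nat.card G = 504 ∨ Nat.card G = 660 ∨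
      Nat.card G = 1092 := by
  have := Finite.one_lt_card (α := G)
  simpa using Perm.Sieve.mem_of_killFrom hG [60, 168, 360, 504, 660, 1092] cert 2
    (by decide +kernel) this (lt_of_le_of_lt h (by decide +kernel))

end Cfsg.Agent.S0496
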