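import Mathlib
import Cfsg.Statements.S0723
import Cfsg.Agent.Perm.TwoTransMin

set_option autoImplicit false
open Cfsg

namespace Cfsg.Agent.S0723

open MulAction Function

theorem invariant_le_or_top {H α : Type*} [Group H] [MulAction H α] [IsPreprimitive H α]
    [Nontrivial α] (N : Subgroup H) [N.Normal] (a : α) (P : Subgroup N)
    (hle : (stabilizer H a).subgroupOf N ≤ P)
    (hP : ∀ h ∈ stabilizer H a, ∀ n ∈ P, MulAut.conjNormal h n ∈ P) :
    P ≤ (stabilizer H a).subgroupOf N ∨ P = ⊤ := by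
  let Q : Subgroup H :=
    { carrier := {h | ∃ s ∈ stabilizer H a, ∃ p ∈ P, h = p * s}
      one_mem' := ⟨1, one_mem _, 1, one_mem _, by simp⟩
      mul_mem' := by
        rintro _ _ ⟨s, hs, p, hp, rfl⟩ ⟨t, ht, q, hq, rfl⟩
        exact ⟨s * t, mul_mem hs ht, p * MulAut.conjNormal s q, mul_mem hp (hP s hs q hq), by
          simp [mul_assoc]⟩
      inv_mem' := by
        rintro _ ⟨s, hs, p, hp, rfl⟩
        exact ⟨s⁻¹, inv_mem hs, MulAut.conjNormal s⁻¹ p⁻¹, hP _ (inv_mem hs) _ (inv_mem hp), by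
          simp [mul_assoc]⟩ }
  have hco := IsPreprimitive.isCoatom_stabilizer_of_isPreprimitive H a
  rcases hco.le_iff.mp (show stabilizer H a ≤ Q from fun s hs => ⟨s, hs, 1, one_mem _, by simp⟩)
    with h | h
  · right
    rw [eq_top_iff]
    intro n _
    obtain ⟨s, hs, p, hp, e⟩ : n.1 ∈ Q := h ▸ Subgroup.mem_top _
    have : p⁻¹ * n ∈ P := hle (by
      change (p : H)⁻¹ * n ∈ stabilizer H a
      rw [e, inv_mul_cancel_left]; exact hs)
    simpa using mul_mem hp this
  · left
    intro p hp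
    have : p.1 ∈ Q := ⟨1, one_mem _, p, hp, by simp⟩
    rwa [h] at this

/-- The core of the O'Nan–Scott Theorem. Let `H` be a primitive permutation group on a finite set whose unique minimal normal subgroup `N` is non-abelian, and `K` a point stabiliser. Then there are a non-abelian simple group `T` and an isomorphism `N ≃* T^m` (`m ≥ 1`) under which `K ⊓ N` becomes either a product `∏ K_i` of proper subgroups `K_i < T`, or the set of functions constant on each block of a partition of the index set into blocks of one common size `k ≥ 2`. -/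
theorem result {α : Type*} [Finite α] (H : Subgroup (Equiv.Perm α)) [MulAction.IsPreprimitive H α] (N : Subgroup H) [N.Normal] (hN : N ≠ ⊥) (hmin : ∀ M : Subgroup H, M.Normal → M ≤ N → M = ⊥ ∨ M = N) (huniq : ∀ L : Subgroup H, L.Normal → L ≠ ⊥ → (∀ M : Subgroup H, M.Normal → M ≤ L → M = ⊥ ∨ M = L) → L = N) (hnab : ¬ IsMulCommutative N) (a : α) : ∃ (T : Type) (_ : Group T) (m : ℕ) (e : N ≃* (Fin m → T)), IsSimpleGroup T ∧ ¬ IsMulCommutative T ∧ 0 < m ∧ ((∃ K : Fin m → Subgroup T, (∀ i, K i ≠ ⊤) ∧ ∀ n : N, (n : H) ∈ MulAction.stabilizer H a ↔ ∀ i, e n i ∈ K i) ∨ (∃ (k : ℕ) (c : Fin m → Fin m), 2 ≤ k ∧ (∀ j : Fin m, Nat.card {i : Fin m // c i = j} = k ∨ Nat.card {i : Fin m // c i = j} = 0) ∧ ∀ n : N, (n : H) ∈ MulAction.stabilizer H a ↔ ∀ i j : Fin m, c i = c j → e n i = e n j)) := by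
  classical
  haveI := Fintype.ofFinite α
  haveI : Nontrivial α := Perm.nontrivial_of_ne_bot hN
  obtain ⟨T, _, _, m, f, hT, hTc, hm, hf, hker, hone, hcl, htr⟩ :=
    Perm.minimal_normal_coords N hN hmin hnab
  have hNt := Perm.transitive_of_normal (α := α) N hN
  let D : Subgroup N := (stabilizer H a).subgroupOf N
  have hD : ∀ h ∈ stabilizer H a, ∀ d ∈ D, MulAut.conjNormal h d ∈ D := fun h hh d hd =>
    Subgroup.mul_mem _ (Subgroup.mul_mem _ hh hd) (Subgroup.inv_mem _ hh)
  have htr' : ∀ i j, ∃ h ∈ stabilizer H a, ∀ n, f j (MulAut.conjNormal h n) = 1 ↔ f i n = 1 := by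
    intro i j
    obtain ⟨h, hh⟩ := htr i j
    obtain ⟨u, hu⟩ := exists_smul_eq N (h • a) a
    refine ⟨u * h, by rw [mem_stabilizer_iff, mul_smul]; exact hu, fun n => ?_⟩
    rw [← hh, map_mul, MulAut.mul_apply, show MulAut.conjNormal (u : H) (MulAut.conjNormal h n) =
      u * MulAut.conjNormal h n * u⁻¹ from rfl, map_mul, map_mul, map_inv, mul_inv_eq_one,
      mul_eq_left]
  have hbij : ∀ φ : Fin m → T ≃* T, ∃ e : N ≃* (Fin m → T), ∀ n i, e n i = φ i (f i n) := by
    intro φ
    refine ⟨MulEquiv.ofBijective (Pi.monoidHom fun i => (φ i).toMonoidHom.comp (f i)) ⟨?_, ?_⟩,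
      fun n i => rfl⟩
    · rw [injective_iff_map_eq_one]
      intro n hn
      exact hone n fun i => (φ i).injective ((congrFun hn i).trans (map_one _).symm)
    · intro t
      obtain ⟨d, hd⟩ := Perm.surj_of_ker_ne hTc f hf Finset.univ (fun i _ j _ => hker i j)
        fun i => (φ i).symm (t i)
      refine ⟨d, funext fun i => ?_⟩
      change φ i (f i d) = t i
      rw [hd i (Finset.mem_univ _), MulEquiv.apply_symm_apply]
  have hmove : ∀ i j, ∀ h ∈ stabilizer H a, (∀ n, f j (MulAut.conjNormal h n) = 1 ↔ f i n = 1) →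
      ∀ n, f i n ∈ D.map (f i) → f j (MulAut.conjNormal h n) ∈ D.map (f j) := by
    rintro i j h hh hij n ⟨d, hd, e⟩
    refine ⟨MulAut.conjNormal h d, hD h hh d hd, ?_⟩
    rw [← mul_inv_eq_one, ← map_inv, ← map_mul, ← map_inv, ← map_mul, hij, map_mul, map_inv, e,
      mul_inv_cancel]
  by_cases hc : ∃ i, D.map (f i) ≠ ⊤
  · obtain ⟨i0, hi0⟩ := hc
    obtain ⟨e, he⟩ := hbij fun _ => MulEquiv.refl T
    refine ⟨T, inferInstance, m, e, hT, hTc, hm, Or.inl ⟨fun i => D.map (f i), fun j hj => hi0 ?_,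
      fun n => ⟨fun hn i => ⟨n, hn, (he n i).symm⟩, fun hn => ?_⟩⟩⟩
    · obtain ⟨h, hh, hij⟩ := htr' j i0
      rw [eq_top_iff]
      intro t _
      obtain ⟨n, rfl⟩ := hf i0 t
      obtain ⟨n, rfl⟩ := (MulAut.conjNormal h : MulAut N).surjective n
      exact hmove j i0 h hh hij n (by rw [show D.map (f j) = ⊤ from hj]; trivial)
    · let P : Subgroup N := ⨅ i, (D.map (f i)).comap (f i)
      have hP : ∀ n, n ∈ P ↔ ∀ i, f i n ∈ D.map (f i) := fun n => by simp [P, Subgroup.mem_iInf]
      have hPc : ∀ h ∈ stabilizer H a, ∀ n ∈ P, MulAut.conjNormal h n ∈ P := by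
        intro h hh n hn
        rw [hP] at hn ⊢
        intro j
        obtain ⟨i, hi⟩ := hcl j h⁻¹
        refine hmove i j h hh (fun n => ?_) n (hn i)
        rw [← hi]; simp
      rcases invariant_le_or_top N a P (fun d hd => (hP d).mpr fun i => ⟨d, hd, rfl⟩) hPc with h | h
      · exact h ((hP n).mpr fun i => by simpa [he] using hn i)
      · exfalso
        apply hi0
        rw [eq_top_iff]
        intro t _
        obtain ⟨n, rfl⟩ := hf i0 t
        exact (hP n).mp (h ▸ Subgroup.mem_top _) i0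
  · push Not at hc
    let g : Fin m → D →* T := fun i => (f i).comp D.subtype
    have hg : ∀ i, Surjective (g i) := fun i t => by
      obtain ⟨d, hd, rfl⟩ : t ∈ D.map (f i) := hc i ▸ Subgroup.mem_top t
      exact ⟨⟨d, hd⟩, rfl⟩
    have hex : ∀ i, ∃ j, (g j).ker = (g i).ker := fun i => ⟨i, rfl⟩
    let c : Fin m → Fin m := fun i => Classical.choose (hex i)
    have hc1 : ∀ i, (g (c i)).ker = (g i).ker := fun i => Classical.choose_spec (hex i)
    have hc2 : ∀ i j, c i = c j ↔ (g i).ker = (g j).ker := fun i j =>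
      ⟨fun h => by rw [← hc1, h, hc1], fun h => by simp only [c, h]⟩
    have hcc : ∀ i, c (c i) = c i := fun i => (hc2 _ _).mpr (hc1 i)
    choose φ hφ using fun i => Perm.exists_equiv_of_ker_eq (hg i) (hg (c i)) (hc1 i).symm
    obtain ⟨e, he⟩ := hbij φ
    have hmem : ∀ n : N, n ∈ D ↔ ∀ i j : Fin m, c i = c j → e n i = e n j := by
      intro n
      constructor
      · intro hn i j hij
        rw [he, he]
        exact (hφ i ⟨n, hn⟩).trans (hij ▸ (hφ j ⟨n, hn⟩).symm)
      · intro hn
        obtain ⟨d, hd⟩ := Perm.surj_of_ker_ne hTc g hg (Finset.univ.filter fun i => c i = i)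
          (fun i hi j hj hij => by
            rw [← (Finset.mem_filter.mp hi).2, ← (Finset.mem_filter.mp hj).2, hc2, hij]) (e n)
        have : d.1 = n := e.injective (funext fun i => by
          rw [hn i (c i) (hcc i).symm, ← hd (c i) (by simp [hcc]), he]
          exact hφ i d)
        exact this ▸ d.2
    have hcard : ∀ i j, Nat.card {k // c k = c i} ≤ Nat.card {k // c k = c j} := by
      intro i j
      obtain ⟨h, hh, hij⟩ := htr' i j
      choose σ hσ using fun k => hcl k h
      have hker' : ∀ k l k' l', (∀ n, f k' (MulAut.conjNormal h n) = 1 ↔ f k n = 1) →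
          (∀ n, f l' (MulAut.conjNormal h n) = 1 ↔ f l n = 1) → c k = c l → c k' = c l' := by
        intro k l k' l' h1 h2 hkl
        rw [hc2] at hkl ⊢
        ext d
        have hd := hD h⁻¹ (inv_mem hh) d.1 d.2
        have e1 := h1 (MulAut.conjNormal h⁻¹ d.1)
        have e2 := h2 (MulAut.conjNormal h⁻¹ d.1)
        have e3 := SetLike.ext_iff.mp hkl ⟨_, hd⟩
        simp only [map_inv, MulAut.apply_inv_self] at e1 e2
        exact e1.trans (e3.trans e2.symm)
      refine Nat.card_le_card_of_injective (fun k => ⟨σ k.1, hker' _ _ _ _ (hσ k.1) hij k.2⟩) ?_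
      intro k l hkl
      refine Subtype.ext (hker _ _ ?_)
      ext n
      rw [MonoidHom.mem_ker, MonoidHom.mem_ker, ← hσ k.1, ← hσ l.1, show σ k.1 = σ l.1 from congrArg Subtype.val hkl]
    refine ⟨T, inferInstance, m, e, hT, hTc, hm, Or.inr ⟨Nat.card {k // c k = c ⟨0, hm⟩}, c, ?_,
      fun j => ?_, hmem⟩⟩
    · by_contra hlt
      have hDtop : ∀ n : N, n ∈ D := fun n => (hmem n).mpr fun i j hij => by
        have h1 := hcard j ⟨0, hm⟩
        haveI : Subsingleton {k // c k = c j} := Finite.card_le_one_iff_subsingleton.mp (by omega)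
        rw [show i = j from congrArg Subtype.val (Subsingleton.elim (⟨i, hij⟩ : {k // c k = c j}) ⟨j, rfl⟩)]
      obtain ⟨b, hb⟩ := exists_ne a
      obtain ⟨n, hn⟩ := exists_smul_eq N a b
      exact hb (hn.symm.trans (hDtop n))
    · by_cases hj : ∃ i, c i = j
      · obtain ⟨i, rfl⟩ := hj
        exact Or.inl (le_antisymm (hcard _ _) (hcard _ _))
      · right
        push Not at hj
        haveI : IsEmpty {i // c i = j} := ⟨fun i => hj i.1 i.2⟩
        exact Nat.card_of_isEmpty

end Cfsg.Agent.S0723
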