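import Mathlib
import Cfsg.Statements.S4035
import Cfsg.Agent.FGS.Super

set_option autoImplicit false
open Cfsg

namespace Cfsg.Agent.S4035

open Subgroup
open scoped Pointwise

/-- Let G be a finite group and p a prime such that p divides the size of no conjugacy class of p-regular elements (elements of order prime to p). Then G is the internal direct product of a Sylow p-subgroup P and a normal subgroup H of order prime to p: P is normal, P ⊓ H = 1 and PH = G. -/
theorem result {G : Type*} [Group G] [Finite G] {p : ℕ} [Fact p.Prime]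
    (h : ∀ x : G, (orderOf x).Coprime p → ¬ p ∣ (ConjClasses.mk x).carrier.ncard) (P : Sylow p G) :
    (P : Subgroup G).Normal ∧ ∃ H : Subgroup G, H.Normal ∧ ¬ p ∣ Nat.card H ∧
      (P : Subgroup G) ⊓ H = ⊥ ∧ (P : Subgroup G) ⊔ H = ⊤ := by
  simp only [FGS.ncard_carrier] at h
  have hn : (P : Subgroup G).Normal := by
    rw [← normalizer_eq_top_iff]
    refine FGS.eq_top_of_forall_conj_mem _ fun x => ?_
    obtain ⟨a, b, -, -, rfl, hab, ⟨k, hk⟩, hb⟩ := FGS.exists_pPart p x
    obtain ⟨R, haR, hR⟩ := FGS.exists_sylow_le_of_not_dvd_index' (h b hb) (FGS.isPGroup_zpowers hk)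
      (zpowers_le.mpr (mem_centralizer_singleton_iff.mpr hab))
    obtain ⟨g, rfl⟩ := MulAction.exists_smul_eq G R P
    refine ⟨g, ?_⟩
    have h1 : a * b ∈ normalizer ((R : Subgroup G) : Set G) := by
      refine mul_mem (le_normalizer (haR (mem_zpowers a))) (centralizer_le_normalizer _ ?_)
      rw [mem_centralizer_iff]
      exact fun y hy => mem_centralizer_singleton_iff.mp (hR hy)
    rw [Sylow.coe_coe, ← Sylow.smul_eq_iff_mem_normalizer] at h1 ⊢
    rw [← mul_smul, inv_mul_cancel_right, mul_smul, h1]
  obtain ⟨H, hH⟩ := exists_right_complement'_of_coprime (N := (P : Subgroup G)) P.card_coprime_index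
  have hHc : ¬ p ∣ Nat.card H := by
    rw [← hH.symm.index_eq_card]; exact P.not_dvd_index
  refine ⟨hn, H, ?_, hHc, hH.disjoint.eq_bot, hH.sup_eq_top⟩
  refine Core.normal_of_le_normalizer ?_
  rw [← hH.sup_eq_top]
  refine sup_le (le_trans ?_ (centralizer_le_normalizer _)) le_normalizer
  intro c hc
  rw [mem_centralizer_iff]
  intro x hx
  have hx' : (orderOf x).Coprime p := ((Nat.Prime.coprime_iff_not_dvd Fact.out).mpr
    fun hd => hHc (hd.trans (FGS.orderOf_dvd_card_of_mem hx))).symm
  obtain ⟨R, hR⟩ := FGS.exists_sylow_le_centralizer (h x hx')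
  obtain ⟨j, hj⟩ := FGS.exists_orderOf_eq_of_mem P.isPGroup' hc
  have : R = P := by
    have := Sylow.unique_of_normal P hn
    exact Subsingleton.elim _ _
  subst this
  exact (hR c hc).symm

end Cfsg.Agent.S4035
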