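import Mathlib
import Cfsg.Statements.S4058
import Cfsg.Agent.Char.Indicator
import Cfsg.Agent.Char.Virtual
import Cfsg.Agent.Char.Central
import Cfsg.Agent.Char.Constit
import Cfsg.Agent.PGrp.Frattini

set_option autoImplicit false
open Cfsg

namespace Cfsg.Agent.S4058

open Subgroup MulAction ComplexConjugate

theorem dvd_sum {Γ X : Type*} [Group Γ] [Finite Γ] [MulAction Γ X] [Fintype X] (F : X → ℤ) (d : ℤ)
    (hinv : ∀ (g : Γ) x, F (g • x) = F x)
    (h : ∀ x, d ∣ (stabilizer Γ x).index * F x) : d ∣ ∑ x, F x := by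
  classical
  have := Fintype.ofFinite (orbitRel.Quotient Γ X)
  rw [← Finset.sum_fiberwise Finset.univ (Quotient.mk (orbitRel Γ X))]
  refine Finset.dvd_sum fun q _ => ?_
  obtain ⟨x, rfl⟩ := q.exists_rep
  rw [Finset.sum_congr rfl (g := fun _ => F x), Finset.sum_const, nsmul_eq_mul]
  · refine (congrArg (fun n : ℕ => d ∣ n * F x) ?_).mp (h x)
    rw [index_stabilizer, ← Set.ncard_coe_finset]
    congr 1
    symm
    ext y
    simp only [Finset.coe_filter, Finset.mem_univ, true_and, Set.mem_ofPred_eq, Quotient.eq]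
    rfl
  · intro y hy
    obtain ⟨g, rfl⟩ : y ∈ orbit Γ x := Quotient.exact (Finset.mem_filter.mp hy).2
    exact hinv g x

variable {G Q : Type*} [Group G] [Finite G] [CommGroup Q]

/-- Multiplication of irreducible characters by linear characters of a quotient. -/
@[reducible] noncomputable def act (f : G →* Q) : MulAction (Q →* ℂˣ) (IrrCharacter G) where
  smul l χ := ⟨fun g => (l.comp f g : ℂ) * χ.1 g, Char.isIrr_linear_mul χ.2 _⟩
  one_smul χ := Subtype.ext (funext fun g => by
    change (((1 : Q →* ℂˣ).comp f g : ℂˣ) : ℂ) * χ.1 g = _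
    simp)
  mul_smul l m χ := Subtype.ext (funext fun g => by
    change (((l * m).comp f g : ℂˣ) : ℂ) * χ.1 g = (l.comp f g : ℂ) * ((m.comp f g : ℂ) * χ.1 g)
    simp [mul_assoc])

theorem card_le (f : G →* Q) (hf : Function.Surjective f) (χ : IrrCharacter G) {d : ℕ}
    (hd : χ.1 1 = d) (S : Finset (Q →* ℂˣ)) (hS : ∀ l ∈ S, ∀ g, (l (f g) : ℂ) * χ.1 g = χ.1 g) :
    S.card ≤ d ^ 2 := by
  classical
  have := Fintype.ofFinite G
  have hχ := Char.isIrr_isChar χ.2
  obtain ⟨n, hn, e⟩ := Char.Constit.isChar_expand_nat (Char.isChar_mul hχ (Char.isChar_conj hχ))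
  choose deg hdeg using fun ψ : IrrCharacter G => Char.isIrr_degree ψ.2
  have h1 : d ^ 2 = ∑ ψ, n ψ * deg ψ := by
    have := congrFun e 1
    rw [Pi.mul_apply, hd, map_natCast] at this
    simp only [Finset.sum_apply, Pi.smul_apply, smul_eq_mul, (hdeg _).2] at this
    exact_mod_cast (sq (d : ℂ)).trans this
  let i : (Q →* ℂˣ) → IrrCharacter G := fun l => ⟨_, Char.isIrr_linear (l.comp f)⟩
  have hi : Function.Injective i := fun l m h => MonoidHom.ext fun q => by
    obtain ⟨g, rfl⟩ := hf q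
    exact Units.ext (congrFun (congrArg Subtype.val h) g)
  rw [h1, ← Finset.card_image_of_injective S hi, Finset.card_eq_sum_ones]
  refine le_trans (Finset.sum_le_sum fun ψ hψ => ?_) (Finset.sum_le_sum_of_subset (Finset.subset_univ _))
  obtain ⟨l, hl, rfl⟩ := Finset.mem_image.mp hψ
  refine Nat.mul_pos (Nat.pos_of_ne_zero fun h0 => ?_) (hdeg _).1
  have h2 := hn (i l)
  rw [h0, Char.classInner_mul_left] at h2
  have h3 : ((i l).1 * fun g => conj (conj (χ.1 g))) = χ.1 := funext fun g => by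
    simpa [i] using hS l hl g
  rw [h3, Char.classInner_isIrr_self χ.2] at h2
  simp at h2

/-- Let G be a finite 2-group with #(G/Φ(G)) ≥ 2^(2k+1). Then the number of elements x of G with x² = 1 is divisible by 2^(k+1). -/
theorem result {G : Type*} [Group G] [Finite G] (hG : IsPGroup 2 G) (k : ℕ)
    (hgen : 2 ^ (2 * k + 1) ≤ Nat.card (G ⧸ frattini G)) :
    2 ^ (k + 1) ∣ Nat.card {x : G // x ^ 2 = 1} := by
  classical
  have := Fintype.ofFinite G
  let _ : CommGroup (G ⧸ frattini G) := { (inferInstance : Group (G ⧸ frattini G)) with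
    mul_comm := (Normal.quotient_commutative_iff_commutator_le.mpr
      (PGrp.commutator_le_frattini hG)).is_comm.comm }
  let f := QuotientGroup.mk' (frattini G)
  let _ := act f
  have hs : ∀ (l : G ⧸ frattini G →* ℂˣ) (χ : IrrCharacter G) g, (l • χ).1 g = l (f g) * χ.1 g :=
    fun _ _ _ => rfl
  have : NeZero (Monoid.exponent (G ⧸ frattini G) : ℂ) :=
    ⟨Nat.cast_ne_zero.mpr Monoid.exponent_ne_zero_of_finite⟩
  have hc := CommGroup.card_monoidHom_of_hasEnoughRootsOfUnity (G ⧸ frattini G) ℂ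
  have : Finite (G ⧸ frattini G →* ℂˣ) := Nat.finite_of_card_ne_zero (hc ▸ Nat.card_pos.ne')
  choose deg hdeg using fun ψ : IrrCharacter G => Char.isIrr_degree' ψ.2
  have h1 : ∀ ψ : IrrCharacter G, ∃ n : ℤ, Char.fsInd ψ.1 = n := fun ψ => by
    rcases Char.fsInd_cases ψ.2 with h | h | h
    exacts [⟨0, by simp [h]⟩, ⟨1, by simp [h]⟩, ⟨-1, by simp [h]⟩]
  choose ν hν using h1
  have h2 : (Nat.card {x : G // x ^ 2 = 1} : ℤ) = ∑ ψ, ν ψ * deg ψ := by
    have := Char.card_sqrt_eq_sum (1 : G)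
    simp only [hν, (hdeg _).2.2, ← sq] at this
    exact_mod_cast this
  rw [← Int.natCast_dvd_natCast, h2]
  refine dvd_sum (Γ := G ⧸ frattini G →* ℂˣ) _ _ (fun l χ => ?_) fun χ => ?_
  · have h3 : ν (l • χ) = ν χ := by
      have : Char.fsInd (l • χ).1 = Char.fsInd χ.1 := by
        unfold Char.fsInd
        congr 1
        refine Finset.sum_congr rfl fun s _ => ?_
        have : f (s * s) = 1 := (QuotientGroup.eq_one_iff _).mpr (sq s ▸ PGrp.pow_mem_frattini hG s)
        rw [hs, this, map_one, Units.val_one, one_mul]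
      rw [hν, hν] at this
      exact_mod_cast this
    have h4 : deg (l • χ) = deg χ := by
      have := hs l χ 1
      rw [map_one, map_one, Units.val_one, one_mul, (hdeg _).2.2, (hdeg _).2.2] at this
      exact_mod_cast this
    rw [h3, h4]
  · rw [mul_left_comm, ← Nat.cast_mul]
    refine Dvd.dvd.mul_left (Int.natCast_dvd_natCast.mpr ?_) _
    obtain ⟨n, hn⟩ := hG.exists_card_eq
    obtain ⟨a, -, ha⟩ := (Nat.dvd_prime_pow Nat.prime_two).mp (hn ▸ (hdeg χ).2.1)
    obtain ⟨m, hm⟩ := (hG.to_quotient (frattini G)).exists_card_eq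
    have h5 := (stabilizer (G ⧸ frattini G →* ℂˣ) χ).card_mul_index
    rw [hc, hm] at h5
    obtain ⟨s, -, hs'⟩ := (Nat.dvd_prime_pow Nat.prime_two).mp (Dvd.intro _ h5)
    obtain ⟨t, -, ht⟩ := (Nat.dvd_prime_pow Nat.prime_two).mp (Dvd.intro_left _ h5)
    have h6 := card_le f (QuotientGroup.mk'_surjective _) χ (hdeg χ).2.2
      (Set.toFinite (stabilizer (G ⧸ frattini G →* ℂˣ) χ : Set _)).toFinset fun l hl g => by
        rw [← hs, mem_stabilizer_iff.mp ((Set.Finite.mem_toFinset _).mp hl)]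
    rw [← Set.ncard_eq_toFinset_card, ← Nat.card_coe_set_eq, SetLike.coe_sort_coe, hs', ha,
      ← pow_mul, pow_le_pow_iff_right₀ one_lt_two] at h6
    rw [hs', ht, ← pow_add, Nat.pow_right_inj one_lt_two] at h5
    rw [hm, pow_le_pow_iff_right₀ one_lt_two] at hgen
    rw [ht, ha, ← pow_add]
    exact pow_dvd_pow _ (by omega)

end Cfsg.Agent.S4058
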