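import Mathlib
import Cfsg.Statements.S4134
import Cfsg.Agent.PGrp.ClassSize
import Cfsg.Agent.PLocal.Maschke
-- import your own Cfsg.Agent.* helpers here

set_option autoImplicit false
open Cfsg

namespace Cfsg.Agent.S4134

/-- Let G be a finite group whose conjugacy classes have exactly two sizes, 1 and n > 1. Then n is a power of a prime p and G is the direct product of a p-group and an abelian group of order prime to p: its Sylow p-subgroup P is normal with an abelian normal complement centralizing it; moreover P has an abelian normal subgroup A with P/A of exponent dividing p. -/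
theorem result {G : Type*} [Group G] [Finite G] (n : ℕ) (hn : 1 < n)
    (h : ∀ x : G, (Subgroup.centralizer ({x} : Set G)).index = 1 ∨ (Subgroup.centralizer ({x} : Set G)).index = n) (hex : ∃ x : G, (Subgroup.centralizer ({x} : Set G)).index = n) :
    ∃ (p : ℕ) (_ : Fact p.Prime) (a : ℕ), n = p ^ a ∧ ∀ P : Sylow p G, (P : Subgroup G).Normal ∧
      (∃ N : Subgroup G, N.Normal ∧ N.IsComplement' (P : Subgroup G) ∧ IsMulCommutative N ∧
        ∀ x ∈ N, ∀ y ∈ (P : Subgroup G), x * y = y * x) ∧
      ∃ A : Subgroup (P : Subgroup G), A.Normal ∧ IsMulCommutative A ∧ ∀ y : (P : Subgroup G), y ^ p ∈ A := by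
  obtain ⟨p, hp, hz⟩ := PGrp.exists_prime_of_two_sizes h
  have := Fact.mk hp
  have hpow : ∀ x : G, ∃ k, x ^ p ^ k ∈ Subgroup.center G := by
    intro x
    obtain ⟨a, b, -, -, rfl, hab, ⟨k, hk⟩, hb⟩ := FGS.exists_pPart p x
    refine ⟨k, ?_⟩
    rw [hab.mul_pow, ← hk, pow_orderOf_eq_one, one_mul]
    exact Subgroup.pow_mem _ (hz b hb) _
  have hQ : IsPGroup p (G ⧸ Subgroup.center G) := by
    intro x
    obtain ⟨x, rfl⟩ := QuotientGroup.mk_surjective x
    obtain ⟨k, hk⟩ := hpow x
    exact ⟨k, (QuotientGroup.eq_one_iff _).mpr hk⟩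
  have : Group.IsNilpotent G := Group.of_quotient_center_nilpotent hQ.isNilpotent
  obtain ⟨x, hx⟩ := hex
  obtain ⟨m, hm⟩ := hQ.exists_card_eq
  have hd : n ∣ p ^ m := by
    rw [← hx, ← hm]
    exact Subgroup.index_dvd_of_le (Subgroup.center_le_centralizer _)
  obtain ⟨a, -, ha⟩ := (Nat.dvd_prime_pow hp).mp hd
  refine ⟨p, inferInstance, a, ha, fun P => ⟨inferInstance, ?_, Subgroup.center _, inferInstance,
    inferInstance, fun y => ?_⟩⟩
  · let N : Subgroup G :=
      { carrier := {x | (orderOf x).Coprime p}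
        mul_mem' := fun {x y} hx hy => (Nat.Coprime.mul_left hx hy).coprime_dvd_left
          (Commute.orderOf_mul_dvd_mul_orderOf (Subgroup.mem_center_iff.mp (hz y hy) x))
        one_mem' := by simp
        inv_mem' := fun {x} hx => by simpa using hx }
    have hN : N ≤ Subgroup.center G := hz
    refine ⟨N, PGrp.normal_of_le_center hN, ?_, PGrp.isMulCommutative_of_le hN inferInstance,
      fun x hx y _ => (Subgroup.mem_center_iff.mp (hN hx) y).symm⟩
    refine Subgroup.isComplement'_of_disjoint_and_mul_eq_univ ?_ ?_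
    · rw [Subgroup.disjoint_def]
      intro x hx hxP
      exact PGrp.eq_one_of_mem_of_isPGroup_of_coprime P.isPGroup' hxP hx
    · rw [Set.eq_univ_iff_forall]
      intro x
      obtain ⟨a, b, -, -, rfl, hab, ⟨k, hk⟩, hb⟩ := FGS.exists_pPart p x
      exact ⟨b, hb, a, FGS.mem_sylow_of_normal P hk, hab.symm.eq⟩
  · have := PGrp.pow_mem_center_of_two_sizes hpow h (y : G)
    rw [Subgroup.mem_center_iff] at this ⊢
    exact fun g => Subtype.ext (this g)

end Cfsg.Agent.S4134
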