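import Mathlib
import Cfsg.Statements.S4034
import Cfsg.Agent.FGS.Solv
import Cfsg.Agent.Core.Fitting
import Cfsg.Agent.Core.Coprime
import Cfsg.Agent.S0143

set_option autoImplicit false
open Cfsg

namespace Cfsg.Agent.S4034

open Subgroup
open scoped Pointwise

theorem quot {G G' : Type*} [Group G] [Finite G] [Group G'] {p : ℕ} [hp : Fact p.Prime]
    {f : G →* G'} (hf : Function.Surjective f)
    (h : ∀ x : G, (orderOf x).Coprime p → ∃ k : ℕ, (centralizer ({x} : Set G)).index = p ^ k) :
    ∀ x : G', (orderOf x).Coprime p → ∃ k : ℕ, (centralizer ({x} : Set G')).index = p ^ k := by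
  intro x hx
  obtain ⟨y, rfl⟩ := hf x
  obtain ⟨b, -, hb, hbo⟩ := FGS.exists_pPrime_lift f y hx
  obtain ⟨k, hk⟩ := h b hbo
  rw [← hb]
  exact FGS.exists_pow_of_dvd hp.out (hk ▸ FGS.index_centralizer_map_dvd hf b)

theorem solv1 {G : Type*} [Group G] [Finite G] {p : ℕ} [hp : Fact p.Prime]
    (h : ∀ x : G, (orderOf x).Coprime p → ∃ k : ℕ, (centralizer ({x} : Set G)).index = p ^ k) :
    Group.IsSolvable G := by
  refine FGS.solvable_of_simple (P := fun G _ => ∀ x : G, (orderOf x).Coprime p →
    ∃ k : ℕ, (centralizer ({x} : Set G)).index = p ^ k) ?_ ?_ ?_ G h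
  · intro G _ _ N _ h x hx
    obtain ⟨k, hk⟩ := h x (by simpa using hx)
    exact FGS.exists_pow_of_dvd hp.out (hk ▸ FGS.index_centralizer_normal_dvd N x)
  · intro G _ _ N _ h
    exact quot (QuotientGroup.mk'_surjective N) h
  · intro G _ _ _ h
    by_cases h1 : ∀ x : G, (orderOf x).Coprime p → x ∈ (⊥ : Subgroup G)
    · obtain ⟨k, hk⟩ := FGS.index_eq_pow_of_forall_mem _ h1
      rw [index_bot] at hk
      exact Core.solvable_of_isPGroup (IsPGroup.of_card hk)
    · push Not at h1
      obtain ⟨x, hx, hx1⟩ := h1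
      obtain ⟨k, hk⟩ := h x hx
      exact FGS.solvable_of_prime_card (S0143.result p k hp.out x (by simpa using hx1) hk)

theorem solv2 {G : Type*} [Group G] [Finite G] {p : ℕ} [hp : Fact p.Prime]
    (h : ∃ H : Subgroup G, IsMulCommutative H ∧ ∃ k : ℕ, H.index = p ^ k) :
    Group.IsSolvable G := by
  refine FGS.solvable_of_simple (P := fun G _ =>
    ∃ H : Subgroup G, IsMulCommutative H ∧ ∃ k : ℕ, H.index = p ^ k) ?_ ?_ ?_ G h
  · rintro G _ _ N _ ⟨H, hH, k, hk⟩
    exact ⟨H.subgroupOf N, inferInstance,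
      FGS.exists_pow_of_dvd hp.out (hk ▸ FGS.relIndex_dvd_index_of_normal_right N H)⟩
  · rintro G _ _ N _ ⟨H, hH, k, hk⟩
    exact ⟨H.map (QuotientGroup.mk' N), inferInstance,
      FGS.exists_pow_of_dvd hp.out (hk ▸ index_map_dvd H (QuotientGroup.mk'_surjective N))⟩
  · rintro G _ _ _ ⟨H, hH, k, hk⟩
    by_cases h1 : H = ⊥
    · rw [h1, index_bot] at hk
      exact Core.solvable_of_isPGroup (IsPGroup.of_card hk)
    · obtain ⟨⟨x, hx⟩, hx1⟩ := ne_bot_iff_exists_ne_one.mp h1
      have : H ≤ centralizer {x} := fun y hy =>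
        mem_centralizer_singleton_iff.mpr (Core.comm_of_isMulCommutative hH hy hx)
      obtain ⟨j, hj⟩ := FGS.exists_pow_of_dvd hp.out (hk ▸ index_dvd_of_le this)
      exact FGS.solvable_of_prime_card (S0143.result p j hp.out x (by simpa using hx1) hj)

theorem mem_core {G : Type*} [Group G] [Finite G] [Group.IsSolvable G] {p : ℕ} [hp : Fact p.Prime]
    (h : pCore p G = ⊥) {x : G} (hx : pPrimeCore p G ≤ centralizer {x}) : x ∈ pPrimeCore p G := by
  have h1 : fittingSubgroup G ≤ pPrimeCore p G := by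
    simpa [h] using Core.fitting_le_pCore_sup_pPrimeCore (G := G) p
  refine h1 (Core.centralizer_fitting_le (mem_centralizer_iff.mpr fun y hy => ?_))
  exact mem_centralizer_singleton_iff.mp (hx (h1 hy))

/-- Let G be a finite group and p a prime. Every conjugacy class of p-regular elements of G (elements of order prime to p) has p-power size if and only if G has an abelian p-complement, i.e. an abelian subgroup of order prime to p and p-power index. -/
theorem result {G : Type*} [Group G] [Finite G] {p : ℕ} (hp : p.Prime) :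
    (∀ x : G, (orderOf x).Coprime p → ∃ k : ℕ, (ConjClasses.mk x).carrier.ncard = p ^ k) ↔
    (∃ H : Subgroup G, IsMulCommutative H ∧ ¬ p ∣ Nat.card H ∧ ∃ k : ℕ, H.index = p ^ k) := by
  have := Fact.mk hp
  simp only [FGS.ncard_carrier]
  have hsurj := QuotientGroup.mk'_surjective (pCore p G)
  obtain ⟨a, ha⟩ := IsPGroup.iff_card.mp (Core.pCore_isPGroup (G := G) p)
  constructor
  · intro h
    have := solv1 h
    have h' := quot hsurj h
    have hc : ∀ x : G ⧸ pCore p G, (orderOf x).Coprime p → pPrimeCore p _ ≤ centralizer {x} := by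
      intro x hx
      obtain ⟨k, hk⟩ := h' x hx
      exact Core.pPrimeCore_le_of_index_eq_pow hk
    set K := pPrimeCore p (G ⧸ pCore p G) with hK
    have hKc : (Nat.card K).Coprime p := Core.pPrimeCore_coprime p
    obtain ⟨k, hk⟩ := FGS.index_eq_pow_of_forall_mem K
      fun x hx => mem_core (Core.pCore_quotient_pCore p) (hc x hx)
    let M := K.comap (QuotientGroup.mk' (pCore p G))
    have hle : pCore p G ≤ M := fun c hc => by
      change QuotientGroup.mk' _ c ∈ K
      rw [QuotientGroup.mk'_apply, (QuotientGroup.eq_one_iff c).mpr hc]; exact one_mem _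
    have hri : (pCore p G).relIndex M = Nat.card K := by
      have := Core.card_mul_relIndex hle
      rw [Core.card_comap_mk'] at this
      exact Nat.eq_of_mul_eq_mul_left Nat.card_pos this
    obtain ⟨H, hHM, hd, hsup, hcard⟩ := Core.exists_complement_in (pCore p G) M hle
      le_normalizer_of_normal (by rw [hri, ha]; exact hKc.symm.pow_left _)
    refine ⟨H, Core.isMulCommutative_of_forall fun x hx y hy => ?_, ?_, ⟨k + a, ?_⟩⟩
    · have h1 := mem_centralizer_singleton_iff.mp
        (hc _ (hKc.coprime_dvd_left (FGS.orderOf_dvd_card_of_mem (hHM hy))) (hHM hx))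
      rw [← map_mul, ← map_mul] at h1
      have h2 : (x * y)⁻¹ * (y * x) ∈ pCore p G := QuotientGroup.eq.mp h1
      exact inv_mul_eq_one.mp (disjoint_def.mp hd h2
        (mul_mem (inv_mem (mul_mem hx hy)) (mul_mem hy hx)))
    · rw [hcard, hri]; exact (Nat.Prime.coprime_iff_not_dvd hp).mp hKc.symm
    · have h1 := H.card_mul_index
      rw [← (pCore p G).card_mul_index, index_eq_card (pCore p G), ← K.card_mul_index, hcard, hri,
        hk, ha] at h1
      refine Nat.eq_of_mul_eq_mul_left (Nat.card_pos (α := K)) ?_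
      rw [h1]; ring
  · rintro ⟨H, hH, hHp, k, hk⟩ x hx
    have := solv2 ⟨H, hH, k, hk⟩
    set K := pPrimeCore p (G ⧸ pCore p G) with hK
    obtain ⟨j, hj⟩ := FGS.exists_pow_of_dvd hp (hk ▸ index_map_dvd H hsurj)
    have h1 : K ≤ H.map (QuotientGroup.mk' (pCore p G)) := Core.pPrimeCore_le_of_index_eq_pow hj
    have h2 : H.map (QuotientGroup.mk' (pCore p G)) ≤ K := fun y hy =>
      mem_core (Core.pCore_quotient_pCore p) fun z hz => mem_centralizer_singleton_iff.mpr
        (Core.comm_of_isMulCommutative inferInstance (h1 hz) hy)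
    have h3 : QuotientGroup.mk' (pCore p G) x ∈ H.map (QuotientGroup.mk' (pCore p G)) := by
      refine h1 (FGS.mem_of_coprime_index ?_)
      rw [le_antisymm h1 h2, hj]
      exact (hx.coprime_dvd_left (orderOf_map_dvd _ x)).pow_right _
    rw [← mem_comap, comap_map_eq, QuotientGroup.ker_mk', sup_comm] at h3
    obtain ⟨n, -, hn⟩ := Core.exists_conj_le_of_le_sup (pCore p G) (zpowers x) H
      le_normalizer_of_normal le_normalizer_of_normal
      (by rw [Nat.card_zpowers, ha]; exact hx.pow_right _) (Or.inl inferInstance)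
      (zpowers_le.mpr h3)
    have h4 : n * x * n⁻¹ ∈ H := Core.conj_smul_le_iff.mp hn x (mem_zpowers x)
    have : H ≤ centralizer {n * x * n⁻¹} := fun y hy =>
      mem_centralizer_singleton_iff.mpr (Core.comm_of_isMulCommutative hH hy h4)
    rw [← FGS.index_centralizer_conj n x]
    exact FGS.exists_pow_of_dvd hp (hk ▸ index_dvd_of_le this)

end Cfsg.Agent.S4034
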