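import Mathlib
import Cfsg.Statements.S4125
import Cfsg.Agent.FGS.POrb
import Cfsg.Agent.FGS.Kazarin
import Cfsg.Agent.FGS.BHM
import Cfsg.Agent.FGS.Solv
import Cfsg.Agent.Core.PHall
import Cfsg.Agent.Core.PConstrained

set_option autoImplicit false
open Cfsg

namespace Cfsg.Agent.S4125

open Subgroup Cfsg.Agent.FGS Cfsg.Agent.Core
open scoped Pointwise

section
variable {G : Type*} [Group G] [Finite G] {q : ℕ} [hq : Fact q.Prime]

theorem card_dvd (K : Subgroup G) {X : Set G} (h : ∀ k ∈ K, ∀ x ∈ X, k * x ∈ X) :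
    Nat.card K ∣ X.ncard := by
  let S : SubMulAction K G := ⟨X, fun k x hx => h k k.2 x hx⟩
  have e := MulAction.selfEquivOrbitsQuotientProd (G := K) (X := S) fun b => by
    rw [eq_bot_iff]
    intro g hg
    have : (g : G) * b = b := congrArg Subtype.val (show g • b = b from hg)
    exact Subtype.ext (by simpa using this)
  have := Nat.card_congr e
  rw [Nat.card_prod] at this
  rw [← Nat.card_coe_set_eq]
  exact (show Nat.card X = _ from this) ▸ Dvd.intro_left _ rfl

theorem conj_mul {u v : G}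
    (h : (centralizer ({u} : Set G)).index.Coprime (centralizer ({v} : Set G)).index) (g k : G) :
    IsConj (u * v) (g * u * g⁻¹ * (k * v * k⁻¹)) := by
  obtain ⟨c, hc, d, hd, e⟩ := exists_mul_of_coprime_index h (g⁻¹ * k)
  rw [mem_centralizer_singleton_iff] at hc hd
  obtain rfl : k = g * c * d := by rw [mul_assoc, ← e]; group
  refine isConj_iff.2 ⟨g * c, ?_⟩
  calc g * c * (u * v) * (g * c)⁻¹ = g * (c * u) * (v * d * d⁻¹) * (g * c)⁻¹ := by group
    _ = g * (c * u) * c⁻¹ * g⁻¹ * (g * c * (d * v) * d⁻¹ * c⁻¹ * g⁻¹) := by rw [← hd]; group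
    _ = _ := by rw [hc]; group

theorem mem_pCore_of_comm (N : Subgroup G) [hN : N.Normal] (hc : IsMulCommutative N) {y : G}
    (hy : y ∈ N) {k : ℕ} (hk : orderOf y = q ^ k) : y ∈ pCore q G := by
  let K : Subgroup G :=
    { carrier := {z | z ∈ N ∧ z ^ q ^ k = 1}
      one_mem' := ⟨N.one_mem, one_pow _⟩
      mul_mem' := fun {a b} ha hb => ⟨N.mul_mem ha.1 hb.1, by
        rw [(show Commute a b from isMulCommutative_iff_forall.1 hc a ha.1 b hb.1).mul_pow, ha.2,
          hb.2, one_mul]⟩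
      inv_mem' := fun {a} ha => ⟨N.inv_mem ha.1, by rw [inv_pow, ha.2, inv_one]⟩ }
  exact le_pCore (N := K) ⟨fun n hn g => ⟨hN.conj_mem n hn.1 g, by rw [conj_pow, hn.2]; simp⟩⟩
    (fun z => ⟨k, Subtype.ext z.2.2⟩) ⟨hy, hk ▸ pow_orderOf_eq_one y⟩

theorem img_mem {s a k : ℕ} [hs : Fact s.Prime] {x : G} (hx : orderOf x = q ^ k)
    (h : (centralizer ({x} : Set G)).index = s ^ a) :
    QuotientGroup.mk' (pCore s G) x ∈ pCore q (G ⧸ pCore s G) := by
  obtain ⟨j, hj⟩ := exists_pow_of_dvd hs.out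
    (h ▸ index_centralizer_map_dvd (QuotientGroup.mk'_surjective (pCore s G)) x)
  obtain ⟨i, hi⟩ := exists_pow_of_dvd hq.out
    (hx ▸ orderOf_map_dvd (QuotientGroup.mk' (pCore s G)) x)
  exact mem_pCore_of_comm _ (comm_normalClosure_of_index_eq_pow (pCore_quotient_pCore s) hj)
    (subset_normalClosure rfl) hi

theorem wielandt {a k : ℕ} {x : G} (hx : orderOf x = q ^ k)
    (h : (centralizer ({x} : Set G)).index = q ^ a) : x ∈ pCore q G := by
  have := img_mem hx h
  rwa [pCore_quotient_pCore, mem_bot, QuotientGroup.mk'_apply, QuotientGroup.eq_one_iff] at this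

theorem conj_into (Q : Sylow q G) [(Q : Subgroup G).Normal] {H : Subgroup G}
    (hH : (Q : Subgroup G).IsComplement' H) {x : G} {a : ℕ}
    (h : (centralizer ({x} : Set G)).index = q ^ a) :
    ∃ u ∈ (Q : Subgroup G), u * x * u⁻¹ ∈ centralizer (H : Set G) := by
  have hc : (Nat.card H).Coprime q := by
    rw [← hH.symm.index_eq_card]
    exact ((Nat.Prime.coprime_iff_not_dvd hq.out).2 Q.not_dvd_index).symm
  have hs : IsPSolvable q G := IsPSolvable.extension (Q : Subgroup G) (isPSolvable_of_isPGroup Q.2)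
    (isPSolvable_of_coprime (by rw [← index_eq_card, hH.symm.index_eq_card]; exact hc))
  obtain ⟨g, hg⟩ := psolv_exists_conj_le hs H _ hc ⟨a, h⟩
  obtain ⟨⟨⟨u, hu⟩, k, hk⟩, rfl⟩ := hH.2 g
  refine ⟨u⁻¹, inv_mem hu, fun y hy => ?_⟩
  have := mem_centralizer_singleton_iff.1 (hg (mem_conj_iff.2
    (show (u * k)⁻¹ * (u * y * u⁻¹) * (u * k) ∈ H by
      have := H.mul_mem (H.mul_mem (H.inv_mem hk) hy) hk
      convert this using 1; group)))
  calc y * (u⁻¹ * x * u⁻¹⁻¹) = u⁻¹ * (u * y * u⁻¹ * x) * u := by group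
    _ = _ := by rw [this]; group

theorem le_of_conj {Q L : Subgroup G} (h : ∀ x ∈ Q, ∃ u ∈ Q, u * x * u⁻¹ ∈ L) : Q ≤ L :=
  subgroupOf_eq_top.1 (eq_top_of_forall_conj_mem _ fun x =>
    let ⟨u, hu, e⟩ := h x x.2; ⟨⟨u, hu⟩, e⟩)

theorem exists_compl (Q : Sylow q G) [(Q : Subgroup G).Normal] :
    ∃ H : Subgroup G, (Q : Subgroup G).IsComplement' H :=
  exists_right_complement'_of_coprime Q.card_coprime_index

theorem case_eq (Q : Sylow q G) (h : ∀ x : G, (∃ k : ℕ, orderOf x = q ^ k) →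
    ∃ a : ℕ, (centralizer ({x} : Set G)).index = q ^ a) :
    (Q : Subgroup G).Normal ∧ ∃ N : Subgroup G, N.Normal ∧ N.IsComplement' (Q : Subgroup G) := by
  have e : pCore q G = Q := le_antisymm (pCore_le_sylow Q) fun x hx => by
    obtain ⟨k, hk⟩ := exists_orderOf_eq_of_mem Q.2 hx
    obtain ⟨a, ha⟩ := h x ⟨k, hk⟩
    exact wielandt hk ha
  haveI : (Q : Subgroup G).Normal := e ▸ inferInstance
  obtain ⟨H, hH⟩ := exists_compl Q
  have h1 : (Q : Subgroup G) ≤ centralizer (H : Set G) := le_of_conj fun x hx => by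
    obtain ⟨a, ha⟩ := h x (exists_orderOf_eq_of_mem Q.2 hx)
    exact conj_into Q hH ha
  exact ⟨this, H, normal_of_le_normalizer (hH.sup_eq_top ▸
    sup_le (h1.trans (centralizer_le_normalizer _)) le_normalizer), hH.symm⟩

theorem not_dvd_of_ne {s a : ℕ} (hs : s.Prime) (h : s ≠ q) : ¬ q ∣ s ^ a := fun h1 =>
  h ((Nat.prime_dvd_prime_iff_eq hq.out hs).1 (hq.out.dvd_of_dvd_pow h1)).symm

theorem mixed (hB : ∀ x : G, (∃ k : ℕ, orderOf x = q ^ k) →
      ∃ (r : ℕ) (a : ℕ), r.Prime ∧ (centralizer ({x} : Set G)).index = r ^ a)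
    {x y : G} {k l a : ℕ} (hx : orderOf x = q ^ k) (hy : orderOf y = q ^ l)
    (ha : (centralizer ({x} : Set G)).index = q ^ a) (hx0 : x ∉ center G)
    (hb : ¬ q ∣ (centralizer ({y} : Set G)).index) : y ∈ center G := by
  obtain ⟨Q⟩ : Nonempty (Sylow q G) := inferInstance
  have hxO := wielandt hx ha
  have hxQ : ¬ (Q : Subgroup G) ≤ centralizer (pCore q G : Set G) := fun h => by
    have := not_dvd_index_of_sylow_le Q (h.trans (centralizer_le (Set.singleton_subset_iff.2 hxO)))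
    rw [ha] at this
    refine hx0 (index_centralizer_eq_one_iff.1 ?_)
    rcases a with _ | a
    · exact ha
    · exact absurd (dvd_pow_self q a.succ_ne_zero) this
  have hcO : ∀ z : G, ¬ q ∣ (centralizer ({z} : Set G)).index → z ∈ centralizer (pCore q G : Set G) :=
    fun z hz w hw => mem_centralizer_singleton_iff.1 (pCore_le_of_not_dvd_index hz hw)
  have hd : ∀ z ∈ (Q : Subgroup G), (∃ a, (centralizer ({z} : Set G)).index = q ^ a) ∨
      z ∈ centralizer (pCore q G : Set G) := fun z hz => by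
    obtain ⟨r, c, hr, e⟩ := hB z (exists_orderOf_eq_of_mem Q.2 hz)
    by_cases h : r = q
    · exact Or.inl ⟨c, h ▸ e⟩
    · exact Or.inr (hcO z (e ▸ not_dvd_of_ne hr h))
  have e : pCore q G = Q := le_antisymm (pCore_le_sylow Q)
    ((SubgroupClass.subset_union.1 fun z hz => (hd z hz).imp_left fun ⟨c, hc⟩ =>
      let ⟨_, hk⟩ := exists_orderOf_eq_of_mem Q.2 hz; wielandt hk hc).resolve_right hxQ)
  haveI : (Q : Subgroup G).Normal := e ▸ inferInstance
  rw [e] at hxQ hcO hd
  obtain ⟨H, hH⟩ := exists_compl Q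
  have h1 : (Q : Subgroup G) ≤ (centralizer (H : Set G) ⊓ Q) ⊔ centralizer (Q : Set G) :=
    le_of_conj fun z hz => by
      rcases hd z hz with ⟨c, hc⟩ | h
      · obtain ⟨u, hu, h⟩ := conj_into Q hH hc
        exact ⟨u, hu, mem_sup_left ⟨h, this.conj_mem z hz u⟩⟩
      · exact ⟨1, one_mem _, mem_sup_right (by simpa using h)⟩
  have h2 : (Q : Subgroup G) ≤ normalizer ((centralizer (H : Set G) ⊓ Q : Subgroup G) : Set G) :=
    h1.trans (sup_le le_normalizer ((centralizer_le (show ((centralizer (H : Set G) ⊓ Q :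
      Subgroup G) : Set G) ⊆ (Q : Subgroup G) from inf_le_right (a := centralizer (H : Set G)))).trans
        (centralizer_le_normalizer _)))
  have h3 : (Q : Subgroup G) ≤ centralizer (H : Set G) :=
    (SubgroupClass.subset_union.1 fun z hz => (hd z hz).imp_left fun ⟨c, hc⟩ => by
      obtain ⟨u, hu, h⟩ := conj_into Q hH hc
      exact ((mem_normalizer_iff.1 (h2 hu) z).2 ⟨h, this.conj_mem z hz u⟩).1).resolve_right hxQ
  have hyQ : y ∈ Q := mem_sylow_of_normal Q hy
  exact mem_center_of_sup hH.sup_eq_top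
    (fun w hw => mem_centralizer_singleton_iff.2 (hcO y hb w hw))
    fun w hw => mem_centralizer_singleton_iff.2 (h3 hyQ w hw)

theorem two_primes {x y : G} {p a l : ℕ} [hp : Fact p.Prime] (hpq : p ≠ q) (hy : orderOf y = q ^ l)
    (ha : (centralizer ({x} : Set G)).index = p ^ a)
    (hb : ¬ p ∣ (centralizer ({y} : Set G)).index)
    (hc : (centralizer ({y} : Set G)).index.Coprime (centralizer ({y * x} : Set G)).index) :
    y ∈ center G := by
  let X := {b | IsConj x b}
  let K := MulAction.stabilizer G X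
  have hK : ∀ t, t ∈ K ↔ ∀ b ∈ X, t * b ∈ X := fun t => MulAction.mem_stabilizer_set' X.toFinite
  have hn : K.Normal := ⟨fun t ht g => (hK _).2 fun b hb => by
    have h1 : IsConj x (g⁻¹ * b * g) := IsConj.trans hb (isConj_iff.2 ⟨g⁻¹, by group⟩)
    exact IsConj.trans ((hK t).1 ht _ h1) (isConj_iff.2 ⟨g, by group⟩)⟩
  have hKp : IsPGroup p K := by
    have := card_dvd K fun k hk => (hK k).1 hk
    rw [ncard_isConj, ha] at this
    exact IsPGroup.iff_card.2 (exists_pow_of_dvd hp.out this)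
  have hKy : K ≤ centralizer {y} := (le_pCore hn hKp).trans (pCore_le_of_not_dvd_index hb)
  have hcop : (centralizer ({y} : Set G)).index.Coprime (centralizer ({x} : Set G)).index :=
    ha ▸ ((Nat.Prime.coprime_iff_not_dvd hp.out).2 hb).symm.pow_right a
  have hinv : centralizer ({y⁻¹} : Set G) = centralizer {y} := by
    ext g
    simp only [mem_centralizer_singleton_iff]
    exact Commute.inv_right_iff
  refine mem_center_iff.2 fun g => ?_
  have h1 : y⁻¹ * (g * y * g⁻¹) ∈ K := (hK _).2 fun b hb => by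
    obtain ⟨h, rfl⟩ := isConj_iff.1 hb
    obtain ⟨k, hk⟩ := isConj_iff.1 (conj_mul hcop g h)
    have := conj_mul (hinv ▸ hc) 1 k
    rw [hk] at this
    simpa [X, mul_assoc] using this
  have h2 : Commute y (y⁻¹ * (g * y * g⁻¹)) := (mem_centralizer_singleton_iff.1 (hKy h1)).symm
  have h3 : (y⁻¹ * (g * y * g⁻¹)) ^ q ^ l = 1 := by
    have := h2.mul_pow (q ^ l)
    rwa [mul_inv_cancel_left, conj_pow, ← hy, pow_orderOf_eq_one, one_mul, mul_one,
      mul_inv_cancel, hy, eq_comm] at this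
  obtain ⟨j, hj⟩ := exists_orderOf_eq_of_mem hKp h1
  have h4 : y⁻¹ * (g * y * g⁻¹) = 1 := orderOf_eq_one_iff.1 (Nat.eq_one_of_dvd_coprimes
    (((Nat.coprime_primes hp.out hq.out).2 hpq).pow j l) hj.dvd (orderOf_dvd_of_pow_eq_one h3))
  exact mul_inv_eq_iff_eq_mul.1 (inv_mul_eq_one.1 h4).symm

theorem uniq (hB : ∀ x : G, (∃ k : ℕ, orderOf x = q ^ k) →
      ∃ (r : ℕ) (a : ℕ), r.Prime ∧ (centralizer ({x} : Set G)).index = r ^ a)
    {x y : G} {k l p a r b : ℕ} (hp : p.Prime) (hr : r.Prime) (hx : orderOf x = q ^ k)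
    (hy : orderOf y = q ^ l) (ha : (centralizer ({x} : Set G)).index = p ^ a)
    (hb : (centralizer ({y} : Set G)).index = r ^ b) (hx0 : x ∉ center G) (hy0 : y ∉ center G) :
    p = r := by
  by_contra hne
  by_cases h1 : p = q
  · exact hy0 (mixed hB hx hy (h1 ▸ ha) hx0 (hb ▸ not_dvd_of_ne hr (h1 ▸ Ne.symm hne)))
  by_cases h2 : r = q
  · exact hx0 (mixed hB hy hx (h2 ▸ hb) hy0 (ha ▸ not_dvd_of_ne hp h1))
  haveI := Fact.mk hp
  haveI := Fact.mk hr
  obtain ⟨P, hP⟩ := exists_sylow_le_of_not_dvd_index (p := q) (ha ▸ not_dvd_of_ne hp h1)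
  obtain ⟨P', hP'⟩ := exists_sylow_mem hy
  obtain ⟨g, rfl⟩ := MulAction.exists_smul_eq G P' P
  have hz : g * y * g⁻¹ ∈ centralizer {x} := hP (smul_mem_pointwise_smul y (MulAut.conj g) _ hP')
  have hz1 : orderOf (g * y * g⁻¹) = q ^ l := hy ▸ (MulAut.conj g).orderOf_eq y
  have hz2 := (index_centralizer_conj g y).trans hb
  have hz0 : g * y * g⁻¹ ∉ center G := fun h => hy0 (by
    simpa [mul_assoc] using (inferInstance : (center G).Normal).conj_mem _ h g⁻¹)
  generalize g * y * g⁻¹ = z at hz hz1 hz2 hz0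
  have hzx : Commute z x := mem_centralizer_singleton_iff.1 hz
  obtain ⟨s, c, hs, e⟩ := hB (z * x) (exists_pow_of_dvd hq.out (orderOf_dvd_of_pow_eq_one
    (show (z * x) ^ q ^ (l + k) = 1 by
      rw [hzx.mul_pow, pow_add, pow_mul, ← hz1, pow_orderOf_eq_one, one_pow, one_mul, mul_comm,
        pow_mul, ← hx, pow_orderOf_eq_one, one_pow])))
  by_cases h3 : s = r
  · refine hx0 (two_primes h2 hx hz2 (ha ▸ not_dvd_of_ne hp hne) ?_)
    rw [← hzx.eq, ha, e, h3]
    exact ((Nat.coprime_primes hp hr).2 hne).pow _ _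
  · refine hz0 (two_primes h1 hz1 ha (hz2 ▸ not_dvd_of_ne hr (Ne.symm hne)) ?_)
    rw [hz2, e]
    exact ((Nat.coprime_primes hr hs).2 (Ne.symm h3)).pow _ _

theorem solv {p : ℕ} (hp : p.Prime) (hO : pPrimeCore q G = ⊥) (V : Sylow q G)
    [hV : (V : Subgroup G).Normal] (hc : IsMulCommutative V)
    (h : ∀ x ∈ (V : Subgroup G), ∃ a : ℕ, (centralizer ({x} : Set G)).index = p ^ a) :
    Group.IsSolvable G := by
  obtain ⟨_, ⟨n, rfl⟩, hmin⟩ := (wellFounded_lt (α := Subgroup G)).has_min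
    (Set.range (derivedSeries G)) ⟨_, 0, rfl⟩
  have hD : ⁅derivedSeries G n, derivedSeries G n⁆ = derivedSeries G n :=
    ((commutator_le_left _ _).lt_or_eq).resolve_left (hmin _ ⟨n + 1, rfl⟩)
  refine ⟨n, ?_⟩
  haveI := derivedSeries_normal G n
  generalize derivedSeries G n = D at *
  have hD' : _root_.commutator D = ⊤ := map_injective D.subtype_injective (by
    rw [map_commutator_subtype, hD, ← MonoidHom.range_eq_map, range_subtype])
  letI : CommGroup V := IsMulCommutative.instCommGroup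
  let φ : D →* MulAut V := (MulAut.conjNormal (H := V)).comp D.subtype
  have hφ : ∀ (d : D) (v : V), (φ d v : G) = d * v * (d : G)⁻¹ := fun d v => rfl
  have h1 := POrb.main (H := φ.range) (V := V) hp hq.out V.2 (by
      refine coprime_of_isPGroup V.2 (((Nat.Prime.coprime_iff_not_dvd hq.out).2 ?_).symm)
      rw [← index_ker]
      refine fun h2 => not_dvd_relIndex_sylow_normal V D (h2.trans (index_dvd_of_le fun d hd => ?_))
      ext v
      rw [hφ, isMulCommutative_iff_forall.1 hc (d : G) hd _ v.2]; simp)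
    (by
      have h1 := map_top_of_surjective _ φ.rangeRestrict_surjective
      rw [_root_.commutator, ← h1, ← map_commutator]
      exact congrArg _ hD')
    (fun v => by
      obtain ⟨a, ha⟩ := h v v.2
      rw [← index_comap_of_surjective _ φ.rangeRestrict_surjective]
      refine exists_pow_of_dvd hp (ha ▸ (dvd_of_eq ?_).trans
        (relIndex_dvd_index_of_normal_right D (centralizer {(v : G)})))
      rw [relIndex]; congr 1
      ext d
      rw [mem_subgroupOf, mem_centralizer_singleton_iff, ← mul_inv_eq_iff_eq_mul, ← hφ]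
      exact Subtype.ext_iff)
  have hs : IsPSolvable q G := IsPSolvable.extension (V : Subgroup G) (isPSolvable_of_isPGroup V.2)
    (isPSolvable_of_coprime ((Nat.Prime.coprime_iff_not_dvd hq.out).2 V.not_dvd_index).symm)
  have h2 := IsPSolvable.centralizer_pCore_le hs hO
  rw [pCore_eq_sylow_of_normal V hV] at h2
  have h3 : D ≤ V := le_trans (b := centralizer ((V : Subgroup G) : Set G)) (fun d hd v hv => by
    have := congrArg Subtype.val (h1 (φ.rangeRestrict ⟨d, hd⟩) ⟨v, hv⟩)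
    exact (mul_inv_eq_iff_eq_mul.1 this).symm) h2
  rw [← hD, commutator_eq_bot_iff_le_centralizer]
  exact fun a ha b hb => isMulCommutative_iff_forall.1 hc _ (h3 hb) _ (h3 ha)

end

/-- Let G be a finite group and q a prime dividing its order such that every element of q-power order has a conjugacy class of prime-power size. Then G is q-solvable of q-length 1: there are normal subgroups K ≤ L of G with K of order prime to q, L/K a q-group and L of index prime to q. Moreover there is a prime p such that every element of q-power order has a class of p-power size (one prime serving for all of them), and for a Sylow q-subgroup Q: if p = q then Q is normal with a normal complement (a direct factor), while if p ≠ q then Q is abelian, the product of Q with the largest normal p-subgroup O_p(G) is normal in G, and G/O_{q'}(G) is solvable, where O_{q'}(G) is the largest normal subgroup of order prime to q. -/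
theorem result {G : Type*} [Group G] [Finite G] (q : ℕ) [Fact q.Prime] (hq : q ∣ Nat.card G)
    (hBaer : ∀ x : G, (∃ k : ℕ, orderOf x = q ^ k) → ∃ (r : ℕ) (a : ℕ), r.Prime ∧ (Subgroup.centralizer ({x} : Set G)).index = r ^ a) (Q : Sylow q G) :
    (∃ K L : Subgroup G, K.Normal ∧ L.Normal ∧ K ≤ L ∧ (Nat.card K).Coprime q ∧ (∃ m : ℕ, K.relIndex L = q ^ m) ∧ L.index.Coprime q) ∧
    ∃ p : ℕ, p.Prime ∧ (∀ x : G, (∃ k : ℕ, orderOf x = q ^ k) → ∃ a : ℕ, (Subgroup.centralizer ({x} : Set G)).index = p ^ a) ∧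
      (p = q → (Q : Subgroup G).Normal ∧ ∃ N : Subgroup G, N.Normal ∧ N.IsComplement' (Q : Subgroup G)) ∧
      (p ≠ q → IsMulCommutative (Q : Subgroup G) ∧ (Cfsg.pCore p G ⊔ (Q : Subgroup G)).Normal ∧
        ∀ _h : (Cfsg.pPrimeCore q G).Normal, Group.IsSolvable (G ⧸ Cfsg.pPrimeCore q G)) := by
  obtain ⟨p, hp, h⟩ : ∃ p : ℕ, p.Prime ∧ ∀ x : G, (∃ k : ℕ, orderOf x = q ^ k) →
      ∃ a : ℕ, (centralizer ({x} : Set G)).index = p ^ a := by
    by_cases h0 : ∃ x : G, (∃ k : ℕ, orderOf x = q ^ k) ∧ x ∉ center G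
    · obtain ⟨x, ⟨k, hk⟩, hx⟩ := h0
      obtain ⟨p, a, hp, ha⟩ := hBaer x ⟨k, hk⟩
      refine ⟨p, hp, fun y ⟨l, hl⟩ => ?_⟩
      by_cases hy : y ∈ center G
      · exact ⟨0, index_centralizer_eq_one_iff.2 hy⟩
      obtain ⟨r, b, hr, hb⟩ := hBaer y ⟨l, hl⟩
      exact ⟨b, uniq hBaer hp hr hk hl ha hb hx hy ▸ hb⟩
    · push Not at h0
      exact ⟨q, Fact.out, fun x hx => ⟨0, index_centralizer_eq_one_iff.2 (h0 x hx)⟩⟩
  have hcq : (Q : Subgroup G).index.Coprime q :=
    ((Nat.Prime.coprime_iff_not_dvd Fact.out).2 Q.not_dvd_index).symm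
  by_cases hpq : p = q
  · subst hpq
    obtain ⟨h1, h2⟩ := case_eq Q h
    exact ⟨⟨⊥, Q, inferInstance, h1, bot_le, by simp, by
      rw [relIndex_bot_left]; exact IsPGroup.iff_card.1 Q.2, hcq⟩, p, hp, h, fun _ => ⟨h1, h2⟩,
      fun h => absurd rfl h⟩
  haveI := Fact.mk hp
  let f := QuotientGroup.mk' (pCore p G)
  have hf : Function.Surjective f := QuotientGroup.mk'_surjective _
  have e : ∀ R : Sylow q G, pCore q (G ⧸ pCore p G) = (R : Subgroup G).map f := fun R =>
    le_antisymm (pCore_le_sylow (R.mapSurjective hf)) (by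
      rintro _ ⟨x, hx, rfl⟩
      obtain ⟨k, hk⟩ := exists_orderOf_eq_of_mem R.2 hx
      obtain ⟨a, ha⟩ := h x ⟨k, hk⟩
      exact img_mem hk ha)
  have hL : pCore p G ⊔ (Q : Subgroup G) = (pCore q (G ⧸ pCore p G)).comap f := by
    rw [e Q, comap_map_eq, QuotientGroup.ker_mk', sup_comm]
  have hLn : (pCore p G ⊔ (Q : Subgroup G)).Normal := hL ▸ inferInstance
  have hle : pCore p G ≤ pPrimeCore q G := pCore_le_pPrimeCore hpq
  have hQc : IsMulCommutative Q := isMulCommutative_iff_forall.2 fun x hx y hy => by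
    obtain ⟨a, ha⟩ := h x (exists_orderOf_eq_of_mem Q.2 hx)
    obtain ⟨R, hR⟩ := exists_sylow_le_of_not_dvd_index (p := q) (ha ▸ not_dvd_of_ne hp hpq)
    obtain ⟨z, hz, hzy⟩ : f y ∈ (R : Subgroup G).map f := e R ▸ (e Q).symm ▸ mem_map_of_mem f hy
    have h1 : f (x * y * (y * x)⁻¹) = 1 := by
      rw [map_mul, map_inv, map_mul, map_mul, ← hzy, ← map_mul, ← map_mul,
        mem_centralizer_singleton_iff.1 (hR hz), mul_inv_cancel]
    exact mul_inv_eq_one.1 (disjoint_def.1 (disjoint_pPrimeCore_of_isPGroup Q.2)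
      (mul_mem (mul_mem hx hy) (inv_mem (mul_mem hy hx)))
      (hle ((QuotientGroup.eq_one_iff _).1 h1)))
  refine ⟨⟨pCore p G, _, inferInstance, hLn, le_sup_left,
    (pPrimeCore_coprime q).coprime_dvd_left (card_dvd_of_le hle), ?_,
    hcq.coprime_dvd_left (index_dvd_of_le le_sup_right)⟩, p, hp, h, fun h => absurd h hpq,
    fun _ => ⟨hQc, hLn, fun _ => ?_⟩⟩
  · rw [relIndex_sup_left]
    exact Q.2.index _
  let g := QuotientGroup.mk' (pPrimeCore q G)
  have hg : Function.Surjective g := QuotientGroup.mk'_surjective _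
  have hV : ((Q.mapSurjective hg : Sylow q _) : Subgroup (G ⧸ pPrimeCore q G)).Normal := by
    have := hLn.map g hg
    rwa [Subgroup.map_sup, (Subgroup.map_eq_bot_iff _).2 (by rwa [QuotientGroup.ker_mk']), bot_sup_eq] at this
  refine solv hp (pPrimeCore_quotient_pPrimeCore q) (Q.mapSurjective hg)
    (inferInstanceAs (IsMulCommutative ((Q : Subgroup G).map g))) ?_
  rintro _ ⟨x, hx, rfl⟩
  obtain ⟨a, ha⟩ := h x (exists_orderOf_eq_of_mem Q.2 hx)
  exact exists_pow_of_dvd hp (ha ▸ index_centralizer_map_dvd hg x)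

end Cfsg.Agent.S4125
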