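import Mathlib
import Cfsg.Statements.S2073
import Cfsg.Agent.Leech.OutMcL

set_option autoImplicit false
open Cfsg

namespace Cfsg.Agent.S2073

/-- The outer automorphism group of the McLaughlin group (as a two-vector stabiliser in the automorphism group of the rank-24 lattice) has order 2. -/
theorem result : Nat.card (Cfsg.Out ↥Cfsg.Spor.McL) = 2 := by
  rw [← Leech.OutMcL.card_out]
  refine (Leech.card_out_congr (Leech.subEquiv _ _ (fun g => ?_) (inf_le_left.trans inf_le_left))).symm
  rw [Leech.OutMcL.HH, Leech.uu, Leech.stab_neg]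
  exact ⟨fun h => ⟨⟨g.2, h.1⟩, h.2⟩, fun h => ⟨h.1.2, h.2⟩⟩

end Cfsg.Agent.S2073
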