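import Mathlib
import Cfsg.Statements.S4023
import Cfsg.Agent.FGS.EqOrd

set_option autoImplicit false
open Cfsg

namespace Cfsg.Agent.S4023

open Subgroup

/-- Let p be a prime and G a finite group in which any two p-subgroups of the same order are conjugate, with Sylow p-subgroup P. Then P is cyclic, or elementary abelian, or p = 2 and P is a quaternion group of order 8, or p is odd and P is non-abelian of order p³ and exponent p. -/
theorem result {G : Type*} [Group G] [Finite G]
    {p : ℕ} [Fact p.Prime] (hC : ∀ H K : Subgroup G, IsPGroup p H → IsPGroup p K → Nat.card H = Nat.card K →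
      ∃ g : G, K = H.map (MulAut.conj g).toMonoidHom) (P : Sylow p G) :
    IsCyclic P ∨ Cfsg.IsElementaryAbelian p (P : Subgroup G) ∨
      (p = 2 ∧ Nonempty ((P : Subgroup G) ≃* QuaternionGroup 2)) ∨
      (p ≠ 2 ∧ ¬ IsMulCommutative P ∧ Nat.card P = p ^ 3 ∧ Monoid.exponent P = p) := by
  have hp : p.Prime := Fact.out
  have key : ∀ H K : Subgroup P, Nat.card H = Nat.card K → IsMulCommutative H →
      IsMulCommutative K := by
    intro H K h hH
    obtain ⟨g, hg⟩ := hC (H.map (P : Subgroup G).subtype) (K.map (P : Subgroup G).subtype)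
      (P.isPGroup'.to_le (map_subtype_le _)) (P.isPGroup'.to_le (map_subtype_le _))
      (by rw [Core.card_map_subtype, Core.card_map_subtype, h])
    have := FGS.comm_of_eq_map_conj hg inferInstance
    exact Core.isMulCommutative_of_forall fun a ha b hb => Subtype.ext
      (Core.comm_of_isMulCommutative this (mem_map_of_mem _ ha) (mem_map_of_mem _ hb))
  have hC' : ∀ H K : Subgroup G, IsPGroup p H → Nat.card H = Nat.card K →
      ∃ g : G, K = H.map (MulAut.conj g).toMonoidHom := fun H K hH h => by
    obtain ⟨k, hk⟩ := IsPGroup.iff_card.mp hH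
    exact hC H K hH (IsPGroup.of_card (h ▸ hk)) h
  rcases FGS.unique_or_exponent (fun H K _ _ hH h => hC' H K hH h) P.isPGroup' with h | h
  · rcases S0016.result p P.isPGroup' h with h | ⟨rfl, n, ⟨e⟩⟩
    · exact Or.inl h
    match n with
    | 0 => exact Or.inl (e.isCyclic.mpr QuaternionGroup.quaternionGroup_one_isCyclic)
    | 1 => exact Or.inr (Or.inr (Or.inl ⟨rfl, ⟨e⟩⟩))
    | n + 2 =>
      obtain ⟨H, K, hH, hK, h1, h2⟩ := FGS.exists_card_eight e
      exact (h2 (key H K (hH.trans hK.symm) h1)).elim
  · by_cases hc : IsMulCommutative P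
    · exact Or.inr (Or.inl ⟨hc, h⟩)
    have he : ∀ x : P, x ^ p = 1 := fun x => Subtype.ext (h x x.2)
    refine Or.inr (Or.inr (Or.inr ⟨?_, hc,
      FGS.card_eq_cube he hc fun H K hH hK => key H K (hH.trans hK.symm), ?_⟩))
    · rintro rfl
      exact hc ⟨⟨fun a b => Commute.of_orderOf_dvd_two (fun x => orderOf_dvd_of_pow_eq_one (he x)) a b⟩⟩
    · refine ((Nat.dvd_prime hp).mp (Monoid.exponent_dvd_of_forall_pow_eq_one he)).resolve_left fun h1 => ?_
      have := Monoid.exp_eq_one_iff.mp h1
      exact hc ⟨⟨fun a b => Subsingleton.elim _ _⟩⟩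

end Cfsg.Agent.S4023
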