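import Mathlib
import Cfsg.Statements.S4020
import Cfsg.Agent.S4023
import Cfsg.Agent.PGrp.Class
import Cfsg.Agent.H2.FrobComplement
import Cfsg.Agent.Transfer.Focal
import Cfsg.Agent.Core.SylowOf

set_option autoImplicit false
open Cfsg

namespace Cfsg.Agent.S4020

open Subgroup
open scoped commutatorElement Pointwise

variable {G : Type*} [Group G] [Finite G] {p : ℕ} [hp : Fact p.Prime]

theorem not_le_centralizer {P V : Subgroup G} (hc : Nat.card P = p ^ 3) (hna : ¬ IsMulCommutative P)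
    (hV : V ≤ P) (hVc : Nat.card V = p ^ 2) : ¬ V ≤ centralizer (P : Set G) := by
  intro h
  refine hna (Core.isMulCommutative_of_relIndex_prime hV h ?_)
  have h1 := Core.card_mul_relIndex hV
  rw [hc, hVc, pow_succ p 2] at h1
  rw [Nat.eq_of_mul_eq_mul_left (pow_pos hp.out.pos 2) h1]
  exact hp.out

theorem card_pair {z x : G} (hz : orderOf z = p) (hx : x ^ p = 1) (hxz : x ∉ zpowers z)
    (hc : x ∈ centralizer ({z} : Set G)) : Nat.card (zpowers z ⊔ zpowers x : Subgroup G) = p ^ 2 := by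
  rw [PGrp.card_sup_zpowers hp.out (centralizer_le_normalizer _ (PGrp.centralizer_zpowers z ▸ hc))
    (hx ▸ one_mem _) hxz, Nat.card_zpowers, hz, sq]

theorem exists_unip {P : Subgroup G} (hc : Nat.card P = p ^ 3) (hna : ¬ IsMulCommutative P)
    (he : ∀ y ∈ P, y ^ p = 1) {z x : G} (hzP : z ∈ P) (hz : z ∈ centralizer (P : Set G))
    (hzo : orderOf z = p) (hxP : x ∈ P) (hx : x ∉ centralizer (P : Set G)) {c : G}
    (hcz : c ∈ zpowers z) : ∃ u ∈ P, u * x * u⁻¹ = c * x := by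
  have h2 := PGrp.class_two_of_card_le (IsPGroup.of_card hc) hc.le
  obtain ⟨u, hu, hux⟩ : ∃ u ∈ P, ⁅u, x⁆ ≠ 1 := by
    by_contra h
    push Not at h
    exact hx fun u hu => commutatorElement_eq_one_iff_mul_comm.mp (h u hu)
  have h3 : ⁅u, x⁆ ∈ P := mul_mem (mul_mem (mul_mem hu hxP) (inv_mem hu)) (inv_mem hxP)
  have h4 : ⁅u, x⁆ ∈ zpowers z := by
    by_contra h
    refine not_le_centralizer hc hna (sup_le (zpowers_le.mpr hzP) (zpowers_le.mpr h3))
      (card_pair hzo (he _ h3) h (mem_centralizer_singleton_iff.mpr (hz _ h3))) ?_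
    exact sup_le (zpowers_le.mpr hz) (zpowers_le.mpr fun g hg =>
      PGrp.commute_of_class_two h2 hu hxP hg)
  rw [← FGS.zpowers_eq_of_card_prime hp.out (by rw [Nat.card_zpowers, hzo]) h4 hux] at hcz
  obtain ⟨i, rfl⟩ := hcz
  refine ⟨u ^ i, zpow_mem hu i, ?_⟩
  simp only
  rw [← PGrp.commutator_zpow_left_of_commute (PGrp.commute_of_class_two h2 hu hxP hu),
    PGrp.conj_eq_commutator_mul]

omit hp in
theorem exists_conj_invol (h : ∀ S : Sylow 2 G, ∀ a ∈ S, ∀ b ∈ S, orderOf a = 2 → orderOf b = 2 → a = b)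
    {B : Subgroup G} {a b : G} (ha : a ∈ B) (hb : b ∈ B) (ha2 : orderOf a = 2) (hb2 : orderOf b = 2) :
    ∃ k ∈ B, k * b * k⁻¹ = a := by
  obtain ⟨R, hR, haR⟩ := Core.exists_isSylowOf_ge (FGS.isPGroup_zpowers (p := 2) (k := 1) ha2) (zpowers_le.mpr ha)
  obtain ⟨k, hk, hle⟩ := hR.exists_conj_le (FGS.isPGroup_zpowers (p := 2) (k := 1) hb2) (zpowers_le.mpr hb)
  obtain ⟨S, hS⟩ := hR.isPGroup.exists_le_sylow
  exact ⟨k, hk, h S _ (hS (Core.conj_smul_le_iff.mp hle b (mem_zpowers b))) _ (hS (haR (mem_zpowers a)))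
    ((FGS.orderOf_conj k b).trans hb2) ha2⟩

omit [Finite G] in
theorem eq_one_of_inv (hp2 : p ≠ 2) {v : G} (h : v ^ p = 1) (h2 : v = v⁻¹) : v = 1 := by
  rw [← mul_eq_one_iff_eq_inv, ← sq] at h2
  exact orderOf_eq_one_iff.mp (Nat.eq_one_of_dvd_coprimes
    ((Nat.coprime_primes hp.out Nat.prime_two).mpr hp2) (orderOf_dvd_of_pow_eq_one h)
    (orderOf_dvd_of_pow_eq_one h2))

/-- Let G be a finite group in which, for every prime p, any two p-subgroups of the same order are conjugate. Then every Sylow subgroup of G is cyclic, elementary abelian, or a quaternion group of order 8. -/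
theorem result {G : Type*} [Group G] [Finite G]
    (hD : ∀ p : ℕ, p.Prime → ∀ H K : Subgroup G, IsPGroup p H → IsPGroup p K → Nat.card H = Nat.card K →
      ∃ g : G, K = H.map (MulAut.conj g).toMonoidHom) {p : ℕ} [Fact p.Prime] (P : Sylow p G) :
    IsCyclic P ∨ Cfsg.IsElementaryAbelian p (P : Subgroup G) ∨ Nonempty ((P : Subgroup G) ≃* QuaternionGroup 2) := by
  have hp : p.Prime := Fact.out
  rcases S4023.result (hD p hp) P with h | h | ⟨-, h⟩ | ⟨hp2, hna, hc, hexp⟩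
  · exact Or.inl h
  · exact Or.inr (Or.inl h)
  · exact Or.inr (Or.inr h)
  exfalso
  have he : ∀ Q : Sylow p G, ∀ y ∈ Q, y ^ p = 1 := by
    intro Q y hy
    obtain ⟨g, rfl⟩ := MulAction.exists_smul_eq G P Q
    have h1 : (⟨_, FGS.mem_smul_sylow_iff.mp hy⟩ : P) ^ p = 1 := by
      have := Monoid.pow_exponent_eq_one (⟨_, FGS.mem_smul_sylow_iff.mp hy⟩ : (P : Subgroup G))
      rwa [hexp] at this
    have h2 : (g⁻¹ * y * g⁻¹⁻¹) ^ p = 1 := by simpa using congrArg Subtype.val h1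
    rw [conj_pow] at h2
    exact conj_eq_one_iff.mp h2
  obtain ⟨z, hzP, hz, hzo⟩ := FGS.exists_central_orderOf_eq P.isPGroup'
    (by rintro h; apply hna; rw [h]; infer_instance)
  have hz1 := FGS.ne_one_of_orderOf_prime hp hzo
  obtain ⟨x, hxP, hx⟩ : ∃ x ∈ (P : Subgroup G), x ∉ centralizer ((P : Subgroup G) : Set G) := by
    by_contra h
    push Not at h
    exact hna (Core.isMulCommutative_of_forall fun a ha b hb => h b hb a ha)
  have hxz : x ∉ zpowers z := fun h => hx (zpowers_le.mpr hz h)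
  have hxo : orderOf x = p := orderOf_eq_prime (he P x hxP) (by rintro rfl; exact hx (one_mem _))
  have hcxz : x * z = z * x := hz x hxP
  set V := zpowers z ⊔ zpowers x with hV
  have hVc : Nat.card V = p ^ 2 := card_pair hzo (he P x hxP) hxz (mem_centralizer_singleton_iff.mpr hcxz)
  have hVP : V ≤ P := sup_le (zpowers_le.mpr hzP) (zpowers_le.mpr hxP)
  have hCV : centralizer (V : Set G) = centralizer {z} ⊓ centralizer {x} := by
    rw [hV, PGrp.centralizer_sup_zpowers, PGrp.centralizer_zpowers]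
  obtain ⟨P', hVP', hP'⟩ : ∃ P' : Sylow p G, V ≤ P' ∧ (P' : Subgroup G) ≤ centralizer {x} := by
    refine FGS.exists_sylow_le_of_not_dvd_index' ?_ (P.isPGroup'.to_le hVP)
      (sup_le (zpowers_le.mpr (mem_centralizer_singleton_iff.mpr hcxz.symm))
        (zpowers_le.mpr (FGS.self_mem_centralizer x)))
    obtain ⟨g, hg⟩ := hD p hp (zpowers z) (zpowers x) (P.isPGroup'.to_le (zpowers_le.mpr hzP))
      (P.isPGroup'.to_le (zpowers_le.mpr hxP)) (by rw [Nat.card_zpowers, Nat.card_zpowers, hzo, hxo])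
    obtain ⟨y, hy, e⟩ : x ∈ (zpowers z).map (MulAut.conj g).toMonoidHom := hg ▸ mem_zpowers x
    rw [← e]
    change ¬ p ∣ (centralizer {g * y * g⁻¹}).index
    rw [FGS.index_centralizer_conj]
    exact FGS.not_dvd_index_of_sylow_le P fun a ha => FGS.centralizer_le_of_mem_zpowers hy
      (mem_centralizer_singleton_iff.mpr (hz a ha))
  have hc' : Nat.card P' = p ^ 3 := (FGS.sylow_card_eq P' P).trans hc
  have hna' : ¬ IsMulCommutative P' := fun h => hna (FGS.isMulCommutative_sylow P' P h)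
  have hx' : x ∈ centralizer ((P' : Subgroup G) : Set G) := fun a ha =>
    mem_centralizer_singleton_iff.mp (hP' ha)
  obtain ⟨u, huP, hu⟩ := exists_unip hc hna (he P) hzP hz hzo hxP hx (mem_zpowers z)
  obtain ⟨u', huP', hu'⟩ := exists_unip hc' hna' (he P') (hVP' (mem_sup_right (mem_zpowers x))) hx' hxo
    (hVP' (mem_sup_left (mem_zpowers z))) (fun h => not_le_centralizer hc' hna' hVP' hVc
      (sup_le (zpowers_le.mpr h) (zpowers_le.mpr hx'))) (inv_mem (mem_zpowers x))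
  have huz : u * z * u⁻¹ = z := by rw [hz u huP, mul_inv_cancel_right]
  have hux' : u' * x * u'⁻¹ = x := by rw [hx' u' huP', mul_inv_cancel_right]
  set w := u * u' * u with hw
  have hwz : w * z * w⁻¹ = x⁻¹ := by
    calc w * z * w⁻¹ = u * (u' * (u * z * u⁻¹) * u'⁻¹) * u⁻¹ := by rw [hw]; group
      _ = u * (x⁻¹ * z) * u⁻¹ := by rw [huz, hu']
      _ = (u * x * u⁻¹)⁻¹ * (u * z * u⁻¹) := by group
      _ = x⁻¹ := by rw [hu, huz]; group
  have hwx : w * x * w⁻¹ = z := by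
    calc w * x * w⁻¹ = u * (u' * (u * x * u⁻¹) * u'⁻¹) * u⁻¹ := by rw [hw]; group
      _ = u * ((u' * z * u'⁻¹) * (u' * x * u'⁻¹)) * u⁻¹ := by rw [hu]; group
      _ = z := by rw [hu', hux', mul_assoc x⁻¹, ← hcxz, inv_mul_cancel_left, huz]
  have hw2z : w ^ 2 * z * (w ^ 2)⁻¹ = z⁻¹ := by
    calc w ^ 2 * z * (w ^ 2)⁻¹ = w * (w * z * w⁻¹) * w⁻¹ := by rw [sq]; group
      _ = (w * x * w⁻¹)⁻¹ := by rw [hwz]; group
      _ = z⁻¹ := by rw [hwx]
  have hw2x : w ^ 2 * x * (w ^ 2)⁻¹ = x⁻¹ := by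
    calc w ^ 2 * x * (w ^ 2)⁻¹ = w * (w * x * w⁻¹) * w⁻¹ := by rw [sq]; group
      _ = x⁻¹ := by rw [hwx, hwz]
  have hsq : ∀ {t v : G}, t * v * t⁻¹ = v⁻¹ → t ^ 2 ∈ centralizer ({v} : Set G) := by
    intro t v h
    rw [mem_centralizer_singleton_iff]
    calc t ^ 2 * v = t * (t * v * t⁻¹) * t := by rw [pow_two]; group
      _ = t * v⁻¹ * t := by rw [h]
      _ = (t * v * t⁻¹)⁻¹ * t ^ 2 := by rw [pow_two]; group
      _ = v * t ^ 2 := by rw [h, inv_inv]
  have hw4 : w ^ 4 ∈ centralizer (V : Set G) := by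
    rw [hCV, show 4 = 2 * 2 by rfl, pow_mul]
    exact ⟨hsq hw2z, hsq hw2x⟩
  obtain ⟨s, b, -, ⟨j, hj⟩, hsb, hcsb, ⟨k, hk⟩, hb⟩ := FGS.exists_pPart 2 w
  have hbC : b ∈ centralizer (V : Set G) := by
    refine Core.mem_of_pow_mem_of_coprime (n := 4) ?_ (Nat.Coprime.pow_left 2 hb.symm)
    rw [← hj, ← zpow_natCast, ← zpow_mul, mul_comm, zpow_mul, zpow_natCast]
    exact zpow_mem hw4 j
  have ht : ∀ v ∈ V, s ^ 2 * v * (s ^ 2)⁻¹ = v⁻¹ := by
    have h1 : ∀ v ∈ V, s ^ 2 * v * (s ^ 2)⁻¹ = w ^ 2 * v * (w ^ 2)⁻¹ := by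
      intro v hv
      rw [hsb, hcsb.mul_pow, mul_assoc (s ^ 2) (b ^ 2), ← pow_mem hbC 2 v hv]
      group
    intro v hv
    rw [h1 v hv]
    obtain ⟨_, ⟨i, rfl⟩, l, rfl⟩ := (PGrp.mem_sup_zpowers (centralizer_le_normalizer _
      (PGrp.centralizer_zpowers z ▸ mem_centralizer_singleton_iff.mpr hcxz))).mp hv
    simp only
    rw [← conj_mul, ← conj_zpow, ← conj_zpow, hw2z, hw2x, inv_zpow, inv_zpow, ← mul_inv_rev,
      (Commute.zpow_zpow hcxz l i).eq]
  have htC : s ^ 2 ∉ centralizer (V : Set G) := fun h => by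
    have h1 := ht z (mem_sup_left (mem_zpowers z))
    rw [← h z (mem_sup_left (mem_zpowers z)), mul_inv_cancel_right] at h1
    exact hz1 (eq_one_of_inv hp2 (he P z hzP) h1)
  obtain ⟨S, hS⟩ := FGS.exists_sylow_mem hk
  rcases S4023.result (hD 2 Nat.prime_two) S with h | h | ⟨-, ⟨e⟩⟩ | ⟨h, -⟩
  · have h2 : 2 ∣ Nat.card G := by
      refine (dvd_pow_self 2 ?_).trans (hk ▸ orderOf_dvd_natCard s)
      rintro rfl
      rw [pow_zero, orderOf_eq_one_iff] at hk
      exact htC (by rw [hk, one_pow]; exact one_mem _)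
    have h3 := Transfer.hasNormalPComplement_iff_mul.mp
      (Transfer.hasNormalPComplement_of_normalizer_le_centralizer S
        (h.normalizer_le_centralizer ((Nat.minFac_eq_two_iff _).mpr h2)))
    have h4 : ∀ Q : Sylow p G, ∀ y ∈ Q, (orderOf y).Coprime 2 := fun Q y hy =>
      ((Nat.coprime_primes hp Nat.prime_two).mpr hp2).coprime_dvd_left
        (orderOf_dvd_of_pow_eq_one (he Q y hy))
    have h5 := Core.mem_of_pow_mem_of_coprime hw4 (Nat.Coprime.pow_left 2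
      (h3 _ _ (h3 _ _ (h4 P u huP) (h4 P' u' huP')) (h4 P u huP)).symm)
    rw [← h5 x (mem_sup_right (mem_zpowers x)), mul_inv_cancel_right] at hwx
    exact hxz (hwx ▸ mem_zpowers x)
  · exact htC (by rw [h.2 s hS]; exact one_mem _)
  swap
  · exact h rfl
  have hu2 : ∀ T : Sylow 2 G, ∀ a ∈ T, ∀ b ∈ T, orderOf a = 2 → orderOf b = 2 → a = b := by
    intro T a ha b hb h1 h2
    have h3 : ∀ a b : QuaternionGroup 2, a ^ 2 = 1 → b ^ 2 = 1 → a ≠ 1 → b ≠ 1 → a = b := by decide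
    let f := (Sylow.equiv T S).trans e
    have h4 : ∀ c (hc : c ∈ (T : Subgroup G)), orderOf c = 2 → f ⟨c, hc⟩ ^ 2 = 1 ∧ f ⟨c, hc⟩ ≠ 1 := by
      intro c hc h
      have : orderOf (f ⟨c, hc⟩) = 2 := by rw [MulEquiv.orderOf_eq, orderOf_mk, h]
      exact ⟨orderOf_dvd_iff_pow_eq_one.mp this.dvd, FGS.ne_one_of_orderOf_prime Nat.prime_two this⟩
    exact congrArg Subtype.val (f.injective (h3 _ _ (h4 a ha h1).1 (h4 b hb h2).1 (h4 a ha h1).2
      (h4 b hb h2).2))
  set t := s ^ 2 with htdef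
  have ht2 : orderOf t = 2 := by
    refine orderOf_eq_prime ?_ fun h => htC (h ▸ one_mem _)
    have h3 : ∀ a : QuaternionGroup 2, (a ^ 2) ^ 2 = 1 := by decide
    have h4 := h3 (e ⟨s, hS⟩)
    rw [← map_pow, ← map_pow, map_eq_one_iff _ e.injective] at h4
    exact congrArg Subtype.val h4
  have htN : t ∈ normalizer (V : Set G) :=
    mem_normalizer_fintype fun v hv => ht v hv ▸ inv_mem hv
  have hPN : (P : Subgroup G) ≤ normalizer (V : Set G) := by
    refine PGrp.le_normalizer_of_relIndex_prime P.isPGroup' hVP ?_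
    have h1 := Core.card_mul_relIndex hVP
    rw [hc, hVc, pow_succ p 2] at h1
    exact Nat.eq_of_mul_eq_mul_left (pow_pos hp.pos 2) h1
  have hodd : ¬ 2 ∣ Nat.card (centralizer (V : Set G)) := by
    intro h
    obtain ⟨a, ha, ha2⟩ := FGS.exists_prime_orderOf_mem Nat.prime_two h
    obtain ⟨k, hk, e⟩ := exists_conj_invol hu2 htN (centralizer_le_normalizer _ ha) ht2 ha2
    exact htC (e ▸ PGrp.conj_mem_of_mem_normalizer (Core.normalizer_le_normalizer_centralizer _ hk) ha)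
  set D := centralizer (V : Set G) ⊔ P with hDdef
  have hDN : D ≤ normalizer (V : Set G) := sup_le (centralizer_le_normalizer _) hPN
  have htD : zpowers t ≤ normalizer (D : Set G) := by
    refine zpowers_le.mpr (mem_normalizer_fintype fun d hd => ?_)
    have h1 : t * d * t⁻¹ * d⁻¹ ∈ centralizer (V : Set G) := by
      intro v hv
      have h2 := ht _ (PGrp.conj_mem_of_mem_normalizer' (hDN hd) hv)
      have h3 := ht _ (inv_mem hv)
      have h4 : t * t = 1 := by rw [← sq, ← ht2, pow_orderOf_eq_one]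
      have h5 : t⁻¹ = t := inv_eq_of_mul_eq_one_right h4
      have h6 := ht _ (PGrp.conj_mem_of_mem_normalizer' (hDN hd) (inv_mem hv))
      have h7 : t⁻¹ * v * t = v⁻¹ := by simpa [h5] using ht v hv
      have h8 : t⁻¹ * (d⁻¹ * v * d) * t = d⁻¹ * v⁻¹ * d := by
        rw [h5] at h2 ⊢; rw [h2]; group
      rw [h5] at h7 h8 ⊢
      calc v * (t * d * t * d⁻¹) = (t * t) * v * (t * d * t * d⁻¹) := by rw [h4, one_mul]
        _ = t * d * (d⁻¹ * (t * v * t) * d) * t * d⁻¹ := by group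
        _ = t * d * (t * (d⁻¹ * v * d) * t) * t * d⁻¹ := by rw [h7, h8]
        _ = t * d * t * d⁻¹ * v * d * (t * t) * d⁻¹ := by group
        _ = t * d * t * d⁻¹ * v := by rw [h4]; group
    simpa using mul_mem (mem_sup_left h1 : _ ∈ D) hd
  obtain ⟨P1, hP1, htP1⟩ := Core.exists_invariant_isSylowOf (zpowers t) D htD (by
    rw [Nat.card_zpowers, ht2]
    refine Nat.Coprime.coprime_dvd_right (Core.card_sup_dvd (Core.le_normalizer_centralizer hPN)) ?_
    rw [hc]
    exact ((Nat.Prime.coprime_iff_not_dvd Nat.prime_two).mpr hodd).mul_right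
      (((Nat.coprime_primes Nat.prime_two hp).mpr hp2.symm).pow_right 3)) (Or.inl inferInstance) p
  obtain ⟨d, -, hd⟩ := (Core.isSylowOf_sylow_of_le P (le_sup_right : _ ≤ D)).exists_conj_eq hP1
  have hP1' : ((d • P : Sylow p G) : Subgroup G) = P1 := hd
  obtain ⟨y, hy, hy1⟩ : ∃ y ∈ P1 ⊓ centralizer {t}, y ≠ 1 := by
    by_contra h
    push Not at h
    refine hna (FGS.isMulCommutative_sylow (d • P) P ?_)
    rw [hP1']
    exact (H2.inverts_of_involution (htP1 (mem_zpowers t)) (by rw [← sq, ← ht2, pow_orderOf_eq_one])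
      (eq_bot_iff.mpr h)).2
  have hyp : y ^ p = 1 := he (d • P) y (show y ∈ ((d • P : Sylow p G) : Subgroup G) from hP1' ▸ hy.1)
  have hyt : t * y * t⁻¹ = y := by rw [← mem_centralizer_singleton_iff.mp hy.2, mul_inv_cancel_right]
  have hyz : y ∈ centralizer ({z} : Set G) := by
    refine (sup_le (hCV ▸ inf_le_left) fun a ha => ?_ : D ≤ _) (hP1.le hy.1)
    exact mem_centralizer_singleton_iff.mpr (hz a ha)
  have hW := card_pair hzo hyp (fun h => hy1 (eq_one_of_inv hp2 hyp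
    (hyt.symm.trans (ht y (mem_sup_left h))))) hyz
  obtain ⟨g, hg⟩ := hD p hp V _ (IsPGroup.of_card hVc) (IsPGroup.of_card hW) (hVc.trans hW.symm)
  have ht' : ∀ v ∈ zpowers z ⊔ zpowers y, (g * t * g⁻¹) * v * (g * t * g⁻¹)⁻¹ = v⁻¹ := by
    rw [hg]
    rintro _ ⟨v, hv, rfl⟩
    change g * t * g⁻¹ * (g * v * g⁻¹) * _ = (g * v * g⁻¹)⁻¹
    calc _ = g * (t * v * t⁻¹) * g⁻¹ := by group
      _ = _ := by rw [ht v hv]; group
  obtain ⟨k, hk, e⟩ := exists_conj_invol hu2 (B := normalizer ((zpowers z ⊔ zpowers y : Subgroup G) : Set G))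
    (a := t) (b := g * t * g⁻¹) (by
      refine Core.le_normalizer_sup (A := zpowers t) (zpowers_le.mpr ?_) (zpowers_le.mpr ?_) (mem_zpowers t)
      · exact mem_normalizer_fintype fun v hv => ht v (mem_sup_left hv) ▸ inv_mem hv
      · exact PGrp.mem_normalizer_zpowers_of_commute (mem_centralizer_singleton_iff.mp hy.2).symm)
    (mem_normalizer_fintype fun v hv => ht' v hv ▸ inv_mem hv) ht2 ((FGS.orderOf_conj g t).trans ht2)
  refine hy1 (eq_one_of_inv hp2 hyp ?_)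
  have h1 := ht' _ (PGrp.conj_mem_of_mem_normalizer' hk (mem_sup_right (mem_zpowers y)))
  calc y = t * y * t⁻¹ := hyt.symm
    _ = (k * (g * t * g⁻¹) * k⁻¹) * y * (k * (g * t * g⁻¹) * k⁻¹)⁻¹ := by rw [e]
    _ = k * (g * t * g⁻¹ * (k⁻¹ * y * k) * (g * t * g⁻¹)⁻¹) * k⁻¹ := by group
    _ = y⁻¹ := by rw [h1]; group

end Cfsg.Agent.S4020
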