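import Cfsg.Statements.S2089
import Mathlib
import Cfsg.Agent.Mult.SU6

set_option autoImplicit false
open Cfsg

namespace Cfsg.Agent.S2089
open Cfsg.Agent.Mult Cfsg.Agent.H2.Schur Cfsg.Agent.Herm


/-- Schur multipliers of the unitary groups: for n ≥ 3 and a field F with q² elements, (n, q) ≠ (3, 2), apart from the exceptional pairs (n, q) = (4, 2), (4, 3), (6, 2), the Schur multiplier of PSU_n(q) is cyclic of order gcd(n, q + 1); here the Schur multiplier is described through stem extensions, as in the definitions. -/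
theorem result {F : Type*} [Field F] [Fintype F] (n q : ℕ) (hF : Fintype.card F = q ^ 2) (hn : 3 ≤ n) (h3 : ¬ (n = 3 ∧ q = 2)) (hexc : (n, q) ∉ ({(4, 2), (4, 3), (6, 2)} : Set (ℕ × ℕ))) : Cfsg.HasCyclicSchurMultiplier (Cfsg.PSU n F q) (Nat.gcd n (q + 1)) := by
  have hF' := natCard_of_card hF
  have hB := hf_sB hF' n
  simp only [Set.mem_insert_iff, Set.mem_singleton_iff, Prod.mk.injEq] at hexc
  have : Group.IsPerfect (SUG (sB hF' n)) := ⟨hB.SUG_perfect hF' (by simpa) (by simpa using h3)⟩
  have hc := hB.card_center_SUG hF' (by simp; omega)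
  have := Module.nontrivial_of_finrank_pos (R := F) (M := Fin n → F) (by simp; omega)
  have : IsCyclic (Subgroup.center (SUG (sB hF' n))) := by
    have k : ∀ g : Subgroup.center (SUG (sB hF' n)), g.1.1 ∈ (scal (sB hF' n)).range := fun g =>
      let ⟨a, ha⟩ := (hB.mem_center_SUG (by simp; omega) _).1 g.2; ⟨a, ha.symm⟩
    have := isCyclic_of_surjective _ (MonoidHom.ofInjective (scal_injective (B := sB hF' n))).surjective
    exact isCyclic_of_injective (((Subgroup.subtype _).comp (Subgroup.subtype _)).codRestrict _ k)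
      fun a b h => Subtype.ext (Subtype.ext (congrArg Subtype.val h :))
  rw [Module.finrank_fin_fun] at hc
  exact has_congr (has_center (SU.has_SU hF hn (by omega) (by omega)) hc)
    (Cfsg.Agent.Classical.Congr.centerQuotCongr (toSUG hF' n).symm) (.refl _)

end Cfsg.Agent.S2089
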