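import Mathlib
import Cfsg.Statements.S2554
import Cfsg.Agent.JRE.Known
import Cfsg.Agent.JRE.Nab
import Cfsg.Agent.FGS.Walter

set_option autoImplicit false
open Cfsg

namespace Cfsg.Agent.S2554

open Cfsg.Agent.JRE Cfsg.Agent.LocalEven

/-- A non-abelian finite simple group all of whose Sylow subgroups are abelian is isomorphic to the Janko group J₁ or to PSL₂(q) for some prime power q > 3 with q ≡ 0, 3 or 5 (mod 8). -/
theorem result {G : Type*} [Group G] [Finite G]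
    [IsSimpleGroup G] (hna : ¬ IsMulCommutative G)
    (hA : ∀ (p : ℕ), p.Prime → ∀ (P : Sylow p G), IsMulCommutative ↥P) :
    Cfsg.Spor.IsoJ1 G ∨
      ∃ (F : Type) (_ : Field F) (_ : Fintype F), 3 < Fintype.card F ∧
        (Fintype.card F % 8 = 0 ∨ Fintype.card F % 8 = 3 ∨ Fintype.card F % 8 = 5) ∧
        Nonempty (G ≃* Matrix.ProjectiveSpecialLinearGroup (Fin 2) F) := by
  obtain ⟨P⟩ : Nonempty (Sylow 2 G) := inferInstance
  rcases FGS.walter hna (fun _ => Ab2.two_comm P (hA 2 Nat.prime_two P)) with ⟨F, _, _, n, hn, hF, e⟩ | h | h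
  · obtain rfl | h3 := hn.eq_or_lt
    · obtain ⟨K, _, _, h4, f⟩ := CIT.F.L2.five_of_four ⟨F, _, _, hF, e⟩
      exact .inr ⟨K, _, _, by omega, by omega, f⟩
    · have := Nat.le_of_dvd (by positivity) (pow_dvd_pow 2 h3)
      have : 8 ∣ 2 ^ n := pow_dvd_pow 2 h3
      exact .inr ⟨F, _, _, by omega, by omega, e⟩
  · obtain ⟨F, _, _, h1, h2, e⟩ := GsC.four_known hna h
    exact .inr ⟨F, _, _, by omega, .inr h1, e⟩
  obtain ⟨t, a, b, ρ, E, E₀, T, h⟩ := exists_jr h
  obtain ⟨F, _, _, e, ⟨m, -, hq, -⟩ | ⟨-, f⟩⟩ := known_of_bot h (jr_bot h)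
  · obtain rfl := h.E_eq (jr_bot h)
    obtain ⟨Q, hQ⟩ := exists_isSylowIn 3 (GW.cz t)
    obtain ⟨j, R, B⟩ := exists_bor h hq e hQ
    obtain ⟨P, UP, hP, -, N⟩ := wd_bn h hq e B
    have := Fintype.ofFinite G
    exact (wd_nab h hq e B UP N (Subgroup.le_centralizer_iff_isMulCommutative.2
      (hA 3 Nat.prime_three hP.toSylowTop))).elim
  · exact .inl f

end Cfsg.Agent.S2554
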