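import Mathlib
import Cfsg.Statements.S3915
import Cfsg.Agent.Comp2.Component
import Cfsg.Agent.FGS.Basic2
import Cfsg.Agent.Core.Coprime
import Cfsg.Agent.S0205

set_option autoImplicit false
open Cfsg

namespace Cfsg.Agent.S3915

open Subgroup

theorem exists_two {G : Type*} [Group G] [Finite G] {K : Subgroup G} (hK : IsComponent K) :
    ∃ x ∈ K, ∃ a : ℕ, orderOf x = 2 ^ a ∧ x ∉ centralizer (K : Set G) ∧
      x ^ 2 ∈ centralizer (layer G : Set G) := by
  have h1 : 2 ∣ Nat.card (K ⧸ center K) := by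
    by_contra h
    have := S0205.result (Nat.odd_iff.mpr (Nat.two_dvd_ne_zero.mp h))
    exact Comp2.quasisimple_not_isSolvable hK.2
      ((Group.isSolvable_iff_subgroup_quotient (center K)).mpr
        ⟨Core.solvable_of_isMulCommutative, this⟩)
  obtain ⟨t, ht⟩ := exists_prime_orderOf_dvd_card' (G := K ⧸ center K) 2 h1
  obtain ⟨y, rfl⟩ := QuotientGroup.mk'_surjective _ t
  obtain ⟨x, -, hx, a, ha⟩ := FGS.exists_pElement_lift (p := 2) (k := 1) (QuotientGroup.mk' _) y ht
  refine ⟨x, x.2, a, by simpa using ha, fun h => ?_, ?_⟩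
  · refine FGS.ne_one_of_orderOf_prime Nat.prime_two ht ?_
    rw [← hx]
    exact (QuotientGroup.eq_one_iff x).mpr (mem_center_iff.mpr fun k => Subtype.ext (h k k.2))
  · have h2 : x ^ 2 ∈ center K := by
      rw [← QuotientGroup.eq_one_iff]
      change QuotientGroup.mk' _ _ = 1
      rw [map_pow, hx, ← ht, pow_orderOf_eq_one]
    have h3 : layer G ≤ centralizer {(x : G) ^ 2} := by
      refine Comp2.layer_le_iff.mpr fun L hL l hl => mem_centralizer_singleton_iff.mpr ?_
      by_cases e : L = K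
      · subst e
        exact congrArg Subtype.val (mem_center_iff.mp h2 ⟨l, hl⟩)
      · exact Comp2.commutator_eq_bot_iff_forall.mp (Comp2.component_commutator_eq_bot_of_ne hL hK e)
          l hl _ (pow_mem x.2 2)
    exact fun l hl => mem_centralizer_singleton_iff.mp (h3 hl)

theorem key {G : Type*} [Group G] [Finite G] (hP : ∀ (p : ℕ), p.Prime → ∀ A B : Subgroup G,
    IsCyclic ↥A → IsCyclic ↥B → IsPGroup p ↥A → Nat.card ↥A = Nat.card ↥B →
      ∃ g : G, B = A.map (MulAut.conj g).toMonoidHom) {K L : Subgroup G} (hK : IsComponent K)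
    (hL : IsComponent L) (hne : K ≠ L) {x y : G} (hx : x ∈ K) (hy : y ∈ L) {a b : ℕ}
    (ha : orderOf x = 2 ^ a) (hb : orderOf y = 2 ^ b) (hab : b ≤ a)
    (hx1 : x ∉ centralizer (K : Set G)) (hy1 : y ∉ centralizer (L : Set G))
    (hx2 : x ^ 2 ∈ centralizer (layer G : Set G)) : False := by
  have hc : ∀ {K L : Subgroup G}, IsComponent K → IsComponent L → K ≠ L →
      L ≤ centralizer (K : Set G) := fun hK hL hne l hl k hk =>
    Comp2.commutator_eq_bot_iff_forall.mp (Comp2.component_commutator_eq_bot_of_ne hK hL hne) k hk l hl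
  have hxy : Commute x y := hc hK hL hne hy x hx
  have h1 : orderOf (x * y) ∣ 2 ^ a := by
    refine orderOf_dvd_of_pow_eq_one ?_
    rw [hxy.mul_pow, ← ha, pow_orderOf_eq_one, one_mul, ha]
    exact orderOf_dvd_iff_pow_eq_one.mp (hb ▸ pow_dvd_pow 2 hab)
  obtain ⟨c, hca, hc2⟩ := (Nat.dvd_prime_pow Nat.prime_two).mp h1
  have h2 : orderOf (x ^ 2 ^ (a - c)) = 2 ^ c := by
    rw [orderOf_pow_of_dvd (by positivity) (ha ▸ pow_dvd_pow 2 (Nat.sub_le a c)), ha,
      Nat.pow_div (Nat.sub_le a c) two_pos, Nat.sub_sub_self hca]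
  obtain ⟨g, hg⟩ := hP 2 Nat.prime_two (zpowers (x ^ 2 ^ (a - c))) (zpowers (x * y)) inferInstance
    inferInstance (FGS.isPGroup_zpowers h2) (by rw [Nat.card_zpowers, Nat.card_zpowers, h2, hc2])
  have h3 : x * y ∈ (zpowers (x ^ 2 ^ (a - c))).map (MulAut.conj g).toMonoidHom :=
    hg ▸ mem_zpowers _
  have h4 : x * y ∉ centralizer (K : Set G) := fun h =>
    hx1 ((mul_mem_cancel_right (hc hK hL hne hy)).mp h)
  rcases Nat.eq_zero_or_pos (a - c) with h0 | h0
  · rw [h0, pow_zero, pow_one] at h3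
    have h5 := map_mono (zpowers_le.mpr hx) h3
    by_cases e : K = K.map (MulAut.conj g).toMonoidHom
    · rw [← e] at h5
      exact hy1 ((mul_mem_cancel_left (hc hL hK hne.symm hx)).mp (hc hL hK hne.symm h5))
    · exact h4 (hc hK (Comp2.component_conj hK g) e h5)
  · have := Comp2.layer_normal (G := G)
    have h5 : x ^ 2 ^ (a - c) ∈ centralizer (layer G : Set G) := by
      obtain ⟨d, hd⟩ := Nat.exists_eq_succ_of_ne_zero h0.ne'
      rw [hd, pow_succ', pow_mul]
      exact pow_mem hx2 _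
    obtain ⟨w, hw, e⟩ := map_mono (zpowers_le.mpr h5) h3
    refine h4 (centralizer_le (Comp2.component_le_layer hK) ?_)
    rw [← e]
    exact Subgroup.Normal.conj_mem inferInstance w hw g

/-- Let G be a finite group in which, for every prime p, any two cyclic p-subgroups of the same order are conjugate. If the layer E(G), the subgroup generated by the components of G, is non-trivial, then E(G)/Z(E(G)) is a non-abelian simple group. -/
theorem result {G : Type*} [Group G] [Finite G] (hP : ∀ (p : ℕ), p.Prime → ∀ A B : Subgroup G, IsCyclic ↥A → IsCyclic ↥B → IsPGroup p ↥A → Nat.card ↥A = Nat.card ↥B → ∃ g : G, B = A.map (MulAut.conj g).toMonoidHom) (hE : Cfsg.layer G ≠ ⊥) :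
    IsSimpleGroup (↥(Cfsg.layer G) ⧸ Subgroup.center ↥(Cfsg.layer G)) ∧ ¬ IsMulCommutative (↥(Cfsg.layer G) ⧸ Subgroup.center ↥(Cfsg.layer G)) := by
  obtain ⟨K, hK⟩ : ∃ K : Subgroup G, IsComponent K := by
    by_contra h
    push Not at h
    exact hE (Comp2.layer_eq_bot_iff.mpr h)
  have : layer G = K := by
    refine le_antisymm (Comp2.layer_le_iff.mpr fun L hL => ?_) (Comp2.component_le_layer hK)
    by_contra hn
    have hne : K ≠ L := by rintro rfl; exact hn le_rfl
    obtain ⟨x, hx, a, ha, hx1, hx2⟩ := exists_two hK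
    obtain ⟨y, hy, b, hb, hy1, hy2⟩ := exists_two hL
    rcases le_total a b with h | h
    · exact key hP hL hK hne.symm hy hx hb ha h hy1 hx1 hy2
    · exact key hP hK hL hne hx hy ha hb h hx1 hy1 hx2
  rw [this]
  exact ⟨hK.2.2, Comp2.quasisimple_quotient_not_isMulCommutative hK.2⟩

end Cfsg.Agent.S3915
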