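import Mathlib
import Cfsg.Statements.S0989
import Cfsg.Agent.Perm.Small2

set_option autoImplicit false
open Cfsg

namespace Cfsg.Agent.S0989


/-- In the symmetric group on p or p + 1 letters, p a prime, the normalizer of a Sylow p-subgroup has order p * (p - 1). -/
theorem result {α : Type*} [Fintype α] [DecidableEq α] (p : ℕ) [Fact p.Prime] (hα : Fintype.card α = p ∨ Fintype.card α = p + 1) (P : Sylow p (Equiv.Perm α)) : Nat.card ↥(Subgroup.normalizer ((P : Subgroup (Equiv.Perm α)) : Set (Equiv.Perm α))) = p * (p - 1) := by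
  have hp : p.Prime := Fact.out
  have h2 := hp.two_le
  have hlt : Fintype.card α < 2 * p := by omega
  have hle : p ≤ Fintype.card α := by omega
  have hG : Nat.card (Equiv.Perm α) = (Fintype.card α).factorial := by
    rw [Nat.card_perm, Nat.card_eq_fintype_card]
  have hP : Nat.card P = p := Perm.card_sylow_of_not_sq_dvd
    (hG ▸ (hp.dvd_factorial).mpr hle) (hG ▸ Perm.not_sq_dvd_factorial hp hlt) P
  have h3 := Perm.ncard_orderOf_prime P hP
  have h4 : {g : Equiv.Perm α | orderOf g = p} =
      ((Finset.univ.filter fun g : Equiv.Perm α => g.cycleType = {p}) : Set _) := by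
    ext g
    simp only [Set.mem_setOf_eq, Finset.coe_filter, Finset.mem_univ, true_and]
    refine ⟨fun h => ?_, fun h => ?_⟩
    · have hc := Equiv.Perm.isCycle_of_prime_order' (σ := g) (h ▸ hp) (h ▸ hlt)
      rw [hc.cycleType, ← hc.orderOf, h]
    · rw [← Equiv.Perm.lcm_cycleType, h]; simp
  rw [h4, Set.ncard_coe_finset, Equiv.Perm.card_of_cycleType_singleton h2 hle] at h3
  have h5 := Perm.card_sylow_mul P
  rw [hG, ← Nat.choose_mul_factorial_mul_factorial hle] at h5
  have h6 : (Fintype.card α - p).factorial = 1 := by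
    rcases hα with h | h <;> rw [h] <;> simp
  have h7 : p.factorial = p * (p - 1).factorial := (Nat.mul_factorial_pred hp.ne_zero).symm
  rw [h6, h7, mul_one] at h5
  have h0 : 0 < Nat.card (Sylow p (Equiv.Perm α)) := Nat.card_pos
  apply Nat.eq_of_mul_eq_mul_left h0
  rw [h5]
  calc _ = p * ((p - 1).factorial * (Fintype.card α).choose p) := by ring
    _ = _ := by rw [h3]; ring

end Cfsg.Agent.S0989
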