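import Mathlib
import Cfsg.Statements.S0081
import Cfsg.Agent.Transfer.Yoshida
-- import your own Cfsg.Agent.* helpers here

set_option autoImplicit false
open Cfsg

namespace Cfsg.Agent.S0081

open Cfsg.Agent.Transfer

/-- If a normal subgroup meets a Sylow p-subgroup P inside the Frattini subgroup of P, then it has a normal p-complement. -/
theorem result {G : Type*} [Group G] [Finite G] {p : ℕ} [Fact p.Prime] (P : Sylow p G) (N : Subgroup G) [N.Normal] (h : N ⊓ (P : Subgroup G) ≤ (frattini P).map (P : Subgroup G).subtype) : Cfsg.HasNormalPComplement p N := by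
  refine hasNormalPComplement_of_le (le_sup_left : N ≤ N ⊔ P)
    (hasNormalPComplement_of_le_frattini (P.subtype le_sup_right) ?_)
  have h1 : pResidual p ↥(N ⊔ P) ≤ N.subgroupOf (N ⊔ P) := pResidual_le_of_isPGroup_quotient (by
    obtain ⟨k, hk⟩ := IsPGroup.iff_card.1 P.2
    have h3 : N.relIndex (N ⊔ P) ∣ p ^ k := by
      rw [Subgroup.relIndex_sup_left, ← hk]; exact Core.relIndex_dvd_card' _ _
    obtain ⟨j, -, hj⟩ := (Nat.dvd_prime_pow Fact.out).1 h3
    exact IsPGroup.of_card hj)
  rintro x ⟨hx, hx'⟩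
  have h2 : (frattini P).map (P : Subgroup G).subtype ≤
      ((frattini (P.subtype (le_sup_right : (P : Subgroup G) ≤ N ⊔ P))).map
        (Subgroup.subtype _)).map (N ⊔ P : Subgroup G).subtype := by
    refine (PGrp.map_frattini_le_iff P.2).2 ⟨?_, fun y hy =>
      ⟨⟨y, Subgroup.mem_sup_right hy⟩ ^ p, PGrp.pow_mem_map_frattini (P.subtype _).2 hy, rfl⟩⟩
    refine le_trans ?_ (Subgroup.map_mono (PGrp.commutator_le_map_frattini (P.subtype _).2))
    rw [Subgroup.map_commutator, Sylow.coe_subtype, Subgroup.map_subgroupOf_eq_of_le le_sup_right]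
  obtain ⟨y, hy, e⟩ := h2 (h ⟨h1 hx', hx⟩)
  rwa [← Subtype.ext e]

end Cfsg.Agent.S0081
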