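import Mathlib
import Cfsg.Statements.S0877
import Cfsg.Agent.Isaacs.Ch8
import Cfsg.Agent.Core.Product
-- import your own Cfsg.Agent.* helpers here

set_option autoImplicit false
open Cfsg

namespace Cfsg.Agent.S0877

open Cfsg.Agent.Char Cfsg.Agent.Isaacs Subgroup

/-- Let H be a subgroup of the finite group G whose order is coprime to its index. Suppose that elements of H conjugate in G are conjugate in H, and that every subgroup E of G that is elementary for some prime (in the sense used for Brauer's characterisation of characters) and whose order divides the order of H is conjugate to a subgroup of H. Then there is a normal subgroup K with K ⊔ H = ⊤ and K ⊓ H trivial. -/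
theorem result {G : Type*} [Group G] [Finite G] (H : Subgroup G) (hHall : Nat.Coprime (Nat.card H) H.index) (hfus : ∀ x ∈ H, ∀ y ∈ H, IsConj x y → ∃ h ∈ H, h * x * h⁻¹ = y) (helem : ∀ (E : Subgroup G) (p : ℕ), p.Prime → Cfsg.IsElementary p E → Nat.card E ∣ Nat.card H → ∃ g : G, E.map (MulAut.conj g).toMonoidHom ≤ H) : ∃ K : Subgroup G, K.Normal ∧ K ⊔ H = ⊤ ∧ K ⊓ H = ⊥ := by
  classical
  have := Fintype.ofFinite G
  have := Fintype.ofFinite H
  obtain ⟨k, hk⟩ := exists_partExp (G := G) H.index_mul_card.symm.dvd hHall.symm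
  have h0 : ∀ x : G, ∃ r : H, IsConj (x ^ k) r := fun x => by
    obtain ⟨g, hg⟩ := helem _ 2 Nat.prime_two (Block.isElementary_zpowers Nat.prime_two (x ^ k))
      (by rw [Nat.card_zpowers]; exact hk.right x)
    exact ⟨⟨_, hg ⟨_, mem_zpowers _, rfl⟩⟩, isConj_iff.mpr ⟨g, rfl⟩⟩
  choose r hr using h0
  have h1 : ∀ (x : G) (h : H), IsConj (x ^ k) h → IsConj (r x) h := fun x h e => by
    obtain ⟨y, hy, e⟩ := hfus _ (r x).2 _ h.2 ((hr x).symm.trans e)
    exact isConj_iff.mpr ⟨⟨y, hy⟩, Subtype.ext e⟩
  have h2 : ∀ h : H, (h : G) ^ k = h := fun h =>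
    hk.fix _ (hHall.coprime_dvd_left (H.orderOf_dvd_natCard h.2))
  have h3 : ∀ h : H, IsConj (r h) h := fun h => h1 _ _ (by rw [h2])
  have h4 : ∀ θ : H → ℂ, IsCharacter H θ → IsGeneralizedCharacter G fun x => θ (r x) := fun θ hθ => by
    have hc := isChar_classFun hθ
    refine Block.brauer_characterization (classFun_iff_isConj.mpr fun a b hab =>
      classFun_isConj hc (h1 _ _ ((hab.pow k).trans (hr b)))) fun E p hp hE => ?_
    let f : E →* G := E.subtype.comp (MonoidHom.mk' (· ^ k)
      ((hk.of_inj E.subtype E.subtype_injective).mul_pow (nilpotent_of_isElementary hp hE)))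
    have h5 : f.range ≤ E := by rintro _ ⟨x, rfl⟩; exact (x ^ k).2
    obtain ⟨g, hg⟩ := helem f.range p hp (isElementary_of_inj hp _ (inclusion_injective h5) hE) (by
      refine Nat.Coprime.dvd_of_dvd_mul_left (Nat.coprime_of_dvd fun q hq e e' => ?_)
        (H.index_mul_card ▸ card_subgroup_dvd_card f.range)
      have := Fact.mk hq
      obtain ⟨⟨_, x, rfl⟩, hx⟩ := exists_prime_orderOf_dvd_card' q e
      rw [← orderOf_coe] at hx
      exact hq.one_lt.ne' (Nat.eq_one_of_dvd_coprimes hHall (hx ▸ hk.right x) e'))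
    let f' : E →* H := ((MulAut.conj g).toMonoidHom.comp f).codRestrict H fun x =>
      hg ⟨_, ⟨x, rfl⟩, rfl⟩
    convert isChar_isGenChar (isChar_comp f' hθ) using 2 with x
    exact classFun_isConj hc (h1 _ _ (isConj_iff.mpr ⟨g, rfl⟩))
  let f : H → ℂ := (Nat.card G : ℂ)⁻¹ • ∑ x : G,
    (Nat.card (centralizer ({r x} : Set H)) : ℂ) • classInd (r x)
  have h5 : ∀ φ, IsClassFunction H φ → classInner f φ = classInner (fun _ => 1) fun x => φ (r x) :=
    fun φ hφ => by
      rw [classInner_smul_left, classInner_sum_left, classInner]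
      refine congrArg _ (Finset.sum_congr rfl fun x _ => ?_)
      rw [classInner_smul_left, classInner_classInd _ hφ, mul_div_cancel₀ _ card_ne_zero, one_mul]
  have h6 : IsGeneralizedCharacter H f := isGenChar_of_inner_int (classFun_smul _ (classFun_sum _
    fun x _ => classFun_smul _ (classFun_classInd _))) fun χ hχ => by
      rw [h5 χ (isIrr_classFun hχ)]
      exact classInner_isGenChar_int isGenChar_one (h4 χ (isIrr_isChar hχ))
  have h7 : ∀ h, ∃ n : ℕ, 0 < n ∧ f h = n := fun h => by
    let N : ℕ := ∑ x : G, if IsConj (r x) h then Nat.card (centralizer ({r x} : Set H)) else 0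
    have e : f h = ((N : ℚ) / Nat.card G : ℚ) := by
      simp only [f, N, Pi.smul_apply, Finset.sum_apply, classInd_apply, smul_eq_mul]
      push_cast
      rw [div_eq_inv_mul]
      refine congrArg _ (Finset.sum_congr rfl fun x _ => ?_)
      split_ifs <;> simp
    have hN : 0 < N := Finset.sum_pos' (fun _ _ => Nat.zero_le _) ⟨h, Finset.mem_univ _, by
      rw [if_pos (h3 h)]; exact Nat.card_pos⟩
    obtain ⟨n, hn⟩ := exists_int_of_isIntegral_ratCast (e ▸ isGenChar_isIntegral h6 h)
    have h8 : 0 < n := by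
      have : (0 : ℚ) < n := hn ▸ div_pos (Nat.cast_pos.mpr hN) (Nat.cast_pos.mpr Nat.card_pos)
      exact_mod_cast this
    exact ⟨n.toNat, by omega, by
      rw [e, hn, ← Int.cast_natCast, Int.toNat_of_nonneg h8.le, Rat.cast_intCast]⟩
  have h8 : f = fun _ => 1 := by
    choose n h8 h9 using h7
    have h10 := h5 _ (classFun_const 1)
    rw [classInner_one_one, classInner_one_right, inv_mul_eq_iff_eq_mul₀ card_ne_zero] at h10
    simp only [h9] at h10
    have h11 : ∑ _h : H, 1 = ∑ h, n h := by
      rw [Finset.sum_const, Finset.card_univ, ← Nat.card_eq_fintype_card, smul_eq_mul]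
      exact_mod_cast h10.symm
    funext h
    rw [h9, ← (Finset.sum_eq_sum_iff_of_le fun h _ => h8 h).mp h11 h (Finset.mem_univ h), Nat.cast_one]
  have h9 : r 1 = 1 := isConj_one_left.mp (h3 1)
  have h10 : ∀ θ : H → ℂ, IsIrrCharacter H θ → IsCharacter G fun x => θ (r x) := fun θ hθ => by
    refine isIrr_isChar (isIrr_of_isGenChar_norm_one (h4 θ (isIrr_isChar hθ)) ?_ ?_)
    · rw [← classInner_conj_conj, classInner_eq_one_right, ← classInner_conj_conj]
      have := h5 _ (classFun_mul (isIrr_classFun hθ) (classFun_conj (isIrr_classFun hθ)))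
      rw [h8, ← classInner_conj_symm, ← classInner_eq_one_right, classInner_isIrr_self hθ] at this
      simpa [Pi.mul_def] using this.symm
    · obtain ⟨n, -, hn⟩ := isIrr_degree hθ
      simp [h9, hn]
  have h11 : IsCharacter G fun x => regChar H (r x) :=
    isChar_induction (P := fun θ => IsCharacter G fun x => θ (r x)) isChar_regChar h10 isChar_zero
      fun _ _ _ _ => isChar_add
  have h12 : ∀ x, x ∈ charKer (fun x => regChar H (r x)) ↔ x ^ k = 1 := fun x => by
    rw [mem_charKer_iff h11, h9, regChar_one, regChar_apply, ← isConj_one_left (a := x ^ k)]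
    split_ifs with h
    · simpa [h] using hr x
    · exact iff_of_false card_ne_zero.symm fun e => h (isConj_one_left.mp (h1 x 1 e))
  have := charKer_normal (isChar_classFun h11)
  refine ⟨_, this, Core.sup_eq_top_of_coprime_index (Nat.coprime_of_dvd fun q hq e e' => ?_),
    eq_bot_iff.mpr fun x hx => (h2 ⟨x, hx.2⟩).symm.trans ((h12 x).mp hx.1)⟩
  obtain ⟨x, -, h13, h14⟩ := exists_pow_mem (K := ⊤) hq norm_top (L := charKer fun x => regChar H (r x))
    (by rwa [relIndex_top_right])
  rw [h12] at h13 h14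
  rw [← pow_mul, mul_comm, pow_mul] at h14
  have := Fact.mk hq
  exact hq.one_lt.ne' (Nat.eq_one_of_dvd_coprimes hHall (orderOf_eq_prime h14 h13 ▸ hk.right x) e')

end Cfsg.Agent.S0877
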