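import Mathlib
import Cfsg.Statements.S0556
import Cfsg.Agent.FGS.SylowNum
import Cfsg.Agent.Core.Fitting
import Cfsg.Agent.H2.FrobQuot
import Cfsg.Agent.H2.FrobComplement
import Cfsg.Agent.S0035

set_option autoImplicit false
open Cfsg

namespace Cfsg.Agent.S0556

open Subgroup
open scoped Pointwise

theorem commutator_le_of_coatom {G : Type*} [Group G] (A : Subgroup G) [A.Normal]
    (hA : IsCoatom A) : commutator G ≤ A := by
  obtain ⟨g, hg⟩ : ∃ g, g ∉ A := by
    by_contra h
    push Not at h
    exact hA.1 (eq_top_iff.mpr fun x _ => h x)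
  have h1 : A ⊔ zpowers g = ⊤ := hA.2 _ (lt_of_le_of_ne le_sup_left fun h => hg (by
    rw [h]; exact mem_sup_right (mem_zpowers g)))
  have h2 : IsCyclic (G ⧸ A) := by
    rw [isCyclic_iff_exists_zpowers_eq_top]
    refine ⟨QuotientGroup.mk' A g, ?_⟩
    have := congrArg (Subgroup.map (QuotientGroup.mk' A)) h1
    rwa [Subgroup.map_sup, (Subgroup.map_eq_bot_iff A).mpr (by simp), bot_sup_eq,
      MonoidHom.map_zpowers, map_top_of_surjective _ (QuotientGroup.mk'_surjective A)] at this
  exact Normal.quotient_commutative_iff_commutator_le.mp inferInstance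

theorem frob {G : Type*} [Group G] [Finite G] (A : Subgroup G) (hA : IsCoatom A)
    [IsMulCommutative A] (hF : IsFrobeniusComplement A) : derivedSeries G 2 = ⊥ := by
  obtain ⟨K, hK, hKn, hc⟩ := S0035.result A hF
  obtain ⟨V, hVK, hV, hVc, hAV, -⟩ := H2.exists_invariant_comm_of_semiregular
    (K := K) (H := A) le_normalizer_of_normal (H2.Frob.semiregular_of_coe_eq hF hK)
    (H2.Frob.ne_bot_of_coe_eq hF hK)
  have h1 : A ⊔ V = ⊤ := hA.2 _ (lt_of_le_of_ne le_sup_left fun h => hV (by
    have : V ≤ K ⊓ A := le_inf hVK (h ▸ le_sup_right)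
    rwa [hc.disjoint.eq_bot, le_bot_iff] at this))
  have hVn : V.Normal := Core.normal_of_le_normalizer (h1 ▸ sup_le hAV le_normalizer)
  have h2 : commutator G ≤ V := by
    refine Normal.quotient_commutative_iff_commutator_le.mp ⟨⟨fun x y => ?_⟩⟩
    have h3 := congrArg (Subgroup.map (QuotientGroup.mk' V)) h1
    rw [Subgroup.map_sup, (Subgroup.map_eq_bot_iff V).mpr (by simp), sup_bot_eq,
      map_top_of_surjective _ (QuotientGroup.mk'_surjective V)] at h3
    exact Core.comm_of_isMulCommutative (N := A.map (QuotientGroup.mk' V)) inferInstance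
      (h3 ▸ mem_top x) (h3 ▸ mem_top y)
  rw [derivedSeries_succ, derivedSeries_one, eq_bot_iff,
    ← Core.isMulCommutative_iff_commutator_eq_bot.mp hVc]
  exact commutator_mono h2 h2

/-- If a finite group has a maximal subgroup that is abelian, then the third term of its derived series is trivial (so the group is solvable of derived length at most three). -/
theorem result {G : Type*} [Group G] [Finite G] (A : Subgroup G) (hA : IsCoatom A) [IsMulCommutative A] : derivedSeries G 3 = ⊥ := by
  have hcomm : ⁅A, A⁆ = ⊥ := Core.isMulCommutative_iff_commutator_eq_bot.mp inferInstance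
  by_cases hn : A.Normal
  · have h1 := commutator_le_of_coatom A hA
    have h2 : derivedSeries G 2 = ⊥ := by
      rw [derivedSeries_succ, derivedSeries_one, eq_bot_iff, ← hcomm]
      exact commutator_mono h1 h1
    rw [derivedSeries_succ, h2, commutator_bot_left]
  have hN : normalizer (A : Set G) = A := by
    by_contra h
    exact hn (normalizer_eq_top_iff.mp (hA.2 _ (lt_of_le_of_ne le_normalizer (Ne.symm h))))
  have hZ : center G ≤ A := hN ▸ center_le_normalizer _
  have hs := QuotientGroup.mk'_surjective (center G)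
  have hA' := Core.isCoatom_map_of_ker_le hs hA (by rwa [QuotientGroup.ker_mk'])
  have hcm : (A.map (QuotientGroup.mk' (center G))).comap (QuotientGroup.mk' (center G)) = A :=
    comap_map_eq_self (by rwa [QuotientGroup.ker_mk'])
  have hF : IsFrobeniusComplement (A.map (QuotientGroup.mk' (center G))) := by
    refine ⟨fun h => hn ?_, hA'.1, fun g hg => ?_⟩
    · rw [← hcm, h]; infer_instance
    · obtain ⟨g, rfl⟩ := hs g
      rw [eq_bot_iff]
      intro x hx
      obtain ⟨⟨a, ha, rfl⟩, hx⟩ := mem_inf.mp hx
      rw [FGS.mem_conj_iff, ← map_inv, ← map_mul, ← map_mul, ← mem_comap, hcm] at hx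
      rw [← mem_comap, hcm] at hg
      rw [mem_bot, QuotientGroup.mk'_apply, QuotientGroup.eq_one_iff, ← SetLike.mem_coe,
        ← Set.singleton_subset_iff, ← centralizer_eq_top_iff_subset]
      have h1 : A ≤ centralizer {a} := fun y hy =>
        mem_centralizer_singleton_iff.mpr (Core.comm_of_isMulCommutative inferInstance hy ha)
      refine hA.2 _ (lt_of_le_of_ne h1 fun h => hg ?_)
      rw [← hN]
      refine Transfer.mem_normalizer_of_conj_mem fun y hy => ?_
      rw [h, mem_centralizer_singleton_iff]
      have := Core.comm_of_isMulCommutative (N := A) inferInstance hy hx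
      calc g * y * g⁻¹ * a = g * (y * (g⁻¹ * a * g)) * g⁻¹ := by group
        _ = a * (g * y * g⁻¹) := by rw [this]; group
  have h2 := frob _ hA' hF
  rw [← map_derivedSeries_eq hs, Subgroup.map_eq_bot_iff, QuotientGroup.ker_mk'] at h2
  rw [derivedSeries_succ, commutator_eq_bot_iff_le_centralizer]
  exact h2.trans (center_le_centralizer _)

end Cfsg.Agent.S0556
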