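import Mathlib
import Cfsg.Statements.S4040
import Cfsg.Agent.FGS.Thompson
import Cfsg.Agent.Core.Fitting

set_option autoImplicit false
open Cfsg

namespace Cfsg.Agent.S4040

open Subgroup

theorem core_free {G : Type*} [Group G] [Finite G]
    (M : Subgroup G) (hmax : IsCoatom M) (hnil : Group.IsNilpotent M) (hodd : Odd (Nat.card M))
    (hc : ∀ N : Subgroup G, N.Normal → N ≤ M → N = ⊥) : Group.IsSolvable G := by
  have hN : ∀ X : Subgroup G, X ≠ ⊥ → X ≤ M → M ≤ normalizer (X : Set G) →
      normalizer (X : Set G) = M := by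
    intro X hX hXM h
    by_contra hne
    exact hX (hc X (normalizer_eq_top_iff.mp (hmax.2 _ (lt_of_le_of_ne h (Ne.symm hne)))) hXM)
  have key : ∀ p : ℕ, p.Prime → p ∣ Nat.card M → ¬ p ∣ M.index ∧ ¬ p ∣ Nat.card (pResidual p G) := by
    intro p hp hd
    have := Fact.mk hp
    obtain ⟨P, hP⟩ := Core.exists_isSylowOf p M
    have h1 : M ≤ normalizer (P : Set G) :=
      le_normalizer.trans (FGS.normalizer_le_normalizer_of_isSylowOf_nilpotent hnil hP)
    have h2 := hN P (hP.ne_bot hd) hP.le h1
    have h3 : Core.IsSylowOf p P ⊤ := Core.IsSylowOf.of_normalizer (by rwa [top_inf_eq, h2])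
    obtain ⟨S, rfl⟩ := h3.exists_sylow_top
    refine ⟨FGS.not_dvd_index_of_sylow_le S hP.le, Transfer.hasNormalPComplement_iff_not_dvd.mp ?_⟩
    refine FGS.hasNormalPComplement_of_normalizers (by rintro rfl; exact hodd.not_two_dvd_nat hd) S
      fun X hX hXS hn => ?_
    rw [hN X hX (hXS.trans hP.le) (h1.trans hn)]
    exact Transfer.hasNormalPComplement_of_isNilpotent
  let K : Subgroup G := ⨅ p : {p : ℕ // p.Prime ∧ p ∣ Nat.card M}, pResidual p G
  have hKn : K.Normal := normal_iInf_normal fun p => inferInstance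
  have hcop : (Nat.card M).Coprime (Nat.card K) := Nat.coprime_of_dvd fun p hp h1 h2 =>
    (key p hp h1).2 (h2.trans (card_dvd_of_le (iInf_le _ (⟨p, hp, h1⟩ : {p : ℕ // p.Prime ∧ p ∣ Nat.card M}))))
  obtain ⟨q, hq, hqi⟩ := Nat.exists_prime_and_dvd (mt index_eq_one.mp hmax.1)
  have := Fact.mk hq
  have hqM : ¬ q ∣ Nat.card M := fun h => (key q hq h).1 hqi
  obtain ⟨y, hy⟩ := exists_prime_orderOf_dvd_card' q (hqi.trans M.index_dvd_card)
  have hyK : y ∈ K := mem_iInf.mpr fun p => Transfer.mem_pResidual_of_coprime (by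
    rw [hy]
    exact (Nat.coprime_primes hq p.2.1).mpr fun h => hqM (h ▸ p.2.2))
  obtain ⟨Q, hQ, hMQ⟩ := Core.exists_invariant_isSylowOf M K le_normalizer_of_normal hcop
    (Or.inl inferInstance) q
  have hQne : Q ≠ ⊥ := hQ.ne_bot (hy ▸ FGS.orderOf_dvd_card_of_mem hyK)
  have h1 : Q ⊔ M = ⊤ := hmax.2 _ (lt_of_le_of_ne le_sup_right fun h => hqM
    ((Core.prime_dvd_card_of_isPGroup hQ.isPGroup hQne).trans (card_dvd_of_le (h ▸ le_sup_left))))
  have hQn : Q.Normal := Core.normal_of_le_normalizer (h1 ▸ sup_le le_normalizer hMQ)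
  have := FGS.solvable_sup_of_normal (Core.solvable_of_isPGroup hQ.isPGroup)
    (inferInstance : Group.IsSolvable M)
  rw [h1] at this
  exact Core.solvable_of_mulEquiv topEquiv this

/-- A finite group possessing a maximal subgroup that is nilpotent of odd order is solvable. -/
theorem result {G : Type*} [Group G] [Finite G]
    (M : Subgroup G) (hmax : IsCoatom M) (hnil : Group.IsNilpotent M) (hodd : Odd (Nat.card M)) :
    Group.IsSolvable G := by
  have hs := QuotientGroup.mk'_surjective M.normalCore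
  have hk : (QuotientGroup.mk' M.normalCore).ker ≤ M := by
    rw [QuotientGroup.ker_mk']; exact normalCore_le M
  refine (Group.isSolvable_iff_subgroup_quotient M.normalCore).mpr
    ⟨Core.solvable_of_le (normalCore_le M) inferInstance,
      core_free (M.map (QuotientGroup.mk' M.normalCore)) (Core.isCoatom_map_of_ker_le hs hmax hk)
        (Core.nilpotent_map hnil _) (hodd.of_dvd_nat (Core.card_map_dvd _ _)) fun N hN hle => ?_⟩
  rw [← map_comap_eq_self_of_surjective hs N, Subgroup.map_eq_bot_iff, QuotientGroup.ker_mk',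
    normal_le_normalCore]
  exact (comap_mono hle).trans (comap_map_eq_self hk).le

end Cfsg.Agent.S4040
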