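import Cfsg.Statements.S5077
import Cfsg.Agent.Fusion.Br2
-- import your own Cfsg.Agent.* helpers here

set_option autoImplicit false
open Cfsg

namespace Cfsg.Agent.S5077

open Cfsg.Agent.Fusion


/-- A fusion system over a finite p-group S is saturated if and only if (Sylow axiom) every fully normalized subgroup is fully centralized and fully automized, and (extension axiom) every fully centralized subgroup is receptive. -/
theorem result {Ω : Type*} [Group Ω] {S : Subgroup Ω} [Finite S] (p : ℕ) [Fact p.Prime] (hS : IsPGroup p S) (F : Cfsg.FusionSystem S) : F.IsSaturated p ↔ ((∀ P : Subgroup Ω, F.IsFullyNormalized P → F.IsFullyCentralized P ∧ F.IsFullyAutomized p P) ∧ (∀ P : Subgroup Ω, F.IsFullyCentralized P → F.IsReceptive P)) := by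
  obtain ⟨G, _, _, ι, F', r, -⟩ := exists_rich_rep F
  rw [r.sat_iff hS, r.forall_le' (Ψ' := F'.FN) (Φ' := fun P => F'.FC P ∧ F'.FA p P)
    (fun _ h => h.1) (fun _ h => h.1) (fun _ h => r.fn_iff h)
    (fun _ h => and_congr (r.fc_iff h) (r.fa_iff hS h)),
    r.forall_le' (Ψ' := F'.FC) (Φ' := F'.Rec) (fun _ h => h.1) (fun _ h => h.1)
    (fun _ h => r.fc_iff h) (fun _ h => r.rec_iff h)]
  exact ⟨fun h => ⟨fun _ hP => ⟨h.fc hP, h.fa hP⟩, fun _ hP => h.rec_of_fc hP⟩,
    fun h => FS.sat_of_FN (r.pg hS) fun P hP => ⟨(h.1 P hP).2, h.2 P (h.1 P hP).1⟩⟩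

end Cfsg.Agent.S5077
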