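import Cfsg.Statements.S0437
import Mathlib
import Cfsg.Agent.Fischer.Basic

set_option autoImplicit false
open Cfsg

namespace Cfsg.Agent.S0437

open Fischer

/-- For three distinct, pairwise commuting members a, b, c of a set of 3-transpositions E, a member e of E centralises a * b * c if and only if it centralises each of a, b and c. -/
theorem result {G : Type*} [Group G] {E : Set G} (hE : Cfsg.IsThreeTranspositionSet E) {a b c e : G} (ha : a ∈ E) (hb : b ∈ E) (hc : c ∈ E) (he : e ∈ E) (hab : a ≠ b) (hac : a ≠ c) (hbc : b ≠ c) (h₁ : Commute a b) (h₂ : Commute a c) (h₃ : Commute b c) : Commute e (a * b * c) ↔ (Commute e a ∧ Commute e b ∧ Commute e c) := by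
  refine ⟨fun h => ?_, fun h => (h.1.mul_right h.2.1).mul_right h.2.2⟩
  have key : ∀ {a b c : G}, a ∈ E → b ∈ E → c ∈ E → a ≠ b → Commute a b → Commute e (a * b * c) →
      Commute e c → Commute e a ∧ Commute e b := by
    intro a b c ha hb hc hab h₁ h hec
    have := h.mul_right hec
    rw [mul_assoc, tt_sq hE hc, mul_one] at this
    exact (tt_commute_mul_iff hE ha hb he hab h₁).1 this
  by_cases hec : Commute e c
  · have := key ha hb hc hab h₁ h hec
    exact ⟨this.1, this.2, hec⟩
  by_cases heb : Commute e b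
  · have h' : Commute e (a * c * b) := by rwa [mul_assoc, ← h₃.eq, ← mul_assoc]
    exact absurd (key ha hc hb hac h₂ h' heb).2 hec
  by_cases hea : Commute e a
  · have h' : Commute e (b * c * a) := by
      rwa [← (h₁.mul_right h₂).eq, ← mul_assoc]
    exact absurd (key hb hc ha hbc h₃ h' hea).2 hec
  exfalso
  have hz : Commute (e * c) (a * b * c) := h.mul_left ((h₂.symm.mul_right h₃.symm).mul_right (Commute.refl c))
  have e1 : e * (a * b) = (e * c) * (a * b * c) := by
    rw [(h₂.mul_left h₃).eq, mul_assoc e c, tt_cancel hE hc]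
  have hz2 : (a * b * c) ^ 2 = 1 := by
    rw [(h₂.mul_left h₃).mul_pow, sq_of_commute (tt_sq hE ha) (tt_sq hE hb) h₁, pow_two,
      tt_sq hE hc, one_mul]
  have h6 : (e * (a * b)) ^ 6 = 1 := by
    rw [e1, hz.mul_pow, show 6 = 3 * 2 from rfl, pow_mul, tt_cube hE he hc hec, one_pow, one_mul,
      mul_comm 3 2, pow_mul, hz2, one_pow]
  have h2 : (e * (a * b)) ^ 2 = a * e * (a * b) * e * a := by
    have b1 := tt_braid' hE he hb heb
    have b2 := tt_braid' hE he ha hea
    calc (e * (a * b)) ^ 2 = e * (a * (b * (e * (b * a)))) := by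
          rw [pow_two, ← h₁.eq]; simp only [mul_assoc]
      _ = e * (a * (e * (b * (e * a)))) := by rw [b1]
      _ = a * (e * (a * (b * (e * a)))) := by rw [b2]
      _ = _ := by simp only [mul_assoc]
  have h4 : (e * (a * b)) ^ 4 = 1 := by
    rw [show 4 = 2 * 2 from rfl, pow_mul, h2, pow_two]
    have := sq_of_commute (tt_sq hE ha) (tt_sq hE hb) h₁
    rw [pow_two] at this
    calc a * e * (a * b) * e * a * (a * e * (a * b) * e * a)
        = a * (e * ((a * b) * (e * (a * (a * (e * ((a * b) * (e * a)))))))) := by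
          simp only [mul_assoc]
      _ = a * (e * (((a * b) * (a * b)) * (e * a))) := by
          rw [tt_cancel hE ha, tt_cancel hE he]; simp only [mul_assoc]
      _ = 1 := by rw [this, one_mul, tt_cancel hE he, tt_sq hE ha]
  have h22 : (e * (a * b)) ^ 2 = 1 := by
    rw [show 6 = 4 + 2 from rfl, pow_add, h4, one_mul] at h6
    exact h6
  have hab2 : (a * b) * (a * b) = 1 := by
    rw [← pow_two]; exact sq_of_commute (tt_sq hE ha) (tt_sq hE hb) h₁
  exact hea ((tt_commute_mul_iff hE ha hb he hab h₁).1
    (commute_of_sq (tt_sq hE he) hab2 h22)).1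

end Cfsg.Agent.S0437
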