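import Mathlib
import Cfsg.Statements.S4106
import Cfsg.Agent.FGS.ClassCount

set_option autoImplicit false
open Cfsg

namespace Cfsg.Agent.S4106

open Subgroup Cfsg.Agent.BG Cfsg.Agent.BG.Amb

theorem aux.{u} (m : ℕ) : ∀ (G : Type u) [Group G] [Finite G] (π : Set ℕ), 0 < m →
    (∀ q ∈ π, q.Prime → ∀ k, q ^ k ∣ Nat.card G → q ^ k ∣ m) → FGS.kpi π G ≤ m := by
  induction m using Nat.strong_induction_on with | _ m ih
  intro G _ _ π hm h
  by_cases h0 : ∃ p ∈ π, p.Prime ∧ p ∣ m
  · obtain ⟨p, hpπ, hp, hd⟩ := h0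
    have := Fact.mk hp
    obtain ⟨P⟩ := Sylow.nonempty (p := p) (G := G)
    have h1 : FGS.kpi (π ∩ {p}) G ≤ ordProj[p] m := by
      refine (FGS.kpi_le_card_of_conj (P : Subgroup G) fun x hx => ?_).trans ?_
      · obtain ⟨k, hk⟩ := (piNat_singleton_iff hp (orderOf_pos x).ne').mp
          (piNat_mono Set.inter_subset_right hx)
        obtain ⟨Q, hQ⟩ := FGS.exists_sylow_mem hk
        obtain ⟨g, rfl⟩ := MulAction.exists_smul_eq G P Q
        exact ⟨g⁻¹, by simpa using FGS.mem_conj_iff.mp hQ⟩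
      · rw [P.card_eq_multiplicity]
        exact Nat.pow_le_pow_right hp.pos ((hp.pow_dvd_iff_le_factorization hm.ne').mp
          (h p hpπ hp _ (Nat.ordProj_dvd _ _)))
    refine (FGS.kpi_le_mul_of_centralizer π {p} (m := ordCompl[p] m) fun x => ?_).trans
      ((Nat.mul_le_mul_right _ h1).trans_eq (Nat.ordProj_mul_ordCompl_eq_self m p))
    refine ih _ (Nat.div_lt_self hm (Nat.one_lt_pow (hp.factorization_pos_of_dvd hm.ne' hd).ne'
      hp.one_lt)) _ _ (Nat.ordCompl_pos p hm.ne') fun q hq hq' k hk => ?_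
    refine (((Nat.coprime_primes hq' hp).mpr hq.2).pow k (m.factorization p)).dvd_of_dvd_mul_left ?_
    rw [Nat.ordProj_mul_ordCompl_eq_self]
    exact h q hq.1 hq' k (hk.trans (card_subgroup_dvd_card _))
  · refine (FGS.kpi_le_card_of_conj ⊥ fun x hx => ⟨1, ?_⟩).trans (by rw [card_bot]; exact hm)
    by_contra h1
    obtain ⟨p, hp, hd⟩ := exists_prime_dvd_orderOf (x := x) (by rintro rfl; simp at h1)
    exact h0 ⟨p, hx p hp hd, hp, by
      simpa using h p (hx p hp hd) hp 1 (by simpa using hd.trans (orderOf_dvd_natCard x))⟩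

/-- Let G be a finite group, π a set of primes and m the π-part of the order of G. Then the number of conjugacy classes of G consisting of π-elements (elements whose order is divisible only by primes in π) is at most m. -/
theorem result {G : Type*} [Group G] [Finite G]
    (π : Set ℕ) (hπ : ∀ q ∈ π, q.Prime)
    (m : ℕ) (hm : m ∣ Nat.card G) (hmπ : ∀ q : ℕ, q.Prime → q ∣ m → q ∈ π)
    (hm' : ∀ q ∈ π, ¬ q ∣ Nat.card G / m) :
    Nat.card {C : ConjClasses G // ∀ q : ℕ, q.Prime → (∃ g : G, ConjClasses.mk g = C ∧ q ∣ orderOf g) → q ∈ π} ≤ m := by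
  refine aux m G π (Nat.pos_of_dvd_of_pos hm Nat.card_pos) fun q hq hq' k hk => ?_
  rw [← Nat.mul_div_cancel' hm] at hk
  exact ((hq'.coprime_iff_not_dvd.mpr (hm' q hq)).pow_left k).dvd_of_dvd_mul_right hk

end Cfsg.Agent.S4106
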