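import Mathlib
import Cfsg.Statements.S5619
import Cfsg.Agent.Golay.Loc

set_option autoImplicit false
open scoped Pointwise
open Cfsg

namespace Cfsg.Agent.S5619

open Cfsg.Agent.Golay
theorem aux {G : Type} [Group G] (e : G ≃* M9) : (∀ Q : Sylow 3 G, (Q : Subgroup G).Normal ∧
    Nat.card Q = 9 ∧ ∀ x ∈ (Q : Subgroup G), x ^ 3 = 1) ∧
    ∀ P : Sylow 2 G, Nonempty (P ≃* QuaternionGroup 2) := by
  have hG : Nat.card G = 72 := (Nat.card_congr e.toEquiv).trans card_M9
  have : Finite G := Nat.finite_of_card_ne_zero (by omega)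
  refine ⟨fun Q => ?_, fun P => ?_⟩
  · have h1 : Nat.card Q = 9 := by
      rw [Q.card_eq_multiplicity, hG]; decide +kernel
    have h2 : ∀ x ∈ (Q : Subgroup G), x ^ 3 = 1 := fun x hx => by
      have h3 : x ^ 9 = 1 := orderOf_dvd_iff_pow_eq_one.1 (h1 ▸ Subgroup.orderOf_dvd_natCard _ hx)
      refine e.injective (Subtype.ext ?_)
      rw [map_pow, map_one]
      exact M9_cube _ (e x).2 (congrArg Subtype.val (by rw [← map_pow, h3, map_one] : e x ^ 9 = 1))
    have h3 : ((Q : Subgroup G) : Set G) = {x | x ^ 3 = 1} := by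
      refine Set.eq_of_subset_of_ncard_le h2 ?_ (Set.toFinite _)
      rw [← Nat.card_coe_set_eq (↑(Q : Subgroup G) : Set G)]
      refine le_trans ?_ (M9_ncard_cube.trans h1.symm).le
      refine Set.ncard_le_ncard_of_injOn (fun x => (e x).1) (fun x hx => ⟨(e x).2, ?_⟩)
        (fun x _ y _ h => e.injective (Subtype.ext h)) (Set.toFinite _)
      exact congrArg Subtype.val (by rw [← map_pow, hx, map_one] : e x ^ 3 = 1)
    refine ⟨⟨fun x hx g => ?_⟩, h1, h2⟩
    rw [← SetLike.mem_coe, h3]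
    show _ ^ 3 = 1
    rw [conj_pow, h2 x hx]; group
  · obtain ⟨φ, hφ⟩ := M9_hom
    have h1 : Nat.card P = 8 := by
      rw [P.card_eq_multiplicity, hG]; decide +kernel
    refine equiv_of_ker ((φ.comp e.toMonoidHom).comp (P : Subgroup G).subtype)
      (by rw [h1, Nat.card_eq_fintype_card, QuaternionGroup.card]) fun g hg => ?_
    have h2 : g ^ 3 = 1 := Subtype.ext (e.injective (by
      rw [Subgroup.coe_pow, map_pow, hφ (e g) hg]; exact (map_one e).symm))
    have h3 : g ^ 8 = 1 := h1 ▸ pow_card_eq_one'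
    rw [show g = (g ^ 3) ^ 3 * (g ^ 8)⁻¹ by group, h2, h3]; group

/-- In the group of the length-24 code, the subgroup fixing a dodecad setwise and three of its points individually (a group of order 72) has a normal Sylow 3-subgroup that is elementary abelian of order 9, and its Sylow 2-subgroups are quaternion of order 8. -/
theorem result (d : Finset Cfsg.GolayPt) (hd : d ∈ Cfsg.dodecads) (p q r : Cfsg.GolayPt) (hp : p ∈ d) (hq : q ∈ d) (hr : r ∈ d) (hpq : p ≠ q) (hpr : p ≠ r) (hqr : q ≠ r) : (∀ Q : Sylow 3 ↥(MulAction.stabilizer Cfsg.M24 d ⊓ MulAction.stabilizer Cfsg.M24 p ⊓ MulAction.stabilizer Cfsg.M24 q ⊓ MulAction.stabilizer Cfsg.M24 r), (Q : Subgroup ↥(MulAction.stabilizer Cfsg.M24 d ⊓ MulAction.stabilizer Cfsg.M24 p ⊓ MulAction.stabilizer Cfsg.M24 q ⊓ MulAction.stabilizer Cfsg.M24 r)).Normal ∧ Nat.card ↥Q = 9 ∧ ∀ x ∈ (Q : Subgroup ↥(MulAction.stabilizer Cfsg.M24 d ⊓ MulAction.stabilizer Cfsg.M24 p ⊓ MulAction.stabilizer Cfsg.M24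 q ⊓ MulAction.stabilizer Cfsg.M24 r)), x ^ 3 = 1) ∧ ∀ P : Sylow 2 ↥(MulAction.stabilizer Cfsg.M24 d ⊓ MulAction.stabilizer Cfsg.M24 p ⊓ MulAction.stabilizer Cfsg.M24 q ⊓ MulAction.stabilizer Cfsg.M24 r), Nonempty (↥P ≃* QuaternionGroup 2) := by
  obtain ⟨e⟩ := equiv_St (dod_pt3_trans hd hp hq hr hpq hpr hqr) (K := MulAction.stabilizer M24 d ⊓
    MulAction.stabilizer M24 p ⊓ MulAction.stabilizer M24 q ⊓ MulAction.stabilizer M24 r)
    fun g => by simp [Subgroup.smul_def]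
  exact aux e

end Cfsg.Agent.S5619
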