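import Mathlib
import Cfsg.Statements.S3182
import Cfsg.Agent.GsC.Known
import Cfsg.Agent.Gs.Main

set_option autoImplicit false
open Cfsg

namespace Cfsg.Agent.S3182

open Subgroup Cfsg.Agent.GW Cfsg.Agent.LocalEven Cfsg.Agent.BG Cfsg.Agent.Gs Cfsg.Agent.GsC


/-- Simple groups with central Sylow 2-intersections. Let G be a non-abelian finite simple group in which the intersection of any two distinct Sylow 2-subgroups is contained in the centre of some Sylow 2-subgroup. Then G is isomorphic to PSL(2, q) for some prime power q ≡ 0, 3 or 5 mod 8; or G has abelian Sylow 2-subgroups and an involution t whose centralizer is a maximal subgroup of G and is the direct product of the subgroup generated by t with a subgroup E having a normal subgroup isomorphic to PSL(2, q), q odd and greater than 3, with trivial centralizer in E; or G is isomorphic to a Suzuki group Sz(2^(2m+1)) with m ≥ 1, or to PSU(3, 2^n) with n ≥ 2. -/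
theorem result {G : Type*} [Group G] [Finite G] [IsSimpleGroup G]
    (hG : ¬ IsMulCommutative G)
    (hCI : ∀ S T : Sylow 2 G, S ≠ T → ∃ U : Sylow 2 G,
      (S : Subgroup G) ⊓ (T : Subgroup G) ≤ (Subgroup.center ↥(U : Subgroup G)).map (U : Subgroup G).subtype) :
    (∃ (F : Type) (_ : Field F) (_ : Fintype F),
        (Fintype.card F % 8 = 0 ∨ Fintype.card F % 8 = 3 ∨ Fintype.card F % 8 = 5) ∧
        Nonempty (G ≃* Matrix.ProjectiveSpecialLinearGroup (Fin 2) F)) ∨
    ((∀ S : Sylow 2 G, IsMulCommutative ↥(S : Subgroup G)) ∧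
      ∃ t : G, orderOf t = 2 ∧ IsCoatom (Subgroup.centralizer ({t} : Set G)) ∧
        ∃ E : Subgroup G, Cfsg.IsInternalDirectProduct (Subgroup.zpowers t) E (Subgroup.centralizer ({t} : Set G)) ∧
          ∃ (F : Type) (_ : Field F) (_ : Fintype F), Odd (Fintype.card F) ∧ 3 < Fintype.card F ∧
            ∃ N : Subgroup ↥E, N.Normal ∧ Nonempty (↥N ≃* Matrix.ProjectiveSpecialLinearGroup (Fin 2) F) ∧
              Subgroup.centralizer (N : Set ↥E) = ⊥) ∨
    (∃ (m : ℕ) (F : Type) (_ : Field F) (_ : Fintype F), 1 ≤ m ∧ Fintype.card F = 2 ^ (2 * m + 1) ∧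
        Nonempty (G ≃* ↥(Cfsg.Lie.Sz F (2 ^ (m + 1))))) ∨
    (∃ (n : ℕ) (F : Type) (_ : Field F) (_ : Fintype F), 2 ≤ n ∧ Fintype.card F = 4 ^ n ∧
        Nonempty (G ≃* Cfsg.PSU 3 F (2 ^ n))) := by
  obtain ⟨S⟩ : Nonempty (Sylow 2 G) := inferInstance
  have hA : SC (OZ (S : Subgroup G)) := sc_OZ S fun T w hT hwS hwT hw hc hTw hD => by
    obtain ⟨U, hU⟩ := hCI S T hT.symm
    have h1 : (S : Subgroup G) ⊓ T < S := lt_of_le_of_ne inf_le_left fun e =>
      hc (le_cz_iff.1 (e.symm.le.trans (inf_le_right.trans hTw)))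
    obtain ⟨x, hx, hn, hx'⟩ := exists_mem_normalizer_of_lt S.isPGroup' h1
    have h2 : (U : Subgroup G) ≤ 𝐂((S : Subgroup G) ⊓ T) := fun u hu d hd => by
      obtain ⟨z, hz, rfl⟩ := hU hd
      exact (congrArg Subtype.val (mem_center_iff.1 hz ⟨u, hu⟩)).symm
    obtain ⟨k, hk⟩ := S.isPGroup' ⟨x, hx⟩
    obtain ⟨g, hg, h3⟩ := (isSylowIn_of_sylow_le U (h2.trans (cent_le_norm' _))).exists_conj_mem hn
      (congrArg Subtype.val hk)
    have h4 := (mem_normalizer_iff.1 (normalizer_le_normalizer_centralizer _ hg) x).2 (h2 h3)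
    exact hx' (hD ▸ ⟨hx, cent_le_cz (⟨hwS, hwT⟩ : w ∈ (S : Subgroup G) ⊓ T) h4⟩)
  rcases gold_cases hG (gold hG hA (OZ_ne_bot S.isPGroup' (syl_ne_bot hG S))) with
    h | ⟨F, _, _, m, h1, h2, e⟩ | h | ⟨F, _, _, h1, -, e⟩ | h
  · obtain ⟨F, _, _, -, h1, e⟩ := L2E_mod h
    exact .inl ⟨F, _, _, by omega, e⟩
  · exact .inr (.inr (.inl ⟨m, F, _, _, h1, h2, e⟩))
  · exact .inr (.inr (.inr h))
  · exact .inl ⟨F, _, _, .inr h1, e⟩
  · obtain ⟨t, ht⟩ := exists_inv hG
    obtain ⟨E, E₀, hE⟩ := h.shape t ht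
    obtain ⟨F, _, _, h1, h2, ⟨e⟩⟩ := JRC_known hE
    exact .inr (.inl ⟨JR_comm h, t, ht, h.max t ht, E, hE.prod, F, _, _, Nat.odd_iff.2 (by omega),
      by omega, E₀.subgroupOf E, hE.as.normal, ⟨(subgroupOfEquivOfLe hE.le).trans e⟩, hE.as.cent⟩)

end Cfsg.Agent.S3182
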