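import Mathlib
import Cfsg.Statements.S3380
import Cfsg.Agent.S0016
import Cfsg.Agent.S0519
import Cfsg.Agent.RankOne.Nilp
import Cfsg.Agent.Perm.PrimeDegree
import Cfsg.Agent.Perm.Small2
import Cfsg.Agent.Perm.PFixed
import Cfsg.Agent.Perm.FC4

set_option autoImplicit false
open Cfsg

namespace Cfsg.Agent.S3380

open Subgroup Cfsg.Agent.Perm

section
variable {G : Type*} [Group G] [Finite G] {p : ℕ} [hp : Fact p.Prime]

theorem cyc_of_uniq (hG : IsPGroup p G) [IsMulCommutative G]
    (h : ∀ H K : Subgroup G, Nat.card H = p → Nat.card K = p → H = K) : IsCyclic G := by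
  rcases Cfsg.Agent.S0016.result p hG h with h | ⟨-, n, ⟨e⟩⟩
  · exact h
  · have h1 : QuaternionGroup.a 1 * QuaternionGroup.xa 0 =
        (QuaternionGroup.xa 0 * QuaternionGroup.a 1 : QuaternionGroup (2 ^ n)) := by
      apply e.symm.injective
      rw [map_mul, map_mul, mul_comm']
    simp only [QuaternionGroup.a_mul_xa, QuaternionGroup.xa_mul_a, QuaternionGroup.xa.injEq] at h1
    have h2 : ((2 : ℕ) : ZMod (2 * 2 ^ n)) = 0 := by
      push_cast; linear_combination -h1
    rw [ZMod.natCast_eq_zero_iff] at h2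
    have h3 : 2 ^ n = 1 := by
      have := Nat.le_of_dvd (by norm_num) h2
      have := pow_pos (show 0 < 2 by norm_num) n
      omega
    rw [h3] at e
    haveI := QuaternionGroup.quaternionGroup_one_isCyclic
    exact isCyclic_of_surjective e.symm e.symm.surjective

theorem za_of_normal (hG : IsPGroup p G) (B : Subgroup G) [hB : B.Normal] (hc : IsMulCommutative B)
    (hn : ¬ IsCyclic B) : ∃ z a : G, z ∈ center G ∧ orderOf z = p ∧ a ^ p = 1 ∧ a ∉ zpowers z ∧
      ∀ g : G, a⁻¹ * (g * a * g⁻¹) ∈ zpowers z := by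
  haveI := hG.isNilpotent
  let E : Subgroup G :=
    { carrier := {b | b ∈ B ∧ b ^ p = 1}
      one_mem' := ⟨one_mem _, one_pow _⟩
      mul_mem' := fun {a b} ha hb => ⟨mul_mem ha.1 hb.1, by
        rw [(show Commute a b from congrArg Subtype.val (mul_comm' (⟨a, ha.1⟩ : B) ⟨b, hb.1⟩)).mul_pow,
          ha.2, hb.2, one_mul]⟩
      inv_mem' := fun {a} ha => ⟨inv_mem ha.1, by rw [inv_pow, ha.2, inv_one]⟩ }
  have hE : E.Normal := ⟨fun a ha g => ⟨hB.conj_mem a ha.1 g, by rw [conj_pow, ha.2]; simp⟩⟩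
  have hnot : ∀ z : G, orderOf z = p → ¬ E ≤ zpowers z := by
    intro z hz hle
    refine hn (cyc_of_uniq (hG.to_subgroup B) fun H K hH hK => ?_)
    have key : ∀ H : Subgroup B, Nat.card H = p → H.map B.subtype = zpowers z := fun H hH => by
      refine eq_of_le_of_card_ge ?_ (by rw [card_map_of_injective B.subtype_injective, hH, Nat.card_zpowers, hz])
      rintro _ ⟨x, hx, rfl⟩
      refine hle ⟨x.2, ?_⟩
      have := pow_card_eq_one' (x := (⟨x, hx⟩ : H))
      rw [hH] at this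
      exact congrArg (fun y : H => ((y : B) : G)) this
    exact map_injective B.subtype_injective ((key H hH).trans (key K hK).symm)
  have hE0 : E ≠ ⊥ := by
    have h0 : Nat.card G ≠ 1 := fun h => hn (by
      haveI := (Nat.card_eq_one_iff_unique.1 h).1
      infer_instance)
    obtain ⟨z, hz⟩ := exists_prime_orderOf_dvd_card' p ((hG.card_eq_or_dvd).resolve_left h0)
    intro e
    exact hnot z hz (e ▸ bot_le)
  obtain ⟨⟨z, hzE, hzc⟩, hz1⟩ := ne_bot_iff_exists_ne_one.1 (RankOne.inf_center_ne_bot hE hE0)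
  have hz1' : z ≠ 1 := fun e => hz1 (Subtype.ext e)
  have hzo : orderOf z = p := orderOf_eq_prime hzE.2 hz1'
  haveI : (zpowers z).Normal := ⟨fun n hn g => by
    rw [mem_center_iff.1 (zpowers_le.2 hzc hn) g, mul_inv_cancel_right]; exact hn⟩
  have h1 : E.map (QuotientGroup.mk' (zpowers z)) ≠ ⊥ := by
    rw [Ne, Subgroup.map_eq_bot_iff, QuotientGroup.ker_mk']; exact hnot z hzo
  obtain ⟨⟨_, ⟨a, ha, rfl⟩, hac⟩, ha1⟩ := ne_bot_iff_exists_ne_one.1 (RankOne.inf_center_ne_bot
    (hE.map _ (QuotientGroup.mk'_surjective _)) h1)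
  refine ⟨z, a, hzc, hzo, ha.2, fun h => ha1 (Subtype.ext ((QuotientGroup.eq_one_iff a).2 h)), fun g => ?_⟩
  rw [← QuotientGroup.eq_one_iff]
  have := mem_center_iff.1 hac (g : G ⧸ zpowers z)
  simp only [QuotientGroup.mk'_apply] at this
  simp [this]

theorem exists_za (hG : IsPGroup p G) (hnc : ¬ IsCyclic G) (hnq : ∀ n : ℕ, ¬ Nonempty (G ≃* QuaternionGroup n))
    (hnd : ∀ n : ℕ, ¬ Nonempty (G ≃* DihedralGroup n)) (hnsd : ¬ Cfsg.IsQuasiDihedral G) :
    ∃ z a : G, z ∈ center G ∧ orderOf z = p ∧ a ^ p = 1 ∧ a ∉ zpowers z ∧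
      ∀ g : G, a⁻¹ * (g * a * g⁻¹) ∈ zpowers z := by
  by_cases h : ∀ A : Subgroup G, A.Normal → IsMulCommutative A → IsCyclic A
  · exfalso
    by_cases hm : ∃ B : Subgroup G, IsMulCommutative B ∧ ¬ IsCyclic B
    · rcases (Cfsg.Agent.S0519.result p hG h hm).2 with ⟨n, h⟩ | ⟨n, -, h⟩ | h
      exacts [hnq n h, hnd n h, hnsd h]
    push Not at hm
    haveI : Nontrivial G := by
      by_contra h0
      rw [not_nontrivial_iff_subsingleton] at h0
      exact hnc inferInstance
    haveI := hG.center_nontrivial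
    obtain ⟨z, hz⟩ := exists_prime_orderOf_dvd_card' p (((hG.to_subgroup (center G)).card_eq_or_dvd).resolve_left
      Finite.one_lt_card.ne')
    have key : ∀ H : Subgroup G, Nat.card H = p → H = zpowers z.1 := fun H hH => by
      obtain ⟨s, hs, rfl⟩ := exists_zpowers_eq_of_card_prime H hH
      have hcomm : IsMulCommutative (closure {s, z.1}) := isMulCommutative_closure (by
        rintro x (rfl | rfl) y (rfl | rfl)
        exacts [rfl, mem_center_iff.1 z.2 _, (mem_center_iff.1 z.2 _).symm, rfl])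
      have := mem_zpowers_of_cyclic (hm _ hcomm) (x := z.1) (y := s) (subset_closure (by simp))
        (subset_closure (by simp)) (by rw [hs, orderOf_coe, hz])
      exact eq_of_le_of_card_ge (zpowers_le.2 this) (by rw [hH, Nat.card_zpowers, orderOf_coe, hz])
    rcases Cfsg.Agent.S0016.result p hG (fun H K hH hK => (key H hH).trans (key K hK).symm) with h | ⟨-, n, h⟩
    exacts [hnc h, hnq _ h]
  · push Not at h
    obtain ⟨B, hB, hc, hn⟩ := h
    exact za_of_normal hG B hc hn

end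


/-- Let a finite p-group G act faithfully and irreducibly on a non-trivial finite vector space V over the field with q elements (q prime), and suppose G is not cyclic, generalized quaternion, dihedral or semidihedral. Then G has a subgroup H of index p and V is the direct sum of p subspaces, each invariant under H, on none of which H acts faithfully, and which every element of G outside H permutes in a single p-cycle. -/
theorem result
    (q : ℕ) [Fact q.Prime] {V : Type*} [AddCommGroup V] [Module (ZMod q) V] [Finite V] [Nontrivial V]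
    {G : Type*} [Group G] [Finite G] (p : ℕ) [Fact p.Prime] (hG : IsPGroup p G)
    (ρ : G →* (V ≃ₗ[ZMod q] V)) (hρ : Function.Injective ρ)
    (hirr : ∀ W : Submodule (ZMod q) V, (∀ g : G, ∀ w ∈ W, ρ g w ∈ W) → W = ⊥ ∨ W = ⊤)
    (hnc : ¬ IsCyclic G) (hnq : ∀ n : ℕ, ¬ Nonempty (G ≃* QuaternionGroup n))
    (hnd : ∀ n : ℕ, ¬ Nonempty (G ≃* DihedralGroup n)) (hnsd : ¬ Cfsg.IsQuasiDihedral G) :
    ∃ (H : Subgroup G) (W : Fin p → Submodule (ZMod q) V), H.index = p ∧
      iSup W = ⊤ ∧ iSupIndep W ∧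
      (∀ h ∈ H, ∀ i, ∀ w ∈ W i, ρ h w ∈ W i) ∧
      (∀ i, ∃ h ∈ H, h ≠ 1 ∧ ∀ w ∈ W i, ρ h w = w) ∧
      ∀ g : G, g ∉ H → ∃ σ : Equiv.Perm (Fin p), orderOf σ = p ∧ ∀ i, (W i).map (ρ g : V →ₗ[ZMod q] V) = W (σ i) := by
  classical
  have hp : p.Prime := Fact.out
  obtain ⟨z, a, hzc, hzo, hap, haz, hcomm⟩ := exists_za hG hnc hnq hnd hnsd
  let C : G → Submodule (ZMod q) V := fun t => LinearMap.ker ((ρ t : V →ₗ[ZMod q] V) - LinearMap.id)
  have hC : ∀ t v, v ∈ C t ↔ ρ t v = v := fun t v => by simp [C, sub_eq_zero]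
  have hmul : ∀ s t v, ρ (s * t) v = ρ s (ρ t v) := fun s t v => by rw [map_mul]; rfl
  have hcen : ∀ w ∈ center G, w ≠ 1 → ∀ v, ρ w v = v → v = 0 := by
    intro w hw hw1 v hv
    rcases hirr (C w) (fun g x hx => (hC _ _).2 (by
      rw [← hmul, ← mem_center_iff.1 hw g, hmul, (hC _ _).1 hx])) with h | h
    · exact (Submodule.mem_bot _).1 (h ▸ (hC w v).2 hv)
    · exact absurd (hρ (by rw [map_one]; exact LinearEquiv.ext fun x => (hC w x).1 (h ▸ trivial))) hw1
  have hz1 : z ≠ 1 := fun e => hp.ne_one (by rw [← hzo, e, orderOf_one])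
  have hzp : z ^ p = 1 := hzo ▸ pow_orderOf_eq_one z
  have hpq : (p : ZMod q) ≠ 0 := by
    intro h0
    rw [ZMod.natCast_eq_zero_iff, Nat.prime_dvd_prime_iff_eq Fact.out hp] at h0
    subst h0
    letI : MulAction G V := MulAction.compHom V ρ
    have h1 := card_modEq_fixedBy (G := G) (α := V) (p := q) (g := z) (k := 1) (by simpa using hzp)
    have h2 : MulAction.fixedBy V z = {0} := by
      ext v
      exact ⟨fun h => hcen z hzc hz1 v h, fun h => by rw [h]; exact map_zero (ρ z)⟩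
    rw [h2, Set.ncard_singleton, Module.natCard_eq_pow_finrank (K := ZMod q), Nat.card_zmod] at h1
    have h3 : q ∣ 1 := (Nat.modEq_zero_iff_dvd.1 (h1.symm.trans (Nat.modEq_zero_iff_dvd.2
      (dvd_pow_self q Module.finrank_pos.ne'))))
    exact hp.ne_one (Nat.dvd_one.1 h3)
  obtain ⟨m, rfl⟩ : ∃ m, p = m + 1 := ⟨p - 1, by have := hp.pos; omega⟩
  let Z : ZMod (m + 1) → G := fun i => z ^ i.val
  have Zadd : ∀ i j, Z (i + j) = Z i * Z j := fun i j => by
    simp only [Z]; rw [ZMod.val_add, ← pow_add, ← pow_eq_pow_mod _ hzp]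
  have Zc : ∀ i g, g * Z i = Z i * g := fun i g => mem_center_iff.1 (pow_mem hzc _) g
  have Zinj : ∀ i, Z i = 1 → i = 0 := fun i h => by
    have := orderOf_dvd_of_pow_eq_one h
    rw [hzo] at this
    exact (ZMod.val_eq_zero i).1 (Nat.eq_zero_of_dvd_of_lt this (ZMod.val_lt i))
  have Z0 : Z 0 = 1 := by simp [Z]
  have Zsurj : ∀ w ∈ zpowers z, ∃ i, Z i = w := fun w hw => by
    obtain ⟨k, rfl⟩ := (mem_powers_iff_mem_zpowers.2 hw)
    exact ⟨k, by simp only [Z]; rw [ZMod.val_natCast, ← pow_eq_pow_mod _ hzp]⟩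
  have Zpow : ∀ i (k : ℕ), Z i ^ k = Z (k * i) := fun i k => by
    induction k with
    | zero => simp [Z0]
    | succ k ih => rw [pow_succ, ih, ← Zadd]; congr 1; push_cast; ring
  have Zsum : ∀ (c : ZMod (m + 1)), c ≠ 0 → ∀ v, ∑ i : ZMod (m + 1), ρ (Z (i * c)) v = 0 := fun c hc v => by
    refine hcen (Z c) (pow_mem hzc _) (fun e => hc (Zinj c e)) _ ?_
    rw [map_sum, ← Equiv.sum_comp (Equiv.addRight (1 : ZMod (m + 1))) (fun i => ρ (Z (i * c)) v)]
    refine Finset.sum_congr rfl fun i _ => ?_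
    rw [← hmul, ← Zadd]; congr 3; simp; ring
  let b : ZMod (m + 1) → G := fun i => a * Z i
  have bpow : ∀ i (k : ℕ), b i ^ k = a ^ k * Z (k * i) := fun i k => by
    rw [← Zpow]; exact (show Commute a (Z i) from Zc i a).mul_pow k
  let T : ZMod (m + 1) → V →ₗ[ZMod q] V := fun j => ∑ k : ZMod (m + 1), (ρ (b j ^ k.val) : V →ₗ[ZMod q] V)
  have hT : ∀ j v, T j v = ∑ k : ZMod (m + 1), ρ (b j ^ k.val) v := fun j v => by simp [T]
  have fixp : ∀ t v, ρ t v = v → ∀ k : ℕ, ρ (t ^ k) v = v := fun t v h k => by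
    induction k with
    | zero => simp
    | succ k ih => rw [pow_succ, hmul, h, ih]
  have T1 : ∀ j v, T j v ∈ C (b j) := fun j v => by
    rw [hC, hT, map_sum, ← Equiv.sum_comp (Equiv.addRight (1 : ZMod (m + 1))) (fun k => ρ (b j ^ k.val) v)]
    refine Finset.sum_congr rfl fun k _ => ?_
    have : b j ^ (m + 1) = 1 := by rw [bpow, hap, ZMod.natCast_self, zero_mul, Z0, one_mul]
    rw [← hmul, ← pow_succ', Equiv.coe_addRight, ZMod.val_add, ZMod.val_one, ← pow_eq_pow_mod _ this]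
  have T2 : ∀ j v, v ∈ C (b j) → T j v = ((m + 1 : ℕ) : ZMod q) • v := fun j v hv => by
    rw [hT, Finset.sum_congr rfl fun k _ => fixp _ _ ((hC _ _).1 hv) k.val]
    rw [Finset.sum_const, Finset.card_univ, ZMod.card, Nat.cast_smul_eq_nsmul]
  have T3 : ∀ i j v, i ≠ j → v ∈ C (b i) → T j v = 0 := fun i j v hij hv => by
    rw [hT, ← Zsum (j - i) (sub_ne_zero.2 hij.symm) v]
    refine Finset.sum_congr rfl fun k _ => ?_
    have : b j ^ k.val = Z (k * (j - i)) * b i ^ k.val := by
      rw [bpow, bpow, ← Zc, mul_assoc, ← Zadd, ZMod.natCast_zmod_val]; congr 2; ring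
    rw [this, hmul, fixp _ _ ((hC _ _).1 hv)]
  have T4 : ∀ v, ∑ j, T j v = ((m + 1 : ℕ) : ZMod q) • v := fun v => by
    simp only [hT]
    rw [Finset.sum_comm, Finset.sum_eq_single 0]
    · simp only [ZMod.val_zero, pow_zero, map_one, LinearEquiv.coe_one, id_eq]
      rw [Finset.sum_const, Finset.card_univ, ZMod.card, Nat.cast_smul_eq_nsmul]
    · intro k _ hk
      have := congrArg (ρ (a ^ k.val)) (Zsum k hk v)
      rw [map_sum, map_zero] at this
      rw [← this]
      refine Finset.sum_congr rfl fun j _ => ?_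
      rw [bpow, hmul, ZMod.natCast_zmod_val, mul_comm]
    · simp
  have hsup : ⨆ j, C (b j) = ⊤ := by
    rw [eq_top_iff]
    intro v _
    have : v = ((m + 1 : ℕ) : ZMod q)⁻¹ • ∑ j, T j v := by rw [T4, smul_smul, inv_mul_cancel₀ hpq, one_smul]
    rw [this]
    exact Submodule.smul_mem _ _ (Submodule.sum_mem _ fun j _ => Submodule.mem_iSup_of_mem j (T1 j v))
  choose t ht using fun g => Zsurj _ (hcomm g)
  have ht' : ∀ g, g * a * g⁻¹ = a * Z (t g) := fun g => by rw [ht]; group
  have hbt : ∀ g i, g * b i * g⁻¹ = b (i + t g) := fun g i => by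
    simp only [b]
    rw [add_comm, Zadd, ← mul_assoc a, ← ht', mul_assoc (g * a) g⁻¹, Zc i g⁻¹]
    simp only [mul_assoc]
  have binj : ∀ i j, b i = b j → i = j := fun i j h => by
    have h1 : Z i = Z j := mul_left_cancel h
    have : Z (i - j) = 1 := by
      have h2 := Zadd (i - j) j
      rw [sub_add_cancel, h1] at h2
      simpa using h2.symm
    exact sub_eq_zero.1 (Zinj _ this)
  let f : G →* Multiplicative (ZMod (m + 1)) := MonoidHom.mk' (fun g => Multiplicative.ofAdd (t g)) fun g h => by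
    rw [← ofAdd_add]
    congr 1
    apply binj
    rw [← zero_add (t (g * h)), ← hbt, add_comm (t g), ← hbt, ← zero_add (t h), ← hbt]; group
  have hker : ∀ g, g ∈ f.ker ↔ t g = 0 := fun g => Iff.rfl
  have hb1 : ∀ i, b i ≠ 1 := fun i e => haz (by
    rw [eq_inv_of_mul_eq_one_left e]; exact inv_mem (pow_mem (mem_zpowers z) _))
  have hmap : ∀ g i, (C (b i)).map (ρ g : V →ₗ[ZMod q] V) = C (b (i + t g)) := fun g i => by
    ext v
    rw [Submodule.mem_map_equiv, hC, hC, ← hbt, hmul (g * b i), hmul g, map_inv, LinearEquiv.eq_symm_apply]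
    rfl
  refine ⟨f.ker, fun i => C (b i), ?_, hsup, fun j => ?_, fun h hh (i : ZMod (m + 1)) w hw => ?_,
    fun (i : ZMod (m + 1)) => ?_, fun g hg => ?_⟩
  · rw [index_ker]
    haveI : Fact (Nat.card (Multiplicative (ZMod (m + 1)))).Prime := ⟨by simpa using hp⟩
    rcases f.range.eq_bot_or_eq_top_of_prime_card with h | h
    · exfalso
      have hac : a ∈ center G := mem_center_iff.2 fun g => by
        have h1 : f g = 1 := mem_bot.1 (h ▸ ⟨g, rfl⟩)
        have h2 := ht' g
        rw [show t g = 0 from h1, Z0, mul_one] at h2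
        exact mul_inv_eq_iff_eq_mul.1 h2
      obtain ⟨v, hv⟩ := exists_ne (0 : V)
      have : ⨆ j, C (b j) ≤ ⊥ := iSup_le fun j w hw =>
        hcen (b j) (mul_mem hac (pow_mem hzc _)) (hb1 j) w ((hC _ _).1 hw)
      exact hv (this (hsup ▸ trivial))
    · rw [h]; simp
  · rw [Submodule.disjoint_def]
    intro v h1 h2
    have h3 : (⨆ i, ⨆ (_ : i ≠ j), C (b i)) ≤ LinearMap.ker (T j) :=
      iSup_le fun i => iSup_le fun hi w hw => T3 i j w hi hw
    have h4 : T j v = 0 := h3 h2
    rw [T2 j v h1] at h4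
    exact (smul_eq_zero.1 h4).resolve_left hpq
  · have := hmap h i
    rw [(hker h).1 hh, add_zero] at this
    exact this.le (Submodule.mem_map_of_mem hw)
  · refine ⟨b i, (hker _).2 ?_, hb1 i, fun w hw => (hC _ _).1 hw⟩
    have := hbt (b i) i
    rw [mul_inv_cancel_right] at this
    exact left_eq_add.1 (binj _ _ this)
  · have key : orderOf (Equiv.addRight (t g) : Equiv.Perm (ZMod (m + 1))) = m + 1 := by
      refine orderOf_eq_prime ?_ fun e => hg ((hker g).2 ?_)
      · ext x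
        simp [Equiv.Perm.coe_pow]
      · simpa using congrArg (fun σ : Equiv.Perm (ZMod (m + 1)) => σ 0) e
    exact ⟨_, key, fun i => hmap g i⟩

end Cfsg.Agent.S3380
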