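import Mathlib
import Cfsg.Statements.S4477
import Cfsg.Agent.Isaacs.InvCount
import Cfsg.Agent.Isaacs.Berger
import Cfsg.Agent.Isaacs.Misc
import Cfsg.Agent.PGrp.IndexP
import Cfsg.Agent.PGrp.MaxClass2
-- import your own Cfsg.Agent.* helpers here

set_option autoImplicit false
open Cfsg

namespace Cfsg.Agent.S4477

open Cfsg.Agent.Char Cfsg.Agent.Isaacs Subgroup
open scoped ComplexConjugate

/-- central elements of order at most two -/
def om (G : Type*) [Group G] : Subgroup G where
  carrier := {x | x ∈ center G ∧ x * x = 1}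
  mul_mem' := fun {a b} ha hb => ⟨mul_mem ha.1 hb.1, by
    rw [mul_assoc, ← mul_assoc b, mem_center_iff.mp ha.1 b, mul_assoc, hb.2, mul_one, ha.2]⟩
  one_mem' := ⟨one_mem _, one_mul _⟩
  inv_mem' := fun {a} ha => ⟨inv_mem ha.1, by rw [← mul_inv_rev, ha.2, inv_one]⟩

theorem card_om_dvd (G : Type*) [Group G] [Finite G] :
    Nat.card (om G) ∣ Nat.card {x : G // orderOf x = 2} + 1 := by
  let _ : MulAction (om G) {s : G // s * s = 1} :=
    { smul := fun z s => ⟨z * s, by
        rw [mul_assoc, ← mul_assoc s.1, mem_center_iff.mp z.2.1 s, mul_assoc, s.2, mul_one, z.2.2]⟩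
      one_smul := fun s => Subtype.ext (one_mul _)
      mul_smul := fun a b s => Subtype.ext (mul_assoc _ _ _) }
  rw [← card_sq_one, Nat.card_congr (MulAction.selfEquivOrbitsQuotientProd (G := om G) fun s : {s : G // s * s = 1} =>
    eq_bot_iff.mpr fun z hz => Subtype.ext (mul_eq_right.mp (congrArg Subtype.val hz))), Nat.card_prod]
  exact Nat.dvd_mul_left _ _

theorem aux.{u} (n : ℕ) : ∀ (G : Type u) [Group G] [Finite G], Nat.card G = n → IsPGroup 2 G →
    Nat.card {x : G // orderOf x = 2} % 4 = 1 → IsCyclic G ∨ (commutator G).index = 4 := by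
  induction n using Nat.strong_induction_on with | h n ih =>
  intro G _ _ hn hG ht
  classical
  have := Fintype.ofFinite G
  have ev : ∀ (Q : Type u) [Group Q] [Finite Q], IsPGroup 2 Q → ∀ N : Subgroup Q, N.Normal → N ≠ ⊥ →
      ∃ z ∈ N, z ∈ om Q ∧ orderOf z = 2 := fun Q _ _ h N _ a => by
    obtain ⟨z, b, c, d⟩ := PGrp.exists_mem_center_orderOf_eq h N a
    exact ⟨z, b, ⟨c, mul_self_eq_one_iff.mpr (.inr d)⟩, d⟩
  have h0 : (⊤ : Subgroup G) ≠ ⊥ := fun e => by
    have : IsEmpty {x : G // orderOf x = 2} := ⟨fun x => by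
      have := x.2; rw [show x.1 = 1 from e.le (mem_top _), orderOf_one] at this; omega⟩
    simp at ht
  obtain ⟨z, -, z1, z2⟩ := ev G hG ⊤ inferInstance h0
  have z3 : zpowers z = om G := by
    obtain ⟨k, hk⟩ := PGrp.exists_card_eq_pow hG (om G)
    have a := card_om_dvd G
    refine PGrp.eq_of_le_of_card_le (zpowers_le.mpr z1) ?_
    rw [Nat.card_zpowers, z2, hk] at *
    rcases k with _ | _ | k
    · omega
    · omega
    · have := (Dvd.intro_left (2 ^ k) (by ring) : 4 ∣ 2 ^ (k + 1 + 1)).trans a; omega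
  have z4 : ∀ N : Subgroup G, N.Normal → z ∉ N → N = ⊥ := fun N a b => by_contra fun e => by
    obtain ⟨w, c, d, f⟩ := ev G hG N a e
    exact b (zpowers_le.mpr c ((PGrp.eq_of_le_of_card_le (zpowers_le.mpr d) (by
      rw [← z3, Nat.card_zpowers, Nat.card_zpowers, z2, f])).ge z1))
  have z5 : ∀ χ, IsIrrCharacter G χ → z ∉ charKer χ → charKer χ = ⊥ := fun χ h =>
    z4 _ (charKer_normal (isIrr_classFun h))
  by_cases hab : IsMulCommutative G
  · obtain ⟨χ, a, b⟩ := exists_irr_not_mem_charKer (z := z) fun e => by simp [e] at z2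
    have := isCyclic_center_of_faithful a (z5 χ a b)
    rw [center_eq_top] at this
    exact .inl (isCyclic_of_surjective _ topEquiv.surjective)
  right
  have c1 : zpowers z ≤ commutator G := zpowers_le.mpr (by_contra fun e => hab
    ((commutator_eq_bot_iff G).mp (z4 _ inferInstance e)))
  have c2 : zpowers z ≤ center G := zpowers_le.mpr z1.1
  have := normal_of_le_center' c2
  have := Fintype.ofFinite (G ⧸ zpowers z)
  have c3 : ¬ IsCyclic (G ⧸ zpowers z) := fun e => hab (MonoidHom.isMulCommutative_of_isCyclic_of_ker_le_center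
    (QuotientGroup.mk' (zpowers z)) (by rwa [QuotientGroup.ker_mk']))
  have hQ := hG.to_quotient (zpowers z)
  by_cases h1 : Nat.card {x : G ⧸ zpowers z // orderOf x = 2} % 4 = 1
  · rw [← PGrp.index_commutator_quotient _ c1]
    exact (ih _ (hn ▸ Core.card_quotient_lt _ fun e => by simp [zpowers_eq_bot.mp e] at z2) _ rfl hQ h1).resolve_left c3
  have h2 : 2 ∣ Nat.card {x : G ⧸ zpowers z // orderOf x = 2} + 1 := by
    obtain ⟨w, -, a, b⟩ := ev _ hQ ⊤ inferInstance fun e => c3 (by
      have := subsingleton_of_bot_eq_top e.symm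
      have := (Subgroup.subsingleton_iff).mp this
      infer_instance)
    exact (b ▸ orderOf_dvd_natCard _ a).trans (card_om_dvd _)
  have h3 := card_invol (G := G)
  have h4 := card_invol (G := G ⧸ zpowers z)
  rw [Finset.sum_congr rfl (g := fun ψ : IrrCharacter (G ⧸ zpowers z) => fsZ (fun g : G => ψ.1 g) *
    charDegree fun g : G => ψ.1 g) fun ψ _ => by
      rw [fsZ, fsZ, fsInd_eq_inner, fsInd_eq_inner, ← classInner_comp_surjective (QuotientGroup.mk' _)
        (QuotientGroup.mk'_surjective _)]; rfl, sum_irr_quotient _ fun χ => fsZ χ * (charDegree χ : ℤ)] at h4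
  rw [← Finset.sum_filter_add_sum_filter_not _ fun χ => zpowers z ≤ charKer χ.1, ← h4] at h3
  obtain ⟨χ, a, b⟩ : ∃ χ : IrrCharacter G, ¬ zpowers z ≤ charKer χ.1 ∧ ¬ 4 ∣ fsZ χ.1 * charDegree χ.1 := by
    by_contra! e
    have := Finset.dvd_sum (s := Finset.univ.filter fun χ : IrrCharacter G => ¬ zpowers z ≤ charKer χ.1)
      fun χ h => e χ (Finset.mem_filter.mp h).2
    omega
  have k0 := z5 _ χ.2 (mt zpowers_le.mpr a)
  have k1 : ∀ g, χ.1 g = χ.1 1 → g = 1 := fun g e => k0.le ((mem_charKer_iff (irr_isChar χ)).mpr e)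
  have hr : ∀ g, (χ.1 g).im = 0 := by_contra fun e => b (by simp [fsZ, fsInd_of_not_real χ.2 e])
  have hd : χ.1 1 = 2 := by
    obtain ⟨m, hm⟩ := hG.exists_card_eq
    obtain ⟨k, -, hk⟩ := (Nat.dvd_prime_pow Nat.prime_two).mp (hm ▸ Block.irr_degree_dvd χ)
    rcases k with _ | _ | k
    · exact absurd (c1.trans (commutator_le_charKer (irr_isChar χ) (by
        rw [← Block.irr_degree_cast, hk]; simp))) a
    · rw [← Block.irr_degree_cast, hk]; simp
    · exact absurd (Dvd.dvd.mul_left (by rw [hk]; exact Dvd.intro_left (2 ^ k) (by push_cast; ring)) _) b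
  have hχ := irr_top.mpr χ.2
  obtain ⟨H, ψ, -, p1, p2, p3⟩ := hχ.monomial (by have := hG.isNilpotent; infer_instance)
  have p4 : H.index = 2 := by
    have := p3.one
    rw [ind_one, p2, mul_one, hd, relIndex_top_right] at this
    exact_mod_cast this
  have := normal_of_index_eq_two p4
  have p5 : IsMulCommutative H := ⟨⟨fun a b => Subtype.ext (comm_of_commutator_eq_bot (fun x hx => k1 x
    ((((p1.chr.ker_comm p2).indc (commutator_le_left _ _) le_top norm_top).congr (p3.mono le_top)) x hx)) a.2 b.2)⟩⟩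
  have p6 : center G = zpowers z := le_antisymm (fun x hx => z3.ge ⟨hx, k1 _ (by
    have e1 := hχ.norm_of_center (mem_top x) hx
    have e2 := hχ.chr.mul_of_norm (mem_top x) (mem_top x) e1
    have e3 := Complex.mul_conj' (χ.1 x)
    rw [Complex.conj_eq_iff_im.mpr (hr x), e1, ← e2, hd] at e3
    rw [hd]; norm_num at e3; linear_combination e3 / 2)⟩) c2
  have p7 := PGrp.index_center_of_abelian_index_prime hG hab p5 p4
  have p8 := (center G).index_mul_card
  rw [p7, ← (commutator G).index_mul_card, p6, Nat.card_zpowers, z2] at p8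
  exact Nat.eq_of_mul_eq_mul_right (Nat.card_pos (α := commutator G)) (by omega)

/-- Let G be a finite 2-group whose number of involutions is congruent to 1 modulo 4. Then G is cyclic or its commutator subgroup has index 4. -/
theorem result {G : Type*} [Group G] [Finite G] (hG : IsPGroup 2 G) (ht : Nat.card {x : G // orderOf x = 2} % 4 = 1) : IsCyclic G ∨ (commutator G).index = 4 := by
  exact aux _ G rfl hG ht

end Cfsg.Agent.S4477
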