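import Mathlib
import Cfsg.Statements.S4249
import Cfsg.Agent.FGS.Kegel

set_option autoImplicit false
open Cfsg

namespace Cfsg.Agent.S4249

open Subgroup

/-- Let G be a finite group and p a prime such that G is not a p-group, and suppose the Hughes subgroup H_p(G), generated by all elements g with g^p ≠ 1, is a proper subgroup. Then H_p(G) is nilpotent and has index p in G. -/
theorem result {G : Type*} [Group G] [Finite G] (p : ℕ) (hp : p.Prime) (hG : ¬ IsPGroup p G)
    (hH : Subgroup.closure {g : G | g ^ p ≠ 1} ≠ ⊤) :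
    Group.IsNilpotent (Subgroup.closure {g : G | g ^ p ≠ 1}) ∧ (Subgroup.closure {g : G | g ^ p ≠ 1}).index = p := by
  have := Fact.mk hp
  set H := Subgroup.closure {g : G | g ^ p ≠ 1} with hHdef
  have hout : ∀ g, g ∉ H → g ^ p = 1 := fun g hg => by
    by_contra h; exact hg (subset_closure h)
  have hHn : H.Normal := by
    refine Core.normal_of_le_normalizer fun g _ => Transfer.mem_normalizer_of_conj_mem fun x hx => ?_
    refine closure_induction (fun y hy => subset_closure ?_) (by simp) (fun a b _ _ ha hb => ?_)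
      (fun a _ ha => ?_) hx
    · change _ ≠ _
      rw [conj_pow]
      exact fun e => hy (by simpa using e)
    · simpa [mul_assoc] using mul_mem ha hb
    · simpa [mul_assoc] using inv_mem ha
  have hq : IsPGroup p (G ⧸ H) := by
    intro y
    obtain ⟨g, rfl⟩ := QuotientGroup.mk'_surjective H y
    by_cases hg : g ∈ H
    · exact ⟨0, by simpa using hg⟩
    · exact ⟨1, by rw [pow_one, ← map_pow, hout g hg, map_one]⟩
  obtain ⟨K, hHK, hK⟩ := (eq_top_or_exists_le_coatom H).resolve_left hH |>.imp fun K h => And.symm h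
  have hs := QuotientGroup.mk'_surjective H
  have hk : (QuotientGroup.mk' H).ker ≤ K := by rwa [QuotientGroup.ker_mk']
  have hKn : K.Normal := by
    have := hq.isNilpotent
    have := Group.normalizerCondition_of_isNilpotent.normal_of_coatom _
      (Core.isCoatom_map_of_ker_le hs hK hk)
    rw [← comap_map_eq_self hk]
    infer_instance
  have hKi : K.index = p := FGS.isPGroup_iff_forall_prime.mp hq _
    (FGS.index_prime_of_normal_isCoatom hK) (index_dvd_of_le hHK)
  have hnil := FGS.nilpotent_of_index_prime hp G K hKn hKi fun g hg => hout g fun e => hg (hHK e)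
  suffices H = K from ⟨this ▸ hnil, this ▸ hKi⟩
  refine le_antisymm hHK fun y hy => ?_
  by_contra hyH
  obtain ⟨q, hq, hd, hqp⟩ : ∃ q : ℕ, q.Prime ∧ q ∣ Nat.card G ∧ q ≠ p := by
    by_contra hn
    push Not at hn
    exact hG (FGS.isPGroup_iff_forall_prime.mpr hn)
  have := Fact.mk hq
  obtain ⟨x, hx⟩ := exists_prime_orderOf_dvd_card' q hd
  have hcop := (Nat.coprime_primes hq hp).mpr hqp
  have hxH : x ∈ H := by
    by_contra h
    exact hq.one_lt.ne' (Nat.eq_one_of_dvd_coprimes hcop dvd_rfl
      (hx ▸ orderOf_dvd_of_pow_eq_one (hout x h)))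
  have hxy : (orderOf x).Coprime (orderOf y) :=
    hx ▸ hcop.coprime_dvd_right (orderOf_dvd_of_pow_eq_one (hout y hyH))
  have hc : Commute x y := by
    have h1 : (⟨x, hHK hxH⟩ : K) ∈ pCore q K := by
      obtain ⟨Q⟩ : Nonempty (Sylow q K) := inferInstance
      rw [Core.pCore_eq_sylow_of_nilpotent Q]
      exact FGS.mem_sylow_of_normal Q (k := 1) (by simpa using hx)
    have h2 : (⟨y, hy⟩ : K) ∈ pCore p K := by
      obtain ⟨Q⟩ : Nonempty (Sylow p K) := inferInstance
      rw [Core.pCore_eq_sylow_of_nilpotent Q]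
      obtain ⟨k, hk⟩ := FGS.exists_pow_of_dvd (k := 1) hp
        (by simpa using orderOf_dvd_of_pow_eq_one (hout y hyH) : orderOf y ∣ p ^ 1)
      exact FGS.mem_sylow_of_normal Q (k := k) (by simpa using hk)
    exact (congrArg Subtype.val (mem_centralizer_iff.mp (Core.pCore_le_centralizer_pCore hqp h1) _ h2)).symm
  have h1 : x * y ∉ H := fun e => hyH ((H.mul_mem_cancel_left hxH).mp e)
  have h2 := hout _ h1
  rw [hc.mul_pow, hout y hyH, mul_one] at h2
  exact hq.one_lt.ne' (Nat.eq_one_of_dvd_coprimes hcop dvd_rfl (hx ▸ orderOf_dvd_of_pow_eq_one h2))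

end Cfsg.Agent.S4249
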