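import Mathlib
import Cfsg.Statements.S4416
import Cfsg.Agent.PGrp.Extra2
-- import your own Cfsg.Agent.* helpers here

set_option autoImplicit false
open Cfsg

namespace Cfsg.Agent.S4416

/-- Classification of extraspecial 2-groups in intrinsic form. An extraspecial 2-group has order 2^(2m+1) for some m ≥ 1, and the number of its elements squaring to the identity is either 2^(2m) + 2^m or 2^(2m) − 2^m; two extraspecial 2-groups of the same order with the same number of such elements are isomorphic. (The two cases are the central products of m dihedral groups of order 8, and of m − 1 dihedral groups with one quaternion group.) -/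
theorem result (E : Type*) [Group E] [Finite E] (hE : Cfsg.IsExtraspecial 2 E) :
    (∃ m : ℕ, 1 ≤ m ∧ Nat.card E = 2 ^ (2 * m + 1) ∧
      (Nat.card {x : E // x ^ 2 = 1} = 2 ^ (2 * m) + 2 ^ m ∨ Nat.card {x : E // x ^ 2 = 1} = 2 ^ (2 * m) - 2 ^ m)) ∧
    ∀ (E' : Type*) [Group E'] [Finite E'], Cfsg.IsExtraspecial 2 E' → Nat.card E' = Nat.card E →
      Nat.card {x : E' // x ^ 2 = 1} = Nat.card {x : E // x ^ 2 = 1} → Nonempty (E ≃* E') := by
  have : Fact (Nat.Prime 2) := ⟨Nat.prime_two⟩
  obtain ⟨m, D, a, -, c⟩ := PGrp.exists_cext_two hE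
  have hd := PGrp.finrank_fin_fun_zmod 2 (2 * (m + 1))
  refine ⟨⟨m + 1, by omega, c, ?_⟩, fun E' _ _ hE' hc h => ?_⟩
  · rw [D.card_sq_eq_one]
    by_cases h : Orth.IsPlus D.Q
    · exact Or.inl (PGrp.nv_of_isPlus a h hd)
    · exact Or.inr (Nat.eq_sub_of_add_eq (PGrp.nv_of_not_isPlus a h hd))
  · obtain ⟨m', D', a', -, c'⟩ := PGrp.exists_cext_two hE'
    obtain rfl : m = m' := by
      rw [c, c'] at hc
      have := Nat.pow_right_injective le_rfl hc
      omega
    refine D.nonempty_equiv_of_isPlus_iff D' a a' rfl ?_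
    rw [D.card_sq_eq_one, D'.card_sq_eq_one] at h
    have hpos : 0 < 2 ^ (m + 1) := pow_pos two_pos _
    constructor
    · intro h1
      by_contra h2
      have h3 := PGrp.nv_of_isPlus a h1 hd
      have h4 := PGrp.nv_of_not_isPlus a' h2 hd
      omega
    · intro h1
      by_contra h2
      have h3 := PGrp.nv_of_isPlus a' h1 hd
      have h4 := PGrp.nv_of_not_isPlus a h2 hd
      omega

end Cfsg.Agent.S4416
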