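import Mathlib
import Cfsg.Statements.S0948
import Cfsg.Agent.Block.Klein
-- import your own Cfsg.Agent.* helpers here

set_option autoImplicit false
open Cfsg

namespace Cfsg.Agent.S0948

open Cfsg.Agent.Block Cfsg.Agent.Char

/-- Let the finite group G have a Sylow 2-subgroup P that is a Klein four-group, suppose all involutions of G are conjugate, and fix a maximal ideal M of the algebraic integers containing 2. Then the principal block consists of exactly four irreducible characters, the principal character and ζ₂, ζ₃, ζ₄, and there is a sign ε such that for every involution z: ζ₂ z = 1, ζ₃ z = ε, ζ₄ z = -1; moreover ζ₂ 1 ≡ 1, ζ₃ 1 ≡ ε, ζ₄ 1 ≡ -1 (mod 4), and 1 + ζ₂ y + ε ζ₃ y - ζ₄ y = 0 for every y of odd order. -/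
theorem result {G : Type*} [Group G] [Finite G] (M : Ideal Cfsg.AlgInt) (hM : Cfsg.IsPModular 2 M) (P : Sylow 2 G) (hP : IsKleinFour (P : Subgroup G)) (hone : ∀ s t : G, orderOf s = 2 → orderOf t = 2 → IsConj s t) : ∃ ζ₂ ζ₃ ζ₄ : Cfsg.IrrCharacter G, ∃ ε : ℤ, (ε = 1 ∨ ε = -1) ∧ (ζ₂ : G → ℂ) ≠ (fun _ => 1) ∧ (ζ₃ : G → ℂ) ≠ (fun _ => 1) ∧ ζ₂ ≠ ζ₃ ∧ ζ₂ ≠ ζ₄ ∧ ζ₃ ≠ ζ₄ ∧ Cfsg.principalBlock M G = {χ : Cfsg.IrrCharacter G | (χ : G → ℂ) = (fun _ => 1) ∨ χ = ζ₂ ∨ χ = ζ₃ ∨ χ = ζ₄} ∧ (∀ z : G, orderOf z = 2 → (ζ₂ : G → ℂ) z = 1 ∧ (ζ₃ : G → ℂ) z = (ε : ℂ) ∧ (ζ₄ : G → ℂ) z = -1) ∧ (4 : ℤ) ∣ (Cfsg.charDegree (ζ₂ : G → ℂ) : ℤ) - 1 ∧ (4 : ℤ) ∣ (Cfsg.charDegree (ζ₃ : G → ℂ) : ℤ) - ε ∧ (4 : ℤ) ∣ (Cfsg.charDegree (ζ₄ : G → ℂ) : ℤ) + 1 ∧ ∀ y : G, Odd (orderOf y) → 1 + (ζ₂ : G → ℂ) y + (ε : ℂ) * (ζ₃ : G → ℂ) y - (ζ₄ : G → ℂ) y = 0 := by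
  classical
  obtain ⟨t, htP, ht⟩ := Inv.exists_two_mem_of_even (H := (P : Subgroup G))
    (by rw [hP.card_four]; norm_num)
  obtain ⟨hle, hC⟩ := complement_centralizer_of_klein P hP htP (Inv.ne_one_of_two ht)
  have hP2 : ∀ x ∈ (P : Subgroup G), x ≠ 1 → orderOf x = 2 := fun x hx h1 =>
    Inv.two_of_mul_self h1 (congrArg Subtype.val (IsKleinFour.mul_self (⟨x, hx⟩ : (P : Subgroup G))))
  have hconst : ∀ χ ∈ principalBlock M G, ∀ g, 2 ∣ orderOf g → χ.1 g = χ.1 t := by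
    intro χ hχ g hg
    obtain ⟨x, hx⟩ := exists_isPPart Nat.prime_two g
    obtain ⟨c, hc⟩ := Inv.exists_conj_le_sylow P (pPart_isPGroup hx)
    refine principal_const_on_section hM hC hχ hx (hone _ _ ht ?_)
    rw [← Inv.orderOf_conj c]
    refine hP2 _ (hc x (Subgroup.mem_zpowers x)) fun h => ?_
    exact (pPart_eq_one_iff Nat.prime_two hx).1 (by simpa using h) hg
  choose n hn using fun χ : IrrCharacter G =>
    int_of_sq_mem_ker (irr_isChar χ) (g := t) (by rw [Inv.mul_self_of_two ht])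
  have hf : (Nat.card (Subgroup.centralizer ({t} : Set G))).factorization 2 = 2 := by
    have := (P.subtype hle).card_eq_multiplicity
    rw [Sylow.coe_subtype, Nat.card_congr (Subgroup.subgroupOfEquivOfLe hle).toEquiv,
      hP.card_four] at this
    exact Nat.pow_right_injective (le_refl 2) (this.symm.trans (by norm_num))
  have h1 := sum_principal_sq hM ⟨1, ht⟩ hC
  rw [hf] at h1
  simp only [hn, map_intCast] at h1
  set T := Finset.univ.filter (· ∈ principalBlock M G) with hT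
  have hT1 : oneIrr G ∈ T := Finset.mem_filter.2 ⟨Finset.mem_univ _, oneIrr_mem_principalBlock hM⟩
  have hn1 : n (oneIrr G) = 1 := by
    have := hn (oneIrr G)
    simp only [coe_oneIrr] at this
    exact_mod_cast this.symm
  obtain ⟨h2, h3⟩ := int_four (T := T) (n := n) (k := 4) (fun χ hχ h0 =>
    principal_ne_zero_of_one_section hM hconst (Finset.mem_filter.1 hχ).2 (by simp [hn, h0]))
    le_rfl (by exact_mod_cast h1) fun _ => ⟨_, hT1, hn1⟩
  have hvan : ∀ y : G, Odd (orderOf y) → 1 + ∑ χ ∈ T.erase (oneIrr G), χ.1 y * n χ = 0 := by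
    intro y hy
    have := weak_block_orth hM (isV_blockIdem hM (isPBlock_principalBlock (G := G))) (x := y) (y := t)
      (by rwa [← even_iff_two_dvd, Nat.not_even_iff_odd]) (by rw [ht])
    rw [← Finset.add_sum_erase _ _ hT1] at this
    simpa [hn, hn1, coe_oneIrr] using this
  have hs : (T.erase (oneIrr G)).card = 3 := by rw [Finset.card_erase_of_mem hT1, h3]
  have hd : 1 + ∑ χ ∈ T.erase (oneIrr G), (charDegree χ.1 : ℤ) * n χ = 0 := by
    have := hvan 1 (by simp)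
    simp only [← irr_degree_cast] at this
    exact_mod_cast this
  have hpos : ∀ χ : IrrCharacter G, (1 : ℤ) ≤ charDegree χ.1 := fun χ => by
    exact_mod_cast Nat.pos_of_ne_zero (irr_degree_ne_zero χ)
  obtain ⟨ζ₄, h4, h4'⟩ : ∃ χ ∈ T.erase (oneIrr G), n χ = -1 := by
    by_contra! h
    have : 0 ≤ ∑ χ ∈ T.erase (oneIrr G), (charDegree χ.1 : ℤ) * n χ :=
      Finset.sum_nonneg fun χ hχ => by
        rw [(h2 χ (Finset.mem_of_mem_erase hχ)).resolve_right (h χ hχ)]; positivity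
    omega
  obtain ⟨ζ₂, h5, h5'⟩ : ∃ χ ∈ T.erase (oneIrr G), n χ = 1 := by
    by_contra! h
    have : ∑ χ ∈ T.erase (oneIrr G), (charDegree χ.1 : ℤ) * n χ ≤ ∑ _χ ∈ T.erase (oneIrr G), -1 :=
      Finset.sum_le_sum fun χ hχ => by
        rw [(h2 χ (Finset.mem_of_mem_erase hχ)).resolve_left (h χ hχ)]
        have := hpos χ
        omega
    rw [Finset.sum_const, hs] at this
    simp at this
    omega
  have h24 : ζ₂ ≠ ζ₄ := by rintro rfl; omega
  have h6 : ζ₂ ∈ (T.erase (oneIrr G)).erase ζ₄ := Finset.mem_erase.2 ⟨h24, h5⟩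
  obtain ⟨ζ₃, h7⟩ := Finset.card_eq_one.1 (show (((T.erase (oneIrr G)).erase ζ₄).erase ζ₂).card = 1 by
    rw [Finset.card_erase_of_mem h6, Finset.card_erase_of_mem h4, hs])
  have h8 : ζ₃ ∈ ((T.erase (oneIrr G)).erase ζ₄).erase ζ₂ := by rw [h7]; simp
  simp only [Finset.mem_erase] at h8
  have hall : ∀ z : G, orderOf z = 2 → ∀ χ : IrrCharacter G, χ.1 z = n χ := fun z hz χ => by
    rw [← hn, classFun_isConj (irr_classFun χ) (hone _ _ hz ht)]
  have hdvd : ∀ χ : IrrCharacter G, (4 : ℤ) ∣ (charDegree χ.1 : ℤ) - n χ := fun χ => by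
    have := dvd_degree_sub_of_const (P := (P : Subgroup G)) (irr_isChar χ) (n := n χ)
      fun x hx h1 => hall x (hP2 x hx h1) χ
    rwa [hP.card_four] at this
  refine ⟨ζ₂, ζ₃, ζ₄, n ζ₃, h2 _ h8.2.2.2, fun h => Finset.ne_of_mem_erase h5 (Subtype.ext h),
    fun h => h8.2.2.1 (Subtype.ext h), h8.1.symm, h24, h8.2.1, ?_, ?_, ?_, hdvd _, ?_, ?_⟩
  · ext χ
    have : χ ∈ principalBlock M G ↔ χ ∈ T := by simp [hT]
    rw [this, ← Finset.insert_erase hT1, ← Finset.insert_erase h4, ← Finset.insert_erase h6, h7]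
    simp only [Finset.mem_insert, Finset.mem_singleton, Set.mem_ofPred_eq]
    have : χ = oneIrr G ↔ χ.1 = fun _ => 1 := Subtype.ext_iff
    tauto
  · intro z hz
    simp [hall z hz, h4', h5']
  · simpa [h5'] using hdvd ζ₂
  · simpa [h4'] using hdvd ζ₄
  · intro y hy
    have := hvan y hy
    rw [← Finset.add_sum_erase _ _ h4, ← Finset.add_sum_erase _ _ h6, h7, Finset.sum_singleton,
      h4', h5'] at this
    push_cast at this
    linear_combination this

end Cfsg.Agent.S0948
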