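import Mathlib
import Cfsg.Statements.S3277
import Cfsg.Agent.Inv.FourC
import Cfsg.Agent.S1230
import Cfsg.Agent.Perm.ZassAut
import Cfsg.Agent.Perm.Small3
import Cfsg.Agent.Transfer.Focal

set_option autoImplicit false
open Cfsg

namespace Cfsg.Agent.S3277

/-- Let G be a finite group containing an involution whose centralizer is elementary abelian of order 4. If G has no normal 2-complement and no normal elementary abelian 2-subgroup of order 2 or 4, then G is isomorphic to the alternating group of degree 5 (that is, to PSL(2, 5)). -/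
theorem result {G : Type*} [Group G] [Finite G] (x : G) (hx : orderOf x = 2)
    (hC4 : Nat.card ↥(Subgroup.centralizer ({x} : Set G)) = 4) (hCe : ∀ c ∈ Subgroup.centralizer ({x} : Set G), c ^ 2 = 1)
    (hnc : ¬ Cfsg.HasNormalPComplement 2 G)
    (hne : ∀ E : Subgroup G, E.Normal → Cfsg.IsElementaryAbelian 2 E → Nat.card ↥E ≠ 2 ∧ Nat.card ↥E ≠ 4) :
    Nonempty (G ≃* ↥(alternatingGroup (Fin 5))) := by
  haveI : Fact (Nat.Prime 2) := ⟨Nat.prime_two⟩
  set V := Subgroup.centralizer ({x} : Set G) with hV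
  have hK : IsKleinFour V := Inv.isKleinFour_of_card_of_mul_self hC4 (fun c hc => by rw [← pow_two]; exact hCe c hc)
  have hxV : x ∈ V := Inv.mem_centralizer_single.mpr (Commute.refl x)
  have hxx := Inv.mul_self_of_two hx
  have hx1 : x ≠ 1 := by rintro rfl; simp at hx
  obtain ⟨S, hS⟩ := (Inv.four_isPGroup hK).exists_le_sylow
  rcases hS.eq_or_lt with h | h
  · have hK' : IsKleinFour (S : Subgroup G) := h ▸ hK
    rcases Inv.four_sylow_cases S hK' with h1 | ⟨-, h1⟩
    · exact absurd (Transfer.hasNormalPComplement_of_normalizer_le_centralizer S h1.1) hnc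
    obtain ⟨F, _, _, hF, ⟨e⟩⟩ := S1230.result S (fun hc => by
        have := Inv.card_le_two_of_cyclic_exp hc (fun y hy => Inv.four_mul_self hK' hy)
        rw [Inv.four_card hK'] at this; omega)
      (fun hn => (hne S hn ⟨⟨⟨fun a b => Subtype.ext (Inv.four_commute hK' a.2 b.2)⟩⟩,
        fun a ha => by rw [pow_two]; exact Inv.four_mul_self hK' ha⟩).2 (Inv.four_card hK'))
      (fun t ht => by
        obtain ⟨g, rfl⟩ := isConj_iff.mp (Inv.isConj_of_card_classes_eq_one h1 hx ht)
        have key : ∀ c ∈ Subgroup.centralizer ({g * x * g⁻¹} : Set G), c * c = 1 := fun c hc => by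
          have h2 : g⁻¹ * c * g⁻¹⁻¹ ∈ V := Inv.mem_centralizer_single.mpr (by
            have := Commute.map (Inv.mem_centralizer_single.mp hc) (MulAut.conj g⁻¹)
            simpa [mul_assoc] using this)
          have := Inv.conj_mul_self (g := g) (Inv.four_mul_self hK h2)
          simpa [mul_assoc] using this
        exact ⟨⟨⟨fun a b => Subtype.ext (Inv.commute_of_mul_self (key a a.2) (key b b.2) (key _ (mul_mem a.2 b.2)))⟩⟩,
          fun c hc => by rw [pow_two]; exact key c hc⟩)
    obtain ⟨e'⟩ := Classical.PSL2Basic.psl_equiv_A5 (F := F) (Or.inl (by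
      rw [Nat.card_eq_fintype_card, hF]; exact Inv.four_card hK'))
    exact ⟨e.trans e'⟩
  · exfalso
    obtain ⟨z, hz, hz1, hzx, hc⟩ := Inv.exists_commute_conj hx hK hxV (fun P _ hP => hP) S h
    have h2 := Inv.normalClosure_sq (Inv.four_mul_self hK hz) hc
    set N := Subgroup.normalClosure ({z} : Set G)
    have hN : N.Normal := Subgroup.normalClosure_normal
    have hzN : z ∈ N := Subgroup.subset_normalClosure rfl
    have hcm : ∀ a ∈ N, ∀ b ∈ N, Commute a b := fun a ha b hb =>
      Inv.commute_of_mul_self (h2 a ha) (h2 b hb) (h2 _ (mul_mem ha hb))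
    have hle : Nat.card N ≤ 4 := by
      by_cases hxN : x ∈ N
      · exact hC4 ▸ Subgroup.card_le_of_le (fun a ha => Inv.mem_centralizer_single.mpr (hcm a ha x hxN))
      have hfix : ∀ a ∈ N, Commute a x → a = 1 ∨ a = z := fun a ha hax => by
        rcases Inv.four_cases hK hz hxV hz1 hx1 hzx (Inv.mem_centralizer_single.mpr hax) with h | h | h | h
        · exact Or.inl h
        · exact Or.inr h
        · exact absurd (h ▸ ha) hxN
        · exact absurd ((N.mul_mem_cancel_left hzN).mp (h ▸ ha)) hxN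
      have h3 := Perm.card_le_two_mul_ncard (MulAut.conjNormal (H := N) x).toMonoidHom (z := ⟨z, hzN⟩) (fun a ha =>
        (hfix a a.2 (Inv.commute_iff_conj.mpr (congrArg Subtype.val ha)).symm).imp Subtype.ext Subtype.ext)
      have h4 : (Set.range fun h : N => h⁻¹ * (MulAut.conjNormal (H := N) x).toMonoidHom h) ⊆ {1, ⟨z, hzN⟩} := by
        rintro _ ⟨a, rfl⟩
        refine (hfix _ (Subtype.prop _) (Inv.commute_iff_conj.mpr ?_).symm).imp Subtype.ext Subtype.ext
        show x * ((a : G)⁻¹ * (x * a * x⁻¹)) * x⁻¹ = (a : G)⁻¹ * (x * a * x⁻¹)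
        have ha : (a : G)⁻¹ = a := inv_eq_of_mul_eq_one_right (h2 a a.2)
        have hx' : x⁻¹ = x := inv_eq_of_mul_eq_one_right hxx
        rw [ha, (hcm a a.2 _ (hN.conj_mem a a.2 x)).eq]
        calc x * (x * a * x⁻¹ * a) * x⁻¹ = (x * x) * a * (x⁻¹ * a * x⁻¹) := by group
          _ = a * (x * a * x⁻¹) := by rw [hxx, one_mul, hx']
          _ = _ := (hcm a a.2 _ (hN.conj_mem a a.2 x)).eq
      have h5 := Set.ncard_le_ncard h4
      have h6 := Set.ncard_insert_le (1 : N) {⟨z, hzN⟩}
      rw [Set.ncard_singleton] at h6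
      omega
    obtain ⟨n, hn⟩ := IsPGroup.iff_card.mp (show IsPGroup 2 N from fun a => ⟨1, Subtype.ext (by
      simpa [pow_two] using h2 a a.2)⟩)
    have h7 := hne N hN ⟨⟨⟨fun a b => Subtype.ext (hcm a a.2 b b.2)⟩⟩, fun a ha => by rw [pow_two]; exact h2 a ha⟩
    rcases n with _ | _ | _ | n
    · have := Subgroup.card_eq_one.mp (by simpa using hn)
      rw [this] at hzN; exact hz1 hzN
    · exact h7.1 (by simpa using hn)
    · exact h7.2 (by simpa using hn)
    · rw [hn, pow_add, pow_add, pow_add] at hle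
      have : 0 < 2 ^ n := by positivity
      omega

end Cfsg.Agent.S3277
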