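import Mathlib
import Cfsg.Statements.S1249
import Cfsg.Agent.Inv.Pairs
import Cfsg.Agent.LocalEven.SylowIn

set_option autoImplicit false
open Cfsg

namespace Cfsg.Agent.S1249

/-- Let P and Q be Sylow p-subgroups of the finite group G both containing the subgroup A. If A is strongly closed in P, then A is strongly closed in Q. -/
theorem result {G : Type*} [Group G] [Finite G] {p : ℕ} [Fact p.Prime] (P Q : Sylow p G) (A : Subgroup G) (hAQ : A ≤ Q) (hA : Cfsg.IsStronglyClosed A (P : Subgroup G)) : Cfsg.IsStronglyClosed A (Q : Subgroup G) := by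
  obtain ⟨h, rfl⟩ := MulAction.exists_smul_eq G P Q
  refine ⟨hAQ, fun x hx g hg => ?_⟩
  have h1 : h⁻¹ ∈ Subgroup.normalizer (A : Set G) := by
    refine LocalEven.mem_normalizer_of_cj_le (LocalEven.cj_le_iff'.2 fun a ha => hA.2 a ha _ ?_)
    rw [inv_inv]; exact Inv.mem_sylow_smul.1 (hAQ ha)
  have h2 := hA.2 x hx (h⁻¹ * g) (by
    have : h⁻¹ * (g * x * g⁻¹) * h ∈ (P : Subgroup G) := Inv.mem_sylow_smul.1 hg
    simpa [mul_assoc] using this)
  simpa [mul_assoc] using LocalEven.inv_conj_mem_of_mem_normalizer h1 h2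

end Cfsg.Agent.S1249
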