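import Mathlib
import Cfsg.Statements.S1251
import Cfsg.Agent.Inv.ZStar
import Cfsg.Agent.S1249

set_option autoImplicit false
open Cfsg

namespace Cfsg.Agent.S1251

/-- Let S be a Sylow 2-subgroup of the finite group G and A ≤ S strongly closed in S. If H is a subgroup normalized by A with no nontrivial normal subgroup of odd order and A ∩ H = 1, then A ≤ C_G(H). -/
theorem result {G : Type*} [Group G] [Finite G] (S : Sylow 2 G) (A : Subgroup G) (hA : Cfsg.IsStronglyClosed A (S : Subgroup G)) (H : Subgroup G) (hAH : A ≤ Subgroup.normalizer (H : Set G)) (hO : Cfsg.oddCore ↥H = ⊥) (hdisj : A ⊓ H = ⊥) : A ≤ Subgroup.centralizer (H : Set G) := by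
  have : Fact (Nat.Prime 2) := ⟨Nat.prime_two⟩
  have hA2 : IsPGroup 2 A := S.2.to_le hA.1
  intro a ha
  obtain ⟨k, hk⟩ := LocalEven.isPGroup_iff_mem.1 hA2 a ha
  have hk' : a ^ 2 ^ k ∈ Subgroup.centralizer (H : Set G) := hk ▸ one_mem _
  clear hk
  induction k generalizing a with
  | zero => simpa using hk'
  | succ k ih =>
    have h2 := ih (mul_mem ha ha) (by rwa [← sq, ← pow_mul, ← pow_succ'])
    intro x hx
    have := Inv.zstar_aut (H.normalizerMonoidHom ⟨a, hAH ha⟩) (by
      ext x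
      have := h2 x x.2
      change a * (a * x * a⁻¹) * a⁻¹ = x
      calc _ = a * a * x * (a * a)⁻¹ := by group
        _ = x := by rw [← this]; group) (fun h hh => ?_) ⟨x, hx⟩
    · rw [hO, Subgroup.mem_bot] at this
      have h3 : a * x * a⁻¹ * x⁻¹ = 1 := congrArg Subtype.val this
      exact (Inv.commute_iff_conj.2 (mul_inv_eq_one.1 h3)).symm
    · have h3 : Commute a (h * (a * h * a⁻¹)⁻¹) := Inv.commute_iff_conj.2 (congrArg Subtype.val hh)
      have h4 := h3.mul_right (Commute.refl a)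
      rw [show h * (a * h * a⁻¹)⁻¹ * a = h * a * (h : G)⁻¹ by group] at h4
      set N := Subgroup.normalizer (H : Set G)
      obtain ⟨T, hT, hAT⟩ := LocalEven.exists_isSylowIn_le hA2 hAH
      obtain ⟨R, hR⟩ := hT.pgrp.exists_le_sylow
      have hAR := S1249.result S R A (hAT.trans hR) hA
      have h5 : IsPGroup 2 (Subgroup.zpowers a) := hA2.to_le (Subgroup.zpowers_le.2 ha)
      have h6 : IsPGroup 2 (Subgroup.zpowers (h * a * (h : G)⁻¹)) :=
        LocalEven.cj_zpowers (h : G) a ▸ LocalEven.isPGroup_cj _ h5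
      have hhN : (h : G) ∈ N := Subgroup.le_normalizer h.2
      obtain ⟨y, hy, h7⟩ := hT.exists_cj_le (Inv.isPGroup_sup_of_commute h5 h6 fun a ha b hb =>
        (Inv.commute_of_mem_zpowers (Inv.commute_of_mem_zpowers h4.symm hb).symm ha).eq)
        (sup_le (Subgroup.zpowers_le.2 (hAH ha)) (Subgroup.zpowers_le.2
          (mul_mem (mul_mem hhN (hAH ha)) (inv_mem hhN))))
      have h8 := hAR.2 a ha y (hR (h7 (LocalEven.conj_mem_cj
        (Subgroup.mem_sup_left (Subgroup.mem_zpowers _)))))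
      have h9 := hAR.2 a ha (y * h) (hR (h7 (by
        simpa [mul_assoc] using LocalEven.conj_mem_cj (g := y)
          (Subgroup.mem_sup_right (Subgroup.mem_zpowers (h * a * (h : G)⁻¹))))))
      have h10 : y * (h * (a * h * a⁻¹)⁻¹) * y⁻¹ ∈ A ⊓ H := by
        refine ⟨?_, LocalEven.conj_mem_of_mem_normalizer hy (mul_mem h.2 (inv_mem
          (LocalEven.conj_mem_of_mem_normalizer (hAH ha) h.2)))⟩
        have := mul_mem h9 (inv_mem h8)
        rwa [show y * h * a * (y * h)⁻¹ * (y * a * y⁻¹)⁻¹ = y * (h * (a * h * a⁻¹)⁻¹) * y⁻¹ by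
          group] at this
      rw [hdisj, Subgroup.mem_bot] at h10
      refine Subtype.ext ?_
      change a * h * a⁻¹ = h
      calc a * h * a⁻¹ = y⁻¹ * (y * (h * (a * h * a⁻¹)⁻¹) * y⁻¹) * y * (a * h * a⁻¹) := by
            rw [h10]; group
        _ = h := by group

end Cfsg.Agent.S1251
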