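import Mathlib
import Cfsg.Statements.S0497
import Cfsg.Agent.Inv.Ord8
import Cfsg.Agent.S0254

set_option autoImplicit false
open Cfsg

namespace Cfsg.Agent.S0497

open Subgroup

/-- A simple group of order 360 is isomorphic to the alternating group of degree 6. -/
theorem result {G : Type*} [Group G] [Finite G] [IsSimpleGroup G]
    (h : Nat.card G = 360) : Nonempty (G ≃* alternatingGroup (Fin 6)) := by
  haveI : Fact (Nat.Prime 2) := ⟨Nat.prime_two⟩
  have hG := Perm.not_comm_of_not_prime (G := G) (by rw [h]; norm_num)
  obtain ⟨S⟩ : Nonempty (Sylow 2 G) := inferInstance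
  rcases Inv.eight_known hG S (Inv.card_sylow_eight S (m := 45) h (by decide)) fun _ t ht => by
      have h1 := (centralizer ({t} : Set G)).card_mul_index
      have h2 := Perm.two_mul_card_dvd_factorial hG (centralizer ({t} : Set G)) fun e => by
        have : t ∈ center G := mem_center_iff.2 fun g => mem_centralizer_singleton_iff.1 (e ▸ mem_top g)
        rcases (inferInstance : (center G).Normal).eq_bot_or_eq_top with e | e
        · exact LocalEven.ne_one_of_orderOf_eq ht (mem_bot.1 (e ▸ this))
        · exact hG ⟨⟨fun a b => mem_center_iff.1 (e ▸ mem_top b) a⟩⟩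
      obtain ⟨n, hn⟩ := LocalEven.dvd_card_of_mem (mem_centralizer_singleton_iff.2 rfl :
        t ∈ centralizer ({t} : Set G)) ht
      rw [h, hn] at h1
      rw [h] at h2
      refine Inv.solvable_cent ht (n := n) (Nat.pos_of_ne_zero (by rintro rfl; simp at h1)) ?_ ?_ ?_ hn.dvd
      all_goals generalize (centralizer ({t} : Set G)).index = k at h1 h2
      · have := Nat.le_of_dvd (by norm_num) (⟨k, h1.symm⟩ : 2 * n ∣ 360); omega
      · rintro ⟨m, rfl⟩
        have : k ∣ 3 := ⟨m, by linarith⟩
        have := Nat.le_of_dvd (by norm_num) this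
        interval_cases k <;> simp [Nat.factorial] at h2
      · rintro ⟨m, rfl⟩
        have : 336 * (m * k) = 360 := by linarith
        omega
    with ⟨F, _, _, ⟨e⟩, h1⟩ | ⟨⟨e⟩⟩
  · have : Fintype.card F = 9 := by
      rw [h] at h1
      rcases h1 with h1 | h1 <;> have := Inv.cube_eq h1 (by norm_num) <;>
        generalize Fintype.card F = q at * <;> interval_cases q <;> omega
    exact ⟨e.trans (S0254.result this).some⟩
  · rw [Nat.card_congr e.toEquiv, nat_card_alternatingGroup] at h
    simp [Nat.factorial] at h

end Cfsg.Agent.S0497
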