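import Mathlib
import Cfsg.Statements.S3341
import Cfsg.Agent.FGS.Tri3c
import Cfsg.Agent.S0496
import Cfsg.Agent.S0497

set_option autoImplicit false
open Cfsg

namespace Cfsg.Agent.S3341

open Subgroup Finset Cfsg.Agent.LocalEven Cfsg.Agent.FGS

theorem term4' (D A B : ℝ) (a : A ≤ 0) (b : 0 ≤ B)
    (h1 : 3 * 4 * (D + A + B) ≤ 9 * (4 * D + 2 * A)) :
    0 ≤ A * B * (A + B) + D * (5 / 12 * (A * A) + 5 / 12 * (B * B) + 1 / 6 * (A * B)) := by
  have hq : 0 ≤ 5 / 12 * (A * A) + 5 / 12 * (B * B) + 1 / 6 * (A * B) := by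
    nlinarith [mul_self_nonneg A, mul_self_nonneg B, mul_self_nonneg (A + B)]
  have := mul_le_mul_of_nonneg_right (show (2 * B - A) / 4 ≤ D by linarith) hq
  nlinarith [mul_nonneg b (sq_nonneg (20 * B + 47 * A)), mul_nonneg b (sq_nonneg A),
    mul_nonneg (neg_nonneg.2 a) (sq_nonneg A)]

theorem term4 (D A B : ℝ) (_ : 1 ≤ D) (h0 : 0 ≤ D + A + B)
    (h1 : 3 * 4 * (D + A + B) ≤ 9 * (4 * D + 2 * A))
    (h2 : 3 * 4 * (D + B + A) ≤ 9 * (4 * D + 2 * B)) (_ : |A| ≤ 4 * D) (_ : |B| ≤ 4 * D) :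
    0 ≤ A * B * (A + B) + D * (5 / 12 * (A * A) + 5 / 12 * (B * B) + 1 / 6 * (A * B)) := by
  rcases le_total 0 A with a | a <;> rcases le_total 0 B with b | b
  · positivity
  · linarith [term4' D B A b a h2]
  · exact term4' D A B a b h1
  · have hq : 0 ≤ 5 / 12 * (A * A) + 5 / 12 * (B * B) + 1 / 6 * (A * B) := by
      nlinarith [mul_self_nonneg A, mul_self_nonneg B, mul_self_nonneg (A + B)]
    have := mul_le_mul_of_nonneg_right (show -(A + B) ≤ D by linarith) hq
    nlinarith [mul_nonneg (neg_nonneg.2 (add_nonpos a b)) (sq_nonneg (A - B))]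

theorem term2 (D A B : ℝ) (_ : 1 ≤ D) (h0 : 0 ≤ D + A + B)
    (h1 : 3 * 2 * (D + A + B) ≤ 9 * (2 * D + 2 * A))
    (_ : 3 * 6 * (D + B + A) ≤ 9 * (6 * D + 2 * B)) (hA : |A| ≤ 2 * D) (_ : |B| ≤ 6 * D) :
    0 ≤ A * B * (A + B) + D * (1 * (A * A) + 1 / 2 * (B * B) + 0 * (A * B)) := by
  have hA' := (abs_le.1 hA).2
  have hq : 0 ≤ 1 * (A * A) + 1 / 2 * (B * B) + 0 * (A * B) := by
    nlinarith [mul_self_nonneg A, mul_self_nonneg B]
  rcases le_total 0 A with a | a <;> rcases le_total 0 B with b | b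
  · positivity
  · have := mul_le_mul_of_nonneg_right (show A / 2 ≤ D by linarith) hq
    nlinarith [mul_nonneg a (sq_nonneg (A + B)), mul_nonneg a (sq_nonneg B)]
  · have := mul_le_mul_of_nonneg_right (show (B - 2 * A) / 2 ≤ D by linarith) hq
    nlinarith [mul_nonneg b (sq_nonneg (B + A)), mul_nonneg b (sq_nonneg A),
      mul_nonneg (neg_nonneg.2 a) (sq_nonneg A)]
  · have := mul_le_mul_of_nonneg_right (show -(A + B) ≤ D by linarith) hq
    nlinarith [mul_nonneg (neg_nonneg.2 (add_nonpos a b)) (sq_nonneg (2 * A - B)),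
      mul_nonneg (neg_nonneg.2 (add_nonpos a b)) (sq_nonneg B)]

/-- Let G be a finite simple group whose Sylow 3-subgroup S is elementary abelian of order 9, such that G has more than one conjugacy class of elements of order 3 and C_G(s) = S for every non-identity s in S. Then G is isomorphic to the alternating group of degree 6. -/
theorem result {G : Type*} [Group G] [Finite G] [IsSimpleGroup G]
    (P : Sylow 3 G) (S : Subgroup G) (hSP : S = P) (hcomm : IsMulCommutative S) (hexp : ∀ a ∈ S, a ^ 3 = 1)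
    (hcard : Nat.card S = 9)
    (hclasses : ∃ a b : G, orderOf a = 3 ∧ orderOf b = 3 ∧ ∀ g : G, g * a * g⁻¹ ≠ b)
    (hcent : ∀ s ∈ S, s ≠ 1 → Subgroup.centralizer ({s} : Set G) = S) :
    Nonempty (G ≃* alternatingGroup (Fin 6)) := by
  classical
  haveI := Fintype.ofFinite G
  subst hSP
  have h9 : 9 ∣ Nat.card G := hcard ▸ card_subgroup_dvd_card _
  have hn : ¬ IsMulCommutative G := Perm.not_comm_of_not_prime fun h => by
    rcases (Nat.dvd_prime h).1 h9 with e | e
    · omega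
    · exact absurd (e ▸ h) (by norm_num)
  have hab : (P : Subgroup G) ≤ centralizer ((P : Subgroup G) : Set G) := P.le_centralizer
  have tl : TL (P : Subgroup G) := ⟨isSylowIn_top P, hab, fun t ht h1 => by
    rw [hcent t ht h1]; exact le_normalizer⟩
  let K : G → Finset G := fun x => univ.filter fun y => y ∈ (P : Subgroup G) ∧ IsConj x y
  have mK : ∀ x y, y ∈ K x ↔ y ∈ (P : Subgroup G) ∧ IsConj x y := fun x y => by simp [K]
  set n := Nat.card (normalizer ((P : Subgroup G) : Set G)) with hnn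
  have cK : ∀ x ∈ (P : Subgroup G), x ≠ 1 → (K x).card * 9 = n := fun x hx h1 => by
    rw [hnn, ← tl.card_conj hx h1, hcent x hx h1, hcard, Nat.card_eq_fintype_card,
      Fintype.card_subtype]
  obtain ⟨a', b', ha', hb', hnc⟩ := hclasses
  obtain ⟨g, -, ha⟩ := tl.syl.exists_conj_mem (mem_top a') (k := 1) (by
    rw [pow_one, ← ha', pow_orderOf_eq_one])
  obtain ⟨h, -, hb⟩ := tl.syl.exists_conj_mem (mem_top b') (k := 1) (by
    rw [pow_one, ← hb', pow_orderOf_eq_one])
  have a1 : g * a' * g⁻¹ ≠ 1 := by simpa using ne_one_of_orderOf_eq ha'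
  have b1 : h * b' * h⁻¹ ≠ 1 := by simpa using ne_one_of_orderOf_eq hb'
  have hnc' : ¬ IsConj (g * a' * g⁻¹) (h * b' * h⁻¹) := fun c => by
    obtain ⟨k, hk⟩ := isConj_iff.1 c
    exact hnc (h⁻¹ * k * g) (by
      calc _ = h⁻¹ * (k * (g * a' * g⁻¹) * k⁻¹) * h := by group
        _ = b' := by rw [hk]; group)
  generalize g * a' * g⁻¹ = a at ha a1 hnc'
  generalize h * b' * h⁻¹ = b at hb b1 hnc'
  let W : Finset G := (univ.filter fun y => y ∈ (P : Subgroup G)).erase 1
  have mW : ∀ y, y ∈ W ↔ y ∈ (P : Subgroup G) ∧ y ≠ 1 := fun y => by simp [W, and_comm]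
  have cW : W.card = 8 := by
    rw [card_erase_of_mem (by simp), ← Fintype.card_subtype, ← Nat.card_eq_fintype_card]
    exact congrArg (· - 1) hcard
  have sK : ∀ x, x ≠ 1 → K x ⊆ W := fun x h1 y hy => (mW y).2 ⟨((mK _ _).1 hy).1, by
    rintro rfl; exact h1 (isConj_one_left.1 ((mK _ _).1 hy).2)⟩
  have cV : (W \ K a).card = 8 - (K a).card := by rw [card_sdiff_of_subset (sK a a1), cW]
  have hle : (K b).card ≤ (W \ K a).card := card_le_card fun y hy => mem_sdiff.2 ⟨sK b b1 hy,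
    fun hy' => hnc' (((mK _ _).1 hy').2.trans ((mK _ _).1 hy).2.symm)⟩
  have hidx : (P : Subgroup G).relIndex (normalizer ((P : Subgroup G) : Set G)) * 9 = n := by
    rw [hnn, ← hcard, ← relIndex_bot_left, ← relIndex_bot_left, mul_comm,
      relIndex_mul_relIndex _ _ _ bot_le le_normalizer]
  have h3 := (tl.syl.mono le_normalizer le_top).not_dvd
  have h1 : (P : Subgroup G).relIndex (normalizer ((P : Subgroup G) : Set G)) ≠ 1 := fun e =>
    Perm.relIndex_centralizer_ne_one hn P ((by norm_num : 3 ∣ 9).trans h9)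
      (relIndex_eq_one.2 ((relIndex_eq_one.1 e).trans hab))
  have ea := cK a ha a1
  have eb := cK b hb b1
  have h24 : (K a).card = 2 ∨ (K a).card = 4 := by omega
  obtain ⟨i, hi, hi2⟩ := exists_mem_orderOf_eq (p := 2)
    (H := normalizer ((P : Subgroup G) : Set G)) (by rw [← hnn]; omega)
  have hinv : ∀ s ∈ (P : Subgroup G), IsConj s s⁻¹ := fun s hs => by
    have hs' := (mem_normalizer_iff.1 hi s).1 hs
    refine isConj_iff.2 ⟨i, eq_inv_of_mul_eq_one_right (by_contra fun h0 => ?_)⟩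
    have ii : i * i = 1 := by rw [← sq, ← hi2, pow_orderOf_eq_one]
    have : i ∈ (P : Subgroup G) := by
      rw [← hcent _ (mul_mem hs hs') h0, mem_centralizer_singleton_iff]
      calc _ = i * s * i⁻¹ * (i * i) * s * i⁻¹ := by group
        _ = _ := by
          rw [ii, mul_one, hab hs' s hs]
          exact congrArg _ (inv_eq_of_mul_eq_one_right ii)
    have := orderOf_dvd_of_pow_eq_one (hexp i this)
    rw [hi2] at this
    omega
  have invU : ∀ u ∈ K a, u⁻¹ ∈ K a := fun u hu => by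
    obtain ⟨h1, h2⟩ := (mK _ _).1 hu
    exact (mK _ _).2 ⟨inv_mem h1, h2.trans (hinv u h1)⟩
  have par : Par (P : Subgroup G) (K a) (W \ K a) := by
    refine ⟨tl, hexp, fun t => ?_, fun u hu v hv c => ?_, invU, fun v hv => ?_⟩
    · rw [← mW, ← mem_union, union_sdiff_of_subset (sK a a1)]
    · obtain ⟨h1, h2⟩ := mem_sdiff.1 hv
      exact h2 ((mK _ _).2 ⟨((mW _).1 h1).1, ((mK _ _).1 hu).2.trans c⟩)
    · obtain ⟨h1, h2⟩ := mem_sdiff.1 hv
      exact mem_sdiff.2 ⟨(mW _).2 ⟨inv_mem ((mW _).1 h1).1, inv_ne_one.2 ((mW _).1 h1).2⟩,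
        fun h => h2 (by simpa using invU _ h)⟩
  have hm := tl.card_mod
  have hG := (normalizer ((P : Subgroup G) : Set G)).card_mul_index
  rw [hcard, Nat.ModEq] at hm
  rw [← hnn] at hG
  refine S0497.result ?_
  rcases h24 with e | e
  · have hb := par.bound (u := 2) (v := 6) (n := 18) (t := 9) (α := 1) (β := 1 / 2) (γ := 0)
      (by rw [e]; rfl) (by rw [cV, e]; rfl) (by rw [← hnn, ← ea, e]; norm_num)
      (by rw [hcard]; rfl) (by norm_num) (by norm_num) term2
    have : Nat.card G < 139 := by exact_mod_cast (show (Nat.card G : ℝ) < 139 by linarith)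
    have := S0496.result hn (by omega)
    omega
  · have hb := par.bound (u := 4) (v := 4) (n := 36) (t := 9) (α := 5 / 12) (β := 5 / 12)
      (γ := 1 / 6) (by rw [e]; rfl) (by rw [cV, e]; rfl) (by rw [← hnn, ← ea, e]; norm_num)
      (by rw [hcard]; rfl) (by norm_num) (by norm_num) term4
    have : Nat.card G ≤ 864 := by exact_mod_cast (show (Nat.card G : ℝ) ≤ 864 by linarith)
    have := S0496.result hn (by omega)
    rw [← ea, e] at hG
    omega

end Cfsg.Agent.S3341
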