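import Mathlib
import Cfsg.Statements.S3778
import Cfsg.Agent.PGrp.ClassSize
-- import your own Cfsg.Agent.* helpers here

set_option autoImplicit false
open Cfsg

namespace Cfsg.Agent.S3778

/-- If G is a finite p-group in which every conjugacy class has at most p^b elements (every element has centralizer of index at most p^b), then G is abelian when b = 0, and when b ≥ 1 its nilpotency class c satisfies (c − 1)(p − 1) < bp, that is c < bp/(p − 1) + 1, and hence c ≤ 2b. -/
theorem result {G : Type*} [Group G] [Finite G] {p : ℕ} [Fact p.Prime] (hG : IsPGroup p G) (b : ℕ) (hb : ∀ x : G, (Subgroup.centralizer ({x} : Set G)).index ≤ p ^ b) : ∃ c : ℕ, (⊤ : Subgroup G).lowerCentralSeries c = ⊥ ∧ (b ≠ 0 → (c - 1) * (p - 1) < b * p ∧ c ≤ 2 * b) ∧ (b = 0 → c ≤ 1) := by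
  have := hG.isNilpotent
  have hp : p.Prime := Fact.out
  refine ⟨Group.nilpotencyClass G, Subgroup.lowerCentralSeries_nilpotencyClass, fun hb0 => ?_,
    fun hb0 => ?_⟩
  · have h1 := PGrp.nilpotencyClass_lt_of_breadth hG hb0 hb
    refine ⟨h1, ?_⟩
    by_contra h2
    have h3 : 2 * b ≤ Group.nilpotencyClass G - 1 := by omega
    have h4 := Nat.mul_le_mul_right (p - 1) h3
    obtain ⟨q, rfl⟩ : ∃ q, p = q + 2 := ⟨p - 2, (Nat.sub_add_cancel hp.two_le).symm⟩
    rw [show q + 2 - 1 = q + 1 from rfl] at h1 h4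
    nlinarith
  · rw [← Subgroup.upperCentralSeries_eq_top_iff_nilpotencyClass_le,
      Subgroup.upperCentralSeries_one, Subgroup.eq_top_iff']
    intro x
    have h1 := hb x
    have h2 : (Subgroup.centralizer ({x} : Set G)).index ≠ 0 := Subgroup.index_ne_zero_of_finite
    rw [hb0, pow_zero] at h1
    rw [← PGrp.index_centralizer_eq_one_iff]
    omega

end Cfsg.Agent.S3778
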