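import Mathlib
import Cfsg.Statements.S5892
import Cfsg.Agent.Max.L2d

set_option autoImplicit false
open Cfsg

namespace Cfsg.Agent.S5892

open scoped Pointwise
open Cfsg.Agent.Max.L2 Cfsg.Agent.Classical.PSL2Basic Cfsg.Agent.Classical.P1Ident
  Cfsg.Agent.Classical.Congr Cfsg.Agent.Classical.P1

/-- Let F be a finite field of odd order q ≥ 5 and characteristic p, and let M be a maximal subgroup of PSL₂(F). Then one of the following holds: |M| = q(q − 1)/2 (the stabiliser of a point of the projective line); q ≥ 13 and M is dihedral of order q − 1; q ∉ {7, 9} and M is dihedral of order q + 1; q = q₀² and M ≅ PGL₂(F₀) with |F₀| = q₀; q = q₀^r for an odd prime r and M ≅ PSL₂(F₀) with |F₀| = q₀; q ≡ ±1 (mod 10) with q = p or q = p², p ≡ ±3 (mod 10), and M ≅ A₅; q = p ≡ ±3 (mod 8), q ≢ ±1 (mod 10), and M ≅ A₄; or q = p ≡ ±1 (mod 8) and M ≅ S₄. -/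
theorem result {F : Type*} [Field F] [Fintype F] (p : ℕ)
    [Fact p.Prime] [CharP F p] (hodd : Odd (Fintype.card F)) (h5 : 5 ≤ Fintype.card F)
    (M : Subgroup (Matrix.ProjectiveSpecialLinearGroup (Fin 2) F)) (hM : IsCoatom M) :
    2 * Nat.card M = Fintype.card F * (Fintype.card F - 1) ∨
    (13 ≤ Fintype.card F ∧ (∃ k : ℕ, 2 * k = Fintype.card F - 1 ∧ Nonempty (M ≃* DihedralGroup k))) ∨
    (Fintype.card F ≠ 7 ∧ Fintype.card F ≠ 9 ∧ (∃ k : ℕ, 2 * k = Fintype.card F + 1 ∧ Nonempty (M ≃* DihedralGroup k))) ∨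
    (∃ (F₀ : Type) (_ : Field F₀) (_ : Fintype F₀), Fintype.card F = Fintype.card F₀ ^ 2 ∧
        Nonempty (M ≃* Matrix.ProjGenLinGroup (Fin 2) F₀)) ∨
    (∃ (F₀ : Type) (_ : Field F₀) (_ : Fintype F₀) (r : ℕ), r.Prime ∧ Odd r ∧ Fintype.card F = Fintype.card F₀ ^ r ∧
        Nonempty (M ≃* Matrix.ProjectiveSpecialLinearGroup (Fin 2) F₀)) ∨
    ((Fintype.card F % 10 = 1 ∨ Fintype.card F % 10 = 9) ∧
        (Fintype.card F = p ∨ (Fintype.card F = p ^ 2 ∧ (p % 10 = 3 ∨ p % 10 = 7))) ∧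
        Nonempty (M ≃* alternatingGroup (Fin 5))) ∨
    (Fintype.card F = p ∧ (p % 8 = 3 ∨ p % 8 = 5) ∧ ¬ (p % 10 = 1 ∨ p % 10 = 9) ∧
        Nonempty (M ≃* alternatingGroup (Fin 4))) ∨
    (Fintype.card F = p ∧ (p % 8 = 1 ∨ p % 8 = 7) ∧ Nonempty (M ≃* Equiv.Perm (Fin 4))) := by
  rw [← Nat.card_eq_fintype_card] at *
  have h2 : (2 : F) ≠ 0 := odd_card_iff.1 hodd
  haveI := NeZero.mk h2
  have hp : p.Prime := Fact.out
  have hp2 : p ≠ 2 := by rintro rfl; exact h2 CharTwo.two_eq_zero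
  rw [Nat.odd_iff] at hodd
  have hd : dd F = 2 := gcd_eq_two h2
  have hM' := (covBy_map_iff toP toP_injective M).2 hM
  have e := Subgroup.equivMapOfInjective M toP toP_injective
  rw [Nat.card_congr e.toEquiv]
  have ec : ∀ (c : Matrix.ProjGenLinGroup (Fin 2) F) (X : Subgroup _),
      MulAut.conj c • M.map toP = X → Nonempty (M ≃* X) := fun c X h =>
    ⟨(e.trans (Cfsg.Agent.Classical.Dickson.conjEquiv _ c)).trans (MulEquiv.subgroupCongr h)⟩
  have h60 := card_LL_ge' (F := F) (by omega)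
  rcases class_gen (by omega) le_rfl hM' hM'.lt.not_ge with
    ⟨x, h⟩ | ⟨T, D, k, hT, h⟩ | ⟨K, c, r, hr, h1, h3, h⟩ |
    ⟨_, ⟨hq, c, h⟩ | ⟨hq, c, h⟩ | ⟨τ, hτ, c, hc, h⟩⟩
  · left; rw [h, ← card_stab_inf x, hd]
  · obtain ⟨e'⟩ := hT.DL.1
    have e'' := (e.trans (MulEquiv.subgroupCongr h)).trans e'
    have h4 := Nat.mul_div_cancel' hT.dd_dvd
    have h6 := mt (not_max_D hT) (not_not.2 (h ▸ hM'))
    rw [hd] at h4 e''
    rcases hT.k_eq with rfl | rfl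
    · exact Or.inr (Or.inl ⟨by omega, _, h4, ⟨e''⟩⟩)
    · exact Or.inr (Or.inr (Or.inl ⟨by omega, by omega, _, h4, ⟨e''⟩⟩))
  · obtain ⟨F₀, _, _, ⟨f⟩⟩ := exists_small K
    have h4 := Nat.card_congr f.toEquiv
    by_cases hr2 : r = 2
    · subst hr2
      rw [inf_eq_left.2 (subPGL_le_LL (by norm_num) h1)] at h
      obtain ⟨e'⟩ := ec _ _ h
      exact Or.inr (Or.inr (Or.inr (Or.inl ⟨F₀, inferInstance, inferInstance,
        by rw [← Nat.card_eq_fintype_card, h4, h1],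
        ⟨(e'.trans (subPGLEquiv K).symm).trans (pglCongr f).symm⟩⟩)))
    · rw [subPGL_inf_LL (hr.odd_of_ne_two hr2) h1] at h
      obtain ⟨e'⟩ := ec _ _ h
      exact Or.inr (Or.inr (Or.inr (Or.inr (Or.inl ⟨F₀, inferInstance, inferInstance, r, hr,
        hr.odd_of_ne_two hr2, by rw [← Nat.card_eq_fintype_card, h4, h1],
        ⟨(e'.trans (subPSLEquiv K).symm).trans (pslCongr f).symm⟩⟩))))
  · have h1 := char_eq_of_prime (p := p) hq
    have h3 := h ▸ covBy_conj c hM'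
    obtain ⟨e'⟩ := ec _ _ h
    obtain ⟨e''⟩ := A0_equiv (F := F)
    have h4 : ¬ IsSquare (2 : F) := fun hs => not_max_of_le (g := 1) (X := S0 F)
      (by simpa using A0_le_S0) (S0_le_LL_iff.2 hs) (by rw [card_A0, card_S0]; norm_num)
      (by rw [card_S0]; omega) h3
    rw [isSquare_two_iff', h1] at h4
    refine Or.inr (Or.inr (Or.inr (Or.inr (Or.inr (Or.inr (Or.inl
      ⟨h1, by omega, fun h10 => ?_, ⟨e'.trans e''⟩⟩))))))
    obtain ⟨τ, hτ⟩ := (exists_tau_iff (F := F)).2 (by rw [h1, five_dvd_iff hp hp2]; omega)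
    have := card_LL_ge (F := F) (by omega)
    exact not_max_of_le (g := 1) (X := B0 τ hτ) (by simpa using A0_le_B0 hτ) (B0_le_LL hτ)
      (by rw [card_A0, card_B0]; norm_num) (by rw [card_B0]; omega) h3
  · have h1 := char_eq_of_prime (p := p) hq
    have h3 := h ▸ covBy_conj c hM'
    obtain ⟨e'⟩ := ec _ _ h
    obtain ⟨e''⟩ := S0_equiv (F := F)
    have h4 := isSquare_two_iff'.1 (S0_le_LL_iff.1 h3.le)
    exact Or.inr (Or.inr (Or.inr (Or.inr (Or.inr (Or.inr (Or.inr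
      ⟨h1, h1 ▸ h4, ⟨e'.trans e''⟩⟩))))))
  · have h3 := h ▸ covBy_conj c hM'
    obtain ⟨e'⟩ := ec _ _ h
    obtain ⟨e''⟩ := B0_equiv hτ
    have h4 : Nat.card F ≠ 5 := fun h4 => h3.lt.not_ge
      (le_of_card_le h3.le (by rw [card_LL_of h4, card_B0]; norm_num))
    refine Or.inr (Or.inr (Or.inr (Or.inr (Or.inr (Or.inl ?_)))))
    rcases tau_gen (p := p) hτ hc with ⟨h6, h7⟩ | ⟨h6, h7⟩ <;> rw [five_dvd_iff hp hp2] at h7
    · exact ⟨by omega, Or.inl h6, ⟨e'.trans e''⟩⟩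
    · have h8 := Nat.odd_iff.1 (hp.odd_of_ne_two hp2)
      have h9 : p % 10 ≠ 5 := fun h9 => by
        have := (Nat.prime_dvd_prime_iff_eq Nat.prime_five hp).1 (by omega)
        omega
      have h10 : p % 10 = 3 ∨ p % 10 = 7 := by omega
      refine ⟨Or.inr ?_, Or.inr ⟨h6, h10⟩, ⟨e'.trans e''⟩⟩
      rw [h6, Nat.pow_mod]
      rcases h10 with h10 | h10 <;> rw [h10]

end Cfsg.Agent.S5892
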