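import Mathlib
import Cfsg.Statements.S3300
import Cfsg.Agent.Isaacs.Sm7
-- import your own Cfsg.Agent.* helpers here

set_option autoImplicit false
open Cfsg

namespace Cfsg.Agent.S3300

/-- Let G be a finite group with no nontrivial 2-group quotient (O^2(G) = G), z an involution of G with H = C_G(z), and suppose E = O_2(H) is extraspecial with C_G(E) ≤ E and of order 2^(2n+1) with n ≥ 3. If H has a normal subgroup of index 2, then z is conjugate in G to an element of E other than z. -/
theorem result {G : Type*} [Group G] [Finite G] (hres : Cfsg.pResidual 2 G = ⊤) (z : G) (hz : orderOf z = 2)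
    (E : Subgroup G) (hE : E = (Cfsg.pCore 2 ↥(Subgroup.centralizer ({z} : Set G))).map (Subgroup.centralizer ({z} : Set G)).subtype)
    (hext : Cfsg.IsExtraspecial 2 ↥E) (hcent : Subgroup.centralizer (E : Set G) ≤ E) (n : ℕ) (hn : 3 ≤ n) (hcard : Nat.card ↥E = 2 ^ (2 * n + 1))
    (K : Subgroup G) (hKH : K ≤ Subgroup.centralizer ({z} : Set G))
    (hKn : ∀ h ∈ Subgroup.centralizer ({z} : Set G), K.map (MulAut.conj h).toMonoidHom = K)
    (hKi : K.relIndex (Subgroup.centralizer ({z} : Set G)) = 2) :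
    ∃ g : G, g * z * g⁻¹ ∈ E ∧ g * z * g⁻¹ ≠ z := by
  classical
  haveI : Fact (Nat.Prime 2) := ⟨Nat.prime_two⟩
  subst hE
  have hL : Fischer.LS (Sm.EE z) z := by simpa using Fischer.ls_of_core hz hext hcent 1
  set H := Subgroup.centralizer ({z} : Set G) with hH
  by_contra hne
  push Not at hne
  let ψ : G → ℤˣ := fun c => if c ∈ K then 1 else -1
  have hm : ∀ {c : G}, Commute c z → c ∈ H := fun h => Inv.mem_centralizer_single.2 h
  have hψ : Sm.Mul' z ψ := fun a b ha hb => by
    have := Subgroup.mul_mem_iff_of_index_two (H := K.subgroupOf H) hKi (a := ⟨a, hm ha⟩) (b := ⟨b, hm hb⟩)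
    simp only [Subgroup.mem_subgroupOf, Subgroup.coe_mul] at this
    by_cases h1 : a ∈ K <;> by_cases h2 : b ∈ K <;> simp [ψ, this, h1, h2]
  have hbig : 32 < Nat.card (Sm.EE z) := by
    have : Nat.card (Sm.EE z) = 2 ^ (2 * n + 1) := hcard
    rw [this]
    calc 32 < 2 ^ 7 := by norm_num
      _ ≤ _ := Nat.pow_le_pow_right two_pos (by omega)
  obtain ⟨P, hP⟩ := Core.exists_isSylowOf 2 H
  have key := Sm.triv2 hres hL hψ (fun w hw hw' => by
    obtain ⟨g, rfl⟩ := isConj_iff.1 hw
    exact hne g hw') hbig hP.isPGroup fun p hp => Inv.mem_centralizer_single.1 (hP.le hp)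
  have hPK : P ≤ K := fun p hp => by
    have := key p hp
    by_contra h
    simp [ψ, h] at this
  exact hP.not_dvd (hKi ▸ Subgroup.relIndex_dvd_of_le_left H hPK)

end Cfsg.Agent.S3300
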