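import Mathlib
import Cfsg.Statements.S4560
import Cfsg.Agent.Block.Sym11
-- import your own Cfsg.Agent.* helpers here

set_option autoImplicit false
open Cfsg

namespace Cfsg.Agent.S4560

open Cfsg.Agent.Block.Sym Cfsg.Agent.Char Equiv Equiv.Perm Finset in
theorem key {n p j : ℕ} (hn : 7 ≤ n) (hp : p.Prime) (V β : Fin 3 → ℤ) (hV : Vac p V) (hβ : Good β)
    (hc : ∀ i, β i ≡ V i [ZMOD p]) (hs : ∑ i, β i = n + 3) (hq : ∑ i, β i ^ 2 ≠ 5 + 5 * n)
    (σ : alternatingGroup (Fin n)) (ho : orderOf σ.1 ∣ p ^ j) (hl : n + 3 < ∑ i, V i + σ.1.cycleType.sum) :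
    ∃ χ : IrrCharacter (alternatingGroup (Fin n)), χ.1 σ = 0 ∧
      ∃ ψ : IrrCharacter (Perm (Fin n)), ∀ x : alternatingGroup (Fin n), ψ.1 x = χ.1 x := by
  have hd : ∑ i, del 3 i = 3 := by simp [Fin.sum_univ_three, del]
  have hd2 : ∑ i, del 3 i ^ 2 = 5 := by simp [Fin.sum_univ_three, del]
  have hs' : ∑ i, β i = Fintype.card (Fin n) + ∑ i, del 3 i := by rw [hs, hd, Fintype.card_fin]
  obtain ⟨ε, ψ, hε, e⟩ := exists_irr hβ hs'
  have : Nontrivial (Fin n) := Fin.nontrivial_iff_two_le.mpr (by omega)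
  obtain ⟨x, y, hxy⟩ := exists_pair_ne (Fin n)
  have h1 : ψ.1 (swap x y) ≠ 0 := fun h => hq (by
    rw [sq_sum_of_swap hβ hs' hxy (by rw [e, Pi.smul_apply, h, smul_zero]), hd2, Fintype.card_fin]; norm_num)
  have h2 : IsIrrCharacter (alternatingGroup (Fin n)) fun x => ψ.1 x := by
    refine isIrr_of_isChar_norm_one (isChar_res _ (irr_isChar ψ)) ?_
    rw [norm_res, classInner_isIrr_ne (isIrr_sn_mul ψ.2) ψ.2, add_zero]
    intro e
    have := congrFun e (swap x y)
    simp only [sn, sign_swap hxy, Units.val_neg, Units.val_one, Int.cast_neg, Int.cast_one] at this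
    exact h1 (by linear_combination -this / 2)
  refine ⟨⟨_, h2⟩, ?_, ψ, fun _ => rfl⟩
  by_contra h
  have h3 := NN_le_aux hp.pos hV n (Fin n) σ.1 β (Fintype.card_fin n) ⟨1, hc⟩ (by
    rw [e, Pi.smul_apply, smul_eq_mul]; exact mul_ne_zero (pm_ne_zero hε) h)
  have h4 : σ.1.cycleType.sum ≤ NN p σ.1 := by
    rw [sum_cycleType]
    refine card_le_card fun z hz => mem_filter.mpr ⟨mem_univ _, ?_⟩
    obtain ⟨k, -, hk⟩ := (Nat.dvd_prime_pow hp).mp ((card_orb_dvd σ.1 z).trans ho)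
    refine hk ▸ dvd_pow_self p ?_
    rintro rfl
    exact mem_support.mp hz (card_orb_eq_one.mp hk)
  omega

open Equiv Equiv.Perm in
theorem ex2 {n : ℕ} (a b : ℕ) (h : 4 * a + 2 * b ≤ n) (he : Even (a + b)) :
    ∃ σ : alternatingGroup (Fin n), orderOf σ.1 ∣ 2 ^ 2 ∧ σ.1.cycleType.sum = 4 * a + 2 * b := by
  obtain ⟨g, hg⟩ := (exists_with_cycleType_iff (Fin n)
    (m := Multiset.replicate a 4 + Multiset.replicate b 2)).mpr ⟨by simp; omega, fun c hc => by
      simp only [Multiset.mem_add, Multiset.mem_replicate] at hc; omega⟩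
  have hs : g.cycleType.sum = 4 * a + 2 * b := by rw [hg]; simp; omega
  refine ⟨⟨g, mem_alternatingGroup.mpr ?_⟩, ?_, hs⟩
  · rw [sign_of_cycleType, hs, hg]
    exact Even.neg_one_pow (by simpa using Even.add (⟨2 * a + b, by ring⟩ : Even (4 * a + 2 * b)) he)
  · rw [← lcm_cycleType, Multiset.lcm_dvd, hg]
    intro c hc
    simp only [Multiset.mem_add, Multiset.mem_replicate] at hc
    rcases hc with ⟨-, rfl⟩ | ⟨-, rfl⟩ <;> norm_num

open Equiv Equiv.Perm in
theorem ex3 {n : ℕ} (hn : 7 ≤ n) :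
    ∃ σ : alternatingGroup (Fin n), orderOf σ.1 = 3 ∧ σ.1.cycleType.sum = 3 * (n / 3) := by
  obtain ⟨g, hg⟩ := (exists_with_cycleType_iff (Fin n)
    (m := Multiset.replicate (n / 3) 3)).mpr ⟨by simp; omega, fun c hc => by
      simp only [Multiset.mem_replicate] at hc; omega⟩
  have hs : g.cycleType.sum = 3 * (n / 3) := by rw [hg]; simp; omega
  have : Fact (Nat.Prime 3) := ⟨Nat.prime_three⟩
  refine ⟨⟨g, mem_alternatingGroup.mpr ?_⟩, orderOf_eq_prime (pow_prime_eq_one_iff.mpr fun c hc =>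
    (Multiset.mem_replicate.mp (hg ▸ hc)).2) ?_, hs⟩
  · rw [sign_of_cycleType, hs, hg]
    exact Even.neg_one_pow (by rw [Multiset.card_replicate]; exact ⟨2 * (n / 3), by ring⟩)
  · rintro rfl
    rw [cycleType_one, Multiset.sum_zero] at hs
    omega

open Cfsg.Agent.Block.Sym in
theorem good {a b c : ℤ} (h0 : 0 ≤ a) (h1 : a < b) (h2 : b < c) : Good ![a, b, c] := by
  refine ⟨fun i j h => ?_, fun i => ?_⟩
  · fin_cases i <;> fin_cases j <;> simp at h ⊢ <;> omega
  · fin_cases i <;> simp <;> omega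

open Cfsg.Agent.Block.Sym in
theorem key' {n p j : ℕ} (hn : 7 ≤ n) (hp : p.Prime) (a b c d : ℤ) (h0 : 0 ≤ a) (h1 : a < b) (h2 : b < c)
    (h3 : b < d) (hV : ∀ i, (p : ℤ) ≤ ![a, b, c] i → ∃ j, ![a, b, c] j = ![a, b, c] i - p)
    (hc : d ≡ c [ZMOD p]) (hs : a + b + d = n + 3) (hq : a ^ 2 + b ^ 2 + d ^ 2 ≠ 5 + 5 * n)
    (σ : alternatingGroup (Fin n)) (ho : orderOf σ.1 ∣ p ^ j) (hl : n + 3 < a + b + c + σ.1.cycleType.sum) :
    ∃ χ : IrrCharacter (alternatingGroup (Fin n)), χ.1 σ = 0 ∧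
      ∃ ψ : IrrCharacter (Equiv.Perm (Fin n)), ∀ x : alternatingGroup (Fin n), ψ.1 x = χ.1 x :=
  key hn hp ![a, b, c] ![a, b, d] ⟨good h0 h1 h2, hV⟩ (good h0 h1 h3)
    (fun i => by fin_cases i <;> first | rfl | exact hc) (by simpa [Fin.sum_univ_three] using hs)
    (by simpa [Fin.sum_univ_three] using hq) σ ho (by simpa [Fin.sum_univ_three] using hl)

/-- For n ≥ 7 the alternating group on n letters has an irreducible character that vanishes at some 2-element and is the restriction of an irreducible character of the symmetric group, and an irreducible character that vanishes at some element of order 3 and is the restriction of an irreducible character of the symmetric group. -/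
theorem result (n : ℕ) (hn : 7 ≤ n) : (∃ χ : Cfsg.IrrCharacter (alternatingGroup (Fin n)), (∃ x : alternatingGroup (Fin n), (∃ j : ℕ, orderOf x = 2 ^ j) ∧ (χ : alternatingGroup (Fin n) → ℂ) x = 0) ∧ ∃ ψ : Cfsg.IrrCharacter (Equiv.Perm (Fin n)), ∀ x : alternatingGroup (Fin n), (ψ : Equiv.Perm (Fin n) → ℂ) x = (χ : alternatingGroup (Fin n) → ℂ) x) ∧ (∃ χ : Cfsg.IrrCharacter (alternatingGroup (Fin n)), (∃ y : alternatingGroup (Fin n), orderOf y = 3 ∧ (χ : alternatingGroup (Fin n) → ℂ) y = 0) ∧ ∃ ψ : Cfsg.IrrCharacter (Equiv.Perm (Fin n)), ∀ x : alternatingGroup (Fin n), (ψ : Equiv.Perm (Fin n) → ℂ) x = (χ : alternatingGroup (Fin n) → ℂ) x) := by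
  have hn' : (7 : ℤ) ≤ n := by exact_mod_cast hn
  constructor
  · obtain ⟨σ, h1, h2⟩ : ∃ σ : alternatingGroup (Fin n), orderOf σ.1 ∣ 2 ^ 2 ∧ n < σ.1.cycleType.sum + 3 := by
      by_cases h : n % 4 = 3
      · obtain ⟨σ, a, b⟩ := ex2 (n := n) 1 (2 * (n / 4) - 1) (by omega) ⟨n / 4, by omega⟩
        exact ⟨σ, a, by omega⟩
      · obtain ⟨σ, a, b⟩ := ex2 (n := n) 0 (2 * (n / 4)) (by omega) ⟨n / 4, by omega⟩
        exact ⟨σ, a, by omega⟩
    obtain ⟨j, -, hj⟩ := (Nat.dvd_prime_pow Nat.prime_two).mp h1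
    suffices ∃ χ : IrrCharacter (alternatingGroup (Fin n)), χ.1 σ = 0 ∧
        ∃ ψ : IrrCharacter (Equiv.Perm (Fin n)), ∀ x : alternatingGroup (Fin n), ψ.1 x = χ.1 x by
      obtain ⟨χ, a, b⟩ := this
      exact ⟨χ, ⟨σ, ⟨j, by rw [← hj, Subgroup.orderOf_coe]⟩, a⟩, b⟩
    by_cases h : n % 2 = 0
    · exact key' hn Nat.prime_two 1 3 5 (n - 1) (by norm_num) (by norm_num) (by norm_num) (by omega) (by decide)
        (by unfold Int.ModEq; omega) (by ring) (by nlinarith) σ h1 (by omega)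
    · exact key' hn Nat.prime_two 0 2 4 (n + 1) (by norm_num) (by norm_num) (by norm_num) (by omega) (by decide)
        (by unfold Int.ModEq; omega) (by ring) (by nlinarith) σ h1 (by omega)
  · obtain ⟨σ, h1, h2⟩ := ex3 hn
    have h3 : orderOf σ.1 ∣ 3 ^ 1 := by rw [h1]; rfl
    suffices ∃ χ : IrrCharacter (alternatingGroup (Fin n)), χ.1 σ = 0 ∧
        ∃ ψ : IrrCharacter (Equiv.Perm (Fin n)), ∀ x : alternatingGroup (Fin n), ψ.1 x = χ.1 x by
      obtain ⟨χ, a, b⟩ := this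
      exact ⟨χ, ⟨σ, by rw [← h1, Subgroup.orderOf_coe], a⟩, b⟩
    by_cases h : n % 3 = 0
    · exact key' hn Nat.prime_three 0 3 6 n (by norm_num) (by norm_num) (by norm_num) (by omega) (by decide)
        (by unfold Int.ModEq; omega) (by ring) (by nlinarith) σ h3 (by omega)
    by_cases h' : n % 3 = 1
    · exact key' hn Nat.prime_three 0 2 5 (n + 1) (by norm_num) (by norm_num) (by norm_num) (by omega) (by decide)
        (by unfold Int.ModEq; omega) (by ring) (by nlinarith) σ h3 (by omega)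
    · exact key' hn Nat.prime_three 1 2 5 n (by norm_num) (by norm_num) (by norm_num) (by omega) (by decide)
        (by unfold Int.ModEq; omega) (by ring) (by nlinarith) σ h3 (by omega)

end Cfsg.Agent.S4560
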