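import Mathlib
import Cfsg.Statements.S0996
import Cfsg.Agent.Block.BrRey
-- import your own Cfsg.Agent.* helpers here

set_option autoImplicit false
open Cfsg

namespace Cfsg.Agent.S0996

open Cfsg.Agent.Block in

/-- Let G be a finite perfect group containing an element z of prime order p whose centralizer is the cyclic group it generates, and suppose the number 1 + n * p of Sylow p-subgroups satisfies n < (p + 3) / 2. Then p > 3 and G is isomorphic to the projective special linear group of dimension 2 over the field with p elements, or p - 1 is a power of 2 and G is isomorphic to that group over the field with p - 1 elements. -/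
theorem result {G : Type*} [Group G] [Finite G] (hperf : commutator G = ⊤) (p : ℕ) [Fact p.Prime] (z : G) (hz : orderOf z = p) (hC : Subgroup.centralizer ({z} : Set G) = Subgroup.zpowers z) (hn : 2 * Nat.card (Sylow p G) < (p + 1) * (p + 2)) : (∃ (F : Type) (_ : Field F) (_ : Fintype F), Fintype.card F = p ∧ 3 < p ∧ Nonempty (G ≃* Matrix.ProjectiveSpecialLinearGroup (Fin 2) F)) ∨ (∃ (m : ℕ) (F : Type) (_ : Field F) (_ : Fintype F), Fintype.card F = 2 ^ m ∧ p = 2 ^ m + 1 ∧ 3 < p ∧ Nonempty (G ≃* Matrix.ProjectiveSpecialLinearGroup (Fin 2) F)) := by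
  have := Fintype.ofFinite G
  have hp : p.Prime := Fact.out
  have h1 : IsPGroup p (Subgroup.zpowers z) :=
    IsPGroup.of_card (n := 1) (by rw [Nat.card_zpowers, hz, pow_one])
  obtain ⟨P, hP⟩ := h1.exists_le_sylow
  have hz1 : z ≠ 1 := by rintro rfl; exact hp.one_lt.ne (by simpa using hz)
  have h2 : (P : Subgroup G) = Subgroup.zpowers z := by
    have : Nontrivial P := ⟨⟨z, hP (Subgroup.mem_zpowers z)⟩, 1, fun e => hz1 (congrArg Subtype.val e)⟩
    have := P.isPGroup'.center_nontrivial
    obtain ⟨⟨w, hw⟩, hw1⟩ := exists_ne (1 : Subgroup.center P)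
    have h3 : (w : G) ∈ Subgroup.zpowers z := hC ▸ Subgroup.mem_centralizer_singleton_iff.2
      (congrArg Subtype.val (Subgroup.mem_center_iff.1 hw ⟨z, hP (Subgroup.mem_zpowers z)⟩)).symm
    have h4 := eq_zpowers_of_card_prime hp ((Nat.card_zpowers z).trans hz) h3
      fun e => hw1 (Subtype.ext (Subtype.ext e))
    refine le_antisymm (fun g hg => hC ▸ Subgroup.mem_centralizer_singleton_iff.2 ?_) hP
    obtain ⟨k, hk⟩ := h4 ▸ Subgroup.mem_zpowers z
    rw [← hk]
    exact (Commute.zpow_right (congrArg Subtype.val (Subgroup.mem_center_iff.1 hw ⟨g, hg⟩)) k).eq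
  have h := ordP_sylow P (by rw [h2, Nat.card_zpowers, hz])
  obtain ⟨n, hv⟩ := h.exists_index_eq
  rw [P.card_eq_index_normalizer.trans hv] at hn
  have hD : TrivDiv p n := trivDiv_of_lt hp.one_lt (by
    by_contra hc
    nlinarith [Nat.mul_le_mul_right p (not_lt.1 hc)])
  have h3 := Core.not_dvd_card_pPrimeCore (G := G) hp
  have h4 := h.le_centralizer_of_le_normalizer h3
    (le_normalizer_of_index_eq _ ((h.brauer_reynolds' hperf hv hD).1.trans hv.symm))
  have h5 : pPrimeCore p G = ⊥ := (Core.disjoint_pPrimeCore_of_isPGroup h1).symm.eq_bot_of_le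
    (h4.trans (hC ▸ Subgroup.centralizer_le (Set.singleton_subset_iff.2 (hP (Subgroup.mem_zpowers z)))))
  exact (h.brauer_reynolds hperf h5 hv hD).imp
    (fun ⟨h1, h2⟩ => ⟨ZMod p, inferInstance, inferInstance, ZMod.card p, h1, h2⟩) id

end Cfsg.Agent.S0996
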