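import Mathlib
import Cfsg.Statements.S0981
import Cfsg.Agent.S0996
import Cfsg.Agent.Perm.Small
import Cfsg.Agent.Classical.Congr
import Cfsg.Agent.Classical.SLBasic

set_option autoImplicit false
open Cfsg

namespace Cfsg.Agent.S0981

open Subgroup

/-- A simple group of order 4080 is isomorphic to the projective special linear group of dimension 2 over the field with 16 elements. -/
theorem result {G : Type*} [Group G] [Finite G] [IsSimpleGroup G] (h : Nat.card G = 4080) {F : Type*} [Field F] [Fintype F] (hF : Fintype.card F = 16) : Nonempty (G ≃* Matrix.ProjectiveSpecialLinearGroup (Fin 2) F) := by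
  haveI : Fact (Nat.Prime 17) := ⟨by norm_num⟩
  have hG := Perm.not_comm_of_not_prime (G := G) (by rw [h]; norm_num)
  obtain ⟨z, hz⟩ := exists_prime_orderOf_dvd_card' (G := G) 17 (by rw [h]; norm_num)
  obtain ⟨P, hP⟩ := Perm.exists_sylow_mem (p := 17) (k := 1) hz
  have h1 : Nat.card P = 17 := Perm.sylow_card_eq P (a := 1) (m := 240) h (by norm_num)
  have h2 : zpowers z = P := eq_of_le_of_card_ge (zpowers_le.2 hP) (by rw [h1, Nat.card_zpowers, hz])
  have h17 : 17 ∣ Nat.card G := by rw [h]; norm_num
  have h3 : Nat.card (Sylow 17 G) = 120 := by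
    have a := Perm.card_sylow_dvd (p := 17) (a := 1) (m := 240) h (by norm_num)
    have b := Perm.card_sylow_ne_one hG h17
    have c := card_sylow_modEq_one 17 G
    have key : ∀ n ∈ Nat.divisors 240, n ≠ 1 → n % 17 = 1 % 17 → n = 120 := by decide
    exact key _ (Nat.mem_divisors.2 ⟨a, by norm_num⟩) b c
  have h4 := Perm.card_sylow_mul P
  have h5 := Perm.card_centralizer_mul_relIndex (P : Subgroup G)
  have h6 := Perm.relIndex_centralizer_ne_one hG P h17
  have h7 : centralizer ({z} : Set G) = centralizer ((P : Subgroup G) : Set G) := by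
    rw [← h2, zpowers_eq_closure, centralizer_closure]
  have h8 : zpowers z ≤ centralizer ({z} : Set G) := zpowers_le.2 (mem_centralizer_singleton_iff.2 rfl)
  have h9 : centralizer ({z} : Set G) = zpowers z := by
    refine (eq_of_le_of_card_ge h8 ?_).symm
    obtain ⟨m, hm⟩ := card_dvd_of_le h8
    rw [Nat.card_zpowers, hz] at *
    rw [h3, h, ← h5, ← h7, hm] at h4
    rw [← h7] at h6
    generalize (centralizer ({z} : Set G)).relIndex _ = k at h4 h6
    have : m * k = 2 := by linarith
    rcases (Nat.dvd_prime Nat.prime_two).1 ⟨k, this.symm⟩ with rfl | rfl <;> omega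
  have hcom : commutator G = ⊤ := (inferInstance : (commutator G).Normal).eq_bot_or_eq_top.resolve_left
    fun e => hG ⟨⟨fun a b => commutatorElement_eq_one_iff_mul_comm.1 (mem_bot.1 (e.le
      (commutator_mem_commutator (mem_top a) (mem_top b))))⟩⟩
  rcases S0996.result hcom 17 z hz h9 (by rw [h3]; norm_num) with ⟨K, _, _, a, -, ⟨e⟩⟩ | ⟨m, K, _, _, a, b, -, ⟨e⟩⟩
  · have := Classical.SLBasic.card_PSL_two (F := K)
    rw [← Nat.card_congr e.toEquiv, Nat.card_eq_fintype_card (α := K), a, h] at this
    norm_num at this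
  · obtain ⟨f⟩ := Classical.Congr.nonempty_ringEquiv (K := K) (F := F)
      (by rw [Nat.card_eq_fintype_card, Nat.card_eq_fintype_card, a, hF]; omega)
    exact ⟨e.trans (Classical.Congr.pslCongr f)⟩

end Cfsg.Agent.S0981
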