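import Mathlib
import Cfsg.Statements.S0984
import Cfsg.Agent.Inv.Ord8

set_option autoImplicit false
open Cfsg

namespace Cfsg.Agent.S0984

open Subgroup
theorem a5 : Nat.card {x : alternatingGroup (Fin 5) // x * x = 1} = 16 := by
  rw [Nat.card_eq_fintype_card]; decide +kernel

/-- A simple group of order 2520 is isomorphic to the alternating group of degree 7. -/
theorem result {G : Type*} [Group G] [Finite G] [IsSimpleGroup G] (h : Nat.card G = 2520) : Nonempty (G ≃* alternatingGroup (Fin 7)) := by
  haveI : Fact (Nat.Prime 2) := ⟨Nat.prime_two⟩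
  have hG := Perm.not_comm_of_not_prime (G := G) (by rw [h]; norm_num)
  obtain ⟨S⟩ : Nonempty (Sylow 2 G) := inferInstance
  by_cases h7 : ∃ H : Subgroup G, H.index = 7
  · obtain ⟨H, hH⟩ := h7
    exact Classical.SmallRecog.equiv_alt_of_core H hH (by norm_num)
      ((normalCore_normal H).eq_bot_or_eq_top.resolve_right fun e => by
        rw [top_le_iff.1 (e.ge.trans (normalCore_le H)), index_top] at hH; omega) (by rw [h]; rfl)
  push Not at h7
  have h8 := Inv.card_sylow_eight S (m := 315) h (by decide)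
  refine (Inv.eight_known hG S h8 fun hS t ht => ?_).resolve_left ?_
  swap
  · rintro ⟨K, _, _, -, h1⟩
    rw [h] at h1
    rcases h1 with h1 | h1 <;> have := Inv.cube_eq h1 (by norm_num) <;>
      generalize Fintype.card K = q at * <;> interval_cases q <;> omega
  by_contra hs
  have h1 := (centralizer ({t} : Set G)).card_mul_index
  have h2 := Perm.two_mul_card_dvd_factorial hG (centralizer ({t} : Set G)) fun e =>
    Perm.not_solvable_of_not_comm hG (by
      have : t ∈ center G := mem_center_iff.2 fun g => mem_centralizer_singleton_iff.1 (e ▸ mem_top g)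
      rcases (inferInstance : (center G).Normal).eq_bot_or_eq_top with e | e
      · exact (LocalEven.ne_one_of_orderOf_eq ht (mem_bot.1 (e ▸ this))).elim
      · exact (hG ⟨⟨fun a b => mem_center_iff.1 (e ▸ mem_top b) a⟩⟩).elim)
  obtain ⟨n, hn⟩ := LocalEven.dvd_card_of_mem (mem_centralizer_singleton_iff.2 rfl :
    t ∈ centralizer ({t} : Set G)) ht
  have h3 := h7 (centralizer ({t} : Set G))
  have h4 := Classical.SmallRecog.ncard_conj_class t
  rw [h, hn] at h1
  rw [h] at h2
  generalize (centralizer ({t} : Set G)).index = k at h1 h2 h3 h4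
  have hk : 7 ≤ k := by
    by_contra hk
    have := Nat.le_of_dvd (Nat.factorial_pos _) h2
    have := Nat.factorial_le (show k ≤ 6 by omega)
    simp [Nat.factorial] at this; omega
  obtain ⟨m, rfl⟩ : 60 ∣ n := by
    by_contra h5
    refine hs (Inv.solvable_cent ht (n := n) (Nat.pos_of_ne_zero (by rintro rfl; simp at h1)) (by nlinarith) h5
      ?_ hn.dvd)
    rintro ⟨m, rfl⟩
    have : 336 * (m * k) = 2520 := by linarith
    omega
  obtain ⟨rfl, rfl⟩ : k = 21 ∧ m = 1 := by
    have h5 : m * k = 21 := by linarith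
    have := Nat.le_of_dvd (by norm_num) (⟨m, by linarith⟩ : k ∣ 21)
    interval_cases k <;> omega
  let t' : centralizer ({t} : Set G) := ⟨t, mem_centralizer_singleton_iff.2 rfl⟩
  haveI : (zpowers t').Normal := PGrp.normal_of_le_center (zpowers_le.2 (mem_center_iff.2 fun x =>
    Subtype.ext (mem_centralizer_singleton_iff.1 x.2)))
  have ht' : Nat.card (zpowers t') = 2 := by rw [Nat.card_zpowers, ← orderOf_coe, ht]
  have e := card_eq_card_quotient_mul_card_subgroup (zpowers t')
  rw [hn, ht'] at e
  have h60 : Nat.card (_ ⧸ zpowers t') = 60 := by omega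
  have hs' : ¬ Group.IsSolvable (_ ⧸ zpowers t') := fun _ =>
    hs (Group.isSolvable_of_ker_le_range (zpowers t').subtype (QuotientGroup.mk' (zpowers t')) (by simp))
  haveI : Nontrivial (_ ⧸ zpowers t') := Finite.one_lt_card_iff_nontrivial.1 (by omega)
  haveI : IsSimpleGroup (_ ⧸ zpowers t') := ⟨fun N hN => by
    by_contra h5
    push Not at h5
    have e := card_eq_card_quotient_mul_card_subgroup N
    have a1 := mt card_eq_one.1 h5.1
    have a2 := mt (card_eq_iff_eq_top N).1 h5.2
    rw [h60] at e a2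
    have b1 := Nat.le_of_dvd (by norm_num) (Dvd.intro _ e.symm)
    have b2 := Nat.le_of_dvd (by norm_num) (Dvd.intro_left _ e.symm)
    have key : ∀ (X : Type _) [Group X] [Finite X], Nat.card X < 60 → Group.IsSolvable X := fun X _ _ hX =>
      Inv.solvable_of_card_dvd Nat.card_pos (by omega) (Nat.not_dvd_of_pos_of_lt Nat.card_pos hX)
        (Nat.not_dvd_of_pos_of_lt Nat.card_pos (by omega)) X dvd_rfl
    haveI := key N (by omega)
    haveI := key (_ ⧸ N) (lt_of_le_of_ne b1 fun h => by rw [h] at e; omega)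
    exact hs' (Group.isSolvable_of_ker_le_range N.subtype (QuotientGroup.mk' N) (by simp))⟩
  obtain ⟨f⟩ := S0494.result h60
  have hsq : ∀ x : G, x ^ 2 ^ 2 = 1 → x = 1 ∨ IsConj t x := fun x hx => by
    obtain ⟨g, -, hg⟩ := (LocalEven.isSylowIn_top S).exists_conj_mem (mem_top x) hx
    obtain ⟨g', -, hg'⟩ := (LocalEven.isSylowIn_top S).exists_conj_mem (mem_top t) (k := 1)
      (by rw [pow_one, ← ht, pow_orderOf_eq_one])
    refine or_iff_not_imp_left.2 fun x1 => (isConj_iff.2 ⟨g', rfl⟩).trans ((Inv.one_class_eight hG S h8 hS.1 hg' hg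
      (by simpa using LocalEven.ne_one_of_orderOf_eq ht) (by simpa using x1)).trans (isConj_iff.2 ⟨g, rfl⟩).symm)
  have h5 := QuotientGroup.card_preimage_mk (zpowers t') {x | x * x = 1}
  have h6 : Nat.card {x : _ ⧸ zpowers t' | x * x = 1} = 16 := by
    rw [← a5]
    exact Nat.card_congr (f.toEquiv.subtypeEquiv fun x => by
      simp only [Set.mem_setOf_eq, MulEquiv.toEquiv_eq_coe, EquivLike.coe_coe, ← map_mul, map_eq_one_iff _ f.injective])
  rw [ht', h6, Nat.card_coe_set_eq, ← Set.ncard_image_of_injective _ Subtype.val_injective] at h5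
  have h9 := Set.ncard_le_ncard (s := Subtype.val '' (QuotientGroup.mk ⁻¹' {x : _ ⧸ zpowers t' | x * x = 1}))
    (t := insert 1 {x | IsConj t x}) (by
      rintro _ ⟨x, hx, rfl⟩
      have : (x * x) ^ 2 = 1 := by
        have : x * x ∈ zpowers t' := (QuotientGroup.eq_one_iff _).1 hx
        exact congrArg Subtype.val (show (⟨_, this⟩ : zpowers t') ^ 2 = 1 by rw [← ht', pow_card_eq_one'])
      exact hsq x (by rw [pow_two 2, pow_mul, pow_two (x : G)]; exact congrArg Subtype.val this))
  have := Set.ncard_insert_le 1 {x | IsConj t x}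
  omega

end Cfsg.Agent.S0984
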