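import Mathlib
import Cfsg.Statements.S1011
import Cfsg.Agent.Inv.Ord8
import Cfsg.Agent.Classical.Congr

set_option autoImplicit false
open Cfsg

namespace Cfsg.Agent.S1011

open Subgroup

/-- A simple group of order 504 is isomorphic to the projective special linear group of dimension 2 over the field with 8 elements. -/
theorem result {G : Type*} [Group G] [Finite G] [IsSimpleGroup G] (h : Nat.card G = 504) {F : Type*} [Field F] [Fintype F] (hF : Fintype.card F = 8) : Nonempty (G ≃* Matrix.ProjectiveSpecialLinearGroup (Fin 2) F) := by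
  haveI : Fact (Nat.Prime 2) := ⟨Nat.prime_two⟩
  have hG := Perm.not_comm_of_not_prime (G := G) (by rw [h]; norm_num)
  obtain ⟨S⟩ : Nonempty (Sylow 2 G) := inferInstance
  rcases Inv.eight_known hG S (Inv.card_sylow_eight S (m := 63) h (by decide)) fun _ t ht =>
      Inv.solvable_cent ht (n := 252) (by norm_num) (by norm_num) (by norm_num) (by norm_num)
        ((card_subgroup_dvd_card _).trans (by rw [h]))
    with ⟨K, _, _, ⟨e⟩, h1⟩ | ⟨⟨e⟩⟩
  · have : Fintype.card K = 8 := by
      rw [h] at h1
      rcases h1 with h1 | h1 <;> have := Inv.cube_eq h1 (by norm_num) <;>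
        generalize Fintype.card K = q at * <;> interval_cases q <;> omega
    obtain ⟨f⟩ := Classical.Congr.nonempty_ringEquiv (K := K) (F := F)
      (by rw [Nat.card_eq_fintype_card, Nat.card_eq_fintype_card, this, hF])
    exact ⟨e.trans (Classical.Congr.pslCongr f)⟩
  · rw [Nat.card_congr e.toEquiv, nat_card_alternatingGroup] at h
    simp [Nat.factorial] at h

end Cfsg.Agent.S1011
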