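import Mathlib
import Cfsg.Statements.S0228
import Cfsg.Agent.Inv.Count

set_option autoImplicit false
open Cfsg

namespace Cfsg.Agent.S0228

/-- A group of order 12 in which no involution is central is isomorphic to the alternating group on four letters. -/
theorem result {G : Type*} [Group G] [Finite G] (hG : Nat.card G = 12) (hz : ∀ z : G, orderOf z = 2 → z ∉ Subgroup.center G) : Nonempty (G ≃* alternatingGroup (Fin 4)) := by
  classical
  have : Fact (Nat.Prime 2) := ⟨Nat.prime_two⟩
  have : Fact (Nat.Prime 3) := ⟨Nat.prime_three⟩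
  obtain ⟨P⟩ : Nonempty (Sylow 3 G) := inferInstance
  have hP : Nat.card P = 3 := by
    rw [P.card_eq_multiplicity, hG]; decide +kernel
  have h7 := P.1.card_mul_index
  rw [hP, hG] at h7
  have h8 : P.1.index = 4 := by omega
  have hker : P.1.normalCore = ⊥ := by
    by_contra hne
    have hPn : P.1.normalCore = P.1 := by
      have h1 := Subgroup.card_dvd_of_le P.1.normalCore_le
      rw [hP] at h1
      have h2 := ((Nat.dvd_prime Nat.prime_three).1 h1).resolve_left
        (fun h => hne (Subgroup.card_eq_one.1 h))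
      exact Subgroup.eq_of_le_of_card_ge P.1.normalCore_le (by rw [hP, h2])
    have hn : P.1.Normal := hPn ▸ inferInstance
    obtain ⟨⟨x, hxP⟩, hx⟩ := exists_prime_orderOf_dvd_card' (G := P.1) 3 (by rw [hP])
    rw [← Subgroup.orderOf_coe] at hx
    have hx : orderOf x = 3 := hx
    have h1 : Nat.card {y : G // IsConj x y} + 1 ≤ 3 := by
      rw [← hP]
      change Set.ncard {y : G | IsConj x y} + 1 ≤ Set.ncard (P.1 : Set G)
      rw [← Set.ncard_insert_of_notMem (a := 1) (by
        intro h
        rw [Set.mem_ofPred_eq, isConj_one_left] at h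
        simp [h] at hx)]
      refine Set.ncard_le_ncard ?_
      rintro y (rfl | hy)
      · exact one_mem _
      · obtain ⟨g, rfl⟩ := isConj_iff.1 hy
        exact hn.conj_mem x hxP g
    have h2 := Inv.card_isConj_mul x
    rw [hG] at h2
    have h3 : Even (Nat.card (Subgroup.centralizer ({x} : Set G))) := by
      have : Nat.card {y : G // IsConj x y} ≤ 2 := by omega
      rw [even_iff_two_dvd]
      interval_cases Nat.card {y : G // IsConj x y} <;> omega
    obtain ⟨z, hzx, hz2⟩ := Inv.exists_two_mem_of_even h3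
    obtain ⟨S, hS⟩ := (Inv.isPGroup_zpowers_of_mul_self (Inv.mul_self_of_two hz2)).exists_le_sylow
    have hS4 : Nat.card S = 2 ^ 2 := by
      rw [S.card_eq_multiplicity, hG]; decide +kernel
    have hcomm := IsPGroup.isMulCommutative_of_card_eq_prime_sq hS4
    have h4 : S.1 ≤ Subgroup.centralizer ({z} : Set G) := fun s hs =>
      Inv.mem_centralizer_single.2 (congrArg Subtype.val
        (hcomm.is_comm.comm ⟨s, hs⟩ ⟨z, hS (Subgroup.mem_zpowers z)⟩))
    have h5 := Subgroup.card_dvd_of_le h4
    have h6 := Subgroup.orderOf_dvd_natCard _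
      (Inv.mem_centralizer_single.2 (Inv.mem_centralizer_single.1 hzx).symm)
    rw [hS4] at h5
    rw [hx] at h6
    have h9 : Subgroup.centralizer ({z} : Set G) = ⊤ := by
      apply Subgroup.eq_top_of_le_card
      rw [hG]
      exact Nat.le_of_dvd Nat.card_pos ((by norm_num : Nat.Coprime (2 ^ 2) 3).mul_dvd_of_dvd_of_dvd h5 h6)
    exact hz z hz2 (Subgroup.mem_center_iff.2 fun g =>
      Inv.mem_centralizer_single.1 (h9 ▸ Subgroup.mem_top g))
  rw [Subgroup.normalCore_eq_ker, MonoidHom.ker_eq_bot_iff] at hker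
  have := Fintype.ofFinite (G ⧸ P.1)
  let ι : (G ⧸ P.1) ≃ Fin 4 := Fintype.equivFinOfCardEq (by rwa [← Nat.card_eq_fintype_card])
  let φ : G →* Equiv.Perm (Fin 4) :=
    ι.permCongrHom.toMonoidHom.comp (MulAction.toPermHom G (G ⧸ P.1))
  have hφ : Function.Injective φ := ι.permCongrHom.injective.comp hker
  have h1 : φ.range.index = 2 := by
    have h2 := φ.range.card_mul_index
    rw [← Nat.card_congr (MonoidHom.ofInjective hφ).toEquiv, hG, Nat.card_perm,
      Nat.card_eq_fintype_card (α := Fin 4), Fintype.card_fin] at h2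
    have : Nat.factorial 4 = 24 := rfl
    omega
  exact ⟨(MonoidHom.ofInjective hφ).trans
    (MulEquiv.subgroupCongr (Equiv.Perm.eq_alternatingGroup_of_index_eq_two h1))⟩

end Cfsg.Agent.S0228
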