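import Mathlib
import Cfsg.Statements.S5945
import Cfsg.Agent.Max.SymIdx

set_option autoImplicit false
open Cfsg

namespace Cfsg.Agent.S5945

/-- The symmetric group S_6 has exactly 12 subgroups of index 6; each of them is isomorphic to S_5, and at least one of them is not the stabilizer of any point. -/
theorem result : Nat.card {H : Subgroup (Equiv.Perm (Fin 6)) // H.index = 6} = 12 ∧ (∀ H : Subgroup (Equiv.Perm (Fin 6)), H.index = 6 → Nonempty (H ≃* Equiv.Perm (Fin 5))) ∧ ∃ H : Subgroup (Equiv.Perm (Fin 6)), H.index = 6 ∧ ∀ a : Fin 6, H ≠ MulAction.stabilizer (Equiv.Perm (Fin 6)) a := by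
  obtain ⟨α, h1, h2⟩ := Max.exists_outer
  have h3 : ∀ x : Fin 6, (MulAction.stabilizer (Equiv.Perm (Fin 6)) x).index = 6 := fun x => by
    simp [MulAction.index_stabilizer_of_transitive]
  have h4 := fun x => (Subgroup.index_map_equiv _ α).trans (h3 x)
  have h5 : ∀ x y : Fin 6, MulAction.stabilizer (Equiv.Perm (Fin 6)) x =
      MulAction.stabilizer (Equiv.Perm (Fin 6)) y → x = y := fun x y e => by_contra fun h => by
    obtain ⟨c, -, h6, h7⟩ := Max.exists_even_move (by simp) h
    exact h7 (e.ge h6)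
  refine ⟨?_, fun H hH => by
    have := Max.sym_iso (by simp) (H := H) (by simpa)
    rwa [Nat.card_fin] at this,
    _, h4 0, Max.map_stab_ne h1 h2 0⟩
  refine (Nat.card_eq_of_bijective (Sum.elim (fun x : Fin 6 => ⟨_, h3 x⟩) fun x : Fin 6 => ⟨_, h4 x⟩)
    ⟨?_, fun ⟨H, hH⟩ => ?_⟩).symm.trans (by simp)
  · rintro (x | x) (y | y) e <;> replace e := congrArg Subtype.val e
    · exact congrArg _ (h5 x y e)
    · exact absurd e.symm (Max.map_stab_ne h1 h2 y x)
    · exact absurd e (Max.map_stab_ne h1 h2 x y)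
    · exact congrArg _ (h5 x y (Subgroup.map_injective α.injective e))
  · obtain ⟨x, rfl | rfl⟩ := Max.index_six h1 hH
    exacts [⟨.inl x, rfl⟩, ⟨.inr x, rfl⟩]

end Cfsg.Agent.S5945
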