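import Mathlib
import Cfsg.Statements.S4222

set_option autoImplicit false
open Cfsg

namespace Cfsg.Agent.S4222

/-- If a normal subgroup `N` of a finite group is complete (its centre is trivial and every automorphism of `N` is inner), then the group is the internal direct product of `N` and the centralizer of `N`: the centralizer is a complement to `N`. -/
theorem result {T : Type*} [Group T] [Finite T] (N : Subgroup T) [N.Normal] (hz : Subgroup.center ↥N = ⊥) (ha : Function.Surjective (MulAut.conj : ↥N →* MulAut ↥N)) : (Subgroup.centralizer (N : Set T)).IsComplement' N := by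
  refine Subgroup.isComplement'_of_disjoint_and_mul_eq_univ (Subgroup.disjoint_def.mpr
    fun {x} h1 h2 => ?_) (Set.eq_univ_of_forall fun t => ?_)
  · have : (⟨x, h2⟩ : N) ∈ Subgroup.center N :=
      Subgroup.mem_center_iff.mpr fun y => Subtype.ext (h1 y y.2)
    rw [hz] at this
    exact congrArg Subtype.val (Subgroup.mem_bot.mp this)
  · obtain ⟨n, hn⟩ := ha (MulAut.conjNormal t)
    refine ⟨t * (n : T)⁻¹, fun y hy => ?_, n, n.2, by simp⟩
    have := congrArg Subtype.val (DFunLike.congr_fun hn (n⁻¹ * ⟨y, hy⟩ * n))
    simp only [MulAut.conj_apply, MulAut.conjNormal_apply, Subgroup.coe_mul, Subgroup.coe_inv] at this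
    calc _ = (n : T) * ((n : T)⁻¹ * y * n) * (n : T)⁻¹ * (t * (n : T)⁻¹) := by group
      _ = _ := by rw [this]; group

end Cfsg.Agent.S4222
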