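import Mathlib
import Cfsg.Statements.S2507
import Cfsg.Agent.Max.L2f

set_option autoImplicit false
open Cfsg

namespace Cfsg.Agent.S2507

open scoped Pointwise
open Cfsg.Agent.Max.L2 Cfsg.Agent.Classical.PSL2Basic Cfsg.Agent.Classical.P1Ident
  Cfsg.Agent.Classical.Congr Cfsg.Agent.Classical.P1

/-- Let F be a finite field with q = 2^f ≥ 4 elements. The conjugacy class sizes of PSL(2,F) are exactly 1, q(q − 1), q² − 1 and q(q + 1). -/
theorem result {F : Type*} [Field F] [Fintype F]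
    (h2 : 2 ∣ Fintype.card F) (h4 : 4 ≤ Fintype.card F) :
    Set.range (fun g : (Matrix.ProjectiveSpecialLinearGroup (Fin 2) F) => (Subgroup.centralizer ({g} : Set (Matrix.ProjectiveSpecialLinearGroup (Fin 2) F))).index) =
      {1, Fintype.card F * (Fintype.card F - 1), Fintype.card F ^ 2 - 1, Fintype.card F * (Fintype.card F + 1)} := by
  rw [← Nat.card_eq_fintype_card] at *
  have h2' : (2 : F) = 0 := even_card_iff.1 (even_iff_two_dvd.2 h2)
  haveI : CharP F 2 := CharTwo.of_one_ne_zero_of_two_eq_zero one_ne_zero h2'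
  haveI : Fact (Nat.Prime 2) := ⟨Nat.prime_two⟩
  have hd : dd F = 1 := gcd_eq_one h2'
  have hL := card_LL (F := F)
  rw [hd, one_mul] at hL
  have e1 : Nat.card F * (Nat.card F ^ 2 - 1) = (Nat.card F - 1) * (Nat.card F * (Nat.card F + 1)) := by
    rw [show Nat.card F ^ 2 - 1 = (Nat.card F + 1) * (Nat.card F - 1) by rw [← Nat.sq_sub_sq]]; ring
  have e2 : Nat.card F * (Nat.card F ^ 2 - 1) = (Nat.card F + 1) * (Nat.card F * (Nat.card F - 1)) := by
    rw [show Nat.card F ^ 2 - 1 = (Nat.card F + 1) * (Nat.card F - 1) by rw [← Nat.sq_sub_sq]]; ring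
  have tor : ∀ {T D : Subgroup (Matrix.ProjGenLinGroup (Fin 2) F)} {k : ℕ}, Tor T D k → 2 < k →
      ∃ g : Matrix.ProjectiveSpecialLinearGroup (Fin 2) F,
        k * (Subgroup.centralizer {g}).index = Nat.card (LL F) := by
    intro T D k hT hk
    obtain ⟨_, ha, ⟨g, rfl⟩, ho⟩ := hT.genL
    have h3 := index_mul_card_map (Subgroup.centralizer {g})
    rw [map_centralizer, hT.centralizer_eq ha fun e => by
      have := orderOf_le_of_pow_eq_one (x := toP g) (n := 2) (by norm_num) (by rw [sq, e])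
      rw [ho, hd] at this; omega, hT.card_T_inf', hd, Nat.div_one] at h3
    exact ⟨g, h3⟩
  ext n
  simp only [Set.mem_range, Set.mem_insert_iff, Set.mem_singleton_iff]
  constructor
  · rintro ⟨g, rfl⟩
    rcases index_cent_cases 2 g with rfl | ⟨h, -⟩ | ⟨T, D, k, hT, ha, ⟨-, h⟩ | ⟨h1, h⟩⟩
    · left; simp
    · exact Or.inr (Or.inr (Or.inl (Nat.eq_of_mul_eq_mul_left (by omega) (h.trans hL))))
    · rw [hd, Nat.div_one, hL] at h
      rcases hT.k_eq with rfl | rfl
      · exact Or.inr (Or.inr (Or.inr (Nat.eq_of_mul_eq_mul_left (by omega) (h.trans e1))))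
      · exact Or.inr (Or.inl (Nat.eq_of_mul_eq_mul_left (by omega) (h.trans e2)))
    · have := toP_injective ((hT.ss (p := 2) ha (by rw [sq, ← map_mul, h1, map_one])).trans
        (map_one _).symm)
      left; simp [this]
  · rintro (rfl | rfl | rfl | rfl)
    · exact ⟨1, by simp⟩
    · obtain ⟨T, D, hT⟩ := exists_tor_plus F
      obtain ⟨g, hg⟩ := tor hT (by omega)
      exact ⟨g, Nat.eq_of_mul_eq_mul_left (by omega) (hg.trans (hL.trans e2))⟩
    · obtain ⟨g, hg⟩ := UU_le_LL (1 : Matrix.ProjGenLinGroup (Fin 2) F) ⟨1, rfl⟩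
      have h3 := index_mul_card_map (Subgroup.centralizer {g})
      rw [map_centralizer, centralizer_UU ⟨1, hg⟩ (by simp [hg, aff_eq_one_iff]),
        inf_eq_left.2 (UU_le_LL _), card_UU] at h3
      exact ⟨g, Nat.eq_of_mul_eq_mul_left (by omega) (h3.trans hL)⟩
    · obtain ⟨T, D, hT⟩ := exists_tor_minus F
      obtain ⟨g, hg⟩ := tor hT (by omega)
      exact ⟨g, Nat.eq_of_mul_eq_mul_left (by omega) (hg.trans (hL.trans e1))⟩

end Cfsg.Agent.S2507
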