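import Mathlib
import Cfsg.Statements.S3861
import Cfsg.Agent.FGS.Basic2
import Cfsg.Agent.Core.Coprime
import Cfsg.Agent.Core.Cores
import Cfsg.Agent.S0200

set_option autoImplicit false
open Cfsg

namespace Cfsg.Agent.S3861

open Subgroup
open scoped Pointwise

theorem lift_real {G : Type*} [Group G] [Finite G] (N : Subgroup G) [N.Normal] {x g : G}
    (hc : (orderOf x).Coprime (Nat.card N))
    (h : QuotientGroup.mk' N (g * x * g⁻¹) = QuotientGroup.mk' N x⁻¹) : IsConj x x⁻¹ := by
  have h1 : zpowers (g * x * g⁻¹) ≤ N ⊔ zpowers x := by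
    rw [zpowers_le, sup_comm, ← QuotientGroup.ker_mk' N, ← comap_map_eq, mem_comap, h]
    exact mem_map_of_mem _ (inv_mem (mem_zpowers x))
  obtain ⟨n, hn, hle⟩ := Core.exists_conj_le_of_le_sup N (zpowers (g * x * g⁻¹)) (zpowers x)
    le_normalizer_of_normal le_normalizer_of_normal
    (by rwa [Nat.card_zpowers, FGS.orderOf_conj]) (Or.inl inferInstance) h1
  have h2 := Core.conj_smul_le_iff.mp hle _ (mem_zpowers _)
  refine isConj_iff.mpr ⟨n * g, ?_⟩
  have h3 : n * (g * x * g⁻¹) * n⁻¹ * x ∈ N := by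
    rw [← QuotientGroup.eq_one_iff]
    change QuotientGroup.mk' N _ = 1
    have : QuotientGroup.mk' N n = 1 := (QuotientGroup.eq_one_iff n).mpr hn
    rw [map_mul, map_mul, map_mul, h, map_inv, map_inv, this]
    group
  have h4 := Core.eq_one_of_mem_of_coprime (A := zpowers x) (K := N) (by rwa [Nat.card_zpowers])
    (mul_mem h2 (mem_zpowers x)) h3
  rw [← mul_eq_one_iff_eq_inv, ← h4]
  group

theorem eq_one_of_real {G : Type*} [Group G] {x g : G} (hg : Odd (orderOf g)) (hx : Odd (orderOf x))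
    (h : g * x * g⁻¹ = x⁻¹) : x = 1 := by
  have h1 : g ^ 2 ∈ centralizer ({x} : Set G) := by
    rw [mem_centralizer_singleton_iff]
    calc g ^ 2 * x = g * (g * x * g⁻¹) * g := by rw [pow_two]; group
      _ = g * x⁻¹ * g := by rw [h]
      _ = (g * x * g⁻¹)⁻¹ * g ^ 2 := by rw [pow_two]; group
      _ = x * g ^ 2 := by rw [h, inv_inv]
  have h2 := mem_centralizer_singleton_iff.mp
    (Core.mem_of_pow_mem_of_coprime h1 (Nat.coprime_two_left.mpr hg))
  rw [h2, mul_inv_cancel_right] at h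
  have h3 : x ^ 2 = 1 := by rw [pow_two]; nth_rewrite 1 [h]; simp
  exact orderOf_eq_one_iff.mp (Nat.eq_one_of_dvd_coprimes (Nat.coprime_two_right.mpr hx) dvd_rfl
    (orderOf_dvd_of_pow_eq_one h3))

/-- A finite group G has no non-identity element of odd order that is conjugate to its inverse if and only if the Sylow 2-subgroups of G are normal. -/
theorem result {G : Type*} [Group G] [Finite G] (P : Sylow 2 G) : (∀ x : G, x ≠ 1 → Odd (orderOf x) → ¬ IsConj x x⁻¹) ↔ (P : Subgroup G).Normal := by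
  constructor
  · intro h
    have hs := QuotientGroup.mk'_surjective (pCore 2 G)
    obtain ⟨k, hk⟩ := IsPGroup.iff_card.mp (Core.pCore_isPGroup (G := G) 2)
    have h1 : ¬ 2 ∣ (pCore 2 G).index := by
      intro hd
      obtain ⟨t, ht⟩ := exists_prime_orderOf_dvd_card' (G := G ⧸ pCore 2 G) 2 hd
      obtain ⟨y, hy1, hyo, hy⟩ := S0200.result t ht fun N hN hN2 htN => by
        rw [Core.pCore_eq_bot_iff.mp (Core.pCore_quotient_pCore 2) N hN hN2, mem_bot] at htN
        exact FGS.ne_one_of_orderOf_prime Nat.prime_two ht htN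
      obtain ⟨y, rfl⟩ := hs y
      obtain ⟨t, rfl⟩ := hs t
      obtain ⟨x, -, hx, hxo⟩ := FGS.exists_pPrime_lift (p := 2) _ y (Nat.coprime_two_right.mpr hyo)
      refine h x (fun e => hy1 (by rw [← hx, e, map_one])) (Nat.coprime_two_right.mp hxo)
        (lift_real (pCore 2 G) (g := t) (hk ▸ hxo.pow_right k) ?_)
      rw [map_mul, map_mul, map_inv, map_inv, hx, hy]
    rw [← le_antisymm (Core.pCore_le_sylow P) (FGS.sylow_le_of_normal_of_not_dvd_index P _ h1)]
    infer_instance
  · intro hP x hx1 hxo hc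
    obtain ⟨g, hg⟩ := isConj_iff.mp hc
    have hodd : ∀ y : G ⧸ (P : Subgroup G), Odd (orderOf y) := fun y =>
      Nat.odd_iff.mpr (Nat.two_dvd_ne_zero.mp fun h => P.not_dvd_index (h.trans (orderOf_dvd_natCard y)))
    have h1 := eq_one_of_real (x := QuotientGroup.mk' _ x) (g := QuotientGroup.mk' _ g) (hodd _) (hodd _)
      (by rw [← map_inv, ← map_inv, ← map_mul, ← map_mul, hg])
    obtain ⟨k, hk⟩ := FGS.exists_orderOf_eq_of_mem P.isPGroup' ((QuotientGroup.eq_one_iff x).mp h1)
    exact hx1 (orderOf_eq_one_iff.mp (Nat.eq_one_of_dvd_coprimes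
      ((Nat.coprime_two_right.mpr hxo).pow_right k) dvd_rfl hk.dvd))

end Cfsg.Agent.S3861
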