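import Mathlib
import Cfsg.Statements.S3863
import Cfsg.Agent.FGS.Basic2
import Cfsg.Agent.FGS.Super

set_option autoImplicit false
open Cfsg

namespace Cfsg.Agent.S3863

open Subgroup

theorem exists_two {G : Type*} [Group G] [Finite G] {x : G} (hx : IsConj x x⁻¹) :
    ∃ t : G, (∃ j : ℕ, orderOf t = 2 ^ j) ∧ t * x * t⁻¹ = x⁻¹ := by
  obtain ⟨g, hg⟩ := isConj_iff.mp hx
  obtain ⟨a, b, -, ⟨j, hj⟩, e, hc, ha, hb⟩ := FGS.exists_pPart 2 g
  have h1 : g ^ 2 ∈ centralizer ({x} : Set G) := by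
    rw [mem_centralizer_singleton_iff]
    calc g ^ 2 * x = g * (g * x * g⁻¹) * g := by rw [pow_two]; group
      _ = g * x⁻¹ * g := by rw [hg]
      _ = (g * x * g⁻¹)⁻¹ * g ^ 2 := by rw [pow_two]; group
      _ = x * g ^ 2 := by rw [hg, inv_inv]
  have h2 : b ∈ centralizer ({x} : Set G) := by
    refine Core.mem_of_pow_mem_of_coprime (n := 2) ?_ hb.symm
    rw [← hj, ← zpow_natCast, ← zpow_mul, mul_comm, zpow_mul, zpow_natCast]
    exact zpow_mem h1 j
  refine ⟨a, ha, ?_⟩
  rw [← hg, e, mul_assoc a b, mem_centralizer_singleton_iff.mp h2]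
  group

/-- Let x be an element of the finite group G that is conjugate to its inverse. Then some 2-element conjugates x to its inverse; if the conjugacy class of x has odd size then x ^ 2 = 1; and x lies in, and is conjugate to its inverse inside, every normal subgroup of odd index. -/
theorem result {G : Type*} [Group G] [Finite G] (x : G) (hx : IsConj x x⁻¹) : (∃ t : G, (∃ j : ℕ, orderOf t = 2 ^ j) ∧ t * x * t⁻¹ = x⁻¹) ∧ (Odd (Subgroup.centralizer ({x} : Set G)).index → x ^ 2 = 1) ∧ ∀ (N : Subgroup G) [N.Normal], Odd N.index → ∃ hxN : x ∈ N, IsConj (⟨x, hxN⟩ : N) (⟨x, hxN⟩ : N)⁻¹ := by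
  obtain ⟨t, ⟨j, hj⟩, ht⟩ := exists_two hx
  refine ⟨⟨t, ⟨j, hj⟩, ht⟩, fun h => ?_, fun N _ h => ?_⟩
  · by_contra h2
    have h1 : centralizer ({x} : Set G) ≤ normalizer ({x, x⁻¹} : Set G) := fun g hg => by
      have h3 : g ∈ centralizer ({x, x⁻¹} : Set G) := by
        rintro _ (rfl | rfl)
        · exact (mem_centralizer_singleton_iff.mp hg).symm
        · exact (Commute.inv_right (mem_centralizer_singleton_iff.mp hg)).eq.symm
      exact centralizer_le_normalizer _ h3
    have hn : ∀ g ∈ normalizer ({x, x⁻¹} : Set G), g * x * g⁻¹ = x ∨ g * x * g⁻¹ = x⁻¹ := fun g hg =>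
      (hg x).mp (Or.inl rfl)
    have hc : ∀ g, g ∈ centralizer ({x} : Set G) ↔ g * x * g⁻¹ = x := fun g => by
      rw [mem_centralizer_singleton_iff, mul_inv_eq_iff_eq_mul]
    have hne : x⁻¹ ≠ x := fun e => h2 (by rw [sq, ← mul_inv_cancel x, e])
    have htn : t ∈ normalizer ({x, x⁻¹} : Set G) := mem_normalizer_fintype (by
      rintro _ (rfl | rfl)
      · exact Or.inr ht
      · exact Or.inl (by rw [← conj_inv, ht, inv_inv]))
    refine h.not_two_dvd_nat (Dvd.dvd.trans (dvd_of_eq (Eq.symm ?_)) (relIndex_dvd_index_of_le h1))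
    refine relIndex_eq_two_iff.mpr ⟨t, htn, fun b hb => ?_⟩
    have e : b * t * x * (b * t)⁻¹ = (b * x * b⁻¹)⁻¹ := by
      calc _ = b * (t * x * t⁻¹) * b⁻¹ := by group
        _ = _ := by rw [ht]; group
    rw [hc, hc, e]
    rcases hn b hb with h3 | h3 <;> simp [h3, hne]
  · have ht' : t ∈ N := FGS.mem_of_coprime_index (hj ▸ (Nat.coprime_two_left.mpr h).pow_left j)
    have hx2 : x ∈ N := by
      refine (QuotientGroup.eq_one_iff x).mp (orderOf_eq_one_iff.mp (Nat.eq_one_of_dvd_coprimes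
        (Nat.coprime_two_left.mpr h) (orderOf_dvd_of_pow_eq_one ?_) (orderOf_dvd_natCard _)))
      have := congrArg (QuotientGroup.mk' N) ht
      rw [map_mul, map_mul, map_inv, QuotientGroup.mk'_apply N t, (QuotientGroup.eq_one_iff t).mpr ht',
        one_mul, inv_one, mul_one, map_inv, ← mul_eq_one_iff_eq_inv, ← sq] at this
      exact this
    exact ⟨hx2, isConj_iff.mpr ⟨⟨t, ht'⟩, Subtype.ext ht⟩⟩

end Cfsg.Agent.S3863
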