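import Mathlib
import Cfsg.Statements.S3378
import Cfsg.Agent.Perm.FC6
import Cfsg.Agent.S0493
import Cfsg.Agent.S0201

set_option autoImplicit false
open Cfsg

namespace Cfsg.Agent.S3378

theorem solv.{u} (G : Type u) [Group G] [Finite G] : Nat.card G < 60 → Group.IsSolvable G := by
  refine Core.induction_on_card (P := fun G _ _ => Nat.card G < 60 → Group.IsSolvable G)
    (fun G _ _ ih h => ?_) G
  rcases subsingleton_or_nontrivial G with _ | _
  · infer_instance
  by_cases hs : IsSimpleGroup G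
  · have : IsCyclic G := by_contra fun hc => by
      have := S0493.result (G := G) hc (by omega)
      omega
    exact isSolvable_of_comm this.isMulCommutative.is_comm.comm
  · obtain ⟨N, hN, h0, h1⟩ : ∃ N : Subgroup G, N.Normal ∧ N ≠ ⊥ ∧ N ≠ ⊤ := by
      by_contra! hc
      exact hs ⟨fun N hN => or_iff_not_imp_left.2 (hc N hN)⟩
    have h2 := Core.card_quotient_lt N h0
    have h3 : Nat.card N < Nat.card G := Core.card_lt_of_ne_top N h1
    have := ih N h3 (by omega)
    have := ih (G ⧸ N) h2 (by omega)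
    exact solvable_of_ker_le_range N.subtype (QuotientGroup.mk' N) (by simp)

theorem eq_bot {G : Type*} [Group G] [Finite G] (h : ¬ Group.IsSolvable G) {N : Subgroup G}
    [N.Normal] (h1 : Nat.card N < 60) : 60 ≤ N.index := by
  by_contra! h2
  have := solv N h1
  have := solv (G ⧸ N) h2
  exact h (solvable_of_ker_le_range N.subtype (QuotientGroup.mk' N) (by simp))

/-- Every non-solvable group of order 120 whose Sylow 2-subgroups are quaternion of order 8 is isomorphic to SL(2,5), and SL(2,5) has the presentation ⟨x, y, z | x³ = y⁵ = z² = 1, z⁻¹xz = x, z⁻¹yz = y, (xy)² = z⟩. -/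
theorem result :
    (∀ (G : Type*) [Group G] [Finite G], Nat.card G = 120 → ¬ Group.IsSolvable G →
      (∀ P : Sylow 2 G, Nonempty ((P : Subgroup G) ≃* QuaternionGroup 2)) →
      Nonempty (G ≃* Matrix.SpecialLinearGroup (Fin 2) (ZMod 5))) ∧
    Nonempty (PresentedGroup ({FreeGroup.of (0 : Fin 3) ^ 3, FreeGroup.of (1 : Fin 3) ^ 5, FreeGroup.of (2 : Fin 3) ^ 2,
        (FreeGroup.of (2 : Fin 3))⁻¹ * FreeGroup.of 0 * FreeGroup.of 2 * (FreeGroup.of (0 : Fin 3))⁻¹,
        (FreeGroup.of (2 : Fin 3))⁻¹ * FreeGroup.of 1 * FreeGroup.of 2 * (FreeGroup.of (1 : Fin 3))⁻¹,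
        (FreeGroup.of (0 : Fin 3) * FreeGroup.of 1) ^ 2 * (FreeGroup.of (2 : Fin 3))⁻¹} : Set (FreeGroup (Fin 3)))
      ≃* Matrix.SpecialLinearGroup (Fin 2) (ZMod 5)) := by
  refine ⟨fun G _ _ h hs hP => ?_, Perm.binP_SL25⟩
  have : Fact (Nat.Prime 2) := ⟨Nat.prime_two⟩
  obtain ⟨S⟩ : Nonempty (Sylow 2 G) := inferInstance
  have hZ := S0201.result S 0 (hP S).some fun N hN ho => by
    have h1 := N.card_mul_index
    have h2 : Nat.card N ∣ 15 := (Nat.Coprime.pow_right 3 (Nat.coprime_two_right.2 ho)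
      ).dvd_of_dvd_mul_left ⟨_, (h1.trans h).symm⟩
    have h3 := Nat.le_of_dvd (by norm_num) h2
    have h4 := eq_bot hs (N := N) (by omega)
    have h5 := Nat.odd_iff.1 ho
    refine Subgroup.eq_bot_of_card_le _ ?_
    by_contra! h6
    nlinarith [show 3 ≤ Nat.card N by omega]
  obtain ⟨z, hz⟩ := exists_prime_orderOf_dvd_card' (G := Subgroup.center G) 2 (hZ ▸ dvd_rfl)
  have hz' : orderOf (z : G) = 2 := by rwa [Subgroup.orderOf_coe]
  have hZ' : Subgroup.center G = Subgroup.zpowers (z : G) :=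
    (Subgroup.eq_of_le_of_card_ge (Subgroup.zpowers_le.2 z.2)
      (by rw [hZ, Nat.card_zpowers, hz'])).symm
  have h60 : Nat.card (G ⧸ Subgroup.center G) = 60 := by
    have := (Subgroup.center G).card_mul_index
    rw [hZ, h] at this
    change (Subgroup.center G).index = 60
    omega
  have hs' : ¬ Group.IsSolvable (G ⧸ Subgroup.center G) := fun _ =>
    have := solv (Subgroup.center G) (by omega)
    hs (solvable_of_ker_le_range (Subgroup.center G).subtype (QuotientGroup.mk' (Subgroup.center G))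
      (by simp))
  have : Nontrivial (G ⧸ Subgroup.center G) := Finite.one_lt_card_iff_nontrivial.1 (by omega)
  have : IsSimpleGroup (G ⧸ Subgroup.center G) := ⟨fun N hN => or_iff_not_imp_right.2 fun h1 => by
    have h2 := eq_bot hs' (N := N) (h60 ▸ Core.card_lt_of_ne_top N h1)
    have h3 := N.card_mul_index
    refine Subgroup.eq_bot_of_card_le _ ?_
    by_contra! h6
    nlinarith⟩
  obtain ⟨e⟩ := Classical.SmallRecog.equiv_A5_of_simple h60
  refine Perm.equiv_SL25 hz' (fun t ht => ?_) (e.toMonoidHom.comp (QuotientGroup.mk' _))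
    (e.surjective.comp (QuotientGroup.mk'_surjective _)) ?_
  · obtain ⟨P, hP'⟩ := (IsPGroup.of_card (G := Subgroup.zpowers t) (p := 2) (n := 1)
      (by rw [Nat.card_zpowers, ht]; rfl)).exists_le_sylow
    exact Inv.q8_unique (hP P).some (hP' (Subgroup.mem_zpowers t))
      ((IsPGroup.of_card (n := 1) hZ).le_sylow_of_normal P z.2) ht hz'
  · rw [← MonoidHom.comap_ker, (MonoidHom.ker_eq_bot_iff _).2 e.injective, MonoidHom.comap_bot,
      QuotientGroup.ker_mk']
    exact hZ'

end Cfsg.Agent.S3378
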