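import Mathlib
import Cfsg.Statements.S3494
import Cfsg.Agent.Perm.Half

set_option autoImplicit false
open Cfsg

namespace Cfsg.Agent.S3494

open MulAction
open scoped Pointwise

/-- Manning's Theorem on extremely primitive groups. Let a finite group G act faithfully and primitively on a finite set Ω with non-trivial point stabilizers, and suppose every point stabilizer G_α acts primitively on each of its orbits. Then G_α acts faithfully on each of its orbits other than {α}: an element of G_α fixing every point of one such orbit is the identity. -/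
theorem result {G : Type*} [Group G] [Finite G] {Ω : Type*} [Fintype Ω] [MulAction G Ω] [FaithfulSMul G Ω] (hprim : MulAction.IsPreprimitive G Ω) (hH : ∀ α : Ω, MulAction.stabilizer G α ≠ ⊥) (hep : ∀ (α : Ω) (ω : Ω), MulAction.IsPreprimitive (MulAction.stabilizer G α) (MulAction.orbit (MulAction.stabilizer G α) ω))
    (α ω : Ω) (hω : ω ≠ α) (h : MulAction.stabilizer G α) (hfix : ∀ x ∈ MulAction.orbit (MulAction.stabilizer G α) ω, h • x = x) : h = 1 := by
  by_contra h1
  let R : Ω → Ω → Prop := fun x y => ∃ g : G, g • α = x ∧ g • ω = y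
  have hR : ∀ (g : G) x y, R x y → R (g • x) (g • y) := by
    rintro g _ _ ⟨u, rfl, rfl⟩
    exact ⟨g * u, mul_smul _ _ _, mul_smul _ _ _⟩
  have hR' : ∀ (g : G) x y, R (g • x) (g • y) → R x y := fun g x y h => by
    simpa using hR g⁻¹ _ _ h
  have hD : ∀ y, R α y ↔ y ∈ orbit (stabilizer G α) ω := fun y =>
    ⟨fun ⟨g, h1, h2⟩ => ⟨⟨g, h1⟩, h2⟩, fun ⟨g, hg⟩ => ⟨g, g.2, hg⟩⟩
  let K : Ω → Subgroup G := fun x =>
    { carrier := {k | k • x = x ∧ ∀ y, R x y → k • y = y}
      one_mem' := ⟨one_smul _ _, fun _ _ => one_smul _ _⟩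
      mul_mem' := fun {k l} hk hl => ⟨by rw [mul_smul, hl.1, hk.1], fun y hy => by
        rw [mul_smul, hl.2 y hy, hk.2 y hy]⟩
      inv_mem' := fun {k} hk => ⟨inv_smul_eq_iff.mpr hk.1.symm, fun y hy =>
        inv_smul_eq_iff.mpr (hk.2 y hy).symm⟩ }
  have hK : ∀ (g k : G) x, k ∈ K (g • x) ↔ g⁻¹ * k * g ∈ K x := fun g k x => by
    refine and_congr Perm.mem_stabilizer_smul_iff ⟨fun h y hy => ?_, fun h y hy => ?_⟩
    · exact Perm.mem_stabilizer_smul_iff.mp (h _ (hR g _ _ hy))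
    · obtain ⟨y, rfl⟩ := MulAction.surjective g y
      exact Perm.mem_stabilizer_smul_iff.mpr (h _ (hR' g _ _ hy))
  have hhK : h.1 ∈ K α := ⟨h.2, fun y hy => hfix y ((hD y).mp hy)⟩
  obtain ⟨u, hu⟩ := exists_smul_eq G α ω
  have hne : ¬ K α ≤ K ω := fun hle => by
    have e : K α = K ω := Subgroup.eq_of_le_of_card_ge hle (Nat.card_le_card_of_injective
      (fun k => ⟨u⁻¹ * k * u, (hK u k α).mp (hu ▸ k.2)⟩) fun k l e => by
        have : u⁻¹ * k * u = u⁻¹ * l * u := congrArg Subtype.val e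
        exact Subtype.ext (by simpa using this))
    have := Perm.prim_rel (G := G) (fun x y : Ω => K x = K y) ⟨fun _ => rfl, Eq.symm, Eq.trans⟩
      (fun g x y e => by ext k; rw [hK, hK, e]) hω.symm e
    exact h1 (Subtype.ext (Perm.eq_one_of_forall_smul (α := Ω) fun x => (show h.1 ∈ K x from this α x ▸ hhK).1))
  obtain ⟨k, hk, hk'⟩ := SetLike.not_le_iff_exists.mp hne
  have hkω : k • ω = ω := hk.2 ω ⟨1, one_smul _ _, one_smul _ _⟩
  obtain ⟨γ, hγ, hkγ⟩ : ∃ γ, R ω γ ∧ k • γ ≠ γ := by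
    by_contra hc
    push Not at hc
    exact hk' ⟨hkω, hc⟩
  haveI := hep α γ
  haveI : ((K α).subgroupOf (stabilizer G α)).Normal := ⟨fun n hn g => by
    have := (hK g.1⁻¹ n.1 α).mp (by rw [inv_smul_eq_iff.mpr (Eq.symm g.2)]; exact hn)
    rwa [inv_inv] at this⟩
  have htr : IsPretransitive ((K α).subgroupOf (stabilizer G α)) (orbit (stabilizer G α) γ) :=
    IsQuasiPreprimitive.isPretransitive_of_normal fun e => hkγ (congrArg Subtype.val
      (Set.eq_univ_iff_forall.mp e ⟨γ, mem_orbit_self γ⟩ ⟨⟨k, hk.1⟩, hk⟩))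
  have h2 : ∀ g : G, g • α = α → R ω (g • γ) := fun g hg => by
    obtain ⟨n, hn⟩ := htr.exists_smul_eq ⟨γ, mem_orbit_self γ⟩ ⟨g • γ, ⟨g, hg⟩, rfl⟩
    have := hR n.1.1 _ _ hγ
    rwa [show n.1.1 • ω = ω from n.2.2 ω ⟨1, one_smul _ _, one_smul _ _⟩, show n.1.1 • γ = g • γ from congrArg Subtype.val hn] at this
  have h3 : {y | R α y} = {x | R x γ} := by
    refine Set.eq_of_subset_of_ncard_le ?_ (le_of_eq ?_)
    · rintro _ ⟨g, hg, rfl⟩
      exact hR' g⁻¹ _ _ (by rw [inv_smul_smul]; exact h2 _ (inv_smul_eq_iff.mpr hg.symm))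
    · obtain ⟨v, rfl⟩ := exists_smul_eq G ω γ
      have e1 : {x | R x (v • ω)} = v • orbit (stabilizer G ω) α := by
        ext x
        rw [Set.mem_smul_set_iff_inv_smul_mem]
        exact ⟨fun ⟨g, h1, h2⟩ => ⟨⟨v⁻¹ * g, by rw [mem_stabilizer_iff, mul_smul, h2, inv_smul_smul]⟩,
          by change (v⁻¹ * g) • α = _; rw [mul_smul, h1]⟩, fun ⟨g, hg⟩ => ⟨v * g, by
            rw [mul_smul, ← eq_inv_smul_iff]; exact hg, by rw [mul_smul, show g.1 • ω = ω from g.2]⟩⟩
      rw [e1, Set.ncard_smul_set, Perm.ncard_orbit_stabilizer_comm]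
      exact congrArg _ (Set.ext fun y => (hD y).symm)
  have hγα : γ ≠ α := by rintro rfl; exact hkγ hk.1
  haveI : Nontrivial Ω := ⟨γ, α, hγα⟩
  have s1 : stabilizer G α ≤ stabilizer G {y | R α y} := fun g hg => by
    ext y
    rw [Set.mem_smul_set_iff_inv_smul_mem]
    exact ⟨fun h => by simpa [show g • α = α from hg] using hR g _ _ h, fun h => hR' g _ _ (by
      rwa [smul_inv_smul, hg])⟩
  have s2 : stabilizer G γ ≤ stabilizer G {y | R α y} := fun g hg => by
    rw [h3]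
    ext y
    rw [Set.mem_smul_set_iff_inv_smul_mem]
    exact ⟨fun h => by simpa [show g • γ = γ from hg] using hR g _ _ h, fun h => hR' g _ _ (by
      rwa [smul_inv_smul, hg])⟩
  rcases (IsPreprimitive.isCoatom_stabilizer_of_isPreprimitive G α).le_iff.mp s1 with e | e
  · have : u⁻¹ • {y | R α y} = {y | R α y} := (show u⁻¹ ∈ stabilizer G _ from e ▸ Subgroup.mem_top _)
    have h4 : α ∈ {y | R α y} := by
      rw [← this, Set.mem_smul_set_iff_inv_smul_mem, inv_inv, hu]
      exact ⟨1, one_smul _ _, one_smul _ _⟩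
    obtain ⟨g, g1, g2⟩ := h4
    exact hω (MulAction.injective g (g2.trans g1.symm))
  · exact hH γ (Perm.stabilizer_eq_bot_of_fix hγα fun g hg => (e ▸ s2 : _ ≤ stabilizer G α) hg)

end Cfsg.Agent.S3494
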