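import Mathlib
import Cfsg.Statements.S0106
import Cfsg.Agent.GW.Quat
import Cfsg.Agent.FGS.MinNPC
import Cfsg.Agent.PLocal.PStable
import Cfsg.Agent.BG.AmbHall2

set_option autoImplicit false
open Cfsg

namespace Cfsg.Agent.S0106

open Subgroup Cfsg.Agent.GW

/-- A finite group with generalized quaternion Sylow 2-subgroups either has a normal 2-complement or has a section isomorphic to SL(2,3). -/
theorem result {G : Type*} [Group G] [Finite G] (T : Sylow 2 G) (n : ℕ) (hn : 1 ≤ n) (hT : Nonempty ((T : Subgroup G) ≃* QuaternionGroup (2 ^ n))) : Cfsg.HasNormalPComplement 2 G ∨ ∃ (H K : Subgroup G) (hK : (K.subgroupOf H).Normal), Nonempty ((H ⧸ K.subgroupOf H) ≃* Matrix.SpecialLinearGroup (Fin 2) (ZMod 3)) := by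
  haveI : Fact (Nat.Prime 2) := ⟨Nat.prime_two⟩
  obtain ⟨k, rfl⟩ : ∃ k, n = k + 1 := ⟨n - 1, by omega⟩
  obtain ⟨a, b, h⟩ := exists_gq' hT.some
  refine or_iff_not_imp_right.2 fun h1 => FGS.npc_induction (p := 2)
    (P := fun G _ => R1 G ∧ ¬ Transfer.IsSectionOf G (Matrix.SpecialLinearGroup (Fin 2) (ZMod 3)))
    (fun G _ _ H h => ⟨h.1.sub H, fun e => h.2 ((PLocal.isSectionOf_subgroup H).trans e)⟩)
    (fun G _ _ q Q g hm h => ?_) G ⟨QSyl.r1 ⟨T, a, b, k, h⟩, fun e => h1 e.exists_mulEquiv⟩
  haveI := hm.normal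
  haveI : Group.IsSolvable G := by
    haveI := hm.pgroup.isNilpotent
    have := BG.Amb.solvable_sup (K := Q) (A := zpowers g) inferInstance inferInstance le_normalizer_of_normal
    rw [hm.sup] at this
    exact Group.isSolvable_of_surjective (f := (⊤ : Subgroup G).subtype) fun x => ⟨⟨x, trivial⟩, rfl⟩
  obtain ⟨e⟩ := ((h.1.qsyl hm.not_npc).quot (oddCore G) Inv.odd_card_oddCore).equiv_SL23
    (Core.pPrimeCore_quotient_pPrimeCore 2) fun H hH => by
      have h2 : (H.comap (QuotientGroup.mk' _)).index = 2 := by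
        rw [index_comap_of_surjective _ (QuotientGroup.mk'_surjective _), hH]
      haveI := normal_of_index_eq_two h2
      have := hm.eq_top_of_mem (H.comap (QuotientGroup.mk' _)) (by
        have := pow_index_mem (H := H.comap (QuotientGroup.mk' (oddCore G))) g
        rw [h2] at this
        obtain ⟨m, hm⟩ := exists_pow_eq_self_of_coprime hm.coprime.symm
        exact hm ▸ pow_mem this m)
      rw [this, index_top] at h2
      omega
  exact h.2 ((PLocal.isSectionOf_quotient _).of_surjective e.toMonoidHom e.surjective)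

end Cfsg.Agent.S0106
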