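import Mathlib
import Cfsg.Statements.S0214
import Cfsg.Agent.Inv.Embed

set_option autoImplicit false
open Cfsg

namespace Cfsg.Agent.S0214

/-- Let H be a proper subgroup of the finite group G and P a nontrivial Sylow 2-subgroup of H. Then H is strongly embedded in G if and only if N_G(X) ≤ H for every nontrivial subgroup X of P. -/
theorem result {G : Type*} [Group G] [Finite G] (H : Subgroup G) (hH : H ≠ ⊤) (P : Sylow 2 ↥H) (hP : (P : Subgroup ↥H) ≠ ⊥) : Cfsg.IsStronglyEmbedded H ↔ (∀ X : Subgroup ↥H, X ≤ (P : Subgroup ↥H) → X ≠ ⊥ → Subgroup.normalizer ((X.map H.subtype : Subgroup G) : Set G) ≤ H) := by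
  have hS := LocalEven.isSylowIn_map P
  constructor
  · intro h X hX hX1 g hg
    obtain ⟨t, htX, ht⟩ := LocalEven.exists_mem_orderOf_eq_of_ne_bot (P.2.to_le hX) hX1
    refine Inv.se_mem' h t.2 (by rw [Subgroup.orderOf_coe, ht]) ?_
    exact Subgroup.map_subtype_le X (LocalEven.conj_mem_of_mem_normalizer hg ⟨t, htX, rfl⟩)
  · intro h
    obtain ⟨s, hsP, hs⟩ := LocalEven.exists_mem_orderOf_eq_of_ne_bot P.2 hP
    refine Inv.se_iff.2 ⟨hH, Inv.even_card_of_two hs, fun t htH ht g hg => ?_⟩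
    refine Inv.embed_mem (p := 2) (fun X => X ≠ ⊥) (fun X Y hXY hX => ne_bot_of_le_ne_bot hX hXY)
      (fun X g hX => by rwa [Ne, LocalEven.cj_eq_bot]) hS ?_
      (Inv.isPGroup_zpowers_of_mul_self (Inv.mul_self_of_two ht))
      (by rw [Ne, Subgroup.zpowers_eq_bot]; exact Inv.ne_one_of_two ht)
      (Subgroup.zpowers_le.2 ⟨htH, LocalEven.mem_cj.2 hg⟩)
    intro X hX hX1
    have hXH : X ≤ H := hX.trans hS.1
    have := h (X.subgroupOf H) (fun x hx => LocalEven.mem_map_subtype.1 (hX hx)) (by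
      intro h0
      apply hX1
      rw [← Subgroup.map_subgroupOf_eq_of_le hXH, h0, Subgroup.map_bot])
    rwa [Subgroup.map_subgroupOf_eq_of_le hXH] at this

end Cfsg.Agent.S0214
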