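import Mathlib
import Cfsg.Statements.S0221
import Cfsg.Agent.Inv.NFour

set_option autoImplicit false
open Cfsg

namespace Cfsg.Agent.S0221

/-- Let G be a finite group with no subgroup of index 2 whose 2-rank is at least 3 (it contains an elementary abelian subgroup of order 8). Then the centralizer of every involution of G also contains an elementary abelian subgroup of order 8. -/
theorem result {G : Type*} [Group G] [Finite G] (hno : ∀ H : Subgroup G, H.index ≠ 2) (hrank : ∃ E : Subgroup G, Nat.card E = 8 ∧ ∀ e ∈ E, e ^ 2 = 1) (x : G) (hx : orderOf x = 2) : ∃ E : Subgroup G, E ≤ Subgroup.centralizer ({x} : Set G) ∧ Nat.card E = 8 ∧ ∀ e ∈ E, e ^ 2 = 1 := by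
  haveI : Fact (Nat.Prime 2) := ⟨Nat.prime_two⟩
  obtain ⟨E, hE8, hE2⟩ := hrank
  have hE2' : ∀ e ∈ E, e * e = 1 := fun e he => by rw [← pow_two]; exact hE2 e he
  have hEp : IsPGroup 2 E := IsPGroup.of_card (n := 3) (by rw [hE8]; norm_num)
  obtain ⟨S, hS⟩ := hEp.exists_le_sylow
  obtain ⟨V, hVS, hV, hn⟩ := Inv.exists_normal_four_of_eight S.isPGroup' hS hE8.ge hE2'
  obtain ⟨g, hg1, hg2⟩ := Inv.exists_conj_centralizes_four hno S hV hn hx
  have hxx : x * x = 1 := by rw [← pow_two, ← hx, pow_orderOf_eq_one]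
  have key : ∃ E' : Subgroup G, E' ≤ Subgroup.centralizer ({g * x * g⁻¹} : Set G) ∧ Nat.card E' = 8 ∧ ∀ e ∈ E', e * e = 1 := by
    by_cases hxV : g * x * g⁻¹ ∈ V
    · obtain ⟨c, hc1, hc2, hc3⟩ := Inv.exists_invol_centralizer_four S.isPGroup' hS hE8.ge hE2' hV hn
      obtain ⟨h1, h2⟩ := Inv.exists_eight_of_four hV hc2 (hE2' c hc1) hc3
      refine ⟨_, sup_le (fun v hv => ?_) (Subgroup.zpowers_le.mpr ?_), h1, h2⟩
      · exact Inv.mem_centralizer_single.mpr (Inv.four_commute hV hv hxV)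
      · exact Inv.mem_centralizer_single.mpr (Commute.symm (hc2 _ hxV))
    · have h0 : g * x * g⁻¹ * (g * x * g⁻¹) = 1 := by
        calc g * x * g⁻¹ * (g * x * g⁻¹) = g * (x * x) * g⁻¹ := by group
          _ = 1 := by rw [hxx]; group
      obtain ⟨h1, h2⟩ := Inv.exists_eight_of_four hV hg2 h0 hxV
      refine ⟨_, sup_le (fun v hv => ?_) (Subgroup.zpowers_le.mpr ?_), h1, h2⟩
      · exact Inv.mem_centralizer_single.mpr (hg2 v hv)
      · exact Inv.mem_centralizer_single.mpr (Commute.refl _)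
  obtain ⟨E', h1, h2, h3⟩ := key
  refine ⟨E'.map (MulAut.conj g⁻¹).toMonoidHom, ?_, ?_, ?_⟩
  · rintro _ ⟨e, he, rfl⟩
    have := (Inv.mem_centralizer_single.mp (h1 he)).eq
    refine Inv.mem_centralizer_single.mpr ?_
    show g⁻¹ * e * g⁻¹⁻¹ * x = x * (g⁻¹ * e * g⁻¹⁻¹)
    calc g⁻¹ * e * g⁻¹⁻¹ * x = g⁻¹ * (e * (g * x * g⁻¹)) * g := by group
      _ = _ := by rw [this]; group
  · rw [Subgroup.card_map_of_injective (MulAut.conj g⁻¹).injective, h2]
  · rintro _ ⟨e, he, rfl⟩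
    rw [← map_pow, pow_two, h3 e he, map_one]

end Cfsg.Agent.S0221
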