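import Mathlib
import Cfsg.Statements.S0223
import Cfsg.Agent.Inv.StrongEmb

set_option autoImplicit false
open Cfsg

namespace Cfsg.Agent.S0223

/-- Let H be a proper subgroup of even order of the finite group G. Then H is strongly embedded if and only if (i) C_G(t) ≤ H for every involution t of H and (ii) H controls fusion of its involutions: involutions of H conjugate in G are conjugate in H. -/
theorem result {G : Type*} [Group G] [Finite G] (H : Subgroup G) (hH : H ≠ ⊤) (heven : Even (Nat.card H)) : Cfsg.IsStronglyEmbedded H ↔ ((∀ t ∈ H, orderOf t = 2 → Subgroup.centralizer ({t} : Set G) ≤ H) ∧ (∀ t ∈ H, ∀ s ∈ H, orderOf t = 2 → orderOf s = 2 → IsConj t s → ∃ h ∈ H, h * t * h⁻¹ = s)) := by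
  constructor
  · intro h
    refine ⟨fun t htH ht g hg => Inv.se_commute h htH ht (Inv.mem_centralizer_single.1 hg), ?_⟩
    intro t htH s hsH ht hs hc
    obtain ⟨c, hc⟩ := isConj_iff.1 hc
    exact ⟨c, Inv.se_mem' h htH ht (hc ▸ hsH), hc⟩
  · rintro ⟨h1, h2⟩
    obtain ⟨s, hsH, hs⟩ := Inv.exists_two_mem_of_even heven
    refine Inv.se_of hH hsH hs fun t htH ht g hg => ?_
    obtain ⟨h, hh, e⟩ := h2 t htH _ hg ht (Inv.two_conj ht g) (Inv.isConj_conj g t)
    have h3 : h⁻¹ * g ∈ H := by
      refine h1 t htH ht (Inv.mem_centralizer_single.2 (Inv.commute_iff_conj.2 ?_))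
      calc h⁻¹ * g * t * (h⁻¹ * g)⁻¹ = h⁻¹ * (g * t * g⁻¹) * h := by group
        _ = t := by rw [← e]; group
    simpa using H.mul_mem hh h3

end Cfsg.Agent.S0223
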