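import Mathlib
import Cfsg.Statements.S0224
import Cfsg.Agent.Inv.StrongEmb

set_option autoImplicit false
open Cfsg

namespace Cfsg.Agent.S0224

/-- Let H be a proper subgroup of even order of the finite group G. Then H is strongly embedded if and only if each involution of H fixes exactly one point (namely the coset H) in the action of G on the cosets of H. -/
theorem result {G : Type*} [Group G] [Finite G] (H : Subgroup G) (hH : H ≠ ⊤) (heven : Even (Nat.card H)) : Cfsg.IsStronglyEmbedded H ↔ ∀ t ∈ H, orderOf t = 2 → Nat.card {c : G ⧸ H // t • c = c} = 1 := by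
  have key : ∀ t g : G, t • (g : G ⧸ H) = g ↔ g⁻¹ * t * g ∈ H := by
    intro t g
    rw [MulAction.Quotient.smul_mk, eq_comm, QuotientGroup.eq, smul_eq_mul, mul_assoc]
  rw [Inv.se_iff]
  constructor
  · rintro ⟨-, -, h⟩ t htH ht
    rw [Nat.card_eq_one_iff_exists]
    refine ⟨⟨(1 : G), (key t 1).2 (by simpa using htH)⟩, ?_⟩
    rintro ⟨c, hc⟩
    obtain ⟨g, rfl⟩ := QuotientGroup.mk_surjective c
    refine Subtype.ext (QuotientGroup.eq.2 ?_)
    simpa using h t htH ht g ((key t g).1 hc)
  · intro h
    refine ⟨hH, heven, fun t htH ht g hg => ?_⟩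
    have := (Nat.card_eq_one_iff_unique.1 (h t htH ht)).1
    have e := Subsingleton.elim (α := {c : G ⧸ H // t • c = c})
      ⟨(1 : G), (key t 1).2 (by simpa using htH)⟩ ⟨g, (key t g).2 hg⟩
    simpa using QuotientGroup.eq.1 (congrArg Subtype.val e)

end Cfsg.Agent.S0224
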