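import Mathlib
import Cfsg.Statements.S0250
import Cfsg.Agent.Classical.PSL2Basic

set_option autoImplicit false
set_option backward.isDefEq.respectTransparency false
open Cfsg

namespace Cfsg.Agent.S0250

/-- SL_2(2) is isomorphic to S_3. -/
theorem result {F : Type*} [Field F] [Fintype F] (hF : Fintype.card F = 2) : Nonempty (Matrix.SpecialLinearGroup (Fin 2) F ≃* Equiv.Perm (Fin 3)) := by
  have hF' : Nat.card F = 2 := by rw [Nat.card_eq_fintype_card, hF]
  obtain ⟨e⟩ := Classical.PSL2Basic.psl_equiv_S3 hF'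
  exact ⟨(Classical.PSL2Basic.slEquivPSL
    (Classical.PSL2Basic.even_card_iff.1 (by rw [hF']; norm_num))).trans e⟩

end Cfsg.Agent.S0250
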