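import Mathlib
import Cfsg.Statements.S0336
import Cfsg.Agent.S4F.Main

set_option autoImplicit false
open Cfsg

namespace Cfsg.Agent.S0336

/-- A finite non-abelian simple group of order prime to `3` has the order of a Suzuki
group `q²(q²+1)(q-1)`, `q = 2^(2m+1)`, `m ≥ 1` (stated with the order-level predicate `IsSuzuki`). -/
theorem result {G : Type*} [Group G] [Finite G] [IsSimpleGroup G]
    (hG : ∃ a b : G, a * b ≠ b * a) (h3 : ¬ 3 ∣ Nat.card G) : Cfsg.IsSuzuki G := by
  have hn : ¬ IsMulCommutative G := fun k => by obtain ⟨a, b, h⟩ := hG; exact h (k.is_comm.comm a b)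
  have hF : S4F.F3 G := fun e => h3 (dvd_trans (by simp [Fintype.card_perm, Nat.factorial]) (S4F.sec_card_dvd e))
  rcases S4F.gold' G hF.f4 inferInstance hn with h | h | h
  · exact S4F.se_f3 h hF
  · exact absurd (S4F.three_of_four hn h.2) h3
  · obtain ⟨t, ht⟩ := exists_prime_orderOf_dvd_card' 2 (Ben.even_of_simple hn).two_dvd
    obtain ⟨E, E₀, J⟩ := h.shape t ht
    haveI := J.simple
    exact absurd ((S4F.three_of_four J.nab J.four).trans (Subgroup.card_subgroup_dvd_card E₀)) h3

end Cfsg.Agent.S0336
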