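import Mathlib
import Cfsg.Statements.S0349
import Cfsg.Agent.BN.Basic
import Cfsg.Agent.Gs.Str
import Cfsg.Agent.S1174
import Cfsg.Agent.S0222
-- import your own Cfsg.Agent.* helpers here

set_option autoImplicit false
open Cfsg

namespace Cfsg.Agent.S0349

open Subgroup Cfsg.Agent.BN Cfsg.Agent.GW Cfsg.Agent.LocalEven Cfsg.Agent.BG Cfsg.Agent.Gs

theorem card_two {F : Type} [Field F] [Fintype F] (h : 2 ∣ Fintype.card F) : ∃ n : ℕ, Fintype.card F = 2 ^ n := by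
  obtain ⟨p, _, n, hp, e⟩ := FiniteField.card' F
  rw [e] at h
  obtain rfl := (Nat.prime_dvd_prime_iff_eq Nat.prime_two hp).1 (Nat.prime_two.dvd_of_dvd_pow h)
  exact ⟨n, e⟩


/-- Let a finite simple group have a (B,N)-pair of rank one which is strongly split (`B = U (B ⊓ N)` with `U` nilpotent,
normal in `B` and meeting `N` trivially), with `[G : B]` and `|B ⊓ N|` odd. Then the group is isomorphic to `PSL₂(F)` with
`|F|` a power of `2`, or is simple of Suzuki order, or is isomorphic to `PSU₃` realised over a field with `q²` elements,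
`q = 2^n`, `n ≥ 2`. -/
theorem result {G : Type*} [Group G] [Finite G] [IsSimpleGroup G]
    (P : Cfsg.BNPair G) (hrank : P.rank = 1) (U : Subgroup G) (hUB : U ≤ P.B)
    (hUn : (U.subgroupOf P.B).Normal) (hUnil : Group.IsNilpotent U) (hsplit : U ⊔ (P.B ⊓ P.N) = P.B)
    (hdisj : U ⊓ P.N = ⊥) (hind : Odd P.B.index) (hH : Odd (Nat.card ↥(P.B ⊓ P.N))) :
    (∃ (F : Type) (_ : Field F) (_ : Fintype F), (∃ n : ℕ, Fintype.card F = 2 ^ n) ∧ Nonempty (G ≃* Matrix.ProjectiveSpecialLinearGroup (Fin 2) F)) ∨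
      Cfsg.IsSuzuki G ∨
      (∃ (F : Type) (_ : Field F) (_ : Fintype F) (n : ℕ), 2 ≤ n ∧ Fintype.card F = (2 ^ n) ^ 2 ∧
        Nonempty (G ≃* Cfsg.PSU 3 F (2 ^ n))) := by
  haveI : Fact (Nat.Prime 2) := ⟨Nat.prime_two⟩
  obtain ⟨hsub, ⟨s⟩⟩ := Nat.card_eq_one_iff_unique.mp hrank
  have hW : ∀ w : Weyl P, w = 1 ∨ w = sw P s := fun w => by
    induction w using invGen.induction_left with
    | h1 => exact Or.inl rfl
    | hs t w ih =>
      rw [Subsingleton.elim t s]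
      rcases ih with rfl | rfl
      · right; rw [mul_one]
      · left; exact sw_sq s
  have nU : P.B ≤ 𝐍(U) := (normal_subgroupOf_iff_le_normalizer hUB).1 hUn
  have hc : ∀ g : G, g ∉ P.B → ∃ u ∈ U, ∃ b ∈ P.B, g = u * s * b := fun g hg => by
    obtain ⟨w, hw⟩ := exists_mem_cell (P := P) g
    rcases hW w with rfl | rfl
    · exact absurd (mem_cell_one.mp hw) hg
    obtain ⟨b1, h1, b2, h2, rfl⟩ := exists_of_mem_cell (sw_mem_cell s) hw
    obtain ⟨u, hu, h, hh, rfl⟩ := (PGrp.mem_sup_of_le_normalizer (inf_le_left.trans nU)).1 (hsplit.ge h1)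
    exact ⟨u, hu, _, mul_mem (P.conj_mem _ (inv_mem (P.subset s.2)) h hh) h2, by group⟩
  obtain ⟨T, hT⟩ := exists_isSylowIn 2 P.B
  obtain ⟨S, rfl⟩ := (hT.of_not_dvd_relIndex le_top (by rw [relIndex_top_right]; exact not_two_dvd hind)).exists_sylow_top
  have SU : (S : Subgroup G) ≤ U := fun x hx =>
    let ⟨_, hk⟩ := isPGroup_iff_mem.1 S.isPGroup' x hx
    mem_of_two_of_sup hH (inf_le_left.trans nU) (by rw [sup_comm, hsplit]; exact hT.le hx) hk
  have hS := hT.mono SU hUB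
  have key : ∀ L : Subgroup G, (S : Subgroup G) ≤ L → 𝐂((S : Subgroup G)) ≤ L → U ≤ L := fun L h1 h2 =>
    le_of_nil hUnil fun p hp _ => by
      haveI : Fact p.Prime := ⟨hp⟩
      by_cases e : p = 2
      · exact e ▸ hS.pCoreOf_le.trans h1
      · exact (le_centralizer_of_nil hUnil e (isPGroup_pCoreOf U) S.isPGroup' (pCoreOf_le U) SU).trans h2
  have nS : P.B ≤ 𝐍((S : Subgroup G)) := fun g hg => by
    obtain ⟨n, hn, x, hx, rfl⟩ := hS.frattini (nU hg)
    exact mul_mem (key _ le_normalizer (cent_le_norm' _) hn) hx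
  have B1 : P.B ≠ ⊤ := fun e => not_mem_B s (e.ge (mem_top _))
  have fix : ∀ z ∈ (S : Subgroup G) ⊓ 𝐂((S : Subgroup G)), z ≠ 1 → ∀ g, g * z * g⁻¹ ∈ P.B → g ∈ P.B := by
    intro z hz z1 g hg
    by_contra hg'
    have hz' := key (cz z) (le_cz_iff.2 hz.2) (cent_le_cz hz.1)
    have e : ∀ g, g ∉ P.B → (g * z * g⁻¹ ∈ P.B ↔ (s : G)⁻¹ * z * s ∈ P.B) := fun g hg => by
      obtain ⟨u, hu, b, hb, e⟩ := hc g⁻¹ fun m => hg (inv_mem_iff.1 m)
      have : g * z * g⁻¹ = b⁻¹ * ((s : G)⁻¹ * (u⁻¹ * z * u⁻¹⁻¹) * s) * b := by rw [← inv_inv g, e]; group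
      rw [this, conj_eq_of_mem_cz (inv_mem (hz' hu)), mul_mem_cancel_right hb, mul_mem_cancel_left (inv_mem hb)]
    refine z1 (mem_bot.1 (((IsSimpleGroup.eq_bot_or_eq_top_of_normal P.B.normalCore inferInstance).resolve_right
      fun e => B1 (top_le_iff.1 (e.ge.trans (normalCore_le _)))).le fun k => ?_))
    by_cases hk : k ∈ P.B
    · exact mul_mem (mul_mem hk (hT.le hz.1)) (inv_mem hk)
    · exact (e k hk).2 ((e g hg').1 hg)
  have S0 : (S : Subgroup G) ≠ ⊥ := (isSylowIn_top S).ne_bot (Nat.two_dvd_ne_zero.not_right.2 fun e =>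
    not_mem_B s (mem_of_sq_mem (odd_orderOf (Nat.odd_iff.2 e) (mem_top _)) (P.sq_mem s s.2)))
  have T0 := inf_centralizer_ne_bot S.isPGroup' S.isPGroup' le_normalizer S0
  obtain ⟨M, hM⟩ := S1174.result S _ T0 ⟨inf_le_left, fun z hz g hg => by
      by_cases z1 : z = 1
      · simp [z1]
      · exact conj_mem_of_mem_normalizer (le_normalizer_inf nS (nS.trans (Amb.norm_le_norm_cent _))
          (fix z hz z1 g (hT.le hg))) hz⟩
    fun e => B1 (top_le_iff.1 (e.ge.trans (iSup_le fun t g hg => fix t t.2.1 (ne_one_of_orderOf_eq t.2.2) g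
      (by rw [conj_eq_of_mem_cz hg]; exact hT.le t.2.1.1))))
  obtain ⟨z, hz, z1⟩ := Comp2.exists_mem_ne_one T0
  rcases S0222.result (G := G) ⟨s, z, fun e => not_mem_B s (fix z hz z1 s
    (by rw [e, mul_inv_cancel_right]; exact hT.le hz.1))⟩ M hM with ⟨F, _, _, _, h, e⟩ | h | ⟨F, _, _, q, h1, h2, h3, e⟩
  · obtain ⟨n, -, hn⟩ := FiniteField.card F 2
    exact Or.inl ⟨F, _, _, ⟨n, hn⟩, e⟩
  · exact Or.inr (Or.inl h)
  · obtain ⟨k, hk⟩ := card_two (h1 ▸ dvd_pow h2.two_dvd two_ne_zero)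
    obtain ⟨n, -, rfl⟩ := (Nat.dvd_prime_pow Nat.prime_two).1 (hk ▸ h1 ▸ dvd_pow_self q two_ne_zero : q ∣ 2 ^ k)
    exact Or.inr (Or.inr ⟨F, _, _, n, (Nat.pow_le_pow_iff_right (by norm_num : 1 < 2)).1 h3, h1, e⟩)

end Cfsg.Agent.S0349
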