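import Mathlib
import Cfsg.Statements.S0421
import Cfsg.Agent.O12.M
-- Template for statement S0421 (row 421; see /opt/grader/pristine/manifest.json for weights).
-- Copy to Cfsg/Agent/S0421.lean and replace the sorry. The statement below is byte-identical to the frozen
-- statement Cfsg.CfsgFrozen.S0421 (Cfsg/Statements/S0421.lean; the theorem Cfsg.m12_unique_by_order);
-- the grader kernel-checks Cfsg.Agent.S0421.result against that frozen type. Keep the theorem IN THIS FILE
-- (a `result` declared elsewhere and merely imported here is not credited); helpers may live anywhere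
-- under Cfsg/Agent/.
-- import your own Cfsg.Agent.* helpers here

set_option autoImplicit false
open scoped Pointwise
open Cfsg

namespace Cfsg.Agent.S0421

/-- Simple groups of order 95040 are all isomorphic to the concrete Mathieu group of degree 12. -/
theorem result {G : Type*} [Group G] [Finite G] (hG : Cfsg.IsM12 G) (d : Finset Cfsg.GolayPt) (hd : d ∈ Cfsg.dodecads) : Nonempty (G ≃* ↥(MulAction.stabilizer Cfsg.M24 d)) := by
  obtain ⟨e⟩ := Golay.equiv_St (Golay.dodecad_trans Golay.squareDodecad_mem hd)
    (K := MulAction.stabilizer M24 d) fun g => Iff.rfl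
  have := hG.1
  obtain ⟨f⟩ := O12.equiv_M12 hG.2
  exact ⟨f.trans (e.trans (MulEquiv.subgroupCongr Golay.M12_eq.symm)).symm⟩
end Cfsg.Agent.S0421
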