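import Mathlib
import Cfsg.Statements.S0504
import Cfsg.Agent.Comp2.Kill4
import Cfsg.Agent.S1221

set_option autoImplicit false
open Cfsg

namespace Cfsg.Agent.S0504

open Cfsg.Agent.Comp2


/-- Let G be a finite group containing an elementary abelian subgroup of order 8, with no nontrivial normal subgroup of
odd order, not of component type, and with a Sylow 2-subgroup whose commuting graph of Klein four-subgroups is
connected. Then every 2-local subgroup H of G satisfies C_H(O₂(H)) ≤ O₂(H). -/
theorem result {G : Type*} [Group G] [Finite G]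
    (h3 : ¬ Cfsg.PRankLE 2 2 G) (hO : Cfsg.oddCore G = ⊥) (hc : ¬ Cfsg.IsComponentType G) (S : Sylow 2 G)
    (hS : Cfsg.IsFourConnected (S : Subgroup G)) : Cfsg.IsCharacteristicTwoType G := by
  have h1 := fun (x : G) hx => constrained_of_not_componentType hc (t := x) hx
  refine charTwo_of_cores ?_ h1 fun x hx => kill_cores (fun H hH => S1221.result H hH)
    (fun x hx => good_of_connected h3 S hS hx) h1 hO hx
  obtain ⟨A, hA, h8⟩ := BG.Rank.not_pRankLE_iff'.1 h3
  exact even_iff_two_dvd.2 ((show 2 ∣ Nat.card A from h8 ▸ by norm_num).trans A.card_subgroup_dvd_card)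

end Cfsg.Agent.S0504
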