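import Mathlib
import Cfsg.Statements.S0647
import Cfsg.Agent.PLocal.ZJ

set_option autoImplicit false
open Cfsg

namespace Cfsg.Agent.S0647

/-- For a nonempty family of maximal abelian subgroups of a finite group, the intersection of the family is the centre of the subgroup it generates, which is also the full centralizer of that subgroup. -/
theorem result {S : Type*} [Group S] [Finite S] (𝒜 : Set (Subgroup S)) (hne : 𝒜.Nonempty) (hab : ∀ A ∈ 𝒜, IsMulCommutative A) (hmax : ∀ A ∈ 𝒜, ∀ B : Subgroup S, IsMulCommutative B → A ≤ B → B = A) : sInf 𝒜 = sSup 𝒜 ⊓ Subgroup.centralizer ((sSup 𝒜 : Subgroup S) : Set S) ∧ sInf 𝒜 = Subgroup.centralizer ((sSup 𝒜 : Subgroup S) : Set S) := by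
  have h1 : sInf 𝒜 ≤ Subgroup.centralizer ((sSup 𝒜 : Subgroup S) : Set S) := by
    rw [Subgroup.le_centralizer_iff]
    exact sSup_le fun A hA => (Subgroup.le_centralizer (H := A) (h := hab A hA)).trans
      (Subgroup.centralizer_le (SetLike.coe_subset_coe.2 (sInf_le hA)))
  have h2 : Subgroup.centralizer ((sSup 𝒜 : Subgroup S) : Set S) ≤ sInf 𝒜 := by
    refine le_sInf fun A hA x hx => ?_
    rw [← hmax A hA _ (PGrp.isMulCommutative_sup_zpowers (hab A hA)
      (Subgroup.centralizer_le (SetLike.coe_subset_coe.2 (le_sSup hA)) hx)) le_sup_left]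
    exact Subgroup.mem_sup_right (Subgroup.mem_zpowers x)
  obtain ⟨A, hA⟩ := hne
  exact ⟨le_antisymm (le_inf ((sInf_le hA).trans (le_sSup hA)) h1) (inf_le_right.trans h2),
    le_antisymm h1 h2⟩

end Cfsg.Agent.S0647
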