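import Mathlib
import Cfsg.Statements.S0650
import Cfsg.Agent.PLocal.Replace

set_option autoImplicit false
open Cfsg

namespace Cfsg.Agent.S0650

/-- The Glauberman replacement Theorem: from an abelian A ⊇ [B, B] not normalized by the normal subgroup B and a suitable b ∈ B one gets the abelian subgroup A* = (A ∩ b⁻¹Ab)[A, b] of the same order, containing [B, B], meeting B strictly more than A does but not containing B, mutually normalizing with A, with strictly larger normalizer containing b, and (p odd) of no larger exponent. -/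
theorem result {S : Type*} [Group S] [Finite S] {p : ℕ} [Fact p.Prime] (hS : IsPGroup p S) (B : Subgroup S) [B.Normal] (hB2 : p = 2 → IsMulCommutative B) (A : Subgroup S) (hA : IsMulCommutative A) (hBA : ⁅B, B⁆ ≤ A) (hnot : ¬ B ≤ Subgroup.normalizer (A : Set S)) (b : S) (hb : b ∈ B) (hbN : b ∈ Subgroup.normalizer ((Subgroup.normalizer (A : Set S)) : Set S)) (hbA : b ∉ Subgroup.normalizer (A : Set S)) : Nat.card ↥((A ⊓ A.map (MulAut.conj (b⁻¹)).toMonoidHom) ⊔ Subgroup.closure {g : S | ∃ a ∈ A, g = a * b⁻¹ * a⁻¹ * b}) = Nat.card A ∧ IsMulCommutative ↥((A ⊓ A.map (MulAut.conj (b⁻¹)).toMonoidHom) ⊔ Subgroup.closure {g : S | ∃ a ∈ A, g = a * b⁻¹ * a⁻¹ * b}) ∧ ⁅B, B⁆ ≤ ((A ⊓ A.map (MulAut.conj (b⁻¹)).toMonoidHom) ⊔ Subgroup.closure {g : S | ∃ a ∈ A, g = a * b⁻¹ * a⁻¹ * b}) ∧ A ⊓ B < ((A ⊓ A.map (MulAut.conj (b⁻¹)).toMonoidHom) ⊔ Subgroup.closure {g : S | ∃ a ∈ A, g = a * b⁻¹ * a⁻¹ * b}) ⊓ B ∧ ((A ⊓ A.map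 (MulAut.conj (b⁻¹)).toMonoidHom) ⊔ Subgroup.closure {g : S | ∃ a ∈ A, g = a * b⁻¹ * a⁻¹ * b}) ⊓ B < B ∧ A ≤ Subgroup.normalizer (((A ⊓ A.map (MulAut.conj (b⁻¹)).toMonoidHom) ⊔ Subgroup.closure {g : S | ∃ a ∈ A, g = a * b⁻¹ * a⁻¹ * b} : Subgroup S) : Set S) ∧ ((A ⊓ A.map (MulAut.conj (b⁻¹)).toMonoidHom) ⊔ Subgroup.closure {g : S | ∃ a ∈ A, g = a * b⁻¹ * a⁻¹ * b}) ≤ Subgroup.normalizer (A : Set S) ∧ b ∈ Subgroup.normalizer (((A ⊓ A.map (MulAut.conj (b⁻¹)).toMonoidHom) ⊔ Subgroup.closure {g : S | ∃ a ∈ A, g = a * b⁻¹ * a⁻¹ * b} : Subgroup S) : Set S) ∧ Subgroup.normalizer (A : Set S) < Subgroup.normalizer (((A ⊓ A.map (MulAut.conj (b⁻¹)).toMonoidHom) ⊔ Subgroup.closure {g : S | ∃ a ∈ A, g = a * b⁻¹ * a⁻¹ * b} : Subgroup S) : Set S) ∧ (p ≠ 2 → Monoid.exponent ↥((A ⊓ A.map (MulAut.conj (b⁻¹)).toMonoidHom) ⊔ Subgroup.closure {g : S | ∃ a ∈ A, g = a * b⁻¹ * a⁻¹ * b}) ∣ Monoid.exponent A) := by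
  have h : PLocal.ReplHyp A B b := PLocal.replHyp_of_normalizer hA hBA hb
    Subgroup.le_normalizer_of_normal Subgroup.le_normalizer le_rfl hbN
  have hodd : p ≠ 2 → ∀ w : S, w ^ 2 = 1 → w = 1 := fun hp w hw => by
    obtain ⟨k, hk⟩ := hS w
    have h1 := orderOf_dvd_of_pow_eq_one hw
    have h2 := orderOf_dvd_of_pow_eq_one hk
    have h3 : Nat.Coprime 2 (p ^ k) :=
      ((Nat.coprime_primes Nat.prime_two Fact.out).2 hp.symm).pow_right k
    exact orderOf_eq_one_iff.1 (Nat.eq_one_of_dvd_coprimes h3 h1 h2)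
  have hc : IsMulCommutative (PLocal.repl A b) := by
    by_cases hp : p = 2
    · exact h.repl_comm (Or.inl (hB2 hp))
    · exact h.repl_comm (Or.inr fun w _ => hodd hp w)
  have hN : Subgroup.normalizer (A : Set S) ≤ Subgroup.normalizer (PLocal.repl A b : Set S) :=
    fun n hn => h.mem_normalizer_repl' hn (Subgroup.le_normalizer_of_normal (K := ⊤) trivial)
      (LocalEven.inv_conj_mem_of_mem_normalizer hbN hn) (LocalEven.conj_mem_of_mem_normalizer hbN hn)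
  refine ⟨h.card_repl, hc, h.der_le_repl, h.not_le hbA, lt_of_le_of_ne inf_le_right fun e => ?_,
    Subgroup.le_normalizer.trans hN, h.repl_le_normalizer, h.mem_normalizer_repl,
    lt_of_le_of_ne hN fun e => hbA (e ▸ h.mem_normalizer_repl), fun hp => ?_⟩
  · exact hbA (h.repl_le_normalizer (inf_eq_right.1 e hb))
  · rw [Monoid.exponent_dvd_iff_forall_pow_eq_one]
    rintro ⟨g, hg⟩
    refine Subtype.ext (h.pow_eq_one hc ?_ (fun a ha => congrArg Subtype.val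
      (Monoid.pow_exponent_eq_one (⟨a, ha⟩ : A))) hg)
    obtain ⟨k, hk⟩ := IsPGroup.iff_card.1 (hS.to_subgroup A)
    refine Odd.of_dvd_nat ?_ (Group.exponent_dvd_nat_card (G := A))
    rw [hk]
    exact ((Fact.out : p.Prime).odd_of_ne_two hp).pow

end Cfsg.Agent.S0650
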