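import Mathlib
import Cfsg.Statements.S0655
import Cfsg.Agent.PLocal.ZJ

set_option autoImplicit false
open Cfsg

namespace Cfsg.Agent.S0655

/-- In a p-group the intersection of all elementary abelian subgroups of largest order is the subgroup generated by the elements of order dividing p in the centre (equivalently the centralizer) of the elementary-version Thompson subgroup. -/
theorem result {S : Type*} [Group S] [Finite S] {p : ℕ} [Fact p.Prime] (hS : IsPGroup p S) : sInf (Cfsg.maxElementaryAbelianSubgroups p S) = Cfsg.omegaCenterThompson p S ∧ Cfsg.omegaCenterThompson p S = Cfsg.omegaOne p (Subgroup.centralizer (Cfsg.thompsonSubgroup p S : Set S)) := by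
  rw [Cfsg.omegaCenterThompson, ← PLocal.abFam_top, ← PLocal.jn_top]
  obtain ⟨A, hA⟩ := PLocal.abFam_nonempty p (⊤ : Subgroup S)
  have h1 : sInf (PLocal.abFam p (⊤ : Subgroup S)) ≤ omegaOne p (PLocal.jn p (⊤ : Subgroup S) ⊓
      Subgroup.centralizer (PLocal.jn p (⊤ : Subgroup S) : Set S)) := by
    refine LocalEven.le_omegaOne (le_inf ((sInf_le hA).trans (PLocal.abFam.le_jn hA)) ?_)
      fun a ha => hA.1.2.2 a (sInf_le hA ha)
    rw [Subgroup.le_centralizer_iff]
    exact sSup_le fun A hA => (Subgroup.le_centralizer (H := A) (h := hA.1.2.1)).trans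
      (Subgroup.centralizer_le (SetLike.coe_subset_coe.2 (sInf_le hA)))
  have h2 : omegaOne p (Subgroup.centralizer (PLocal.jn p (⊤ : Subgroup S) : Set S)) ≤
      sInf (PLocal.abFam p (⊤ : Subgroup S)) :=
    le_sInf fun B hB => PGrp.omegaOne_le_iff.2 fun x hx hxp => PLocal.abFam.mem_of_centralizes hB
      trivial (Subgroup.centralizer_le (PLocal.abFam.le_jn hB) hx) hxp
  have h3 := PGrp.omegaOne_mono (p := p) (inf_le_right : PLocal.jn p (⊤ : Subgroup S) ⊓
      Subgroup.centralizer (PLocal.jn p (⊤ : Subgroup S) : Set S) ≤ _)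
  exact ⟨le_antisymm h1 (h3.trans h2), le_antisymm h3 (h2.trans h1)⟩

end Cfsg.Agent.S0655
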