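import Mathlib
import Cfsg.Statements.S0713
import Cfsg.Agent.Perm.Multi

set_option autoImplicit false
open Cfsg

namespace Cfsg.Agent.S0713


/-- Jordan's Theorem: a primitive permutation group of degree `n ≥ 5` containing a `p`-cycle for a prime `p ≤ n - 3` contains the alternating group. -/
theorem result {α : Type*} [Fintype α] [DecidableEq α] (G : Subgroup (Equiv.Perm α)) (hG : MulAction.IsPreprimitive G α) {p : ℕ} (hp : p.Prime) (hn : 5 ≤ Fintype.card α) (hpn : p + 3 ≤ Fintype.card α) {g : Equiv.Perm α} (hgc : g.IsCycle) (hgp : g.support.card = p) (hg : g ∈ G) : alternatingGroup α ≤ G := by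
  classical
  haveI := Fact.mk hp
  set s : Set α := ((g.support : Set α))ᶜ with hs
  have hscard : s.ncard + p = Fintype.card α := by
    rw [hs, ← hgp, ← Set.ncard_coe_finset, add_comm, Set.ncard_add_ncard_compl,
      Nat.card_eq_fintype_card]
  obtain ⟨n, hn⟩ : ∃ n, s.ncard = n + 1 := ⟨s.ncard - 1, by omega⟩
  have hp2 := hp.two_le
  have hn2 : n + 2 < Nat.card α := by rw [Nat.card_eq_fintype_card]; omega
  have hprim : MulAction.IsPreprimitive (fixingSubgroup G s) (SubMulAction.ofFixingSubgroup G s) := by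
    have := Equiv.Perm.isPretransitive_of_isCycle_mem hgc hg
    apply MulAction.IsPreprimitive.of_prime_card
    convert hp
    rw [Nat.card_eq_fintype_card, Fintype.card_subtype, ← hgp]
    apply congr_arg
    ext x
    simp [SubMulAction.mem_ofFixingSubgroup_iff, hs]
  have hmul := hG.isMultiplyPreprimitive hn hn2 hprim
  have htr : MulAction.IsMultiplyPretransitive G α (n + 2) := inferInstance
  have hmem : ∀ x, x ∈ s ↔ g x = x := by intro x; simp [hs]
  -- Sylow subgroups of the pointwise stabiliser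
  have hH : ¬ p ^ 2 ∣ Nat.card (fixingSubgroup G s) := by
    intro hd
    have hinj : Function.Injective (MulAction.toPermHom (fixingSubgroup G s)
        (SubMulAction.ofFixingSubgroup G s)) := by
      rw [injective_iff_map_eq_one]
      intro k hk
      ext x
      by_cases hx : x ∈ s
      · exact (mem_fixingSubgroup_iff G).mp k.2 x hx
      · have := congrArg (fun u : Equiv.Perm (SubMulAction.ofFixingSubgroup G s) => (u ⟨x, hx⟩).1) hk
        exact this
    have h1 := Subgroup.card_dvd_of_injective _ hinj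
    rw [Nat.card_perm] at h1
    have h2 : Nat.card (SubMulAction.ofFixingSubgroup G s) = p := by
      rw [Nat.card_eq_fintype_card, Fintype.card_subtype, ← hgp]
      apply congr_arg
      ext x
      simp [SubMulAction.mem_ofFixingSubgroup_iff, hs]
    rw [h2] at h1
    have h3 := hd.trans h1
    rw [← Nat.mul_factorial_pred hp.ne_zero, pow_two] at h3
    have h4 := Nat.dvd_of_mul_dvd_mul_left hp.pos h3
    rw [hp.dvd_factorial] at h4
    omega
  have hord : orderOf g = p := by rw [hgc.orderOf, hgp]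
  -- normalising elements inducing a prescribed permutation of `s`
  have norm : ∀ τ : Equiv.Perm α, (∀ x ∈ s, τ x ∈ s) → ∃ x ∈ G, (∀ a ∈ s, x a = τ a) ∧
      ∃ i : ℕ, x * g * x⁻¹ = g ^ i := by
    intro τ hτ
    obtain ⟨x, hx⟩ := Perm.multi_set htr hn2.le s (by omega) τ τ.injective.injOn
    have hxs : ∀ a ∈ s, x.1⁻¹ a ∈ s := by
      intro a ha
      have hsurj : Set.SurjOn τ s s :=
        (Set.toFinite s).surjOn_iff_bijOn_of_mapsTo hτ |>.mpr
          ((Set.toFinite s).injOn_iff_bijOn_of_mapsTo hτ |>.mp τ.injective.injOn)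
      obtain ⟨b, hb, rfl⟩ := hsurj ha
      have : x.1 b = τ b := hx b hb
      rw [← this]; simpa using hb
    let a : fixingSubgroup G s := ⟨⟨g, hg⟩, (mem_fixingSubgroup_iff G).mpr fun y hy => (hmem y).mp hy⟩
    let b : fixingSubgroup G s := ⟨x * ⟨g, hg⟩ * x⁻¹, (mem_fixingSubgroup_iff G).mpr fun y hy => by
      change x.1 (g (x.1⁻¹ y)) = y
      rw [(hmem _).mp (hxs y hy)]; simp⟩
    have ha : orderOf a = p := by
      rw [← Subgroup.orderOf_coe, ← Subgroup.orderOf_coe]; exact hord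
    have hb : orderOf b = p := by
      rw [← Subgroup.orderOf_coe, ← Subgroup.orderOf_coe]
      change orderOf (x.1 * g * x.1⁻¹) = p
      rw [← hord]
      exact (SemiconjBy.orderOf_eq x.1 (by simp [SemiconjBy])).symm
    obtain ⟨h, i, hi⟩ := Perm.exists_conj_eq_pow hH ha hb
    refine ⟨h.1.1 * x.1, G.mul_mem h.1.2 x.2, fun y hy => ?_, i, ?_⟩
    · have e1 : x.1 y = τ y := hx y hy
      rw [Equiv.Perm.mul_apply, e1]
      exact (mem_fixingSubgroup_iff G).mp h.2 _ (hτ y hy)
    · have := congrArg (fun u : fixingSubgroup G s => u.1.1) hi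
      simp only [Subgroup.coe_mul, InvMemClass.coe_inv, SubmonoidClass.coe_pow, a, b] at this
      rw [← this]; group
  obtain ⟨a, b, c, ha, hb, hc, hab, hac, hbc⟩ := (Set.two_lt_ncard_iff (s := s)).mp (by omega)
  have hsw : ∀ u v, u ∈ s → v ∈ s → ∀ x ∈ s, Equiv.swap u v x ∈ s := by
    intro u v hu hv x hx
    rw [Equiv.swap_apply_def]; split_ifs <;> assumption
  obtain ⟨x, hxG, hx, i, hi⟩ := norm (Equiv.swap a b) (hsw a b ha hb)
  obtain ⟨y, hyG, hy, j, hj⟩ := norm (Equiv.swap a c) (hsw a c ha hc)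
  set z := (y * x)⁻¹ * (x * y) with hz
  have hzg : z * g = g * z := by
    have e1 : (x * y) * g * (x * y)⁻¹ = g ^ (i * j) := by
      rw [show (x * y) * g * (x * y)⁻¹ = x * (y * g * y⁻¹) * x⁻¹ by group, hj, ← conj_pow, hi,
        pow_mul]
    have e2 : (y * x) * g * (y * x)⁻¹ = g ^ (i * j) := by
      rw [show (y * x) * g * (y * x)⁻¹ = y * (x * g * x⁻¹) * y⁻¹ by group, hi, ← conj_pow, hj,
        ← pow_mul, mul_comm]
    rw [← e1] at e2
    rw [hz]
    calc (y * x)⁻¹ * (x * y) * g = (y * x)⁻¹ * ((x * y) * g * (x * y)⁻¹) * (x * y) := by group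
      _ = g * ((y * x)⁻¹ * (x * y)) := by rw [← e2]; group
  let τ := (Equiv.swap a c * Equiv.swap a b)⁻¹ * (Equiv.swap a b * Equiv.swap a c)
  have hzτ : ∀ u ∈ s, z u = τ u := by
    intro u hu
    have : (y * x) (τ u) = (x * y) u := by
      have hτu : τ u ∈ s := by
        simp only [τ, mul_inv_rev, Equiv.swap_inv, Equiv.Perm.coe_mul, Function.comp_apply]
        exact hsw _ _ ha hb _ (hsw _ _ ha hc _ (hsw _ _ ha hb _ (hsw _ _ ha hc _ hu)))
      simp only [Equiv.Perm.coe_mul, Function.comp_apply]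
      rw [hx _ hτu, hy _ (hsw _ _ ha hb _ hτu), hy _ hu, hx _ (hsw _ _ ha hc _ hu)]
      simp [τ]
    rw [hz, Equiv.Perm.mul_apply, ← this]; simp
  obtain ⟨u, hu, hucyc⟩ := id hgc
  have hzu : g (z u) ≠ z u := by
    intro h
    rw [← Equiv.Perm.mul_apply, ← hzg, Equiv.Perm.mul_apply] at h
    exact hu (z.injective h)
  obtain ⟨k, hk⟩ := hucyc hzu
  have hτ3 : τ.IsThreeCycle := by
    have h3 := Equiv.Perm.isThreeCycle_swap_mul_swap_same hab hac hbc
    have : τ = (Equiv.swap a b * Equiv.swap a c) * (Equiv.swap a b * Equiv.swap a c) := by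
      simp [τ]
    rw [this]
    exact h3.isThreeCycle_sq
  have hτfix : ∀ v, v ∉ s → τ v = v := by
    intro v hv
    have h1 : v ≠ a := fun h => hv (h ▸ ha)
    have h2 : v ≠ b := fun h => hv (h ▸ hb)
    have h3 : v ≠ c := fun h => hv (h ▸ hc)
    simp [τ, Equiv.swap_apply_of_ne_of_ne, h1, h2, h3]
  have hw : τ = (g ^ k)⁻¹ * z := by
    ext v
    by_cases hv : v ∈ s
    · rw [Equiv.Perm.mul_apply (g ^ k)⁻¹, hzτ v hv, Equiv.Perm.eq_inv_iff_eq]
      apply Equiv.Perm.zpow_apply_eq_self_of_apply_eq_self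
      rw [← hmem, ← hzτ v hv, hmem, ← Equiv.Perm.mul_apply, ← hzg, Equiv.Perm.mul_apply,
        (hmem v).mp hv]
    · rw [hτfix v hv]
      obtain ⟨l, rfl⟩ := hucyc (mt (hmem v).mpr hv)
      have hc : Commute z g := hzg
      rw [Equiv.Perm.mul_apply, Equiv.Perm.eq_inv_iff_eq, ← Equiv.Perm.mul_apply z,
        (hc.zpow_right l).eq, Equiv.Perm.mul_apply, ← hk, ← Equiv.Perm.mul_apply,
        ← Equiv.Perm.mul_apply, ← zpow_add, ← zpow_add, add_comm]
  apply Equiv.Perm.alternatingGroup_le_of_isPreprimitive_of_isThreeCycle_mem hG hτ3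
  rw [hw, hz]
  exact G.mul_mem (G.inv_mem (G.zpow_mem hg k)) (G.mul_mem (G.inv_mem (G.mul_mem hyG hxG))
    (G.mul_mem hxG hyG))

end Cfsg.Agent.S0713
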