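import Mathlib
import Cfsg.Statements.S0799
import Cfsg.Agent.Classical.PSL2Basic

set_option autoImplicit false
set_option backward.isDefEq.respectTransparency false
open Cfsg

namespace Cfsg.Agent.S0799

/-- Dickson's classification of the subgroups of PSL_2(q), q a power of the prime p, d = gcd(2, q − 1): every subgroup H is (a) cyclic or dihedral with k dividing (q+1)/d or (q−1)/d (cyclic of order k, or dihedral of order 2k), (b) isomorphic to a subgroup of the normaliser of a Sylow p-subgroup, (c) isomorphic to A_4, S_4 or A_5, or (d) isomorphic to PSL_2(K) or PGL_2(K) for a finite field K with |K|^m = q. -/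
theorem result {F : Type*} [Field F] [Fintype F] {q : ℕ} (hF : Fintype.card F = q) (p : ℕ) [Fact p.Prime] [CharP F p] (H : Subgroup (Matrix.ProjectiveSpecialLinearGroup (Fin 2) F)) : (∃ k : ℕ, (k ∣ (q + 1) / Nat.gcd 2 (q - 1) ∨ k ∣ (q - 1) / Nat.gcd 2 (q - 1)) ∧ ((IsCyclic H ∧ Nat.card H = k) ∨ Nonempty (H ≃* DihedralGroup k))) ∨ (∃ (P : Sylow p (Matrix.ProjectiveSpecialLinearGroup (Fin 2) F)) (K : Subgroup (Matrix.ProjectiveSpecialLinearGroup (Fin 2) F)), K ≤ Subgroup.normalizer ((P : Subgroup (Matrix.ProjectiveSpecialLinearGroup (Fin 2) F)) : Set (Matrix.ProjectiveSpecialLinearGroup (Fin 2) F)) ∧ Nonempty (H ≃* K)) ∨ Nonempty (H ≃* alternatingGroup (Fin 4)) ∨ Nonempty (H ≃* Equiv.Perm (Fin 4)) ∨ Nonempty (H ≃* alternatingGroup (Fin 5)) ∨ (∃ (K : Type) (_ : Field K) (_ : Fintype K) (m : ℕ), Fintype.card K ^ m = q ∧ (Nonempty (H ≃* Matrix.ProjectiveSpecialLinearGroup (Fin 2) K) ∨ Nonempty (H ≃* Matrix.ProjGenLinGroup (Fin 2) K))) := by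
  rw [← Nat.card_eq_fintype_card] at hF
  subst hF
  have hρ : Function.Injective (Classical.PSL2Basic.toP.comp H.subtype) :=
    Classical.PSL2Basic.toP_injective.comp H.subtype_injective
  rcases Classical.PSL2Basic.dickson p _ hρ with ⟨-, x, hx⟩ | ⟨h1, h2⟩ | h | h | h | h |
    ⟨L, c, -, h⟩
  · obtain ⟨P, hP⟩ := Classical.PSL2Basic.exists_sylow_normalizer_eq (p := p) x
    refine Or.inr (Or.inl ⟨P, H, fun g hg => ?_, ⟨MulEquiv.refl _⟩⟩)
    rw [hP, MulAction.mem_stabilizer_iff, ← Classical.P1.toPGL_smul]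
    exact hx ⟨g, hg⟩
  · exact Or.inl ⟨_, Classical.PSL2Basic.card_dvd_of_isCyclic (p := p) H.subtype
      H.subtype_injective h2, Or.inl ⟨h1, rfl⟩⟩
  · obtain ⟨k, h1, h2⟩ := Classical.PSL2Basic.dihedral_of_isDih H.subtype H.subtype_injective h
    exact Or.inl ⟨k, h1, Or.inr h2⟩
  · exact Or.inr (Or.inr (Or.inl h))
  · exact Or.inr (Or.inr (Or.inr (Or.inl h)))
  · exact Or.inr (Or.inr (Or.inr (Or.inr (Or.inl h))))
  · obtain ⟨K, _, _, ⟨e⟩⟩ := Classical.Congr.exists_small L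
    obtain ⟨m, -, hm⟩ := Classical.Congr.exists_card_eq_pow_of_ringHom L.subtype
    refine Or.inr (Or.inr (Or.inr (Or.inr (Or.inr ⟨K, inferInstance, inferInstance, m, ?_, ?_⟩))))
    · rw [← Nat.card_eq_fintype_card, Nat.card_congr e.toEquiv, hm]
    · rcases h with h | h
      · obtain ⟨e'⟩ := Classical.PSL2Basic.equiv_of_conj_eq _ hρ h
        exact Or.inr ⟨e'.trans ((Classical.P1Ident.subPGLEquiv L).symm.trans
          (Classical.Congr.pglCongr e).symm)⟩
      · obtain ⟨e'⟩ := Classical.PSL2Basic.equiv_of_conj_eq _ hρ h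
        exact Or.inl ⟨e'.trans ((Classical.P1Ident.subPSLEquiv L).symm.trans
          (Classical.Congr.pslCongr e).symm)⟩

end Cfsg.Agent.S0799
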