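import Mathlib
import Cfsg.Statements.S0946
import Cfsg.Agent.Inv.Homoc
import Cfsg.Agent.Inv.Pairs

set_option autoImplicit false
open Cfsg

namespace Cfsg.Agent.S0946

/-- Let P be a Sylow 2-subgroup of the finite group G isomorphic to Z/2^m × Z/2^m with m ≥ 1. Then either P has a normal complement in G, or all involutions of G are conjugate. -/
theorem result {G : Type*} [Group G] [Finite G] (P : Sylow 2 G) (m : ℕ) (hm : 1 ≤ m) (e : (P : Subgroup G) ≃* Multiplicative (ZMod (2 ^ m) × ZMod (2 ^ m))) : (∃ N : Subgroup G, N.Normal ∧ Subgroup.IsComplement' N (P : Subgroup G)) ∨ ∀ s t : G, orderOf s = 2 → orderOf t = 2 → IsConj s t := by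
  haveI : Fact (Nat.Prime 2) := ⟨Nat.prime_two⟩
  obtain ⟨hc, hr⟩ := Inv.homoc_facts e
  by_cases hle : Fusion.nz (P : Subgroup G) ≤ Fusion.cz P
  · exact .inl ⟨_, inferInstance, MonoidHom.ker_transferSylow_isComplement' P hle⟩
  right
  obtain ⟨g, hg, hgc⟩ := SetLike.not_le_iff_exists.1 hle
  have fpf : ∀ z ∈ (P : Subgroup G), z ≠ 1 → g * z * g⁻¹ ≠ z := fun z hz hz1 e =>
    hgc (Inv.mem_cz_of_fix P hc hr hg hz hz1 e)
  have hsq : ∀ u n : G, u * u = 1 → n * u * n⁻¹ * (n * u * n⁻¹) = 1 := fun u n hu => by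
    rw [show n * u * n⁻¹ * (n * u * n⁻¹) = n * (u * u) * n⁻¹ by group, hu]; group
  have hcm : ∀ x ∈ (P : Subgroup G), ∀ y ∈ (P : Subgroup G), Commute x y := fun x hx y hy =>
    Fusion.mem_cz.1 (hc hy) x hx
  have key : ∀ s ∈ (P : Subgroup G), ∀ t ∈ (P : Subgroup G), s ≠ 1 → s * s = 1 → t ≠ 1 → t * t = 1 →
      IsConj s t := by
    intro s hs t ht hs1 hs2 ht1 ht2
    have hb := Fusion.conj_mem_of_nz hg hs
    have hb' := Fusion.conj_mem_of_nz hg hb
    have hb1 : g * s * g⁻¹ ≠ 1 := Inv.conj_ne_one' hs1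
    have hne := (fpf s hs hs1).symm
    have e3 : g * (g * s * g⁻¹) * g⁻¹ = s * (g * s * g⁻¹) := by
      rcases hr s hs _ hb _ hb' hs2 (hsq _ _ hs2) (hsq _ _ (hsq _ _ hs2)) (hcm _ hs _ hb) (hcm _ hs _ hb')
        (hcm _ hb _ hb') hs1 hb1 hne with h | h | h | h
      · exact absurd h (Inv.conj_ne_one' hb1)
      · exfalso
        refine fpf _ (mul_mem hs hb) (fun e' => hne ?_) ?_
        · rw [eq_inv_of_mul_eq_one_right e', Inv.Tri.inv_eq_of_sq hs2]
        · rw [show g * (s * (g * s * g⁻¹)) * g⁻¹ = (g * s * g⁻¹) * (g * (g * s * g⁻¹) * g⁻¹) by group, h,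
            (hcm _ hs _ hb).eq]
      · exact absurd h (fpf _ hb hb1)
      · exact h
    rcases hr s hs _ hb _ ht hs2 (hsq _ _ hs2) ht2 (hcm _ hs _ hb) (hcm _ hs _ ht)
        (hcm _ hb _ ht) hs1 hb1 hne with h | h | h | h
    · exact absurd h ht1
    · rw [h]
    · exact isConj_iff.2 ⟨g, h.symm⟩
    · exact isConj_iff.2 ⟨g * g, by rw [h, ← e3]; group⟩
  intro s t hs ht
  have hs2 : s * s = 1 := by rw [← pow_two, ← hs, pow_orderOf_eq_one]
  have ht2 : t * t = 1 := by rw [← pow_two, ← ht, pow_orderOf_eq_one]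
  obtain ⟨a, ha⟩ := Inv.exists_conj_mem_sylow P hs2
  obtain ⟨b, hb⟩ := Inv.exists_conj_mem_sylow P ht2
  have := key _ ha _ hb (Inv.conj_ne_one' (by rintro rfl; simp at hs)) (hsq _ _ hs2)
    (Inv.conj_ne_one' (by rintro rfl; simp at ht)) (hsq _ _ ht2)
  exact ((isConj_iff.2 ⟨a, rfl⟩).trans this).trans (isConj_iff.2 ⟨b, rfl⟩ : IsConj t _).symm

end Cfsg.Agent.S0946
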