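import Mathlib
import Cfsg.Statements.S4705
import Cfsg.Agent.Block.PM2b
import Cfsg.Agent.Char.Extend
import Cfsg.Agent.Char.IndTI
-- import your own Cfsg.Agent.* helpers here

set_option autoImplicit false
open Cfsg

namespace Cfsg.Agent.S4705

open Cfsg.Agent.Char Subgroup ComplexConjugate in
theorem irr_res {G : Type*} [Group G] [Finite G] {H : Subgroup G} {φ : H × center G →* G}
    (h1 : ∀ x, φ x = x.2 * x.1) (h2 : Function.Surjective φ) {χ : G → ℂ}
    (hχ : IsIrrCharacter G χ) : IsIrrCharacter H fun x => χ x := by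
  classical
  have := Fintype.ofFinite G
  refine Constit.isIrr_of_inner_self (isChar_res _ (isIrr_isChar hχ)) ?_
  have h3 := IndTI.sum_comp_surjective φ h2 fun g => χ g * conj (χ g)
  have h4 := classInner_isIrr_self hχ
  have h5 : Nat.card φ.ker * Nat.card G = Nat.card H * Nat.card (center G) := by
    rw [← Nat.card_prod H, ← card_mul_index φ.ker, index_ker, MonoidHom.range_eq_top.2 h2, card_top]
  have h6 (x : H × center G) : χ (φ x) * conj (χ (φ x)) = χ x.1 * conj (χ x.1) := by
    have e := congrArg (‖·‖) (mul_of_mem_charCenter (isIrr_isChar hχ)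
      (center_le_charCenter hχ x.2.2) x.1)
    simp only [norm_mul, (mem_charCenter_iff (isIrr_isChar hχ)).1
      (center_le_charCenter hχ x.2.2)] at e
    rw [Complex.mul_conj', Complex.mul_conj', h1, mul_right_cancel₀
      (norm_ne_zero_iff.2 (Block.irr_one_ne_zero ⟨χ, hχ⟩)) (e.trans (mul_comm _ _))]
  simp only [h6, Fintype.sum_prod_type, Finset.sum_const, nsmul_eq_mul, ← Finset.mul_sum,
    Finset.card_univ, ← Nat.card_eq_fintype_card] at h3
  have h0 (K : Subgroup G) : (Nat.card K : ℂ) ≠ 0 := Nat.cast_ne_zero.2 Nat.card_pos.ne'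
  rw [classInner, inv_mul_eq_one₀ (Nat.cast_ne_zero.2 Nat.card_pos.ne')] at h4 ⊢
  refine mul_left_cancel₀ (h0 (center G)) ?_
  rw [h3, ← h4, mul_comm]
  exact_mod_cast h5.symm

open Cfsg.Agent.Block Cfsg.Agent.Char Subgroup in

/-- Let G be a finite group with centre Z and p > 5 a prime such that a Sylow p-subgroup of G has order p and is not normal. If G has a faithful irreducible character of degree p − 2, then p = 2^a + 1 for some a and G is isomorphic to the direct product of SL(2, 2^a) with Z. -/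
theorem result {G : Type*} [Group G] [Finite G] (p : ℕ) [Fact p.Prime] (hp : 5 < p) (P : Sylow p G) (hP : Nat.card P = p) (hnn : ¬ (P : Subgroup G).Normal) (ζ : G → ℂ) (hζ : Cfsg.IsIrrCharacter G ζ) (hfaith : ∀ g : G, ζ g = ζ 1 → g = 1) (hdeg : Cfsg.charDegree ζ = p - 2) : ∃ (a : ℕ) (F : Type) (_ : Field F) (_ : Fintype F), p = 2 ^ a + 1 ∧ Fintype.card F = 2 ^ a ∧ Nonempty (G ≃* Matrix.SpecialLinearGroup (Fin 2) F × Subgroup.center G) := by
  classical
  have := Fintype.ofFinite G
  have h := ordP_sylow P hP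
  have hk := charKer_eq_bot (isIrr_isChar hζ) hfaith
  have hd : charDegree ζ + 2 = p := by omega
  obtain ⟨h1, h2, -⟩ := h.pm2_data (by omega) hnn (χ := ⟨ζ, hζ⟩) hk hd
  set H := normalClosure ((P : Subgroup G) : Set G)
  have hPH : (P : Subgroup G) ≤ H := le_normalClosure
  have hC : centralizer ((P : Subgroup G) : Set G) ≤ H ⊔ center G := fun c hc => by
    obtain ⟨y, hy, e⟩ := exists_decomp h.ab ⟨c, hc⟩
    rw [show c = _ from congrArg Subtype.val e]
    exact mul_mem_sup (hPH (vp h.ab ⟨c, hc⟩).2) (h2 y y.2 (by rwa [orderOf_coe]))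
  have hM : H ⊔ center G = ⊤ := by
    set M := H ⊔ center G
    have hPM : (P : Subgroup G) ≤ M := hPH.trans le_sup_left
    have ht : normalizer ((P : Subgroup G) : Set G) ⊔ M = ⊤ :=
      eq_top_iff.2 ((h.frattini hPH).ge.trans (sup_le_sup_left le_sup_left _))
    have h3 : M.index ∣ 2 := by
      rw [← relIndex_top_right, ← ht, relIndex_sup_right, ← h1]
      exact relIndex_dvd_of_le_left _ hC
    have h4 := Extend.isIrr_res_of_coprime M hζ (irr_degree_cast ⟨ζ, hζ⟩).symm (Nat.Coprime.coprime_dvd_right h3 (by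
      rw [Nat.coprime_two_right]
      rw [show charDegree _ = _ from hdeg]
      exact Nat.Odd.sub_even (by omega) ((Fact.out : p.Prime).odd_of_ne_two (by omega)) even_two))
    have h5 := ((h.subgroupOf hPM).pm2_data (by omega) (fun e => hnn (h.normal_of_subgroupOf
      ((normal_subgroupOf_iff_le_normalizer hPH).2 (le_sup_left.trans
        ((normal_subgroupOf_iff_le_normalizer hPM).1 e))))) (χ := ⟨_, h4⟩)
      (faithful_res (isIrr_isChar hζ) hk M) hd).1
    rw [show centralizer _ = (centralizer ((P : Subgroup G) : Set G)).subgroupOf M from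
      Subgroup.ext fun x => mem_centralizer_subgroupOf_iff hPM x, ← subgroupOf_normalizer_eq hPM,
      ← inf_subgroupOf_right (normalizer _), relIndex_subgroupOf inf_le_right] at h5
    have h6 := relIndex_mul_relIndex _ _ _ (le_inf (centralizer_le_normalizer _) hC) inf_le_left
    rw [h1, h5, mul_eq_left₀ two_ne_zero, relIndex_eq_one] at h6
    rw [← ht, sup_eq_right.2 (h6.trans inf_le_right)]
  let φ : H × center G →* G := H.subtype.noncommCoprod (center G).subtype
    fun x y => mem_center_iff.1 y.2 x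
  have hs : Function.Surjective φ := by
    rw [← MonoidHom.range_eq_top, ← hM]
    exact (MonoidHom.noncommCoprod_range _ _ _).trans (by rw [range_subtype, range_subtype])
  obtain ⟨a, F, _, _, e1, e2, e3, ⟨e⟩⟩ := PM2.main (χ := ⟨_, irr_res (φ := φ)
    (fun x => mem_center_iff.1 x.2.2 x.1) hs hζ⟩) ⟨h.subgroupOf hPH, hp, h.normalClosure_subgroupOf,
      mt h.normal_of_subgroupOf hnn, faithful_res (isIrr_isChar hζ) hk H, hd⟩
  refine ⟨a, F, inferInstance, inferInstance, e1, e2, ⟨(MulEquiv.ofBijective φ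
    ⟨(injective_iff_map_eq_one _).2 fun x hx => ?_, hs⟩).symm.trans (e.prodCongr (.refl _))⟩⟩
  have hx : (x.1 : G) * x.2 = 1 := hx
  have h3 : x.1 = 1 := mem_bot.1 (e3 ▸ mem_center_iff.2 fun g => Subtype.ext (by
    rw [coe_mul, coe_mul, eq_inv_of_mul_eq_one_left hx]
    exact mem_center_iff.1 (inv_mem x.2.2) g))
  exact Prod.ext h3 (by simpa [h3] using hx)

end Cfsg.Agent.S4705
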