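import Mathlib
import Cfsg.Statements.S0997
import Cfsg.Agent.Block.Tuan
import Cfsg.Agent.S4705
-- import your own Cfsg.Agent.* helpers here

set_option autoImplicit false
open Cfsg

namespace Cfsg.Agent.S0997

set_option maxHeartbeats 1000000 in
open Cfsg.Agent.Block Cfsg.Agent.Char Subgroup in

/-- Let G be a non-cyclic finite simple group of order p * q^b * g₀, where p and q are distinct primes and g₀ < p - 1. Then either p has the form 2^m + 1 or 2^m - 1 and G is isomorphic to the projective special linear group of dimension 2 over the field with p elements, or p = 2^m + 1 > 3 and G is isomorphic to that group over the field with 2^m elements. -/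
theorem result {G : Type*} [Group G] [Finite G] [IsSimpleGroup G] (hG : ¬ IsCyclic G) (p q b g₀ : ℕ) (hp : p.Prime) (hq : q.Prime) (hpq : p ≠ q) (hG' : Nat.card G = p * q ^ b * g₀) (hg : g₀ < p - 1) : (∃ (m : ℕ) (F : Type) (_ : Field F) (_ : Fintype F), Fintype.card F = p ∧ (p = 2 ^ m + 1 ∨ p = 2 ^ m - 1) ∧ Nonempty (G ≃* Matrix.ProjectiveSpecialLinearGroup (Fin 2) F)) ∨ (∃ (m : ℕ) (F : Type) (_ : Field F) (_ : Fintype F), Fintype.card F = 2 ^ m ∧ p = 2 ^ m + 1 ∧ 3 < p ∧ Nonempty (G ≃* Matrix.ProjectiveSpecialLinearGroup (Fin 2) F)) := by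
  classical
  have := Fintype.ofFinite G
  have := Fact.mk hp
  have := Fact.mk hq
  have hna : ∃ a b : G, a * b ≠ b * a := by
    by_contra! h
    let _ : CommGroup G := { ‹Group G› with mul_comm := h }
    exact hG inferInstance
  have hZ : center G = ⊥ := (IsSimpleGroup.eq_bot_or_eq_top_of_normal _ inferInstance).resolve_right
    fun e => hna.elim fun a h => h.elim fun b h => h (mem_center_iff.1 (e.ge (mem_top b)) a)
  have hpf : commutator G = ⊤ :=
    (IsSimpleGroup.eq_bot_or_eq_top_of_normal _ inferInstance).resolve_left fun e =>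
      hna.elim fun a h => h.elim fun b h => h (commutatorElement_eq_one_iff_mul_comm.1
        (e.le (commutator_mem_commutator (mem_top a) (mem_top b))))
  have g0 : 0 < g₀ := Nat.pos_of_ne_zero fun e => Nat.card_pos.ne' (by rw [hG', e, mul_zero])
  have hpd : p ∣ Nat.card G := hG' ▸ (dvd_mul_right _ _).mul_right _
  have hpn : ¬ p ∣ q ^ b * g₀ := fun e => (hp.dvd_mul.1 e).elim
    (fun e => hpq ((Nat.prime_dvd_prime_iff_eq hp hq).1 (hp.dvd_of_dvd_pow e)))
    fun e => by have := Nat.le_of_dvd g0 e; omega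
  obtain ⟨P⟩ : Nonempty (Sylow p G) := inferInstance
  have h := ordP_sylow P (card_sylow_of_not_sq_dvd hpd (fun e => hpn (Nat.dvd_of_mul_dvd_mul_left
    hp.pos (by rwa [← pow_two, ← mul_assoc, ← hG']))) P)
  have hi : (P : Subgroup G).index = q ^ b * g₀ :=
    Nat.eq_of_mul_eq_mul_left hp.pos (by rw [← h.card_eq, hG', mul_assoc])
  have hn := h.not_normal_of_perfect hpf
  obtain ⟨e, t, δ, X, Y, a, hw⟩ := h.exists_pW
  have hC : (centralizer ((P : Subgroup G) : Set G)).index ∣ q ^ b * g₀ :=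
    hi ▸ index_dvd_of_le h.ab.comm
  have h1 {χ : IrrCharacter G} (h : χ ≠ oneIrr G) : 2 ≤ charDegree χ.1 := by
    have := irr_degree_ne_zero χ
    have := mt (eq_one_of_perfect hpf) h
    omega
  have hp' : (g₀ : ℤ) + 1 < p := by omega
  have h2 {d : ℕ} (hd : d ∣ q ^ b * g₀) (e : ¬ q ∣ d) : d ∣ g₀ :=
    (((hq.coprime_iff_not_dvd).2 e).symm.pow_right b).dvd_of_dvd_mul_left hd
  have h3 {χ} (hχ : χ ∈ X) (e : χ ≠ oneIrr G) : p ≤ charDegree χ.1 + 1 := by
    obtain ⟨e1, e2⟩ := hw.degX hχ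
    have := h1 e
    rcases e2.eq_or_lt with e2 | e2
    · rw [← e2] at e1; have := hw.a_sign χ hχ; omega
    · have := hw.a_sign χ hχ; nlinarith
  have h4 {χ} (hχ : χ ∈ X) (e : χ ≠ oneIrr G) : q ∣ charDegree χ.1 := by
    by_contra e'
    have := Nat.le_of_dvd g0 (h2 ((hw.dvdX hχ).trans hC) e')
    have := h3 hχ e
    omega
  have hq1 : ¬ (q : ℤ) ∣ 1 := fun e => hq.one_lt.ne' (by exact_mod_cast Int.eq_one_of_dvd_one (by positivity) e)
  have hone : oneIrr G ∈ X := hw.one.resolve_right fun e => hq1 (by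
    have := hw.rel_one e
    rw [(hw.of_one_mem_Y e).2, coe_oneIrr, charDegree_one_fun] at this
    exact (dvd_neg.1 (by
      simpa using (Finset.dvd_sum fun χ hχ => (Int.natCast_dvd_natCast.2
      (h4 hχ fun e' => Finset.disjoint_left.1 hw.disj hχ (e' ▸ e))).mul_left _).trans
          this.symm.dvd)))
  have h5 {ξ} (hξ : ξ ∈ Y) {m : ℕ} (hm : ∀ χ ∈ X, χ ≠ oneIrr G → m ∣ charDegree χ.1) :
      (m : ℤ) ∣ δ * charDegree ξ.1 - 1 := by
    rw [hw.rel_one hξ, ← Finset.add_sum_erase _ _ hone, hw.a_one hone, coe_oneIrr,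
      charDegree_one_fun]
    simpa using Finset.dvd_sum fun χ hχ => (Int.natCast_dvd_natCast.2 (hm χ
      (Finset.mem_erase.1 hχ).2 (Finset.mem_erase.1 hχ).1)).mul_left _
  have h6 {ξ} (hξ : ξ ∈ Y) : charDegree ξ.1 ∣ g₀ := h2 ((hw.dvdY hξ).trans hC) fun e => hq1 (by
    simpa using Int.dvd_sub ((Int.natCast_dvd_natCast.2 e).mul_left δ) (h5 hξ fun χ => h4))
  have h7 {ξ} (hξ : ξ ∈ Y) : ξ ≠ oneIrr G := fun e => Finset.disjoint_left.1 hw.disj hone (e ▸ hξ)
  have hte := hw.te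
  have he := hw.e_pos
  have ht := hw.t_pos
  obtain ⟨ξ, hξ⟩ := hw.exists_Y
  have hk := charKer_eq_bot_of_simple ξ.2 fun e => h7 hξ (Subtype.ext e)
  have h8 {d : ℕ} (hd : d ∣ g₀) (e : p ≤ 2 * d + 1) : g₀ = d := by
    obtain ⟨k, rfl⟩ := hd
    rcases (by omega : k = 0 ∨ k = 1 ∨ 2 ≤ k) with rfl | rfl | e'
    exacts [by omega, mul_one _, by have := Nat.mul_le_mul_left d e'; omega]
  have hcard {F : Type} [Field F] [Fintype F] (e : G ≃* Matrix.ProjectiveSpecialLinearGroup (Fin 2) F) :=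
    (congrArg _ (Nat.card_congr e.toEquiv)).trans (Classical.SLBasic.card_PSL_two (F := F))
  rcases hw.sign with rfl | rfl
  · have h9 := (hw.degY hξ).1
    have h10 := Nat.le_of_dvd g0 (h6 hξ)
    have h11 : charDegree ξ.1 = e := by
      rcases Nat.eq_zero_or_pos (fx P ξ.1) with e | e
      · rw [e] at h9; omega
      · nlinarith
    have h12 : 2 * charDegree ξ.1 < p := by
      rcases (by omega : t = 1 ∨ 2 ≤ t) with rfl | e
      · omega
      · nlinarith
    have h13 := h.small hn (irr_isChar ξ) hk h12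
    obtain ⟨f⟩ := h.psl_of_small hn (irr_isChar ξ) hk h12
    replace f := ((QuotientGroup.quotientBot.symm.trans
      (QuotientGroup.quotientMulEquivOfEq hZ.symm)).trans f)
    have h14 := hcard f
    rw [Nat.card_zmod, hG', h8 (h6 hξ) h13.le, h11] at h14
    rw [h11] at h13
    have h15 : q ^ b = p + 1 := by
      rw [show p - 1 = 2 * e by omega, Nat.gcd_eq_left (dvd_mul_right _ _),
        show p ^ 2 - 1 = (p + 1) * (2 * e) from Nat.sub_eq_of_eq_add (by rw [h13]; ring)] at h14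
      exact Nat.eq_of_mul_eq_mul_left (show 0 < 2 * p * e by have := hp.pos; positivity) (by linarith)
    obtain rfl : 2 = q := (Nat.prime_dvd_prime_iff_eq Nat.prime_two hq).1
      (Nat.prime_two.dvd_of_dvd_pow (n := b) (by omega))
    exact .inl ⟨b, ZMod p, inferInstance, inferInstance, ZMod.card p, .inr (by omega), ⟨f⟩⟩
  have hep : e + 1 ≤ p := by nlinarith
  have h9 (ξ) (hξ : ξ ∈ Y) : fx P ξ.1 = 1 ∧ charDegree ξ.1 + e = p := by
    have h9 := (hw.degY hξ).1
    have h10 := Nat.le_of_dvd g0 (h6 hξ)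
    rcases (by omega : fx P ξ.1 = 0 ∨ fx P ξ.1 = 1 ∨ 2 ≤ fx P ξ.1) with e | e | e
    · rw [e] at h9; omega
    · rw [e] at h9; omega
    · nlinarith
  have h10 := Nat.le_of_dvd g0 (h6 hξ)
  have h11 := (h9 ξ hξ).2
  have h12 := h1 (h7 hξ)
  have ht2 : 2 ≤ t := (Nat.succ_le_of_lt ht).lt_of_ne fun e => by subst e; omega
  have h13 : 2 * e + 1 ≤ p := by nlinarith
  obtain rfl := h8 (h6 hξ) (by omega)
  have hs : centralizer ((P : Subgroup G) : Set G) ≤ P := fun c hc => by
    obtain ⟨y, hy, e⟩ := exists_decomp h.ab ⟨c, hc⟩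
    have : (y : G) = 1 := hk.le ((mem_charKer_iff (irr_isChar ξ)).2
      (hw.apply_of_fx_one hξ (h9 ξ hξ).1 y.2 (by rwa [orderOf_coe])))
    rw [show c = _ from congrArg Subtype.val e, coe_mul, this, mul_one]
    exact (vp h.ab ⟨c, hc⟩).2
  obtain ⟨r, hr⟩ := h.exists_index_eq
  have h14 : q ^ b * charDegree ξ.1 = e * (1 + r * p) := by
    rw [← hi, ← hr, ← hw.he, relIndex_mul_index (centralizer_le_normalizer _),
      (⟨h, hs⟩ : SC p (P : Subgroup G)).cent]
  obtain ⟨c, -, rfl⟩ := (Nat.dvd_prime_pow hq).1 (Nat.Coprime.dvd_of_dvd_mul_right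
    (k := e) (n := charDegree ξ.1) (by
      rw [← Nat.coprime_add_self_right, h11]
      exact (Nat.coprime_of_lt_prime he.ne' (by omega) hp).symm) ⟨_, h14⟩)
  have hc : c ≠ 0 := by rintro rfl; rw [pow_zero] at h11; omega
  have h15 {m : ℕ} (hm : ∀ χ ∈ X, χ ≠ oneIrr G → m ∣ charDegree χ.1) (e : m ∣ q ^ c) : m ∣ 2 := by
    have := Int.dvd_add (h5 hξ hm) ((Int.natCast_dvd_natCast.2 e).mul_left (t - 1))
    rw [show (-1 * charDegree ξ.1 - 1 + (t - 1) * (q ^ c : ℕ) : ℤ) = -(2 : ℕ) by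
      zify at hte h11; push_cast; linarith, dvd_neg] at this
    exact_mod_cast this
  obtain rfl := (Nat.prime_dvd_prime_iff_eq hq Nat.prime_two).1 (h15 (fun χ => h4) (dvd_pow_self q hc))
  by_cases h16 : t = 2
  · subst h16
    obtain ⟨Q⟩ : Nonempty (Sylow 2 G) := inferInstance
    have h17 := hw.two_pow_le hna hs (fun ξ hξ => by have := (h9 ξ hξ).2; omega)
      (fun ξ hξ => (h9 ξ hξ).1) (fun χ hχ e => h4 hχ fun e' => by
        rw [e', hw.a_one hone] at e; omega) rfl Q.2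
    have h18 : 2 ^ b ≤ Nat.card Q := by
      rw [Q.card_eq_multiplicity]
      exact Nat.pow_le_pow_right two_pos ((Nat.prime_two.pow_dvd_iff_le_factorization
        Nat.card_pos.ne').1 (hG' ▸ (dvd_mul_left _ _).mul_right _))
    have h19 : 2 ≤ 2 ^ c := Nat.le_self_pow hc 2
    have h20 : charDegree ξ.1 = 2 ^ c + 1 := by omega
    have h21 : b = c + 1 := eq_of_two_pow (by
      rw [pow_succ', hte]
      refine (Nat.dvd_add_right (dvd_mul_left p (2 ^ b))).1 ⟨2 * (2 ^ c * r) + 1 + 0, ?_⟩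
      rw [h20] at h14
      nlinarith) c.succ_pos ((Nat.pow_lt_pow_iff_right one_lt_two).1 (by
        rw [mul_comm, pow_mul, pow_succ' 2 c]
        nlinarith))
    rcases psl_of_card_lt hpf hpd (by rw [hG', h21, h20, pow_succ', ← hte]; nlinarith) P hn
      (fun N hN e => by
        rcases IsSimpleGroup.eq_bot_or_eq_top_of_normal N hN with rfl | rfl
        · simp at e
        · have := Nat.le_of_dvd two_pos (e ▸ card_top (G := G) ▸ hpd); omega) with
      ⟨-, f⟩ | ⟨m, f⟩
    · exact .inl ⟨c + 1, ZMod p, inferInstance, inferInstance, ZMod.card p,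
        .inl (by rw [pow_succ', hte]), f⟩
    · exact .inr ⟨m, f⟩
  by_cases h17 : c = 1
  · subst h17
    obtain ⟨m, F, _, _, e1, e2, ⟨f⟩⟩ := S4705.result p (by omega) P h.card hn ξ.1 ξ.2
      (fun g e => hk.le ((mem_charKer_iff (irr_isChar ξ)).2 e)) (by omega)
    have : Unique (center G) := hZ ▸ inferInstance
    exact .inr ⟨m, F, inferInstance, inferInstance, e2, e1, by omega, ⟨(f.trans
      MulEquiv.prodUnique).trans (Classical.PSL2Basic.slEquivPSL (two_eq_zero_of_card e2))⟩⟩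
  have := mt (h15 (m := 4) · (pow_dvd_pow 2 (show 2 ≤ c by omega))) (by norm_num)
  push Not at this
  obtain ⟨χ, hχ, e1, e2⟩ := this
  obtain ⟨d, hd⟩ := h4 hχ e1
  have h18 := h3 hχ e1
  have h19 := h8 (h2 (((dvd_mul_left d 2).trans hd.symm.dvd).trans ((hw.dvdX hχ).trans hC))
    (by omega)) (by omega)
  have h20 := (hw.degX hχ).1
  have h21 : (p : ℤ) ∣ 2 * 2 ^ c + a χ := ⟨2 - (fx P χ.1 - a χ), by
    zify at h11 hd h19; linarith⟩
  have h22 := hw.a_sign χ hχ
  have h23 := Int.le_of_dvd (by zify at he; omega) h21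
  have h24 : 3 ≤ t := by omega
  have := Nat.mul_le_mul_right (2 ^ c) h24
  zify at hte he this
  omega

end Cfsg.Agent.S0997
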