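import Mathlib
import Cfsg.Statements.S0998
import Cfsg.Agent.S0997
-- import your own Cfsg.Agent.* helpers here

set_option autoImplicit false
open Cfsg

namespace Cfsg.Agent.S0998

open Cfsg.Agent.Block in
theorem aux {G : Type*} [Group G] [Finite G] [IsSimpleGroup G] (hG : ¬ IsCyclic G) (p q r b : ℕ) (hp : p.Prime) (hq : q.Prime) (hr : r.Prime) (hpq : p ≠ q) (hpr : r < p) (hqr : q ≠ r) (hG' : Nat.card G = p * r * q ^ b) : (∃ (F : Type) (_ : Field F) (_ : Fintype F), Fintype.card F = 5 ∧ Nonempty (G ≃* Matrix.ProjectiveSpecialLinearGroup (Fin 2) F)) ∨ (∃ (F : Type) (_ : Field F) (_ : Fintype F), Fintype.card F = 7 ∧ Nonempty (G ≃* Matrix.ProjectiveSpecialLinearGroup (Fin 2) F)) := by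
  have := Fintype.ofFinite G
  have := Fact.mk hr
  have hpf : commutator G = ⊤ :=
    (IsSimpleGroup.eq_bot_or_eq_top_of_normal _ inferInstance).resolve_left fun e => by
      let _ : CommGroup G := { ‹Group G› with
        mul_comm := fun a b => commutatorElement_eq_one_iff_mul_comm.1 (Subgroup.mem_bot.1 (e.le
          (Subgroup.commutator_mem_commutator (Subgroup.mem_top a) (Subgroup.mem_top b)))) }
      exact hG inferInstance
  obtain ⟨R⟩ : Nonempty (Sylow r G) := inferInstance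
  have h := ordP_sylow R (card_sylow_of_not_sq_dvd (hG' ▸ (dvd_mul_left _ _).mul_right _)
    (fun e => by
      rw [hG', mul_comm p, mul_assoc, pow_two, Nat.mul_dvd_mul_iff_left hr.pos, hr.dvd_mul] at e
      exact e.elim (fun e => hpr.ne ((Nat.prime_dvd_prime_iff_eq hr hp).1 e))
        fun e => hqr ((Nat.prime_dvd_prime_iff_eq hr hq).1 (hr.dvd_of_dvd_pow e)).symm) R)
  have h1 := (h.two_le_relIndex hpf).trans (Nat.le_of_dvd (by have := hr.two_le; omega) h.relIndex_dvd)
  have h2 := hr.eq_two_or_odd.resolve_left (by omega)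
  have h3 := hp.eq_two_or_odd.resolve_left (by omega)
  have h4 {n : ℕ} (e : 2 ∣ r * q ^ n) : q = 2 := ((Nat.prime_dvd_prime_iff_eq Nat.prime_two hq).1
    (Nat.prime_two.dvd_of_dvd_pow ((Nat.prime_two.dvd_mul.1 e).resolve_left (by omega)))).symm
  have h5 : ¬ 3 ∣ p := fun e => by
    have := (Nat.prime_dvd_prime_iff_eq Nat.prime_three hp).1 e; omega
  have h6 {u n : ℕ} (e : u ∣ r * 2 ^ n) (h : ¬ 2 ∣ u) : u ∣ r :=
    ((Nat.prime_two.coprime_iff_not_dvd.2 h).symm.pow_right n).dvd_of_dvd_mul_right e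
  rcases S0997.result hG p q b r hp hq hpq (by rw [hG']; ring) (by omega) with
    ⟨m, F, _, _, e1, -, ⟨f⟩⟩ | ⟨m, F, _, _, e1, e2, -, ⟨f⟩⟩
  all_goals have h7 := Classical.SLBasic.card_PSL_two (F := F)
  all_goals rw [← Nat.card_congr f.toEquiv, Nat.card_eq_fintype_card (α := F), e1, hG'] at h7
  · obtain ⟨u, rfl⟩ : ∃ u, p = 2 * u + 1 := ⟨p / 2, by omega⟩
    rw [Nat.add_sub_cancel, Nat.gcd_eq_left (dvd_mul_right _ _), show (2 * u + 1) ^ 2 - 1 =
      2 * (2 * (u * (u + 1))) from Nat.sub_eq_of_eq_add (by ring)] at h7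
    have h8 : r * q ^ b = 2 * (u * (u + 1)) :=
      Nat.eq_of_mul_eq_mul_left (show 0 < 2 * (2 * u + 1) by positivity) (by linarith)
    obtain rfl := h4 ⟨_, h8⟩
    have h9 : 3 ∣ r * 2 ^ b := by
      rw [h8]
      rcases (show 3 ∣ u ∨ 3 ∣ u + 1 by
        rcases (by omega : u % 3 = 0 ∨ u % 3 = 1 ∨ u % 3 = 2) with e | e | e <;> omega) with e | e
      exacts [(e.mul_right _).mul_left _, (e.mul_left _).mul_left _]
    obtain rfl := (Nat.prime_dvd_prime_iff_eq Nat.prime_three hr).1 (h6 h9 (by omega))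
    rcases (by omega : ¬ 2 ∣ u ∨ ¬ 2 ∣ u + 1) with e | e
    · have := Nat.le_of_dvd three_pos (h6 (((dvd_mul_right _ _).mul_left _).trans h8.symm.dvd) e)
      exact .inr ⟨F, inferInstance, inferInstance, by omega, ⟨f⟩⟩
    · have := Nat.le_of_dvd three_pos (h6 (((dvd_mul_left _ _).mul_left _).trans h8.symm.dvd) e)
      exact .inl ⟨F, inferInstance, inferInstance, by omega, ⟨f⟩⟩
  · rw [← e1, ← Nat.card_eq_fintype_card (α := F), Classical.PSL2Basic.gcd_eq_one
      (two_eq_zero_of_card e1), Nat.card_eq_fintype_card (α := F), e1, one_mul] at h7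
    have h8 : ¬ 3 ∣ 2 ^ m := fun e => by simpa using Nat.prime_three.dvd_of_dvd_pow e
    generalize 2 ^ m = k at e1 e2 h7 h8
    obtain ⟨u, rfl⟩ : ∃ u, k = u + 1 := ⟨k - 1, by omega⟩
    rw [show (u + 1) ^ 2 - 1 = u * (u + 1 + 1) from Nat.sub_eq_of_eq_add (by ring), ← e2] at h7
    have h9 : r * q ^ b = u * (u + 1) := Nat.eq_of_mul_eq_mul_left hp.pos (by linarith)
    obtain rfl := h4 (((show 2 ∣ u + 1 by omega).mul_left _).trans h9.symm.dvd)
    have h10 := h6 ((dvd_mul_right _ _).trans h9.symm.dvd) (by omega)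
    obtain rfl := (Nat.prime_dvd_prime_iff_eq Nat.prime_three hr).1
      ((show 3 ∣ u by
        rcases (by omega : u % 3 = 0 ∨ u % 3 = 1 ∨ u % 3 = 2) with e | e | e <;> omega).trans h10)
    have := Nat.le_of_dvd three_pos h10
    have := Fact.mk Nat.prime_five
    obtain ⟨g⟩ := Classical.PSL2Basic.psl_equiv_A5 (F := F)
      (.inl (by rw [Nat.card_eq_fintype_card]; omega))
    obtain ⟨g'⟩ := Classical.PSL2Basic.psl_equiv_A5 (F := ZMod 5) (.inr (Nat.card_zmod 5))
    exact .inl ⟨ZMod 5, inferInstance, inferInstance, ZMod.card 5, ⟨(f.trans g).trans g'.symm⟩⟩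

/-- A non-cyclic finite simple group whose order has the form p * r * q^b for distinct primes p, q, r is isomorphic to the projective special linear group of dimension 2 over the field with 5 or with 7 elements. -/
theorem result {G : Type*} [Group G] [Finite G] [IsSimpleGroup G] (hG : ¬ IsCyclic G) (p q r b : ℕ) (hp : p.Prime) (hq : q.Prime) (hr : r.Prime) (hpq : p ≠ q) (hpr : p ≠ r) (hqr : q ≠ r) (hG' : Nat.card G = p * r * q ^ b) : (∃ (F : Type) (_ : Field F) (_ : Fintype F), Fintype.card F = 5 ∧ Nonempty (G ≃* Matrix.ProjectiveSpecialLinearGroup (Fin 2) F)) ∨ (∃ (F : Type) (_ : Field F) (_ : Fintype F), Fintype.card F = 7 ∧ Nonempty (G ≃* Matrix.ProjectiveSpecialLinearGroup (Fin 2) F)) := by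
  rcases hpr.lt_or_gt with h | h
  · exact aux hG r q p b hr hq hp hqr.symm h hpq.symm (by rw [hG', mul_comm p])
  · exact aux hG p q r b hp hq hr hpq h hqr hG'

end Cfsg.Agent.S0998
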