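import Mathlib
import Cfsg.Statements.S0999
import Cfsg.Agent.Block.BrRey
-- import your own Cfsg.Agent.* helpers here

set_option autoImplicit false
open Cfsg

namespace Cfsg.Agent.S0999

open Cfsg.Agent.Block in

/-- Let G be a non-cyclic finite simple group and p a prime divisor of its order with p^3 > |G|. Then p > 3 and G is isomorphic to the projective special linear group of dimension 2 over the field with p elements, or p - 1 is a power of 2 and G is isomorphic to that group over the field with p - 1 elements. -/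
theorem result {G : Type*} [Group G] [Finite G] [IsSimpleGroup G] (hG : ¬ IsCyclic G) (p : ℕ) (hp : p.Prime) (hdvd : p ∣ Nat.card G) (hbig : Nat.card G < p ^ 3) : (∃ (F : Type) (_ : Field F) (_ : Fintype F), Fintype.card F = p ∧ 3 < p ∧ Nonempty (G ≃* Matrix.ProjectiveSpecialLinearGroup (Fin 2) F)) ∨ (∃ (m : ℕ) (F : Type) (_ : Field F) (_ : Fintype F), Fintype.card F = 2 ^ m ∧ p = 2 ^ m + 1 ∧ 3 < p ∧ Nonempty (G ≃* Matrix.ProjectiveSpecialLinearGroup (Fin 2) F)) := by
  have := Fintype.ofFinite G
  have := Fact.mk hp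
  have h0 : ∀ (q : ℕ) [Fact q.Prime], ¬ IsPGroup q G := fun q _ h => by
    have := h.isNilpotent
    exact hG inferInstance
  have h1 : ∀ (q : ℕ) [Fact q.Prime] (N : Subgroup G), N.Normal → IsPGroup q N → N = ⊥ :=
    fun q _ N hN h => hN.eq_bot_or_eq_top.resolve_right fun e =>
      h0 q ((e ▸ h).of_equiv Subgroup.topEquiv)
  let P : Sylow p G := default
  have := Fact.mk Nat.prime_two
  refine (psl_of_card_lt ((inferInstance : (commutator G).Normal).eq_bot_or_eq_top.resolve_left
    fun e => ?_) hdvd hbig P (fun e => P.ne_bot_of_dvd_card hdvd (h1 p _ e P.isPGroup'))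
    fun N hN e => ?_).imp (fun ⟨h1, h2⟩ => ⟨ZMod p, inferInstance, inferInstance, ZMod.card p, h1, h2⟩) id
  · have : Group.IsNilpotent G := ⟨⟨1, by
      rw [Subgroup.upperCentralSeries_one, ← commutator_eq_bot_iff_center_eq_top, e]⟩⟩
    exact hG inferInstance
  · rw [h1 2 N hN (IsPGroup.of_card (n := 1) (by simpa using e))] at e
    simp at e

end Cfsg.Agent.S0999
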