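import Mathlib
import Cfsg.Statements.S1006
import Cfsg.Agent.Fil.D

set_option autoImplicit false
open Cfsg

namespace Cfsg.Agent.S1006

open Cfsg.Agent.Fil.O168 Subgroup

/-- In a simple group of order 168 there are 56 elements of order 3, all conjugate; 42 elements of order 4, all conjugate; and 48 elements of order 7 falling into two conjugacy classes of size 24, an element of order 7 not being conjugate to its inverse. -/
theorem result {G : Type*} [Group G] [Finite G] [IsSimpleGroup G] (h : Nat.card G = 168) : Nat.card {g : G // orderOf g = 3} = 56 ∧ (∀ s t : G, orderOf s = 3 → orderOf t = 3 → IsConj s t) ∧ Nat.card {g : G // orderOf g = 4} = 42 ∧ (∀ s t : G, orderOf s = 4 → orderOf t = 4 → IsConj s t) ∧ Nat.card {g : G // orderOf g = 7} = 48 ∧ ∀ x : G, orderOf x = 7 → Nat.card {g : G // IsConj x g} = 24 ∧ ¬ IsConj x x⁻¹ := by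
  obtain ⟨z, x, T, -, -, h1, -, h2⟩ := o24 h
  refine ⟨o3 h, fun s t hs ht => ?_, h2, fun s t hs ht => (show IsConj x s from h1.le hs).symm.trans (h1.le ht),
    o7 h, fun x hx => ⟨?_, fun hc => ?_⟩⟩
  · have h3 := ncard_cl s
    rw [C3 h hs, Nat.card_zpowers, hs, h] at h3
    exact (Set.eq_of_subset_of_ncard_le (show {g | IsConj s g} ⊆ {g : G | orderOf g = 3} from
      fun g hg => (orderOf_conj hg).trans hs) (by rw [o3 h]; omega)).ge ht
  · have h3 := ncard_cl x
    rw [C7 h hx, Nat.card_zpowers, hx, h] at h3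
    show {g | IsConj x g}.ncard = 24
    omega
  · obtain ⟨g, hg⟩ := isConj_iff.1 hc
    obtain ⟨P, hP⟩ := sylow_of_order (c7 h) hx
    have h3 : g ∈ normalizer ((P : Subgroup G) : Set G) := by
      rw [hP]
      refine mem_normalizer_fintype ?_
      rintro _ ⟨k, rfl⟩
      rw [← conj_zpow, hg]; exact zpow_mem (inv_mem (mem_zpowers x)) k
    have h4 : g ^ 21 = 1 := orderOf_dvd_iff_pow_eq_one.1 (N7 h P ▸ Subgroup.orderOf_dvd_natCard _ h3)
    have h5 : Commute (g ^ 2) x := by
      have : g * (g * x * g⁻¹) * g⁻¹ = x := by rw [hg, ← conj_inv, hg, inv_inv]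
      show g ^ 2 * x = x * g ^ 2
      rw [← mul_inv_eq_iff_eq_mul, sq, mul_inv_rev]; simpa [mul_assoc] using this
    have h6 : Commute g x := by
      have := h5.pow_left 11
      rwa [← pow_mul, show 2 * 11 = 21 + 1 from rfl, pow_succ, h4, one_mul] at this
    rw [h6.eq, mul_inv_cancel_right] at hg
    have : orderOf x ∣ 2 := orderOf_dvd_of_pow_eq_one (by rw [sq]; nth_rewrite 1 [hg]; simp)
    rw [hx] at this; omega

end Cfsg.Agent.S1006
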