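import Mathlib
import Cfsg.Statements.S1008
import Cfsg.Agent.Fil.E

set_option autoImplicit false
open Cfsg

namespace Cfsg.Agent.S1008

open Cfsg.Agent.Fil.O168 Subgroup

/-- In a simple group of order 168 every maximal subgroup is either isomorphic to the symmetric group of degree 4 or non-abelian of order 21; the maximal subgroups of order 21 form one conjugacy class and those isomorphic to the symmetric group of degree 4 form exactly two conjugacy classes. -/
theorem result {G : Type*} [Group G] [Finite G] [IsSimpleGroup G] (h : Nat.card G = 168) : (∀ M : Subgroup G, IsCoatom M → Nonempty (↥M ≃* Equiv.Perm (Fin 4)) ∨ (Nat.card ↥M = 21 ∧ ¬ IsMulCommutative ↥M)) ∧ (∀ M M' : Subgroup G, IsCoatom M → IsCoatom M' → Nat.card ↥M = 21 → Nat.card ↥M' = 21 → ∃ g : G, M' = M.map (MulAut.conj g).toMonoidHom) ∧ ∃ M₁ M₂ : Subgroup G, IsCoatom M₁ ∧ IsCoatom M₂ ∧ Nonempty (↥M₁ ≃* Equiv.Perm (Fin 4)) ∧ Nonempty (↥M₂ ≃* Equiv.Perm (Fin 4)) ∧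 (∀ g : G, M₂ ≠ M₁.map (MulAut.conj g).toMonoidHom) ∧ ∀ M : Subgroup G, IsCoatom M → Nonempty (↥M ≃* Equiv.Perm (Fin 4)) → ∃ g : G, M = M₁.map (MulAut.conj g).toMonoidHom ∨ M = M₂.map (MulAut.conj g).toMonoidHom := by
  have h21 : ∀ M : Subgroup G, IsCoatom M → Nat.card M = 21 →
      ∃ P : Sylow 7 G, M = normalizer ((P : Subgroup G) : Set G) := fun M hM e =>
    (coatom_cases h hM).resolve_right fun ⟨U, k, k2⟩ => by have := NU h k; rw [← k2] at this; omega
  refine ⟨fun M hM => ?_, fun M M' hM hM' e e' => ?_, ?_⟩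
  · rcases coatom_cases h hM with ⟨P, rfl⟩ | ⟨U, k, rfl⟩
    · refine Or.inr ⟨N7 h P, fun hc => Cfsg.Agent.Perm.normalizer_not_le_centralizer (nc h) P (by rw [h]; norm_num) ?_⟩
      exact fun g hg x hx => Cfsg.Agent.Core.comm_of_isMulCommutative hc (le_normalizer hx) hg
    · exact Or.inl (NU_iso h k)
  · obtain ⟨P, rfl⟩ := h21 M hM e
    obtain ⟨Q, rfl⟩ := h21 M' hM' e'
    obtain ⟨g, rfl⟩ := MulAction.exists_smul_eq G P Q
    exact ⟨g, (map_equiv_normalizer_eq (P : Subgroup G) (MulAut.conj g)).symm⟩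
  obtain ⟨T⟩ := (Sylow.nonempty : Nonempty (Sylow 2 G))
  obtain ⟨U, W, hne, h1, h2, k1, k2, h3⟩ := two_kl h T
  refine ⟨_, _, coatom_NU h k1, coatom_NU h k2, NU_iso h k1, NU_iso h k2, fun g e => ?_, fun M hM ⟨e⟩ => ?_⟩
  · rw [map_equiv_normalizer_eq] at e
    exact hne (not_conj h T h1 h2 k1 k2 g (NU_inj h k2 (kl_conj k1 g) e).symm)
  · obtain ⟨X, k, rfl⟩ := (coatom_cases h hM).resolve_left fun ⟨P, k⟩ => by
      have h4 := N7 h P
      rw [← k, Nat.card_congr e.toEquiv, Nat.card_perm] at h4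
      simp [Nat.factorial] at h4
    obtain ⟨Q, hQ⟩ := (IsPGroup.of_card (p := 2) (n := 2) k.card_four).exists_le_sylow
    obtain ⟨g, rfl⟩ := MulAction.exists_smul_eq G T Q
    have h4 : (X.map (MulAut.conj g⁻¹).toMonoidHom).map (MulAut.conj g).toMonoidHom = X := by
      rw [map_map]; convert X.map_id; ext x; simp [mul_assoc]
    have h5 : X.map (MulAut.conj g⁻¹).toMonoidHom ≤ T := by
      rintro _ ⟨x, hx, rfl⟩
      obtain ⟨t, ht, rfl⟩ := hQ hx
      convert (show t ∈ (T : Subgroup G) from ht); simp [mul_assoc]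
    refine ⟨g, (h3 _ h5 (kl_conj k g⁻¹)).imp (fun e => ?_) fun e => ?_⟩ <;>
      rw [map_equiv_normalizer_eq, ← e, h4]

end Cfsg.Agent.S1008
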