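import Mathlib
import Cfsg.Statements.S1173
import Cfsg.Agent.Gp.Cent
-- import your own Cfsg.Agent.* helpers here

set_option autoImplicit false
open Cfsg

namespace Cfsg.Agent.S1173

open Subgroup Cfsg.Agent.GW Cfsg.Agent.LocalEven Cfsg.Agent.BG Cfsg.Agent.Gs Cfsg.Agent.Gp

theorem perf_inf (C : Type*) [Group C] [Finite C] :
    ⁅⨅ n, derivedSeries C n, ⨅ n, derivedSeries C n⁆ = ⨅ n, derivedSeries C n := by
  obtain ⟨_, ⟨n, rfl⟩, h⟩ := (wellFounded_lt (α := Subgroup C)).has_min (Set.range (derivedSeries C)) ⟨_, 0, rfl⟩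
  have e : ∀ m, n ≤ m → derivedSeries C m = derivedSeries C n := fun m hm =>
    (derivedSeries_antitone C hm).eq_of_not_lt (h _ ⟨m, rfl⟩)
  rw [le_antisymm (iInf_le _ n) (le_iInf fun m => (e _ (le_max_left n m)).ge.trans
    (derivedSeries_antitone C (le_max_right n m)))]
  exact e (n + 1) n.le_succ

theorem le_inf_der {G : Type*} [Group G] {C P : Subgroup G} (h : P ≤ C) (hp : ⁅P, P⁆ = P) :
    P ≤ (⨅ n, derivedSeries C n).map C.subtype := by
  rw [← map_subgroupOf_eq_of_le h]
  refine map_mono (le_iInf fun n => ?_)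
  induction n with
  | zero => exact le_top
  | succ n ih =>
    rw [derivedSeries_succ, ← hp, QuoApi.subgroupOf_commutator h h]
    exact commutator_mono ih ih


/-- Let G be a finite group with no nontrivial normal subgroup of odd order, S a Sylow 2-subgroup and T a subgroup of S strongly closed in S. Then the intersection of the derived series of C_G(T) (its perfect core), viewed in G, is a normal subgroup of G. -/
theorem result {G : Type*} [Group G] [Finite G] (hO : Cfsg.oddCore G = ⊥) (S : Sylow 2 G) (T : Subgroup G) (hT : Cfsg.IsStronglyClosed T (S : Subgroup G)) : ((⨅ n : ℕ, derivedSeries ↥(Subgroup.centralizer (T : Set G)) n).map (Subgroup.centralizer (T : Set G)).subtype).Normal := by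
  haveI : Fact (Nat.Prime 2) := ⟨Nat.prime_two⟩
  set D := (⨅ n, derivedSeries 𝐂(T) n).map (𝐂(T)).subtype
  have hp : ⁅D, D⁆ = D := by rw [← map_commutator, perf_inf]
  have hD : D ≤ 𝐂(T) := map_subtype_le _
  have h := cs_cls S hT
  have h1 := cent_main G _ S D h ⟨hp, isSylowIn_top S, fun x a b => le_cent_comm.1 hD (mem_of_cls hT a b)⟩
  rw [hO, le_bot_iff, commutator_eq_bot_iff_le_centralizer] at h1
  haveI := h.normal
  have TX : T ≤ closure (cls T) := fun t ht => subset_closure ⟨t, ht, 1, by simp⟩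
  refine PGrp.normal_iff_top_le_normalizer.2 fun g _ => ?_
  obtain ⟨n, hn, e⟩ := (sylow_inf_normal S (closure (cls T))).exists_cj_le (isPGroup_cj g (S.isPGroup'.to_le hT.1))
    ((cj_mono g TX).trans (cj_eq_of_normal g _).le)
  rw [cj_cj] at e
  have h2 : n * g ∈ 𝐍(T) := mem_normalizer_fintype fun t ht => hT.2 t ht _ (e (conj_mem_cj ht)).1
  have h3 : n * g ∈ 𝐍(D) := mem_normalizer_of_cj_le (le_inf_der ((cj_mono _ hD).trans
    (cj_eq_of_mem_normalizer (Amb.norm_le_norm_cent T h2)).le) (by rw [← cj_commutator, hp]))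
  simpa using mul_mem (inv_mem (cent_le_norm' D (h1 hn))) h3

end Cfsg.Agent.S1173
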