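import Cfsg.Statements.S1245
import Cfsg.Agent.Blk2.L2
import Cfsg.Agent.GsC.Eight

set_option autoImplicit false
open Cfsg

namespace Cfsg.Agent.S1245

/-- Let G be a non-abelian finite simple group with commutative Sylow 2-subgroups, and t an involution whose centralizer is the internal direct product of ⟨t⟩ and a subgroup E which has a normal subgroup E₀ ≅ PSL(2,F), |F| odd, with C_E(E₀) = 1 (so PSL(2,q) ≤ E ≤ Aut PSL(2,q)). Then C_G(t) is a maximal subgroup of G. -/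
theorem result {G : Type*} [Group G] [Finite G] [IsSimpleGroup G] (hna : ¬ IsMulCommutative G) (S : Sylow 2 G) (hS : IsMulCommutative (S : Subgroup G)) (t : G) (ht : orderOf t = 2) (E E₀ : Subgroup G) (hprod : Cfsg.IsInternalDirectProduct (Subgroup.zpowers t) E (Subgroup.centralizer ({t} : Set G))) (hE₀E : E₀ ≤ E) (hE₀n : (E₀.subgroupOf E).Normal) (hE₀ : ∃ (F : Type) (_ : Field F) (_ : Fintype F), Odd (Fintype.card F) ∧ Nonempty (E₀ ≃* Matrix.ProjectiveSpecialLinearGroup (Fin 2) F)) (hCE : E ⊓ Subgroup.centralizer (E₀ : Set G) = ⊥) : IsCoatom (Subgroup.centralizer ({t} : Set G)) := by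
  obtain ⟨F, _, _, ⟨c, hc⟩, ⟨e⟩⟩ := hE₀
  have h1 : Nat.card E₀ = (2 * c + 1) * (2 * c * (c + 1)) :=
    (Nat.card_congr e.toEquiv).trans (CIT.F.card_psl2_odd hc)
  have h2 : E ≤ GW.cz t := hprod.2.1
  rcases FGS.walter hna (.of_sylow S hS) with h | ⟨T, h⟩ | h
  · haveI : Fact (Nat.Prime 3) := ⟨Nat.prime_three⟩
    obtain ⟨x, hx⟩ := exists_prime_orderOf_dvd_card' 3 (h1 ▸ CIT.F.three_dvd_odd c)
    have := orderOf_dvd_of_pow_eq_one ((sq _).trans (Blk2.l2e_cz h ht (h2 (hE₀E x.2))))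
    rw [Subgroup.orderOf_coe, hx] at this
    omega
  · have h3 : 2 ^ 3 ∣ Nat.card G := by
      refine .trans ?_ (GW.cz t).card_subgroup_dvd_card
      rw [GsC.card_cz ht hprod]
      refine .trans ?_ (mul_dvd_mul_left 2 (Subgroup.card_dvd_of_le hE₀E))
      obtain ⟨d, hd⟩ := Nat.even_mul_succ_self c
      exact ⟨(2 * c + 1) * d, by rw [h1, mul_assoc 2 c, hd]; ring⟩
    rw [GsC.pow_dvd_iff T, h] at h3
    omega
  · exact h.max t ht

end Cfsg.Agent.S1245
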