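import Mathlib
import Cfsg.Statements.S1250
import Cfsg.Agent.Inv.Pairs
import Cfsg.Agent.LocalEven.SylowIn

set_option autoImplicit false
open Cfsg

namespace Cfsg.Agent.S1250

/-- Let S be a Sylow p-subgroup of the finite group G, A ≤ S strongly closed in S, and N a normal subgroup. Then the image of A in G ⧸ N is strongly closed in the image of S (which is a Sylow p-subgroup of G ⧸ N). -/
theorem result {G : Type*} [Group G] [Finite G] {p : ℕ} [Fact p.Prime] (S : Sylow p G) (A : Subgroup G) (hA : Cfsg.IsStronglyClosed A (S : Subgroup G)) (N : Subgroup G) [N.Normal] : Cfsg.IsStronglyClosed (A.map (QuotientGroup.mk' N)) ((S : Subgroup G).map (QuotientGroup.mk' N)) := by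
  refine ⟨Subgroup.map_mono hA.1, ?_⟩
  rintro _ ⟨x, hx, rfl⟩ g hg
  obtain ⟨g, rfl⟩ := QuotientGroup.mk'_surjective N g
  have h1 : g * x * g⁻¹ ∈ (S : Subgroup G) ⊔ N := by
    have : g * x * g⁻¹ ∈ ((S : Subgroup G).map (QuotientGroup.mk' N)).comap
      (QuotientGroup.mk' N) := by rw [Subgroup.mem_comap, map_mul, map_mul, map_inv]; exact hg
    rwa [Subgroup.comap_map_eq, QuotientGroup.ker_mk'] at this
  obtain ⟨k, hk⟩ := LocalEven.isPGroup_iff_mem.1 S.2 x (hA.1 hx)
  obtain ⟨h, hh, h2⟩ := (LocalEven.isSylowIn_of_sylow_le S le_sup_left).exists_conj_mem h1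
    (k := k) (by rw [conj_pow, hk]; simp)
  have h3 := hA.2 x hx (h * g) (by simpa [mul_assoc] using h2)
  obtain ⟨s, hs, n, hn, rfl⟩ := Subgroup.mem_sup_of_normal_right.1 hh
  have h4 := hA.2 _ h3 s⁻¹ (by simpa using mul_mem (mul_mem (inv_mem hs) (hA.1 h3)) hs)
  refine ⟨_, h4, ?_⟩
  have h5 : QuotientGroup.mk' N n = 1 := (QuotientGroup.eq_one_iff n).2 hn
  simp only [map_mul, map_inv, h5]
  group

end Cfsg.Agent.S1250
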