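import Mathlib
import Cfsg.Statements.S1293
import Cfsg.Agent.Comp2.PLayer

set_option autoImplicit false
open Cfsg

namespace Cfsg.Agent.S1293

open Cfsg.Agent.Comp2


/-- Let G be finite with L_{p'}(G) = 1, and H = N_G(P) for a nontrivial p-subgroup P. Then L_{p'}(H) = 1 and O_{p'}(H) ≤ O_{p'}(G). -/
theorem result {G : Type*} [Group G] [Finite G] (p : ℕ) [Fact p.Prime] (hL : Cfsg.pLayer p G = ⊥) (P : Subgroup G) (hP : IsPGroup p ↥P) (hP1 : P ≠ ⊥) : Cfsg.pLayer p ↥(Subgroup.normalizer (P : Set G)) = ⊥ ∧ (Cfsg.pPrimeCore p ↥(Subgroup.normalizer (P : Set G))).map (Subgroup.normalizer (P : Set G)).subtype ≤ Cfsg.pPrimeCore p G := by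
  have hk : (Nat.card ↥((QuotientGroup.mk' (pPrimeCore p G)).ker ⊓
      Subgroup.normalizer (P : Set G))).Coprime p := by
    rw [QuotientGroup.ker_mk']
    exact coprime_card_of_le inf_le_left (pPrimeCore_coprime p)
  have h1 := genFitting_normalizer_eq_pCore p (pLayer_eq_bot_iff_charP.mp hL)
    (hP.map (QuotientGroup.mk' (pPrimeCore p G)))
  rw [Core.normalizer_map_mk' _ _ (coprime_card_card_of_isPGroup hP (pPrimeCore_coprime p))
    (Or.inl (Core.solvable_of_isPGroup hP)), genFitting_eq_pCore_iff'] at h1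
  have h2 := map_pLayer_map_subtype (p := p) _ hk
  have h3 := map_pPrimeCore_map_subtype (p := p) _ hk
  rw [pLayer_eq_layer_of_pPrimeCore_eq_bot h1.1, h1.2, Subgroup.map_bot, Subgroup.map_eq_bot_iff,
    QuotientGroup.ker_mk'] at h2
  rw [h1.1, Subgroup.map_bot, Subgroup.map_eq_bot_iff, QuotientGroup.ker_mk'] at h3
  refine ⟨?_, h3⟩
  rw [← opp_pLayer, opp_eq_bot_iff, ← Core.card_map_subtype]
  exact coprime_card_of_le h2 (pPrimeCore_coprime p)

end Cfsg.Agent.S1293
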