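import Mathlib
import Cfsg.Statements.S1295
import Cfsg.Agent.Comp2.Wcore
import Cfsg.Agent.Comp2.SsftMain
import Cfsg.Agent.Comp2.Kill4

set_option autoImplicit false
open Cfsg

namespace Cfsg.Agent.S1295

open Cfsg.Agent.Comp2

/-- Let G be finite with O_{p'}(G) = 1 and p-rank at least 3, whose reduced rank-2 commuting graph for p is connected. Suppose that for every element a of order p with m_p(C_G(a)) ≥ 3 the p-layer of C_G(a) is trivial and O_{p'}(C_G(a)) is solvable. Then F*(C_G(a)) = O_p(C_G(a)) for every such a. -/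
theorem result {G : Type*} [Group G] [Finite G] (p : ℕ) [Fact p.Prime] (hO : Cfsg.pPrimeCore p G = ⊥) (hrk : ¬ Cfsg.PRankLE p 2 G) (hconn : Cfsg.IsRankGraphConnected p 2 G) (hL : ∀ a : G, (orderOf a = p ∧ ¬ Cfsg.PRankLE p 2 ↥(Subgroup.centralizer ({a} : Set G))) → Cfsg.pLayer p ↥(Subgroup.centralizer ({a} : Set G)) = ⊥ ∧ Group.IsSolvable ↥(Cfsg.centralizerPPrimeCore p a)) (a : G) (ha : (orderOf a = p ∧ ¬ Cfsg.PRankLE p 2 ↥(Subgroup.centralizer ({a} : Set G)))) : Cfsg.generalizedFittingSubgroup ↥(Subgroup.centralizer ({a} : Set G)) = Cfsg.pCore p ↥(Subgroup.centralizer ({a} : Set G)) := by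
  have h : EqF p (Cfsg.centralizerPPrimeCore (G := G) p) :=
    eqF_core (fun a ha => isPConstrained_iff_pLayer.2 (hL a ha).1) (fun a ha => (hL a ha).2)
      (fun A h h3 => h.compl_gen h3)
  have h0 := h.trivial_of_connected hO hconn ha
  have h1 : pPrimeCore p (Subgroup.centralizer ({a} : Set G)) = ⊥ :=
    (Subgroup.map_eq_bot_iff_of_injective _ (Subgroup.subtype_injective _)).1 h0
  exact (genFitting_eq_pCore_iff' p).2
    ⟨h1, pLayer_eq_layer_of_pPrimeCore_eq_bot h1 ▸ (hL a ha).1⟩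

end Cfsg.Agent.S1295
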