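import Mathlib
import Cfsg.Statements.S1296
import Cfsg.Agent.Comp2.Kill4
import Cfsg.Agent.S1221

set_option autoImplicit false
open Cfsg

namespace Cfsg.Agent.S1296

open Cfsg.Agent.Comp2


/-- Dichotomy Theorem. Let G be a finite group of even order with no normal subgroup of index 2 and with O(G) = 1. Then G has 2-rank at most 2, or G is of component type, or G is of characteristic 2 type. -/
theorem result {G : Type*} [Group G] [Finite G] (heven : Even (Nat.card G)) (hO2 : ∀ N : Subgroup G, N.Normal → N.index ≠ 2) (hO : Cfsg.oddCore G = ⊥) : Cfsg.PRankLE 2 2 G ∨ Cfsg.IsComponentType G ∨ Cfsg.IsCharacteristicTwoType G := by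
  by_cases h3 : PRankLE 2 2 G
  · exact Or.inl h3
  by_cases hc : IsComponentType G
  · exact Or.inr (Or.inl hc)
  have h1 := fun (x : G) hx => constrained_of_not_componentType hc (t := x) hx
  exact Or.inr (Or.inr (charTwo_of_cores heven h1 fun x hx => kill_cores
    (fun H hH => S1221.result H hH) (fun x hx => good_of_no_index_two h3
      (fun H hH => hO2 H (Subgroup.normal_of_index_eq_two hH) hH) hx) h1 hO hx))

end Cfsg.Agent.S1296
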