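import Mathlib
import Cfsg.Statements.S1303
import Cfsg.Agent.Perm.Bin
import Cfsg.Agent.Ab2.S4
import Cfsg.Agent.Core.PConstrained

set_option autoImplicit false
open Cfsg

namespace Cfsg.Agent.S1303

open Subgroup Matrix MatrixGroups
theorem h20 : (2 : ZMod 3) ≠ 0 := by decide

/-- The group X = SL(2, 3): it is 2-constrained, O_{2'}(X) = 1, its centre A = Z(X) contains every involution of X = C_X(A), and X has a subgroup of order 3 (normalized by A) not contained in O_{2'}(X). -/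
theorem result : Cfsg.IsPConstrained 2 (Matrix.SpecialLinearGroup (Fin 2) (ZMod 3)) ∧ Cfsg.pPrimeCore 2 (Matrix.SpecialLinearGroup (Fin 2) (ZMod 3)) = ⊥ ∧ (∀ t : Matrix.SpecialLinearGroup (Fin 2) (ZMod 3), orderOf t = 2 → t ∈ Subgroup.center (Matrix.SpecialLinearGroup (Fin 2) (ZMod 3))) ∧ ∃ Q : Subgroup (Matrix.SpecialLinearGroup (Fin 2) (ZMod 3)), Nat.card ↥Q = 3 ∧ ¬ (Q ≤ Cfsg.pPrimeCore 2 (Matrix.SpecialLinearGroup (Fin 2) (ZMod 3))) := by
  haveI : Fact (Nat.Prime 2) := ⟨Nat.prime_two⟩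
  haveI : Fact (Nat.Prime 3) := ⟨Nat.prime_three⟩
  obtain ⟨π, h1, h2⟩ := Perm.exists_quot_SL23
  have hO : pPrimeCore 2 SL(2, ZMod 3) = ⊥ := by
    refine Core.pPrimeCore_eq_bot_iff.2 fun N hN hc => (eq_bot_iff_forall _).2 fun x hx => ?_
    have key : ∀ x : SL(2, ZMod 3), x = 1 ∨ x ^ 4 = 1 ∨ x ^ 6 = -1 ∨ x ^ 3 = -1 ∨
        ∃ g : SL(2, ZMod 3), (x * (g * x * g⁻¹)⁻¹) ^ 2 = -1 := by decide +kernel
    have k2 : ∀ y ∈ N, y ^ 4 = 1 → y = 1 := fun y hy h =>
      orderOf_eq_one_iff.1 (Nat.eq_one_of_dvd_coprimes (Nat.Coprime.pow_right 2 hc) (N.orderOf_dvd_natCard hy)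
        (orderOf_dvd_of_pow_eq_one h))
    have k3 : -1 ∉ N := fun h => absurd (k2 _ h (by decide +kernel)) (by decide +kernel)
    rcases key x with h | h | h | h | ⟨g, h⟩
    · exact h
    · exact k2 x hx h
    · exact (k3 (h ▸ pow_mem hx _)).elim
    · exact (k3 (h ▸ pow_mem hx _)).elim
    · exact (k3 (h ▸ pow_mem (mul_mem hx (inv_mem (hN.conj_mem x hx g))) _)).elim
  refine ⟨Core.isPConstrained_of_solvable 2 ?_, hO, fun t ht => ?_, ?_⟩
  · haveI : Group.IsSolvable (alternatingGroup (Fin 4)) := Ab2.solv_A4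
    exact Group.isSolvable_of_ker_le_range (zpowers (-1)).subtype π (by rw [h2, range_subtype])
  · rw [Perm.sl2_invol h20 t ht, Perm.sl2_center h20]
    exact mem_zpowers _
  · obtain ⟨x, hx⟩ := exists_prime_orderOf_dvd_card' (G := SL(2, ZMod 3)) 3 (by rw [Perm.card_SL23]; norm_num)
    refine ⟨zpowers x, by rw [Nat.card_zpowers, hx], fun h => ?_⟩
    rw [hO, zpowers_le, mem_bot] at h
    rw [h, orderOf_one] at hx; omega

end Cfsg.Agent.S1303
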