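import Mathlib
import Cfsg.Statements.S1307
import Cfsg.Agent.Comp2.Wcore
import Cfsg.Agent.S0225
import Cfsg.Agent.S0016

set_option autoImplicit false
open Cfsg

namespace Cfsg.Agent.S1307

open Cfsg.Agent.Comp2

open Subgroup

theorem aux {L : Type*} [Group L] [Finite L] (hL : IsQuasisimple L) (heven : Even (Nat.card L))
    (hrk : PRankLE 2 1 L) : ∃ z ∈ center L, orderOf z = 2 ∧ ∃ S : Sylow 2 L, ∃ n : ℕ,
      Nonempty ((S : Subgroup L) ≃* QuaternionGroup (2 ^ (n + 1))) := by
  have hrank : ∀ E : Subgroup L, ¬ IsKleinFour E := fun E hE => by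
    have := hrk E (elem_of_four hE).1 (elem_of_four hE).2
    rw [Inv.four_card hE] at this
    omega
  haveI := quasisimple_isPerfect hL
  obtain ⟨z, hz, N, hN, hodd, hc⟩ := S0225.result heven hrank
  have hNZ : N ≤ center L := (quasisimple_normal_top_or_central hL N).resolve_left (by
    rintro rfl
    rw [card_top] at hodd
    exact Nat.not_even_iff_odd.2 hodd heven)
  have hzc : z ∈ center L := by
    have h1 : ⁅zpowers z, (⊤ : Subgroup L)⁆ ≤ N := by
      rw [commutator_le]
      intro a ha g _
      rcases Inv.one_or_eq_of_mem_zpowers (Inv.mul_self_of_two hz) ha with rfl | rfl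
      · simp
      · exact hc g
    have h2 := commutator_eq_bot_of_perfect (X := zpowers z) (K := ⊤)
      (Group.IsPerfect.commutator_eq_top) (commutator_eq_bot_iff_le_centralizer.2
        ((h1.trans hNZ).trans (by rw [coe_top, centralizer_univ])))
    rw [commutator_eq_bot_iff_le_centralizer, coe_top, centralizer_univ] at h2
    exact h2 (mem_zpowers z)
  refine ⟨z, hzc, hz, ?_⟩
  obtain ⟨S⟩ : Nonempty (Sylow 2 L) := inferInstance
  have huniq : ∀ t : L, orderOf t = 2 → t = z := fun t ht2 => by
    by_contra h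
    exact hrank _ (Inv.isKleinFour_closure ht2 hz (mem_center_iff.1 hzc t) h)
  have key : ∀ H K : Subgroup S, Nat.card H = 2 → Nat.card K = 2 → H ≤ K := by
    intro H K hH hK
    obtain ⟨t, ht, ht2⟩ := Inv.exists_two_mem_of_even (H := H) (by rw [hH]; exact even_two)
    obtain ⟨u, hu, hu2⟩ := Inv.exists_two_mem_of_even (H := K) (by rw [hK]; exact even_two)
    obtain rfl : t = u := Subtype.ext ((huniq t (by rwa [orderOf_coe])).trans
      (huniq u (by rwa [orderOf_coe])).symm)
    rw [← eq_of_le_of_card_ge (zpowers_le.2 ht) (by rw [Nat.card_zpowers, ht2, hH])]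
    exact zpowers_le.2 hu
  have hnc : ¬ IsCyclic S := fun h => by
    have hmin : (Nat.card L).minFac = 2 := (Nat.minFac_eq_two_iff _).2 heven.two_dvd
    have hc := h.isComplement' hmin
    haveI : Group.IsSolvable S := Core.solvable_of_isPGroup S.2
    have h1 := eq_bot_of_perfect_of_isSolvable (K := (⊤ : Subgroup L).map
      (MonoidHom.transferSylow S (h.normalizer_le_centralizer hmin)))
      (by rw [← map_commutator]; exact congrArg _ Group.IsPerfect.commutator_eq_top) inferInstance
    rw [Subgroup.map_eq_bot_iff, top_le_iff] at h1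
    rw [h1, isComplement'_top_left] at hc
    exact S.ne_bot_of_dvd_card heven.two_dvd hc
  rcases S0016.result 2 S.2 (fun H K hH hK => le_antisymm (key H K hH hK) (key K H hK hH)) with
    h | ⟨-, n, ⟨e⟩⟩
  · exact absurd h hnc
  · rcases n with _ | n
    · have := QuaternionGroup.quaternionGroup_one_isCyclic
      exact absurd (isCyclic_of_surjective e.symm e.symm.surjective) hnc
    · exact ⟨S, n, ⟨e⟩⟩

/-- Let G be finite, x an involution and L ≤ C_G(x) a component of C_G(x) of even order and 2-rank 1, such that L is a component of C_G(y) for every involution y ∈ C_G(L). Then some involution of L is a classical involution of G. -/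
theorem result {G : Type*} [Group G] [Finite G] (x : G) (hx : orderOf x = 2) (L : Subgroup G) (hLx : L ≤ Subgroup.centralizer ({x} : Set G)) (hL : Cfsg.IsComponent (L.subgroupOf (Subgroup.centralizer ({x} : Set G)))) (heven : Even (Nat.card ↥L)) (hrk : Cfsg.PRankLE 2 1 ↥L) (hne : ∀ y : G, orderOf y = 2 → y ∈ Subgroup.centralizer (L : Set G) → L ≤ Subgroup.centralizer ({y} : Set G) ∧ Cfsg.IsComponent (L.subgroupOf (Subgroup.centralizer ({y} : Set G)))) : ∃ t ∈ L, Cfsg.IsClassicalInvolution t := by
  obtain ⟨z, hzc, hz, hS⟩ := aux ((quasisimple_subgroupOf_iff hLx).1 hL.2) heven hrk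
  have hz2 : orderOf (z : G) = 2 := by rwa [orderOf_coe]
  obtain ⟨h1, h2⟩ := hne z hz2 (mem_centralizer_iff.2 fun y hy =>
    congrArg Subtype.val (mem_center_iff.1 hzc ⟨y, hy⟩))
  exact ⟨z, z.2, hz2, L, h1, z.2, h2.1, hS⟩

end Cfsg.Agent.S1307
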