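import Mathlib
import Cfsg.Statements.S1322
import Cfsg.Agent.Comp2.Pump

set_option autoImplicit false
open Cfsg

namespace Cfsg.Agent.S1322

open Cfsg.Agent.Comp2

open Cfsg.Agent.BG Subgroup
open scoped Pointwise

/-- Let G be finite with L_{2'}(G) = E(G), t an involution and L ≤ C_G(t) a component of C_G(t). Then there is a component D of G with: L = D; or L < D and D = ⁅D, ⟨t⟩⁆; or tDt⁻¹ ≠ D and L is the layer of C_{D ⊔ tDt⁻¹}(t). -/
theorem result {G : Type*} [Group G] [Finite G] (hL2 : Cfsg.pLayer 2 G = Cfsg.layer G) (t : G) (ht : orderOf t = 2) (L : Subgroup G) (hLt : L ≤ Subgroup.centralizer ({t} : Set G)) (hL : Cfsg.IsComponent (L.subgroupOf (Subgroup.centralizer ({t} : Set G)))) : ∃ D : Subgroup G, Cfsg.IsComponent D ∧ (L = D ∨ (L < D ∧ D = ⁅D, Subgroup.zpowers t⁆) ∨ (D.map (MulAut.conj t).toMonoidHom ≠ D ∧ L = (Cfsg.layer ↥((D ⊔ D.map (MulAut.conj t).toMonoidHom) ⊓ Subgroup.centralizer ({t} : Set G))).map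 ((D ⊔ D.map (MulAut.conj t).toMonoidHom) ⊓ Subgroup.centralizer ({t} : Set G)).subtype)) := by
  have hL' : CompIn L (⊤ ⊓ 𝐂[t]) := by rw [top_inf_eq]; exact ⟨hLt, hL⟩
  have hLE : L ≤ layerOf ⊤ := by
    refine (hL'.le_pLayer_of_cent ht (mem_top t)).trans ?_
    rw [pLayerOf, pLayer_map_subtype_top, hL2, layerOf_top]
  obtain ⟨D, hD, h⟩ := pump_cases ht (le_normalizer (mem_top t)) hL' hLE
  refine ⟨D, compIn_top.1 hD, h.imp_right (Or.imp_right fun ⟨h1, h2, _⟩ => ⟨h1, ?_⟩)⟩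
  have h3 := hL'.of_le (h2.ge.trans (Amb.der_le _)) (inf_le_inf_right _ le_top)
  exact le_antisymm h3.le_layer (layerOf_le_iff.2 fun K hK =>
    hK.perf.ge.trans ((Amb.der_mono hK.1).trans h2.le))

end Cfsg.Agent.S1322
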