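import Mathlib
import Cfsg.Agent.Comp2.Quasisimple
import Cfsg.Statements.S1323
-- import your own Cfsg.Agent.* helpers here

set_option autoImplicit false
open Cfsg

namespace Cfsg.Agent.S1323

open Subgroup Equiv Equiv.Perm
open scoped Pointwise

variable {α : Type*} [Fintype α] [DecidableEq α]

/-- The even permutations supported in `s`. -/
abbrev R (s : Finset α) : Subgroup (alternatingGroup α) := (alternatingGroup.ofSubtype s).range

theorem mem_R {s : Finset α} {k : alternatingGroup α} : k ∈ R s ↔ ∀ x ∉ s, (k : Perm α) x = x := by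
  rw [alternatingGroup.mem_range_ofSubtype_iff]
  exact ⟨fun h x hx => by_contra fun e => hx (h (mem_support.2 e)),
    fun h x hx => by_contra fun e => mem_support.1 hx (h x e)⟩

theorem exists_cyc {s : Finset α} (h : 3 ≤ s.card) {x : α} (hx : x ∈ s) :
    ∃ k ∈ R s, (k : Perm α) x ≠ x := by
  obtain ⟨y, hy, z, hz, e⟩ := Finset.one_lt_card.1
    (show 1 < (s.erase x).card by rw [Finset.card_erase_of_mem hx]; omega)
  rw [Finset.mem_erase] at hy hz
  refine ⟨⟨swap x y * swap x z, by
    rw [mem_alternatingGroup, map_mul, sign_swap hy.1.symm, sign_swap hz.1.symm]; simp⟩,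
    mem_R.2 fun w hw => ?_, ?_⟩
  · have a : w ≠ x := fun e => hw (e ▸ hx)
    have b : w ≠ y := fun e => hw (e ▸ hy.2)
    have c : w ≠ z := fun e => hw (e ▸ hz.2)
    simp [swap_apply_of_ne_of_ne, a, b, c]
  · simp [swap_apply_of_ne_of_ne hz.1 e.symm, hz.1]

theorem sub_of_le {s t : Finset α} (h : 3 ≤ s.card) (e : R s ≤ R t) : s ⊆ t := fun x hx => by
  obtain ⟨k, hk, h1⟩ := exists_cyc h hx
  exact by_contra fun h2 => h1 (mem_R.1 (e hk) x h2)

theorem cent_R {s : Finset α} (h : 4 ≤ s.card) : centralizer (R s : Set (alternatingGroup α)) = R sᶜ := by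
  ext c
  rw [mem_R]
  refine ⟨fun hc x hx => by_contra fun e => ?_, fun hc k hk => Subtype.ext ?_⟩
  · rw [Finset.mem_compl, not_not] at hx
    obtain ⟨k, hk, h1⟩ := exists_cyc (s := s.erase ((c : Perm α) x)) (x := x)
      (by have := Finset.pred_card_le_card_erase (s := s) (a := (c : Perm α) x); omega)
      (Finset.mem_erase.2 ⟨fun a => e a.symm, hx⟩)
    have a := congrArg (fun g : alternatingGroup α => (g : Perm α) x)
      (hc k (mem_R.2 fun w hw => mem_R.1 hk w fun b => hw (Finset.mem_of_mem_erase b)))
    change (k : Perm α) ((c : Perm α) x) = (c : Perm α) ((k : Perm α) x) at a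
    rw [mem_R.1 hk _ (Finset.notMem_erase _ _)] at a
    exact h1 ((c : Perm α).injective a).symm
  · refine (Disjoint.commute fun x => ?_).eq
    by_cases hx : x ∈ s
    · exact Or.inr (hc x (by simpa using hx))
    · exact Or.inl (mem_R.1 hk x hx)

theorem conj_R (g : alternatingGroup α) (s : Finset α) :
    (R s).map (MulAut.conj g).toMonoidHom = R (g • s) :=
  alternatingGroup.conj_smul_range_ofSubtype s g

theorem mem_norm {s : Finset α} (h : 3 ≤ s.card) {g : alternatingGroup α} :
    g ∈ normalizer (R s : Set (alternatingGroup α)) ↔ g • s = s := by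
  rw [mem_normalizer_iff_map_conj_eq]
  change (R s).map (MulAut.conj g).toMonoidHom = R s ↔ _
  rw [conj_R]
  exact ⟨fun e => (Finset.eq_of_subset_of_card_le (sub_of_le h e.ge) (by simp)).symm, fun e => by rw [e]⟩

theorem card_R (s : Finset α) : Nat.card (R s) = Nat.card (alternatingGroup s) :=
  (Nat.card_congr (MonoidHom.ofInjective alternatingGroup.ofSubtype_injective).toEquiv).symm

theorem R_inf (s t : Finset α) : R s ⊓ R t = R (s ∩ t) := by
  ext k
  simp only [mem_inf, alternatingGroup.mem_range_ofSubtype_iff, Finset.subset_inter_iff]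

theorem std {s : Finset α} (h : 5 ≤ s.card) (h4 : sᶜ.card = 4) : IsStandardSubgroup (R s) := by
  have c := cent_R (s := s) (by omega)
  have n : ∀ g : alternatingGroup α, g • sᶜ = sᶜ ↔ g • s = s := fun g => by
    rw [← compl_inj_iff (x := g • s), ← Finset.coe_inj, ← Finset.coe_inj]
    simp [Set.smul_set_compl]
  refine ⟨?_, ⟨?_, fun g hg => ?_⟩, fun g _ e => ?_, ?_⟩
  · haveI := alternatingGroup.isSimpleGroup (α := s) (by simpa using h)
    refine Comp2.quasisimple_of_mulEquiv (Comp2.quasisimple_of_isSimpleGroup ?_)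
      (MonoidHom.ofInjective alternatingGroup.ofSubtype_injective)
    rw [alternatingGroup.isMulCommutative_iff_card_le_three]
    simp; omega
  · haveI : Nontrivial (sᶜ : Finset α) := Finite.one_lt_card_iff_nontrivial.1 (by
      simp only [Nat.card_eq_fintype_card, Fintype.card_coe, h4]; omega)
    rw [c, card_R, nat_card_alternatingGroup]
    simp only [Nat.card_eq_fintype_card, Fintype.card_coe, h4]
    decide
  · rw [c, mem_norm (by omega)] at hg
    rw [c, conj_R, R_inf, card_R]
    have k : (sᶜ ∩ g • sᶜ).card < 4 := by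
      by_contra k
      have := Finset.eq_of_subset_of_card_le (Finset.inter_subset_right (s₁ := sᶜ) (s₂ := g • sᶜ))
        (by rw [Finset.card_smul_finset]; omega)
      exact hg (Finset.eq_of_subset_of_card_le (this ▸ Finset.inter_subset_left) (by simp))
    by_cases k3 : (sᶜ ∩ g • sᶜ).card = 3
    · haveI : Nontrivial (sᶜ ∩ g • sᶜ : Finset α) :=
        Finite.one_lt_card_iff_nontrivial.1 (by simp only [Nat.card_eq_fintype_card, Fintype.card_coe, k3]; omega)
      rw [nat_card_alternatingGroup]
      simp only [Nat.card_eq_fintype_card, Fintype.card_coe, k3]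
      decide
    · generalize sᶜ ∩ g • sᶜ = t at k k3
      rw [card_eq_one.2 (alternatingGroup.eq_bot_of_card_le_two (α := t) (by
        simp only [Nat.card_eq_fintype_card, Fintype.card_coe]; omega))]
      exact odd_one
  · rw [commutator_comm, commutator_eq_bot_iff_le_centralizer, c, conj_R] at e
    have := Finset.card_le_card (sub_of_le (by rw [Finset.card_smul_finset]; omega) e)
    rw [Finset.card_smul_finset] at this
    omega
  · ext g
    rw [c, mem_norm (by omega), mem_norm (by omega), n]

/-- For n ≥ 9, the subgroup of the alternating group on Fin n fixing each of the points 0, 1, 2, 3 is a standard subgroup. -/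
theorem result (n : ℕ) (h4 : 4 ≤ n) (hn : 9 ≤ n) : Cfsg.IsStandardSubgroup (⨅ i : Fin 4, MulAction.stabilizer ↥(alternatingGroup (Fin n)) (Fin.castLE h4 i : Fin n)) := by
  have e : (⨅ i : Fin 4, MulAction.stabilizer ↥(alternatingGroup (Fin n)) (Fin.castLE h4 i : Fin n)) =
      R (Finset.univ.map (Fin.castLEEmb h4))ᶜ := by
    ext k
    rw [mem_R, mem_iInf]
    simp [MulAction.mem_stabilizer_iff, Subgroup.smul_def]
  rw [e]
  exact std (by simp [Finset.card_compl]; omega) (by simp)

end Cfsg.Agent.S1323
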