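import Mathlib
import Cfsg.Statements.S1336
import Cfsg.Agent.Inv.Conn2

set_option autoImplicit false
open Cfsg

namespace Cfsg.Agent.S1336

open Cfsg.Agent.LocalEven

/-- Let G be finite and p prime. Then G has a proper subgroup H with p ∣ |H| and p ∤ |H ∩ gHg⁻¹| for every g ∉ H (a strongly p-embedded subgroup) if and only if G is not 1-connected for p. -/
theorem result {G : Type*} [Group G] [Finite G] (p : ℕ) [Fact p.Prime] : (∃ H : Subgroup G, H ≠ ⊤ ∧ p ∣ Nat.card ↥H ∧ ∀ g : G, g ∉ H → ¬ p ∣ Nat.card ↥(H ⊓ H.map (MulAut.conj g).toMonoidHom)) ↔ ¬ Cfsg.IsKConnected p 1 G := by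
  by_cases hp : p ∣ Nat.card G
  · obtain ⟨S⟩ : Nonempty (Sylow p G) := inferInstance
    have hr : ¬ PRankLE p 0 G := BG.Rank.pRankLE_top.not.1
      (BG.Rank.pRankLE_zero_iff.not.2 (not_not.2 (by rwa [Subgroup.card_top])))
    rw [Inv.not_connected_iff S hr (Inv.connected_one S.isPGroup')]
    constructor
    · rintro ⟨H, h1, h2, h3⟩ e
      obtain ⟨-, -, P, hP⟩ := spe_iff.2 (spe_of_classical h1 h2 h3)
      have h4 := (Inv.not_connected_iff P hr (Inv.connected_one P.isPGroup')).2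
        fun e => h1 (top_le_iff.1 (e ▸ hP))
      exact (Inv.not_connected_iff S hr (Inv.connected_one S.isPGroup')).1 h4 e
    · intro h
      have := spe_iff.1 (⟨hp, h, S, le_rfl⟩ : IsStronglyPEmbedded p _)
      exact ⟨_, h, this.dvd, this.classical⟩
  · refine ⟨fun ⟨H, _, h, _⟩ => absurd (h.trans (Subgroup.card_subgroup_dvd_card H)) hp, fun h => ?_⟩
    refine absurd (fun A B h1 h2 _ _ => ?_) h
    exact absurd (BG.Rank.dvd_card_of_not_pRankLE (k := 0) (H := ⊤)
      (Inv.not_rank_iff.2 ⟨A, le_top, h1, h2⟩)) (by rwa [Subgroup.card_top])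

end Cfsg.Agent.S1336
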