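import Mathlib
import Cfsg.Statements.S1337
import Cfsg.Agent.Inv.Conn

set_option autoImplicit false
open Cfsg

namespace Cfsg.Agent.S1337

/-- Let P be a finite p-group of p-rank greater than 2. Then P has a normal elementary abelian subgroup U of order p², and for every elementary abelian X ≤ P with |X| ≥ p²: X is joined to U by a chain of pairwise commuting elementary abelian subgroups of order ≥ p² if and only if C_P(X) has p-rank greater than 2. -/
theorem result {P : Type*} [Group P] [Finite P] (p : ℕ) [Fact p.Prime] (hP : IsPGroup p P) (hrk : ¬ Cfsg.PRankLE p 2 P) : ∃ U : Subgroup P, U.Normal ∧ Cfsg.IsElementaryAbelian p U ∧ Nat.card ↥U = p ^ 2 ∧ ∀ X : Subgroup P, Cfsg.IsElementaryAbelian p X → p ^ 2 ≤ Nat.card ↥X → (Relation.ReflTransGen (fun A B : Subgroup P => Cfsg.IsElementaryAbelian p A ∧ p ^ 2 ≤ Nat.card ↥A ∧ Cfsg.IsElementaryAbelian p B ∧ p ^ 2 ≤ Nat.card ↥B ∧ ∀ a ∈ A, ∀ b ∈ B, a * b = b * a) X U ↔ ¬ Cfsg.PRankLE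 p 2 ↥(Subgroup.centralizer (X : Set P))) := by
  obtain ⟨U, _, h1, h2⟩ : ∃ U : Subgroup P, U.Normal ∧ IsElementaryAbelian p U ∧ Nat.card U = p ^ 2 := by
    obtain ⟨E, h1, h2⟩ := BG.Rank.not_pRankLE_iff'.1 hrk
    by_cases hp : p = 2
    · subst hp
      obtain ⟨V, -, h3, h4⟩ := Inv.exists_normal_four_of_eight (P := ⊤) (E := E) (hP.to_subgroup ⊤)
        le_top h2.ge fun e he => by rw [← pow_two]; exact h1.2 e he
      exact ⟨V, Subgroup.normalizer_eq_top_iff.1 (top_le_iff.1 h4), Inv.four_iff.1 h3⟩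
    · obtain ⟨V, -, h3⟩ := PGrp.exists_normal_elementary_sq hp hP ⊤
        (BG.Rank.not_isCyclic_of_elem (k := 1) le_top h1 h2)
      exact ⟨V, h3⟩
  exact ⟨U, ‹_›, h1, h2, fun X h3 h4 => Inv.cn_iff hP hrk h1 h2 ⟨h3, h4⟩⟩

end Cfsg.Agent.S1337
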