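import Mathlib
import Cfsg.Statements.S1338
import Cfsg.Agent.Inv.Conn
import Cfsg.Agent.S0122

set_option autoImplicit false
open Cfsg

namespace Cfsg.Agent.S1338

/-- A finite 3-group of 3-rank at least 4 is 2-connected for the prime 3: its commuting graph on elementary abelian subgroups of order ≥ 9 is connected. -/
theorem result {P : Type*} [Group P] [Finite P] (hP : IsPGroup 3 P) (hrk : ¬ Cfsg.PRankLE 3 3 P) : Cfsg.IsKConnected 3 2 P := by
  haveI : Fact (Nat.Prime 3) := ⟨Nat.prime_three⟩
  obtain ⟨E, h1, h2⟩ := BG.Rank.not_pRankLE_iff'.1 hrk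
  obtain ⟨A, _, h3, h4⟩ := S0122.result (by decide) hP E h1 h2
  exact Inv.connected_of_normal (E := A) hP ⟨h3, h4.ge⟩

end Cfsg.Agent.S1338
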