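import Mathlib
import Cfsg.Agent.BHS.GLBlk
import Cfsg.Agent.Classical.SL2Basic
import Cfsg.Agent.Core.Cores
import Cfsg.Statements.S1340
-- import your own Cfsg.Agent.* helpers here

set_option autoImplicit false
open Cfsg

namespace Cfsg.Agent.S1340

/-- Let F be a finite field of odd order and n ≥ 3 with (n, |F|) ≠ (3, 3). Then GL(n, F) has a non-central involution t such that C(t) / O(C(t)) has a component. -/
theorem result {F : Type*} [Field F] [Fintype F] [DecidableEq F] (hF : Odd (Fintype.card F)) (n : ℕ) (hn : 3 ≤ n) (h33 : ¬ (n = 3 ∧ Fintype.card F = 3)) : ∃ t : Matrix.GeneralLinearGroup (Fin n) F, orderOf t = 2 ∧ t ∉ Subgroup.center (Matrix.GeneralLinearGroup (Fin n) F) ∧ Cfsg.HasComponent (↥(Subgroup.centralizer ({t} : Set (Matrix.GeneralLinearGroup (Fin n) F))) ⧸ Cfsg.oddCore ↥(Subgroup.centralizer ({t} : Set (Matrix.GeneralLinearGroup (Fin n) F)))) := by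
  obtain ⟨m, rfl⟩ : ∃ m, n = m + 1 := ⟨n - 1, by omega⟩
  have h2 : (2 : F) ≠ 0 := Classical.SL2Basic.two_ne_zero_of_odd hF
  have tt : GLBlk.ex (-1 : Matrix (Fin m) (Fin m) F) 1 * GLBlk.ex (-1) 1 = 1 := by
    rw [GLBlk.ex_mul]; simp [GLBlk.ex_one]
  let t : Matrix.GeneralLinearGroup (Fin (m + 1)) F := ⟨_, _, tt, tt⟩
  have c : ∀ g, g ∈ Subgroup.centralizer {t} ↔ GLBlk.ex (-1) 1 * g.1 = g.1 * GLBlk.ex (-1) 1 := fun g => by
    rw [LocalEven.mem_centralizer_singleton]
    exact Units.ext_iff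
  have nc : t ∉ Subgroup.center (Matrix.GeneralLinearGroup (Fin (m + 1)) F) := fun h => by
    obtain ⟨a, e⟩ := Matrix.GeneralLinearGroup.center_eq_range_scalar.le h
    have e0 : Matrix.scalar _ (a : F) = GLBlk.ex (-1 : Matrix (Fin m) (Fin m) F) 1 := congrArg Units.val e
    have e1 := congrFun (congrFun e0 (Fin.last m)) (Fin.last m)
    have e2 := congrFun (congrFun e0 (Fin.castSucc ⟨0, by omega⟩)) (Fin.castSucc ⟨0, by omega⟩)
    rw [GLBlk.ex_ll] at e1
    rw [GLBlk.ex_cc] at e2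
    simp only [Matrix.scalar_apply, Matrix.diagonal_apply_eq, Matrix.neg_apply, Matrix.one_apply_eq] at e1 e2
    exact h2 (by linear_combination e2 - e1)
  let φ := Matrix.SpecialLinearGroup.toGL.comp (GLBlk.emb m F)
  have i : Function.Injective φ := Matrix.SpecialLinearGroup.toGL_injective.comp GLBlk.emb_inj
  have h1 : φ.range ≤ Subgroup.centralizer {t} := by
    rintro _ ⟨X, rfl⟩
    exact (c _).2 (GLBlk.comm_t _ _).symm
  have q : IsQuasisimple φ.range := Comp2.quasisimple_of_mulEquiv (GLBlk.qs_sl (by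
    have := Fintype.one_lt_card (α := F)
    obtain ⟨k, hk⟩ := hF
    omega)) (MonoidHom.ofInjective i)
  refine ⟨t, orderOf_eq_prime (Units.ext (by rw [sq]; exact tt)) fun e => nc (e ▸ one_mem _), nc,
    _, Comp2.component_map_of_surjective (K := φ.range.subgroupOf _) ⟨((Subgroup.normal_subgroupOf_iff_le_normalizer h1).2
      (LocalEven.le_normalizer_of_cj_le fun g hg => LocalEven.cj_le_iff'.2 ?_)).isSubnormal,
      (Comp2.quasisimple_subgroupOf_iff h1).2 q⟩ (QuotientGroup.mk' _) (QuotientGroup.mk'_surjective _) fun e => ?_⟩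
  · rintro _ ⟨X, rfl⟩
    obtain ⟨Y, e⟩ := GLBlk.conj_ex h2 (congrArg Units.val (mul_inv_cancel g)) ((c _).1 hg)
      ((c _).1 (inv_mem hg)) X
    exact ⟨Y, Units.ext e⟩
  rw [Subgroup.map_eq_bot_iff, QuotientGroup.ker_mk'] at e
  have d := Subgroup.card_dvd_of_le e
  rw [LocalEven.card_subgroupOf h1, ← Nat.card_congr (MonoidHom.ofInjective i).toEquiv] at d
  have ne : (⟨0, by omega⟩ : Fin m) ≠ ⟨1, by omega⟩ := by simp
  have o : orderOf (Matrix.SpecialLinearGroup.diag2n ne (-1 : F) (by simp)) = 2 := orderOf_eq_prime (by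
    refine Subtype.ext ?_
    rw [sq, Matrix.SpecialLinearGroup.coe_mul, Matrix.SpecialLinearGroup.diag2n_coe,
      Matrix.diagonal_mul_diagonal, Matrix.SpecialLinearGroup.coe_one, ← Matrix.diagonal_one]
    congr 1; funext k
    split_ifs <;> simp) fun e => h2 (by
    have := congrFun (congrFun (congrArg Subtype.val e) ⟨0, by omega⟩) ⟨0, by omega⟩
    simp [Matrix.SpecialLinearGroup.diag2n] at this
    linear_combination -this)
  exact absurd ((Core.pPrimeCore_coprime 2).coprime_dvd_left ((o ▸ orderOf_dvd_natCard _).trans d)) (by decide)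

end Cfsg.Agent.S1340
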