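import Mathlib
import Cfsg.Statements.S1589
import Cfsg.Agent.Golay.Idx3

set_option autoImplicit false
open scoped Pointwise
open Cfsg

namespace Cfsg.Agent.S1589

open Cfsg.Agent.Golay

/-- Subgroups of the group of the length-24 code of index 759, 276 and 1771 are exactly the octad, duad and sextet stabilisers, and no subgroup has index 253. -/
theorem result : (∀ H : Subgroup ↥Cfsg.M24, H.index = 759 → ∃ o ∈ Cfsg.octads, H = MulAction.stabilizer Cfsg.M24 o) ∧ (∀ H : Subgroup ↥Cfsg.M24, H.index = 276 → ∃ s : Finset Cfsg.GolayPt, s.card = 2 ∧ H = MulAction.stabilizer Cfsg.M24 s) ∧ (∀ H : Subgroup ↥Cfsg.M24, H.index = 1771 → ∃ S ∈ Cfsg.sextets, H = MulAction.stabilizer Cfsg.M24 S) ∧ ∀ H : Subgroup ↥Cfsg.M24, H.index ≠ 253 := by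
  have k1 : ∀ H : Subgroup M24, ∀ {m N : ℕ}, H.index = m → 244823040 = N * m → m ≠ 0 →
      Nat.card (H.map M24.subtype) = N := fun H m N h e h0 => by
    have := H.card_mul_index
    rw [h, card_M24, e] at this
    rw [Subgroup.card_map_of_injective M24.subtype_injective]
    exact Nat.eq_of_mul_eq_mul_right (Nat.pos_of_ne_zero h0) this
  have k2 : ∀ {Ω : Type} [MulAction P24 Ω] {H : Subgroup M24} {x : Ω}, H.map M24.subtype = St M24 x →
      H = MulAction.stabilizer M24 x := fun {_ _ H x} e => by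
    rw [← Subgroup.comap_map_eq_self_of_injective M24.subtype_injective H, e]
    exact Subgroup.ext fun g => ⟨fun h => h.2, fun h => ⟨g.2, h⟩⟩
  refine ⟨fun H h => ?_, fun H h => ?_, fun H h => ?_, fun H h =>
    no253 (Subgroup.map_subtype_le H) (k1 H h (by norm_num) (by norm_num))⟩
  · obtain ⟨o, a, b⟩ := idx759 (Subgroup.map_subtype_le H) (k1 H h (by norm_num) (by norm_num))
    exact ⟨o, a, k2 b⟩
  · obtain ⟨o, a, b⟩ := idx276 (Subgroup.map_subtype_le H) (k1 H h (by norm_num) (by norm_num))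
    exact ⟨o, a, k2 b⟩
  · obtain ⟨o, a, b⟩ := idx1771 (Subgroup.map_subtype_le H) (k1 H h (by norm_num) (by norm_num))
    exact ⟨o, a, k2 b⟩

end Cfsg.Agent.S1589
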