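import Mathlib
import Cfsg.Statements.S1609
import Cfsg.Agent.Golay.Idx2

set_option autoImplicit false
open scoped Pointwise
open Cfsg

namespace Cfsg.Agent.S1609

open Cfsg.Agent.Golay

/-- Subgroups of index 253 in the Mathieu group of degree 23 are exactly the duad stabilisers and the heptad stabilisers. -/
theorem result (x : Cfsg.GolayPt) (H : Subgroup ↥(MulAction.stabilizer Cfsg.M24 x)) (hH : H.index = 253) : (∃ s : Finset Cfsg.GolayPt, s.card = 2 ∧ x ∉ s ∧ H = (MulAction.stabilizer Cfsg.M24 s).subgroupOf (MulAction.stabilizer Cfsg.M24 x)) ∨ ∃ o ∈ Cfsg.octads, x ∈ o ∧ H = (MulAction.stabilizer Cfsg.M24 o).subgroupOf (MulAction.stabilizer Cfsg.M24 x) := by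
  let f : MulAction.stabilizer M24 x →* P24 := M24.subtype.comp (MulAction.stabilizer M24 x).subtype
  have hf : Function.Injective f := Subtype.val_injective.comp Subtype.val_injective
  have h1 := H.card_mul_index
  rw [hH, card_eq_of_mem_iff (K := MulAction.stabilizer M24 x) (y := x) fun _ => Iff.rfl, card_St_M24] at h1
  have key : ∀ s : Finset GolayPt, H.map f = St (St M24 s) x →
      H = (MulAction.stabilizer M24 s).subgroupOf (MulAction.stabilizer M24 x) := fun s e => by
    rw [← Subgroup.comap_map_eq_self_of_injective hf H, e]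
    ext g
    exact ⟨fun h => h.1.2, fun h => ⟨⟨g.1.2, h⟩, g.2⟩⟩
  rcases idx253 (K := H.map f) (x := x) (by
    rintro _ ⟨g, -, rfl⟩
    exact mem_fixOct.2 ⟨g.1.2, fun a ha => Finset.mem_singleton.1 ha ▸ g.2⟩)
    (by rw [Subgroup.card_map_of_injective hf]; omega) with ⟨s, a, b, e⟩ | ⟨o, a, b, e⟩
  exacts [Or.inl ⟨s, a, b, key s e⟩, Or.inr ⟨o, a, b, key o e⟩]

end Cfsg.Agent.S1609
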