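import Mathlib
import Cfsg.Agent.JC.J2
import Cfsg.Agent.Comp.Ico.Iso
import Cfsg.Statements.S1623

set_option autoImplicit false
open Quaternion
open Cfsg

namespace Cfsg.Agent.S1623

/-- A reflection centraliser in the Hall–Janko group is an extension of an extraspecial group of order 32 by the alternating group of degree 5. -/
theorem result (f : Equiv.Perm ↥Cfsg.Spor.icoLeech) (hf : Cfsg.Spor.IsIcoReflection f) (hfm : f ∈ Cfsg.Spor.twoJ2) : ∃ (Q : Subgroup ↥(Subgroup.centralizer {(QuotientGroup.mk ⟨f, hfm⟩ : Cfsg.Spor.J2)})) (_ : Q.Normal), Nat.card Q = 32 ∧ Cfsg.IsExtraspecial 2 Q ∧ Nonempty (↥(Subgroup.centralizer {(QuotientGroup.mk ⟨f, hfm⟩ : Cfsg.Spor.J2)}) ⧸ Q ≃* alternatingGroup (Fin 5)) := by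
  obtain ⟨φ, h, e0⟩ := JC.cm2
  obtain ⟨g, hg, rfl⟩ := Comp.Ico.conj_refl hf
  have h1 := JC.cm_congr h (Comp.Ico.iso.trans (MulAut.conj
    (QuotientGroup.mk ⟨g, Comp.Ico.gen_le_two hg⟩ : Cfsg.Spor.J2)))
  obtain ⟨e⟩ := JC.cm_equiv h1
  have h2 : (QuotientGroup.mk ⟨g * Comp.Ico.sp 0 * g⁻¹, hfm⟩ : Cfsg.Spor.J2) =
      ((Comp.Ico.iso.trans (MulAut.conj
        (QuotientGroup.mk ⟨g, Comp.Ico.gen_le_two hg⟩ : Cfsg.Spor.J2))).toMonoidHom.comp φ) HJ.hz := by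
    change _ = _ * Comp.Ico.iso (φ HJ.hz) * _
    rw [e0, Comp.Ico.iso_s (by norm_num)]
    rfl
  rw [h2]
  obtain ⟨Q, hQ, h3, h4, -, -, h5⟩ := JC.shape e
  exact ⟨Q, hQ, h4, h3, h5⟩

end Cfsg.Agent.S1623
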