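import Cfsg.Statements.S1628
import Mathlib
import Cfsg.Agent.RuL.Min

set_option autoImplicit false
open Cfsg

namespace Cfsg.Agent.S1628


/-- The Conway–Wales lattice as stored is even with no vectors of true norm 2: stored norms are multiples of 8, never equal to 8, and the minimum over nonzero vectors is 16. -/
theorem result : (∀ x ∈ Cfsg.Spor.ruLattice, (8 : ℤ) ∣ Cfsg.Spor.ruNorm x) ∧ (∀ x ∈ Cfsg.Spor.ruLattice, Cfsg.Spor.ruNorm x ≠ 8) ∧ (∀ x ∈ Cfsg.Spor.ruLattice, x ≠ 0 → 16 ≤ Cfsg.Spor.ruNorm x) ∧ ∃ x ∈ Cfsg.Spor.ruLattice, Cfsg.Spor.ruNorm x = 16 := by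
  have h2 : ∀ x ∈ Cfsg.Spor.ruLattice, x ≠ 0 → 16 ≤ Cfsg.Spor.ruNorm x := fun x hx h0 => by
    rw [RuL.norm_eq]
    by_contra h
    exact h (RuL.short hx (by omega) h0).1
  refine ⟨fun x hx => RuL.norm_eq x ▸ RuL.norm_dvd hx, fun x hx h => ?_, h2, RuL.B 0,
    RuL.B_mem (by norm_num), ?_⟩
  · have := h2 x hx (fun h0 => by rw [h0, RuL.norm_eq, RuL.ip_zero] at h; omega)
    omega
  · rw [RuL.norm_eq, RuL.B, RuL.ip_fam RuL.c_B (by norm_num) (by norm_num)]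
    decide +kernel

end Cfsg.Agent.S1628
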