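import Mathlib
import Cfsg.Statements.S1642
import Cfsg.Agent.Leech.Orb2
import Cfsg.Agent.Leech.OrbList

set_option autoImplicit false
open Cfsg

namespace Cfsg.Agent.S1642

/-- an involution -/
def tC : ℕ := 0x2a5294a5294a5292a5294a5294a52d00000004a5252a5294a5294a5294a5252a4a900000004a5292a4a54a5294a4a94a529495290000000495294a4a94a529495292a5294a4a900000004a4a94a5294a4a94a4a94a4a94a4a9000000049529495292a5294a4a94a5254a52900000004a5254a5294a5294a4a5295294a52900000004a4a9494a94a5294a529495292a5290000000495292a5294a4a54a529495294a52900000004a5294a5294a52949529494a54952900000004a5294a52949525494a94a5292a52900000002a5294a5294a5296a5294a5294a52500000004a4a92a5292a529495254a5294a52900000004a5294a4a9494a94a5254a5254a52900000004a525495254a4a9495294a5294a52900000004a5254a4a92a5254a5294a4a94a5290000000494a54a529495294a5294a5294952900000004a5294a5292a4a94a5292a5292952900000004a52929529495294a5292a4a94a52900000004a529495294a5254a5254a529494a900000004a5294a525295294a529495294a4a900000004a4a94a5254a5254a5292a5254a5290000000495294a5254a5294a5254a4a92a52900000006a5294a5294a5292a5294a5294a525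

theorem in_t : Golay.In Leech.gc (MulAction.stabilizer Cfsg.Co0 Leech.uu ⊓
    MulAction.stabilizer Cfsg.Co0 Leech.ww) [tC] :=
  Leech.in_stab (Leech.in_stab1 (by decide +kernel) Leech.sh_uu Leech.cd_uu (by decide +kernel))
    Leech.sh_ww Leech.cd_ww (by decide +kernel)

theorem nofix : ∀ x ∈ Leech.C2 Leech.uu 24 Leech.ww (-24),
    Golay.isZ (Nat.xor (Leech.ap1 tC (Leech.cd x)) (Leech.cd x)) = 0 :=
  Leech.orbit_forall Leech.in_hs Leech.cd_vv (fun _ h => h.1.1.le.trans (by norm_num))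
    (Leech.C2.finite _ _ _ _) Leech.n100 (Leech.C2.stab Leech.vv_mem')
    (fun n => Golay.isZ (Nat.xor (Leech.ap1 tC n) n)) (by norm_num) (by decide +kernel)

/-- Some involution of the Higman–Sims group acts without fixed points on its 100 points. -/
theorem result (v w : ↥Cfsg.leechLattice) (hv : Cfsg.sqNorm (v : Cfsg.GolayPt → ℤ) = 48) (hw : Cfsg.sqNorm (w : Cfsg.GolayPt → ℤ) = 48) (hvw : Cfsg.dotInt (v : Cfsg.GolayPt → ℤ) (w : Cfsg.GolayPt → ℤ) = -32) : ∃ g : ↥Cfsg.Co0, g • v = v ∧ g • w = w ∧ orderOf g = 2 ∧ ∀ x ∈ {x : ↥Cfsg.leechLattice | Cfsg.sqNorm (x : Cfsg.GolayPt → ℤ) = 32 ∧ Cfsg.dotInt (v : Cfsg.GolayPt → ℤ) (x : Cfsg.GolayPt → ℤ) = 24 ∧ Cfsg.dotInt (w : Cfsg.GolayPt → ℤ) (x : Cfsg.GolayPt → ℤ) = -24}, g • x ≠ x := by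
  obtain ⟨g, rfl, rfl⟩ := Leech.exists_uw hv hw hvw
  obtain ⟨t, ht, e⟩ := in_t tC (by simp)
  refine ⟨g * t * g⁻¹, ?_, ?_, ?_, ?_⟩
  · rw [mul_smul, inv_smul_smul, mul_smul, ht.1]
  · rw [mul_smul, inv_smul_smul, mul_smul, ht.2]
  · rw [← MulAut.conj_apply, MulEquiv.orderOf_eq]
    exact Leech.orderOf_two_of_code e (by decide +kernel) (by decide +kernel)
  · intro x hx h
    have h1 := Leech.C2.smul g⁻¹ (show x ∈ Leech.C2 _ _ _ _ from and_assoc.2 hx)
    rw [inv_smul_smul, inv_smul_smul] at h1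
    have h2 := Golay.isZ_eq_zero_iff.1 (nofix _ h1)
    apply h2
    rw [Golay.xor_eq_zero_iff', ← e]
    rw [mul_smul, mul_smul, ← eq_inv_smul_iff] at h
    exact (Leech.ap1_gc t (h1.1.1.le.trans (by norm_num))).trans (by rw [h]; rfl)

end Cfsg.Agent.S1642
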