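import Cfsg.Statements.S1706
-- import your own Cfsg.Agent.* helpers here
import Cfsg.Agent.DCE.Th.Main

set_option autoImplicit false
open Cfsg

namespace Cfsg.Agent.S1706

/-- In the presented Thompson sporadic group (generators a, b, c, d, e, s, t, u), the subgroup generated by the images of a, b, c, d, e, s, t has index 143127000. -/
theorem result : (((Subgroup.closure ({Cfsg.Spor.Th.a, Cfsg.Spor.Th.b, Cfsg.Spor.Th.c, Cfsg.Spor.Th.d, Cfsg.Spor.Th.e, Cfsg.Spor.Th.s, Cfsg.Spor.Th.t} : Set (FreeGroup Cfsg.Spor.Th.Gen))).map (PresentedGroup.mk (Cfsg.Spor.coxRelators Cfsg.Spor.Th.edges ∪ {r | r ∈ Cfsg.Spor.Th.extra})))).index = 143127000 := by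
  rw [Comp.map_closure_eq DCE.Th.presAll.2.2
    [Spor.Th.a, Spor.Th.b, Spor.Th.c, Spor.Th.d, Spor.Th.e, Spor.Th.s, Spor.Th.t] _ (by simp)
    [[0], [2], [4], [6], [8], [10], [12]] (by decide +kernel), ← DCE.Th.range_eq]
  exact DCE.Th.index

end Cfsg.Agent.S1706
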