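import Mathlib
import Cfsg.Statements.S1785
import Cfsg.Agent.Inv.Conn

set_option autoImplicit false
open Cfsg

namespace Cfsg.Agent.S1785

open Cfsg.Agent.Inv Cfsg.Agent.BG Cfsg.Agent.BG.Rank Subgroup

theorem step {G : Type*} [Group G] [Finite G] {E W A : Subgroup G} {k : ℕ} (hE : EA 2 (2 * k + 1) E)
    (hA : IsElementaryAbelian 2 A) (hn : A ≤ 𝐍(E)) (h1 : W ≤ A) (h2 : E ≤ 𝐂(W))
    (h3 : Nat.card A ≤ 2 * Nat.card W) : EA 2 (k + 1) (E ⊓ 𝐂(A)) := by
  haveI : Fact (Nat.Prime 2) := ⟨Nat.prime_two⟩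
  have h4 : ∃ b ∈ A, W ⊔ zpowers b = A := by
    rcases h1.eq_or_lt with e | e
    · exact ⟨1, one_mem _, by simp [e]⟩
    · obtain ⟨b, hb, hbW⟩ := SetLike.exists_of_lt e
      refine ⟨b, hb, Core.eq_of_le_of_card_le (sup_le h1 (zpowers_le.2 hb)) (h3.trans ?_)⟩
      have h5 : W < W ⊔ zpowers b := lt_of_le_of_ne le_sup_left fun e =>
        hbW (e ▸ (le_sup_right : zpowers b ≤ W ⊔ zpowers b) (mem_zpowers b))
      obtain ⟨c, hc⟩ := card_dvd_of_le h5.le
      have := Core.card_lt_of_lt h5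
      rw [hc] at this ⊢
      rcases c with _ | _ | c <;> nlinarith
  obtain ⟨b, hb, e⟩ := h4
  have h5 := hE.2.trans (card_le_cent_pow hE.1 (hA.2 b hb) (hn hb))
  have h6 : E ⊓ 𝐂(zpowers b) = E ⊓ 𝐂(A) := by
    rw [← e, Amb.cent_sup, ← inf_assoc, inf_eq_left.2 h2]
  rw [h6] at h5
  have h7 := elem_mono hE.1 (inf_le_left : E ⊓ 𝐂(A) ≤ E)
  obtain ⟨n, hn⟩ := elem_card h7
  refine ⟨h7, ?_⟩
  rw [hn, ← pow_mul, Nat.pow_le_pow_iff_right one_lt_two] at h5
  rw [hn]
  exact Nat.pow_le_pow_right two_pos (by omega)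

theorem conn {G : Type*} [Group G] [Finite G] (hG : IsPGroup 2 G) {E : Subgroup G} [E.Normal]
    (hE : EA 2 5 E) {A : Subgroup G} (hA : EA 2 3 A) : Cn 2 3 A E := by
  haveI : Fact (Nat.Prime 2) := ⟨Nat.prime_two⟩
  have hE3 : EA 2 3 E := ⟨hE.1, le_trans (by norm_num) hE.2⟩
  obtain ⟨U, _, u1, u2⟩ := PGrp.exists_normal_le_card_eq hG E 2 (le_trans (by norm_num) hE.2)
  have u3 := elem_mono hE.1 u1
  have hc : ∀ {W}, W ≤ E → E ≤ 𝐂(W) := fun h => (elem_le_centralizer hE.1).trans (centralizer_le h)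
  have l1 : ∀ A : Subgroup G, EA 2 3 A → A ≤ 𝐂(U) → Cn 2 3 A E := fun A hA h => by
    have h1 := elem_sup hA.1 u3 h
    obtain ⟨B, b1, b2, b3⟩ := exists_between_card_pow (p := 2) (n := 3) (le_sup_right : U ≤ A ⊔ U) u2
      (by norm_num) (by
        obtain ⟨n, hn⟩ := elem_card h1
        have := (hA.mono h1 le_sup_left).2
        rw [hn] at this ⊢
        exact pow_dvd_pow 2 ((Nat.pow_le_pow_iff_right one_lt_two).1 this))
    have b4 : EA 2 3 B := ⟨elem_mono h1 b2, b3.ge⟩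
    have h2 := step (k := 2) hE b4.1 le_normalizer_of_normal b1 (hc u1) (by rw [b3, u2]; norm_num)
    exact (Cn.of_sub hA b4 h1 le_sup_left b2).trans ((Cn.of_le b4 h2 inf_le_right).trans
      (.of_sub h2 hE3 hE.1 inf_le_left le_rfl))
  have l2 : ∀ B : Subgroup G, IsElementaryAbelian 2 B → A < B → Cn 2 3 A E := fun B h1 h2 => by
    have h3 := (hA.succ h1 h2).inf_cz hG u2
    exact (Cn.of_sub hA h3 h1 h2.le inf_le_left).trans (l1 _ h3 inf_le_right)
  have l3 : ∀ D : Subgroup G, D ≤ E → D ≤ 𝐂(A) → ¬ D ≤ A → Cn 2 3 A E := fun D h1 h2 h3 =>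
    l2 _ (elem_sup (elem_mono hE.1 h1) hA.1 h2)
      (lt_of_le_of_ne le_sup_right fun e => h3 (le_sup_left.trans e.ge))
  rcases hA.2.eq_or_lt with h8 | h8
  swap
  · obtain ⟨n, hn⟩ := elem_card hA.1
    have h3 : EA 2 4 A := ⟨hA.1, by
      rw [hn] at h8 ⊢
      exact Nat.pow_le_pow_right two_pos ((Nat.pow_lt_pow_iff_right one_lt_two).1 h8)⟩
    exact (Cn.of_sub hA (h3.inf_cz hG u2) hA.1 le_rfl inf_le_left).trans
      (l1 _ (h3.inf_cz hG u2) inf_le_right)
  obtain ⟨Z, z1, z2, z3⟩ := exists_card_prime_le_center (P := ⊤) (hG.to_subgroup ⊤)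
    ⟨le_top, le_normalizer_of_normal⟩ (ne_bot_of_card_pow u2)
  by_cases z4 : Z ≤ A
  swap
  · exact l3 Z (z1.trans u1) (z2.trans (centralizer_le le_top)) z4
  by_cases h1 : E ⊓ 𝐂(A) ≤ A
  swap
  · exact l3 _ inf_le_left inf_le_right h1
  obtain ⟨V, v1, v2, v3⟩ := exists_between_card_pow (p := 2) (m := 1) (n := 2) z4 (by simpa using z3)
    (by norm_num) (by rw [← h8]; norm_num)
  have h2 := step (k := 2) hE (elem_mono hA.1 v2) le_normalizer_of_normal v1 (hc (z1.trans u1))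
    (by rw [v3, z3]; norm_num)
  have h3 := step (k := 1) h2 hA.1 (Amb.le_norm_inf le_normalizer_of_normal
    (Amb.le_norm_cent (((elem_le_centralizer hA.1).trans (centralizer_le v2)).trans
      (centralizer_le_normalizer _)))) v2 inf_le_right (by rw [v3, ← h8]; norm_num)
  have h4 := step (k := 2) hE hA.1 le_normalizer_of_normal h1 (hc inf_le_left) (by
    have := h3.2.trans (card_le_of_le (inf_le_inf_right _ inf_le_left))
    omega)
  exact (Cn.of_le hA h4 inf_le_right).trans (.of_sub h4 hE3 hE.1 inf_le_left le_rfl)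

/-- Let X be a finite 2-group having a normal elementary abelian subgroup of order at least 32. Then (a) for any two elementary abelian subgroups A, B of X of order 8 there is a chain A = A₁, A₂, …, Aₙ = B of elementary abelian subgroups of order 8 in which consecutive members commute elementwise; and (b) every elementary abelian subgroup of X of order 4 is contained in an elementary abelian subgroup of order 8. -/
theorem result {X : Type*} [Group X] [Finite X]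
    (hX : IsPGroup 2 X) (E : Subgroup X) [E.Normal] (hE : Cfsg.IsElementaryAbelian 2 E) (hE32 : 32 ≤ Nat.card ↥E) :
    (∀ A B : Subgroup X, Cfsg.IsElementaryAbelian 2 A → Nat.card ↥A = 8 → Cfsg.IsElementaryAbelian 2 B → Nat.card ↥B = 8 →
        Relation.ReflTransGen
          (fun C D : Subgroup X => Cfsg.IsElementaryAbelian 2 C ∧ Nat.card ↥C = 8 ∧ Cfsg.IsElementaryAbelian 2 D ∧ Nat.card ↥D = 8 ∧ ⁅C, D⁆ = ⊥)
          A B) ∧
      (∀ V : Subgroup X, Cfsg.IsElementaryAbelian 2 V → Nat.card ↥V = 4 →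
        ∃ A : Subgroup X, V ≤ A ∧ Cfsg.IsElementaryAbelian 2 A ∧ Nat.card ↥A = 8) := by
  haveI : Fact (Nat.Prime 2) := ⟨Nat.prime_two⟩
  refine ⟨fun A B h1 h2 h3 h4 => ?_, fun V h1 h2 => ?_⟩
  · exact Relation.ReflTransGen.mono (fun C D h => ⟨h.1.1, h.1.2, h.2.1.1, h.2.1.2,
      commutator_eq_bot_iff_le_centralizer.2 (le_centralizer_iff.1 h.2.2)⟩) _ _
      (((conn hX ⟨hE, hE32⟩ ⟨h1, h2.ge⟩).trans (conn hX ⟨hE, hE32⟩ ⟨h3, h4.ge⟩).symm).exact h1 le_rfl h2
        B le_rfl h4)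
  · obtain ⟨A, h3, h4⟩ := not_rank_iff.1 (not_rank_cent (E := E) hX ⟨hE, le_trans (by norm_num) hE32⟩ h1 h2)
    have h5 := elem_sup h4.1 h1 h3
    obtain ⟨B, b1, b2, b3⟩ := exists_between_card_pow (p := 2) (m := 2) (n := 3)
      (le_sup_right : V ≤ A ⊔ V) h2 (by norm_num) (by
        obtain ⟨n, hn⟩ := elem_card h5
        have := (h4.mono h5 le_sup_left).2
        rw [hn] at this ⊢
        exact pow_dvd_pow 2 ((Nat.pow_le_pow_iff_right one_lt_two).1 this))
    exact ⟨B, b1, elem_mono h5 b2, b3⟩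

end Cfsg.Agent.S1785
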