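import Mathlib
import Cfsg.Statements.S1847
import Cfsg.Agent.GsD.AG

set_option autoImplicit false
open Cfsg

namespace Cfsg.Agent.S1847

open Subgroup Cfsg.Agent.GW Cfsg.Agent.LocalEven Cfsg.Agent.BG Cfsg.Agent.Gs Cfsg.Agent.GsC Cfsg.Agent.GsD


/-- Let G be a non-abelian finite simple QTKE-group and T a Sylow 2-subgroup of G lying in a unique maximal 2-local subgroup M of G. Suppose N_G(D) ≤ M for every member D of the Alperin–Goldschmidt conjugation family of T in G. Then every normal 2-subgroup of M is strongly closed in T with respect to G, and G is a Bender group: G is isomorphic to L₂(2ⁿ) (n ≥ 2), U₃(2ⁿ) (n ≥ 2) or Sz(2ⁿ) (n ≥ 3 odd). -/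
theorem result {G : Type*} [Group G] [Finite G] [IsSimpleGroup G]
    (hG : ¬ IsMulCommutative G) (hQ : Cfsg.IsQTKE G) (T : Sylow 2 G) (M : Subgroup G)
    (hM : Cfsg.maxTwoLocalsContaining (T : Subgroup G) = {M})
    (h : ∀ D ∈ Cfsg.agConjFamily (T : Subgroup G), Subgroup.normalizer (D : Set G) ≤ M) :
    (∀ U : Subgroup G, U ≤ M → M ≤ Subgroup.normalizer (U : Set G) → IsPGroup 2 ↥U →
        Cfsg.IsStronglyClosed U (T : Subgroup G)) ∧
      Cfsg.IsBenderGroup G := by
  obtain ⟨⟨⟨Q, hQ2, hQ0, hMQ⟩, -⟩, hTM⟩ : M ∈ maxTwoLocalsContaining (T : Subgroup G) := hM ▸ rfl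
  have key : ∀ U : Subgroup G, U ≤ M → M ≤ Subgroup.normalizer (U : Set G) → IsPGroup 2 ↥U →
      Cfsg.IsStronglyClosed U (T : Subgroup G) := fun U _ h2 h3 => by
    have hU : U ≤ T := (isSylowIn_top T).le_of_le_normalizer le_top h3 (hTM.trans h2)
    exact ⟨hU, fun x hx g hg => ag_closed T (fun D hD => (h D hD).trans h2) hx (hU hx) hg⟩
  refine ⟨key, bender_of_se (se_of_even hG (gold hG (A := OZ Q) (sc_of_closed T (key _ ?_ ?_
    (pgroup_of_sq fun _ h => h.2.2)) fun _ h => h.2.2) (OZ_ne_bot hQ2 hQ0)) hQ.2.2)⟩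
  · exact fun x hx => hMQ ▸ le_normalizer hx.1
  · refine fun g hg => mem_normalizer_fintype fun x hx => ?_
    rw [hMQ] at hg
    exact ⟨conj_mem_of_mem_normalizer hg hx.1, conj_mem_of_mem_normalizer
      (normalizer_le_normalizer_centralizer Q hg) hx.2.1, conj_sq hx.2.2 g⟩

end Cfsg.Agent.S1847
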