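import Mathlib
import Cfsg.Statements.S1850
import Cfsg.Agent.Comp2.Wcore2
import Cfsg.Agent.Comp2.CharP

set_option autoImplicit false
open Cfsg

namespace Cfsg.Agent.S1850

open Cfsg.Agent.Comp2

open Subgroup Cfsg.Agent.BG

/-- Let G be a non-abelian finite simple QTKE-group and T a Sylow 2-subgroup of G. If U is a nontrivial 2-subgroup of G with U ∩ Z(T) ≠ 1, then F*(N_G(U)) = O₂(N_G(U)). -/
theorem result {G : Type*} [Group G] [Finite G] [IsSimpleGroup G]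
    (hG : ¬ IsMulCommutative G) (hQ : Cfsg.IsQTKE G) (T : Sylow 2 G) (U : Subgroup G)
    (hU : IsPGroup 2 ↥U) (hZ : U ⊓ ((T : Subgroup G) ⊓ Subgroup.centralizer ((T : Subgroup G) : Set G)) ≠ ⊥) :
    Subgroup.normalizer (U : Set G) ∈ Cfsg.calHe G := by
  obtain ⟨z, hz, hz2⟩ := exists_orderOf_eq_of_isPGroup (hU.to_le inf_le_left) hZ
  refine charP_normalizer_of_mem 2 hU hz.1 ?_
  rw [← norm_zpowers_of_two hz2]
  refine (genFitting_eq_pCore_iff 2).2 (hQ.2.2 _ ⟨_, isPGroup_zpowers_of_orderOf (k := 1)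
    (by rw [hz2, pow_one]), fun h => ?_, rfl⟩ ⟨T, ?_⟩)
  · rw [zpowers_eq_bot.1 h, orderOf_one] at hz2
    omega
  · rw [norm_zpowers_of_two hz2]
    exact Amb.le_cent1_iff.2 hz.2.2

end Cfsg.Agent.S1850
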