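import Mathlib
import Cfsg.Statements.S1896
import Cfsg.Agent.PGrp.Sect2
import Cfsg.Agent.PGrp.Aut
import Cfsg.Agent.PGrp.Critical
import Cfsg.Agent.PGrp.Metacyclic
import Cfsg.Agent.S0213

set_option autoImplicit false
open Cfsg

namespace Cfsg.Agent.S1896

open Cfsg.Agent Subgroup
open scoped commutatorElement

theorem fix_of_mem_zpowers {X : Type*} [Group X] [Finite X] (hX : IsPGroup 2 X) {α : MulAut X}
    (hα : (orderOf α).Coprime 2) {z : X} (h : α z ∈ zpowers z) : α z = z := by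
  have h1 : ∀ x ∈ zpowers z, α x ∈ zpowers z := by
    rintro _ ⟨k, rfl⟩
    rw [map_zpow]; exact zpow_mem h k
  refine PGrp.aut_fix_of_mul_pow (hX.to_subgroup _)
    (fun x hx y hy => (Inv.commute_of_mem_zpowers₂ hx hy).mul_pow 2) h1 hα
    (fun x hx h2 => ?_) z (mem_zpowers z)
  by_cases h0 : x = 1
  · rw [h0, map_one]
  · have h3 : orderOf x = 2 := orderOf_eq_prime h2 h0
    exact S0213.eq_of_mem_zpowers (by rw [MulEquiv.orderOf_eq, h3]) h3 (h1 x hx) hx

theorem eq_one_of_fix {X : Type*} [Group X] [Finite X] (hX : IsPGroup 2 X)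
    (h4 : (frattini X).index ≤ 2 ^ 2) {α : MulAut X} (hα : (orderOf α).Coprime 2) {x : X}
    (hx : x ∉ frattini X) (h : x⁻¹ * α x ∈ frattini X) : α = 1 := by
  classical
  refine PGrp.aut_eq_one_of_frattini hX hα ((PGrp.autQuot_eq_one_iff _).1 ?_)
  have := Fintype.ofFinite (X ⧸ frattini X)
  let σ : Equiv.Perm (X ⧸ frattini X) := MulAut.toPerm _ (PGrp.autQuot (frattini X) α)
  have hσ : orderOf σ ∣ orderOf α :=
    orderOf_map_dvd ((MulAut.toPerm _).comp (PGrp.autQuot (frattini X))) α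
  have h1 : σ.support ⊆ ({1, (x : X ⧸ frattini X)} : Finset _)ᶜ := by
    intro y hy
    rw [Finset.mem_compl, Finset.mem_insert, Finset.mem_singleton]
    rw [Equiv.Perm.mem_support] at hy
    rintro (rfl | rfl)
    · exact hy (map_one (PGrp.autQuot (frattini X) α))
    · exact hy ((PGrp.autQuot_mk _ α x).trans (QuotientGroup.eq.2 h).symm)
  have h2 := Finset.card_le_card h1
  rw [Finset.card_compl, Finset.card_pair (fun e => hx ((QuotientGroup.eq_one_iff x).1 e.symm)),
    ← Nat.card_eq_fintype_card, ← index_eq_card] at h2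
  have h3 : σ = 1 := by
    by_contra h3
    have h5 : σ.support.card = 2 := by
      have := mt Equiv.Perm.card_support_le_one.1 h3
      omega
    rw [(Equiv.Perm.card_support_eq_two.1 h5).orderOf] at hσ
    exact (Nat.Prime.coprime_iff_not_dvd Nat.prime_two).1 hα.symm hσ
  exact MulEquiv.ext fun y => DFunLike.congr_fun h3 y

theorem notMem_sup {X : Type*} [Group X] [Finite X] (hX : IsPGroup 2 X) {x y : X}
    (hy : y ∉ frattini X) (hxy : x⁻¹ * y ∉ frattini X) : y ∉ frattini X ⊔ zpowers x := by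
  intro h
  obtain ⟨n, hn, k, rfl⟩ := (PGrp.mem_sup_zpowers (le_normalizer_of_normal (mem_top x))).1 h
  have h2 := PGrp.pow_mem_frattini hX x
  rcases Int.even_or_odd' k with ⟨j, rfl | rfl⟩
  · exact hy (mul_mem hn (by rw [zpow_mul]; exact zpow_mem (by simpa using h2) j))
  · refine hxy ?_
    have := Normal.conj_mem' inferInstance _ (mul_mem hn (zpow_mem h2 j)) x
    rw [zpow_add, zpow_mul, zpow_one]
    simpa [mul_assoc] using this

theorem odd_of_notMem {X : Type*} [Group X] [Finite X] (hX : IsPGroup 2 X) {x y : X} {i : ℤ}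
    {j : ℤ} (h : x ^ i * y ^ j ∉ frattini X ⊔ zpowers y) : Odd i := by
  by_contra h1
  obtain ⟨k, rfl⟩ := Int.not_odd_iff_even.1 h1
  refine h (mul_mem_sup ?_ (zpow_mem_zpowers y j))
  rw [← two_mul, zpow_mul]
  exact zpow_mem (by simpa using PGrp.pow_mem_frattini hX x) k

/-- A finite metacyclic 2-group whose automorphism group is not a 2-group is isomorphic to the quaternion group of order 8 or to a homocyclic abelian group Z_{2^n} × Z_{2^n}. -/
theorem result {X : Type*} [Group X] [Finite X] (hX : IsPGroup 2 X)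
    (hm : Cfsg.IsMetacyclic X) (hA : ¬ IsPGroup 2 (MulAut X)) :
    Nonempty (X ≃* QuaternionGroup 2) ∨
      ∃ n : ℕ, Nonempty (X ≃* Multiplicative (ZMod (2 ^ n)) × Multiplicative (ZMod (2 ^ n))) := by
  classical
  have : Fact (Nat.Prime 2) := ⟨Nat.prime_two⟩
  obtain ⟨α, hα, hα1⟩ : ∃ α : MulAut X, (orderOf α).Coprime 2 ∧ α ≠ 1 := by
    by_contra h
    push Not at h
    exact hA ((PGrp.isPGroup_of_forall_coprime (K := ⊤) Nat.prime_two fun a _ => h a).of_equiv
      topEquiv)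
  have hnt : Nontrivial X := by
    by_contra h
    rw [not_nontrivial_iff_subsingleton] at h
    exact hα1 (MulEquiv.ext fun _ => Subsingleton.elim _ _)
  obtain ⟨a₀, b, hn₀, hab⟩ := PGrp.isMetacyclic_iff.1 hm
  have h4 : (frattini X).index ≤ 2 ^ 2 :=
    (PGrp.index_frattini_le_pow_card hX {a₀, b} (by
      rw [Finset.coe_pair, ← PGrp.zpowers_sup_zpowers, hab])).trans
      (Nat.pow_le_pow_right two_pos Finset.card_le_two)
  obtain ⟨a, hn, ha⟩ : ∃ a : X, (zpowers a).Normal ∧ a ∉ frattini X := by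
    by_cases h : a₀ ∈ frattini X
    · have h1 : zpowers b = ⊤ := frattini_nongenerating (by
        rw [eq_top_iff, ← hab, sup_comm]; exact sup_le_sup_left (zpowers_le.2 h) _)
      exact ⟨b, h1 ▸ inferInstance, fun hb => PGrp.frattini_ne_top
        (top_le_iff.1 (h1 ▸ zpowers_le.2 hb))⟩
    · exact ⟨a₀, hn₀, h⟩
  have hΦ : ∀ (β : MulAut X) (x : X), x ∉ frattini X → β x ∉ frattini X := fun β x hx h =>
    hx (by simpa using PGrp.apply_mem_of_characteristic inferInstance β.symm h)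
  have hα2 : (orderOf (α * α)).Coprime 2 :=
    Nat.Coprime.coprime_dvd_left (by rw [← sq]; exact orderOf_pow_dvd 2) hα
  have h21 := notMem_sup hX (hΦ α a ha) fun h => hα1 (eq_one_of_fix hX h4 hα ha h)
  have h32 := notMem_sup hX (hΦ α _ (hΦ α a ha))
    fun h => hα1 (eq_one_of_fix hX h4 hα (hΦ α a ha) h)
  have h31 := notMem_sup hX (hΦ (α * α) a ha) fun h => hα1 (by
    have := eq_one_of_fix hX h4 hα2 ha h
    rw [← sq, ← orderOf_dvd_iff_pow_eq_one] at this
    exact orderOf_eq_one_iff.1 (Nat.Coprime.eq_one_of_dvd hα this))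
  have hn2 : (zpowers (α a)).Normal := by
    rw [← MonoidHom.coe_coe, ← MonoidHom.map_zpowers]
    exact hn.map _ α.surjective
  have hsq := PGrp.pow_mem_frattini hX
  have htop : zpowers a ⊔ zpowers (α a) = ⊤ := by
    have h1 := PGrp.card_sup_zpowers Nat.prime_two (le_normalizer_of_normal (mem_top a)) (hsq a) ha
    have h2 := PGrp.card_sup_zpowers Nat.prime_two (le_normalizer_of_normal (mem_top (α a)))
      (mem_sup_left (hsq (α a))) h21
    refine frattini_nongenerating ?_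
    rw [sup_comm, ← sup_assoc]
    refine PGrp.eq_of_le_of_card_le le_top ?_
    rw [h2, h1, card_top, ← (frattini X).card_mul_index, mul_assoc]
    exact Nat.mul_le_mul_left _ h4
  have ho : orderOf (α a) = orderOf a := MulEquiv.orderOf_eq α a
  change α (α a) ∉ _ at h31
  have hDc : zpowers a ⊓ zpowers (α a) ≤ center X := by
    rw [← centralizer_univ, ← coe_top, ← htop, PGrp.centralizer_sup]
    exact inf_le_inf (fun x hx y hy => Inv.commute_of_mem_zpowers₂ hy hx)
      (fun x hx y hy => Inv.commute_of_mem_zpowers₂ hy hx)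
  obtain ⟨m, hm'⟩ := PGrp.exists_orderOf_eq_pow_of_mem (hX.to_subgroup ⊤) (mem_top a)
  have h1 := Core.card_mul_relIndex (inf_le_left : zpowers a ⊓ zpowers (α a) ≤ _)
  rw [Nat.card_zpowers] at h1
  obtain ⟨n, -, hn'⟩ := (Nat.dvd_prime_pow Nat.prime_two).1 (hm' ▸ Dvd.intro_left _ h1)
  rw [hn'] at h1
  have hcard : ∀ x : X, orderOf x = orderOf a →
      Nat.card (zpowers a ⊓ zpowers (α a) : Subgroup X) = orderOf (x ^ 2 ^ n) := fun x hx => by
    rw [orderOf_pow_of_dvd (by positivity) (hx ▸ Dvd.intro_left _ h1), hx, ← h1,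
      Nat.mul_div_cancel _ (by positivity)]
  have hD1 := Inv.eq_zpowers_of_card inf_le_left (npow_mem_zpowers a (2 ^ n)) (hcard a rfl)
  have hD2 := Inv.eq_zpowers_of_card inf_le_right (npow_mem_zpowers (α a) (2 ^ n)) (hcard _ ho)
  have hz2 : α a ^ 2 ^ n = a ^ 2 ^ n := by
    rw [← map_pow]
    refine fix_of_mem_zpowers hX hα ?_
    rw [map_pow, ← hD1, hD2]; exact mem_zpowers _
  have hz3 : α (α a) ^ 2 ^ n = a ^ 2 ^ n := by rw [← map_pow, hz2, map_pow, hz2]
  have hn0 : n ≠ 0 := by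
    rintro rfl
    rw [pow_zero, pow_one, pow_one] at hz2
    exact h21 (mem_sup_right (by rw [hz2]; exact mem_zpowers _))
  obtain ⟨_, ⟨i, rfl⟩, _, ⟨j, rfl⟩, e⟩ := (PGrp.mem_sup_of_le_normalizer
    le_normalizer_of_normal).1 (htop ▸ mem_top (α (α a)))
  simp only at e
  have hi : Odd i := odd_of_notMem hX (e ▸ h32)
  have hj : Odd j := by
    refine odd_of_notMem (x := α a) (y := a) (j := i) hX fun h => h31 ?_
    have : (frattini X ⊔ zpowers a).Normal := inferInstance
    have := this.conj_mem _ h (a ^ i)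
    rwa [← mul_assoc, mul_inv_cancel_right, e] at this
  have hc : ∀ x ∈ zpowers a, ∀ y ∈ zpowers (α a), ⁅y, x⁆ ∈ zpowers a ⊓ zpowers (α a) :=
    fun x hx y hy => ⟨commutator_le_right _ _ (commutator_mem_commutator hy hx),
      commutator_le_left _ _ (commutator_mem_commutator hy hx)⟩
  have hc' := hc _ (zpow_mem_zpowers a i) _ (zpow_mem_zpowers _ j)
  have hcen := mem_center_iff.1 (hDc hc')
  have h5 := PGrp.mul_pow_of_commute (hcen (a ^ i)) (hcen (α a ^ j)) (2 ^ n)
  rw [e, hz3, ← zpow_natCast (a ^ i), ← zpow_natCast (α a ^ j), zpow_comm, zpow_comm (α a),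
    zpow_natCast, zpow_natCast, hz2, ← zpow_add] at h5
  by_cases hD : a ^ 2 ^ n = 1
  · right
    rw [hD, zpowers_one_eq_bot] at hD1
    obtain ⟨e1⟩ := PGrp.nonempty_equiv_prod _ _ (disjoint_iff.2 hD1) htop
    refine ⟨m, ⟨e1.trans (MulEquiv.prodCongr ?_ ?_)⟩⟩
    · exact mulEquivOfCyclicCardEq (by simp [hm'])
    · exact mulEquivOfCyclicCardEq (by simp [ho, hm'])
  left
  obtain ⟨l, hl⟩ := mem_zpowers_iff.1 (hD1 ▸ hc')
  have hn1 : n = 1 := by
    by_contra hn1
    obtain ⟨r, hr⟩ : 2 ∣ (2 ^ n).choose 2 := PGrp.prime_dvd_choose_two_pow Nat.prime_two hn0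
      fun h => hn1 (Nat.pow_right_injective le_rfl (h.trans (pow_one 2).symm))
    rw [← hl, hr, ← zpow_natCast (_ ^ l), ← zpow_mul, ← zpow_add, eq_comm,
      PGrp.zpow_eq_self_iff] at h5
    obtain ⟨s, hs⟩ := PGrp.exists_orderOf_eq_pow_of_mem (hX.to_subgroup ⊤) (mem_top (a ^ 2 ^ n))
    have hs0 : s ≠ 0 := by rintro rfl; exact hD (orderOf_eq_one_iff.1 hs)
    have h6 : (2 : ℤ) ∣ i + j + l * ((2 * r : ℕ) : ℤ) - 1 :=
      Dvd.dvd.trans (by rw [hs]; exact_mod_cast dvd_pow_self 2 hs0) h5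
    obtain ⟨i, rfl⟩ := hi
    obtain ⟨j, rfl⟩ := hj
    push_cast at h6
    rw [mul_left_comm] at h6
    omega
  subst hn1
  rw [pow_one] at *
  have hz : a ^ 2 ∈ center X := hDc (hD1 ▸ mem_zpowers _)
  have hsq1 : ∀ x ∈ zpowers a, ∀ y ∈ zpowers (α a), ⁅y, x⁆ ^ 2 = 1 := fun x hx y hy => by
    rw [← PGrp.commutator_pow_right_of_commute (mem_center_iff.1 (hDc (hc x hx y hy)) x),
      commutatorElement_eq_one_iff_mul_comm]
    obtain ⟨k, rfl⟩ := hx
    rw [← zpow_natCast, zpow_comm, zpow_natCast]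
    exact mem_center_iff.1 (zpow_mem hz k) y
  have h7 := hsq1 _ (zpow_mem_zpowers a i) _ (zpow_mem_zpowers _ j)
  have h8 : ⁅α a ^ j, a ^ i⁆ = (a ^ 2) ^ (1 - (i + j)) := by
    rw [Nat.choose_self, pow_one] at h5
    rw [sub_eq_neg_add, zpow_add, zpow_one, zpow_neg, eq_inv_mul_iff_mul_eq, ← h5]
  have h9 : ∀ y : X, y ^ (1 - (i + j)) = 1 → y = 1 := fun y hy => by
    obtain ⟨s, hs⟩ := PGrp.exists_orderOf_eq_pow_of_mem (hX.to_subgroup ⊤) (mem_top y)
    rcases s with _ | s
    · exact orderOf_eq_one_iff.1 hs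
    · have h6 : (2 : ℤ) ∣ 1 - (i + j) := Dvd.dvd.trans
        (by rw [hs]; exact_mod_cast dvd_pow_self 2 s.succ_ne_zero)
        (orderOf_dvd_iff_zpow_eq_one.2 hy)
      obtain ⟨i, rfl⟩ := hi
      obtain ⟨j, rfl⟩ := hj
      omega
  have h6 : (a ^ 2) ^ 2 = 1 := h9 _ (by
    rw [← zpow_natCast (a ^ 2), zpow_comm, zpow_natCast, ← h8, h7])
  have h10 : orderOf a = 2 ^ (1 + 1) := orderOf_eq_prime_pow hD (by rw [← h6, ← pow_mul]; rfl)
  have hb : α a ∉ zpowers a := fun h => h21 (mem_sup_right h)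
  have h11 := PGrp.relIndex_sup_zpowers Nat.prime_two (le_normalizer_of_normal (mem_top (α a)))
    (hz2 ▸ npow_mem_zpowers a 2) hb
  rw [htop, relIndex_top_right] at h11
  refine PGrp.nonempty_equiv_quaternion_of_gens h10 h11 hb hz2 ?_
  rcases PGrp.eq_one_or_eq_of_mem_zpowers_two (orderOf_eq_prime h6 hD)
    (hD1 ▸ hc _ (mem_zpowers a) _ (mem_zpowers _)) with h | h
  · rw [commutatorElement_eq_one_iff_commute] at h
    rw [commutatorElement_eq_one_iff_commute.2 (h.zpow_zpow j i)] at h8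
    exact absurd (h9 _ h8.symm) hD
  · rw [PGrp.conj_eq_commutator_mul, h, eq_inv_iff_mul_eq_one, ← h6]
    simp only [sq, mul_assoc]

end Cfsg.Agent.S1896
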