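import Mathlib
import Cfsg.Statements.S1911
import Cfsg.Agent.Hq.E
-- Template for statement S1911 (row 1911; see /opt/grader/pristine/manifest.json for weights).
-- Copy to Cfsg/Agent/S1911.lean and replace the sorry. The statement below is byte-identical to the frozen
-- statement Cfsg.CfsgFrozen.S1911 (Cfsg/Statements/S1911.lean; the theorem Cfsg.tech_tightly_embedded_with_odd_normalizer_meets);
-- the grader kernel-checks Cfsg.Agent.S1911.result against that frozen type. Keep the theorem IN THIS FILE
-- (a `result` declared elsewhere and merely imported here is not credited); helpers may live anywhere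
-- under Cfsg/Agent/.
-- import your own Cfsg.Agent.* helpers here

set_option autoImplicit false
open Cfsg

namespace Cfsg.Agent.S1911

/-- Let Q be a tightly embedded subgroup of a finite group G such that Q^g ∩ N_G(Q) has odd order for every g outside N_G(Q), and let K be the normal closure of Q in G. Then Q is normal in G, or K ∩ N_G(Q) is a strongly embedded subgroup of K. -/
theorem result {G : Type*} [Group G] [Finite G] (Q : Subgroup G) (hQ : Cfsg.IsTightlyEmbedded Q)
    (hodd : ∀ g : G, g ∉ Subgroup.normalizer (Q : Set G) →
      Odd (Nat.card ↥(Q.map (MulAut.conj g).toMonoidHom ⊓ Subgroup.normalizer (Q : Set G)))) :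
    Q.Normal ∨
      Cfsg.IsStronglyEmbedded ((Subgroup.normalizer (Q : Set G)).subgroupOf (Subgroup.normalClosure (Q : Set G))) := by
  exact or_iff_not_imp_left.2 fun hn => Hq.tight hQ.1 hn hodd

end Cfsg.Agent.S1911
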