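import Cfsg.Statements.S1913
import Cfsg.Agent.Asc.Cons2

set_option autoImplicit false
open Cfsg

namespace Cfsg.Agent.S1913

open Subgroup MulAction Cfsg.Agent.Ben Cfsg.Agent.Core Cfsg.Agent.Asc
open scoped Pointwise commutatorElement

theorem zstar {G Ω : Type*} [Group G] [Finite G] [MulAction G Ω] {Z : Set G} (hG : ZW G Ω Z) {N : Subgroup G}
    (hN : ∀ x ∈ N, ∀ c : Ω, x • c = c) {t : G} (ht : t ∈ Z) (htN : t ∈ normalizer (N : Set G)) {x : G}
    (hx : x ∈ N) : t * x * t⁻¹ * x⁻¹ ∈ Op 2 N := by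
  set σ : MulAut N := N.normalizerMonoidHom ⟨t, htN⟩ with hσ
  have hc : ∀ h : N, (σ h : G) = t * h * t⁻¹ := fun h => rfl
  have h := Inv.zstar_aut σ (by
    rw [hσ, ← map_mul, ← map_one N.normalizerMonoidHom]
    exact congrArg _ (Subtype.ext (hG.sq t ht))) (fun h hh => ?_) ⟨x, hx⟩
  · exact ⟨_, h, rfl⟩
  · have h1 : t * ((h : G) * (t * h * t⁻¹)⁻¹) * t⁻¹ = h * (t * h * t⁻¹)⁻¹ := congrArg Subtype.val hh
    have e : (h : G) * (t * h * t⁻¹)⁻¹ = h * t * (h : G)⁻¹ * t := by
      rw [inv_of_sq (hG.sq t ht)]; group; rw [zpow_neg_one t, inv_of_sq (hG.sq t ht)]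
    rw [e] at h1
    by_contra hne
    have h2 : ∀ c : Ω, ((h : G) * (t * h * t⁻¹)⁻¹) • c = c := hN _ (h * (σ h)⁻¹).2
    rw [e] at h2
    obtain ⟨a, b, hab⟩ := hG.nontriv
    refine hab (hG.prod _ (hG.conj t ht h) t ht (fun e' => hne (Subtype.ext ?_)) ?_ a b (h2 a) (h2 b))
    · rw [hc, mul_inv_eq_iff_eq_mul, ← mul_inv_eq_iff_eq_mul.mp e']
    · rw [← h1]; group

/-- Let z be an involution in the centre of a Sylow 2-subgroup of a finite group G and H a proper subgroup such that z ∈ gHg⁻¹ exactly when g ∈ H, and such that for every involution u commuting with z whose centralizer is not contained in H, the subgroup H ∩ L is strongly embedded in L = ⟨G-conjugates of z commuting with u⟩. Then, with K the normal closure of z in G, H ∩ K is strongly embedded in K. -/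
theorem result {G : Type*} [Group G] [Finite G] (P : Sylow 2 G) (z : G) (hz2 : orderOf z = 2)
    (hzP : z ∈ (Subgroup.center ↥(P : Subgroup G)).map (P : Subgroup G).subtype)
    (H : Subgroup G) (hH : H ≠ ⊤) (hi : ∀ g : G, z ∈ H.map (MulAut.conj g).toMonoidHom ↔ g ∈ H)
    (hii : ∀ u : G, orderOf u = 2 → u * z = z * u → ¬ Subgroup.centralizer ({u} : Set G) ≤ H →
      Cfsg.IsStronglyEmbedded (H.subgroupOf (Subgroup.closure {x : G | IsConj z x ∧ x * u = u * x}))) :
    Cfsg.IsStronglyEmbedded (H.subgroupOf (Subgroup.normalClosure ({z} : Set G))) := by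
  have : Fact (Nat.Prime 2) := ⟨Nat.prime_two⟩
  obtain ⟨z1, z2⟩ := sq_of_two hz2
  have hP : ∀ s ∈ P, s * z = z * s := fun s hs => by
    obtain ⟨y, hy, rfl⟩ := hzP
    exact congrArg Subtype.val (mem_center_iff.1 hy ⟨s, hs⟩)
  have hzH : z ∈ H := by simpa using (hi 1).2 (one_mem H)
  have h2 : ∀ g : G, g * z * g⁻¹ ∈ H → g ∈ H := fun g hg =>
    inv_mem_iff.1 ((hi g⁻¹).1 (by rw [mem_map_conj_iff]; simpa using hg))
  have hC : ∀ c : G, c * z = z * c → c ∈ H := fun c hc => h2 c (by rwa [hc, mul_inv_cancel_right])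
  have key : ∀ u : G, orderOf u = 2 → u * z = z * u → u ∈ closure {x : G | IsConj z x ∧ x * u = u * x} →
      centralizer {u} ≤ H := fun u u2 hu hL => by
    by_contra h
    have h3 := hii u u2 hu h
    exact h3.1 (eq_top_iff.2 fun s _ => Inv.se_commute h3 (t := ⟨u, hL⟩) (hC u hu) (by rw [← orderOf_coe, u2])
      (Subtype.ext (mem_cent_single.1 ((closure_le (centralizer {u})).2 (fun _ h => mem_cent_single.2 h.2) s.2))))
  have hG := zw_quot hH hz2 hzH P hP h2 fun g hc hne => by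
    have y2 := Asc.conj_sq z2 g
    have hy : IsConj z (g * z * g⁻¹) := isConj_iff.2 ⟨g, rfl⟩
    generalize g * z * g⁻¹ = y at *
    exact key _ (Inv.two_of_mul_self (fun e => hne (by rw [eq_inv_of_mul_eq_one_right e, inv_of_sq z2]))
      (by rw [mul_assoc, ← mul_assoc y, ← hc, mul_assoc z, y2, mul_one, z2])) (by rw [mul_assoc, ← hc])
      (mul_mem (subset_closure ⟨IsConj.refl z, by rw [mul_assoc, ← hc]⟩)
        (subset_closure ⟨hy, by rw [← mul_assoc, hc]⟩))
  have hK : normalClosure ({z} : Set G) = closure (conjugatesOf z) := by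
    rw [normalClosure, Group.conjugatesOfSet]; simp
  have hKH : ¬ closure (conjugatesOf z) ≤ H := fun h => hH (eq_top_iff.2 fun g _ =>
    h2 g (h (subset_closure (isConj_iff.2 ⟨g, rfl⟩))))
  rw [hK, ← stab_one H]
  refine hG.isSE_of le_rfl (by rwa [stab_one]) (subset_closure mem_conjugatesOf_self) ((quot_fix_one z).2 hzH) z1 z2
    fun u₀ hu₀ u2 hf => ?_
  by_contra u1
  obtain ⟨g, -, hg⟩ := (isSylowOf_top P).exists_conj_le (isPGroup_zpowers_two u2) le_top
  have huP : g * u₀ * g⁻¹ ∈ P := hg (Transfer.conj_mem_conj_smul (mem_zpowers _))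
  have huK := hG.normal_closure.conj_mem u₀ hu₀ g
  have huN : g * u₀ * g⁻¹ ∈ H.normalCore := H.normalCore_normal.conj_mem u₀ (by
    rw [normalCore_eq_ker]; exact MonoidHom.mem_ker.2 (Equiv.ext hf)) g
  replace u1 := conj_ne_one u1 g
  replace u2 := Asc.conj_sq u2 g
  generalize g * u₀ * g⁻¹ = u at *
  have hnn : ∀ g : G, g ∈ normalizer (H.normalCore : Set G) := fun g => by
    rw [normalizer_eq_top_iff.2 inferInstance]; trivial
  have h3 : closure (conjugatesOf z) ≤ Op 2 H.normalCore ⊔ closure {x : G | IsConj z x ∧ x * u = u * x} := by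
    refine (closure_le _).2 fun s hs => ?_
    have s2 := hG.sq s hs
    have h4 := zstar hG (N := H.normalCore) (fun x hx c => by
      rw [normalCore_eq_ker] at hx
      exact congrArg (fun e : Equiv.Perm _ => e c) (MonoidHom.mem_ker.1 hx)) hs (hnn s) huN
    have h5 : (u * s) ^ 2 ∈ Op 2 H.normalCore := by
      rw [← inv_mem_iff, mul_inv_rev, mul_inv_rev, mul_inv_rev, inv_inv, inv_inv, inv_of_sq s2, inv_of_sq u2] at h4
      rwa [pow_two, mul_assoc]
    obtain ⟨i, hi⟩ := odd_orderOf_of_mem (odd_Op _) h5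
    have h6 : (u * s) ^ (2 * i + 1) * (u * s) ^ (2 * i + 1) = 1 := by
      rw [← pow_two, ← pow_mul, mul_comm, pow_mul, ← hi, pow_orderOf_eq_one]
    have h7 := Inv.inverts_of_mem_zpowers (Inv.inverts_mul_left u2 s2) (pow_mem (mem_zpowers (u * s)) (2 * i + 1))
    rw [inv_of_sq h6, mul_inv_eq_iff_eq_mul] at h7
    have h8 : (u * s) ^ (2 * i + 1) * u ∈ closure {x : G | IsConj z x ∧ x * u = u * x} := subset_closure
      ⟨by rw [(refl_conj u2 s2 i).2]; exact hG.conj s hs _, by rw [← mul_assoc, h7]⟩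
    have e : s = ((u * s) ^ (2 * i + 1) * u)⁻¹ * ((u * s) ^ 2) ^ (i + 1) := by
      rw [← pow_mul, show 2 * (i + 1) = 2 * i + 1 + 1 by ring, pow_succ (u * s) (2 * i + 1)]
      generalize (u * s) ^ (2 * i + 1) = w
      group
    rw [SetLike.mem_coe, e]
    exact mul_mem (mem_sup_right (inv_mem h8)) (mem_sup_left (pow_mem h5 _))
  have hO : Op 2 H.normalCore ≤ H := (Op_le _ _).trans H.normalCore_le
  refine hKH (h3.trans (sup_le hO ((closure_le _).2 fun x hx => key u (Inv.two_of_mul_self u1 u2) (hP u huP) ?_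
    (mem_cent_single.2 hx.2))))
  obtain ⟨o, ho, l, hl, e⟩ := (mem_sup_of_le_normalizer fun g _ => norm_le_norm_Op 2 _ (hnn g)).1 (h3 huK)
  have hc : Commute l u :=
    mem_cent_single.1 ((closure_le (centralizer {u})).2 (fun _ h => mem_cent_single.2 h.2) hl)
  have h4 := pow_orderOf_eq_one o
  rw [show o ^ orderOf o = (u * l⁻¹) ^ orderOf o by rw [e, mul_inv_cancel_right], hc.symm.inv_right.mul_pow,
    pow_odd_of_sq u2 (odd_orderOf_of_mem (odd_Op _) ho), inv_pow, mul_inv_eq_one] at h4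
  have h5 := pow_mem hl (orderOf o)
  rwa [← h4] at h5

end Cfsg.Agent.S1913
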