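import Mathlib
import Cfsg.Statements.S1915
import Cfsg.Agent.Isaacs.Rel4
import Cfsg.Agent.Comp2.Component
import Cfsg.Agent.Inv.Four
-- import your own Cfsg.Agent.* helpers here

set_option autoImplicit false
open Cfsg

namespace Cfsg.Agent.S1915

section
open Subgroup Cfsg.Agent.Core Cfsg.Agent.Rel4 Cfsg.Agent.Inv
open scoped commutatorElement Pointwise

variable {G : Type*} [Group G]

theorem pick {U : Subgroup G} (hU : IsKleinFour U) (p : G → Prop) (h : ∀ a ∈ U, ∀ b ∈ U, ¬ p a → ¬ p b → p (a * b)) :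
    ∃ u ∈ U, u ≠ 1 ∧ p u := by
  obtain ⟨a, ha, b, hb, h1, h2, h3⟩ := four_exists_pair hU
  by_contra! e
  exact e _ (mul_mem ha hb) (fun e' => h3 (by
    rw [eq_inv_of_mul_eq_one_left e', inv_eq_of_mul_eq_one_right (four_mul_self hU hb)])) (h a ha b hb (e a ha h1) (e b hb h2))

theorem core [Finite G] (A : Subgroup G) [hAn : A.Normal] (hA : ∀ H : Subgroup A, H.index ≠ 2) {U : Subgroup G}
    (hU : IsKleinFour U) (H : ∀ u ∈ U, u ≠ 1 → ∀ x ∈ A, ∀ y ∈ A, Commute u x → Commute u y → Commute x y →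
      orderOf x = 2 → orderOf y = 2 → x = y) {V : Subgroup G} (hV : IsKleinFour V) : ¬ V ≤ A := fun hVA => by
  have : Fact (Nat.Prime 2) := ⟨Nat.prime_two⟩
  obtain ⟨S, hS⟩ := (four_isPGroup hU).exists_le_sylow
  obtain ⟨k, -, hk⟩ := (isSylowOf_sylow_inf_normal S A).exists_conj_le (four_isPGroup hV) hVA
  replace hV : IsKleinFour (MulAut.conj k • V :) := isKleinFour_of_mulEquiv (equivSMul _ V) hV
  generalize MulAut.conj k • V = V at hV hk
  have hnc : ∀ {C : Subgroup G}, IsCyclic C → ¬ V ≤ C := fun hC h =>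
    IsKleinFour.not_isCyclic (G := V) (isCyclic_of_injective (inclusion h) (inclusion_injective h))
  obtain ⟨a, n, h⟩ := exists_D S.isPGroup' A (fun W hW h4 hn => by
    obtain ⟨u, hu, h1, h2⟩ := pick hU (fun u => ∀ hu : u ∈ (S : Subgroup G), (⟨u, hu⟩ : S) ∈ centralizer (W : Set S))
      fun a ha b hb h1 h2 _ => four_mul_mem_centralizer (S.isPGroup'.to_subgroup ⊤) h4 le_normalizer_of_normal
        (a := ⟨a, hS ha⟩) (b := ⟨b, hS hb⟩) trivial trivial (fun e => h1 fun _ => e) fun e => h2 fun _ => e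
    obtain ⟨x, hx, y, hy, h3, h5, h6⟩ := four_exists_pair h4
    exact h6 (Subtype.ext (H u hu h1 x (hW hx) y (hW hy) (congrArg Subtype.val (h2 (hS hu) x hx)).symm
      (congrArg Subtype.val (h2 (hS hu) y hy)).symm (congrArg Subtype.val (four_commute h4 hx hy))
      (by rw [Subgroup.orderOf_coe, four_two h4 hx h3]) (by rw [Subgroup.orderOf_coe, four_two h4 hy h5]))))
    (fun z b hz hb hc h2 hb2 hbz e => by
      have hzz : z * z = 1 := by have := pow_orderOf_eq_one z; rwa [h2, pow_two] at this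
      have h3 : ∀ g, ¬ Commute g b → g * b * g⁻¹ = z * b := fun g hg => by
        rcases one_or_eq_of_mem_zpowers hzz (PGrp.commutator_symm_mem (e g)) with h | h
        · exact absurd (commutatorElement_eq_one_iff_commute.mp h) hg
        · rw [← h, PGrp.conj_eq_commutator_mul]
      obtain ⟨u, hu, h1, h4⟩ := pick hU (fun u => Commute u b) fun x hx y hy h5 h6 => by
        have h7 := h3 ⟨x, hS hx⟩ fun e => h5 (congrArg Subtype.val e)
        have h8 := h3 ⟨y, hS hy⟩ fun e => h6 (congrArg Subtype.val e)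
        have h9 := mem_center_iff.mp hc ⟨x, hS hx⟩
        refine congrArg Subtype.val (mul_inv_eq_iff_eq_mul.mp ?_ : (⟨x, hS hx⟩ * ⟨y, hS hy⟩ : S) * b = b * (⟨x, hS hx⟩ * ⟨y, hS hy⟩))
        generalize (⟨x, hS hx⟩ : S) = x at *
        generalize (⟨y, hS hy⟩ : S) = y at *
        calc x * y * b * (x * y)⁻¹ = x * (y * b * y⁻¹) * x⁻¹ := by group
          _ = (x * z) * b * x⁻¹ := by rw [h8]; group
          _ = z * (x * b * x⁻¹) := by rw [h9]; group
          _ = b := by rw [h7, ← mul_assoc, hzz, one_mul]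
      exact hbz (Subtype.ext (H u hu h1 _ hz _ hb (congrArg Subtype.val (mem_center_iff.mp hc ⟨u, hS hu⟩)) h4
        (congrArg Subtype.val (mem_center_iff.mp hc b)).symm (by rw [Subgroup.orderOf_coe, h2])
        (by rw [Subgroup.orderOf_coe]; exact orderOf_eq_prime hb2 fun e => hbz (e ▸ one_mem _))) ▸ mem_zpowers z))
    fun hc => hnc (C := (S : Subgroup G) ⊓ A) (by
      rw [← inf_subgroupOf_left] at hc
      exact isCyclic_of_surjective _ (subgroupOfEquivOfLe inf_le_left).surjective) hk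
  obtain ⟨s, hs, hsa⟩ := SetLike.not_le_iff_exists.mp (hnc (C := zpowers a) inferInstance)
  have hs2 := four_two hV hs fun e => hsa (e ▸ one_mem _)
  obtain ⟨u, hu, h1, h2⟩ := pick hU (fun u => u * a ^ 2 ^ n * u⁻¹ = a ^ 2 ^ n) fun x hx y hy h5 h6 => by
    calc x * y * a ^ 2 ^ n * (x * y)⁻¹ = x * (y * a ^ 2 ^ n * y⁻¹) * x⁻¹ := by group
      _ = (x * a ^ 2 ^ n * x⁻¹)⁻¹ := by rw [(h.y_cases (hS hy)).resolve_left h6]; group
      _ = _ := by rw [(h.y_cases (hS hx)).resolve_left h5, inv_inv]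
  obtain ⟨φ, h3, h4⟩ := h.root (hS hu) (four_mul_self hU hu) h2 (hk hs) (four_mul_self hV hs) hsa fun e =>
    hsa (H u hu h1 _ (pow_mem h.memA _) _ (hk hs).2 (mul_inv_eq_iff_eq_mul.mp (h.z_comm (hS hu))) e
      (mul_inv_eq_iff_eq_mul.mp (h.z_comm (hk hs).1)).symm h.z_ord hs2 ▸ npow_mem_zpowers a _)
  exact h.no_root hA (hk hs) hs2 hsa h3 h4

theorem index_ne_two (hA : Cfsg.layer G = ⊤) (H : Subgroup G) : H.index ≠ 2 := fun h => by
  have h1 := Comp2.layer_commutator_self (G := G)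
  rw [hA] at h1
  have : (⊤ : Subgroup G) ≤ H := h1 ▸ commutator_le.mpr fun a _ b _ => by
    simp only [commutatorElement_def, mul_mem_iff_of_index_two h, inv_mem_iff]
    tauto
  rw [top_le_iff.mp this, index_top] at h
  omega

theorem rank_mono {A B : Subgroup G} (h : A ≤ B) {k : ℕ} (hB : PRankLE 2 k B) : PRankLE 2 k A := fun E h1 h2 => by
  rw [← card_map_of_injective (inclusion_injective h)]
  refine hB _ inferInstance ?_
  rintro _ ⟨a, ha, rfl⟩
  rw [← map_pow, h2 a ha, map_one]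

theorem rank_iff [Finite G] {A : Subgroup G} : PRankLE 2 1 A ↔ ∀ V ≤ A, ¬ IsKleinFour V := by
  refine ⟨fun h V hV h4 => ?_, fun h => by_contra fun e => ?_⟩
  · have := rank_mono hV h ⊤ ⟨⟨fun a b => Subtype.ext (Subtype.ext (four_commute h4 a.1.2 b.1.2))⟩⟩ fun a _ =>
      Subtype.ext (by simpa [pow_two] using four_mul_self h4 a.2)
    rw [card_top, four_card h4] at this
    omega
  · obtain ⟨E, h1, h2, h3⟩ : ∃ E : Subgroup A, IsMulCommutative E ∧ (∀ a ∈ E, a ^ 2 = 1) ∧ 2 < Nat.card E := by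
      simpa [PRankLE] using e
    have := Fintype.ofFinite E
    rw [Nat.card_eq_fintype_card] at h3
    obtain ⟨x, hx⟩ := Fintype.exists_ne_of_one_lt_card (by omega) (1 : E)
    obtain ⟨y, hy1, hy⟩ : ∃ y : E, y ≠ 1 ∧ y ≠ x := by
      classical
      by_contra! e'
      have : Fintype.card E ≤ ({1, x} : Finset E).card := Finset.card_le_card fun y _ => by
        simpa [or_iff_not_imp_left] using e' y
      have := Finset.card_le_two (a := 1) (b := x)
      omega
    have : Fact (Nat.Prime 2) := ⟨Nat.prime_two⟩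
    have h4 : ∀ y : E, y ≠ 1 → orderOf (y.1 : G) = 2 := fun y hy => by
      rw [Subgroup.orderOf_coe, Subgroup.orderOf_coe]
      exact orderOf_eq_prime (Subtype.ext (h2 _ y.2)) hy
    exact h _ ((closure_le _).mpr (Set.insert_subset x.1.2 (Set.singleton_subset_iff.mpr y.1.2)))
      (isKleinFour_closure (h4 x hx) (h4 y hy1) (congrArg (fun z : E => (z.1 : G)) (h1.1.1 x y))
        fun e => hy (Subtype.ext (Subtype.ext e.symm)))

end

/-- Let A be a semisimple subgroup (A = E(A)) of a finite group and U a Klein four-group normalizing A. If the subgroup of A generated by the normalizers N_A(V) of the nontrivial subgroups V of U has 2-rank exactly 1, then A has 2-rank exactly 1. -/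
theorem result {G : Type*} [Group G] [Finite G] (A : Subgroup G) (hA : Cfsg.layer ↥A = ⊤)
    (U : Subgroup G) (hU : IsKleinFour U) (hUA : U ≤ Subgroup.normalizer (A : Set G))
    (hΓ : Cfsg.PRankLE 2 1 ↥(⨆ V : {V : Subgroup G // V ≤ U ∧ V ≠ ⊥}, A ⊓ Subgroup.normalizer ((V : Subgroup G) : Set G)) ∧
      ¬ Cfsg.PRankLE 2 0 ↥(⨆ V : {V : Subgroup G // V ≤ U ∧ V ≠ ⊥}, A ⊓ Subgroup.normalizer ((V : Subgroup G) : Set G))) :
    Cfsg.PRankLE 2 1 A ∧ ¬ Cfsg.PRankLE 2 0 A := by
  refine ⟨rank_iff.mpr fun V hV h4 => ?_, fun h => hΓ.2 (rank_mono (iSup_le fun _ => inf_le_left) h)⟩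
  let N := Subgroup.normalizer (A : Set G)
  have e := Subgroup.subgroupOfEquivOfLe (A.le_normalizer : A ≤ N)
  refine core (A.subgroupOf N) (fun H h => index_ne_two hA (H.map e.toMonoidHom) (by
      rwa [Subgroup.index_map_of_bijective e.bijective])) (U := U.subgroupOf N)
    (Inv.isKleinFour_of_mulEquiv (Subgroup.subgroupOfEquivOfLe hUA).symm hU) (fun u hu h1 x hx y hy h2 h3 h5 h6 h7 => ?_)
    (V := V.subgroupOf N) (Inv.isKleinFour_of_mulEquiv (Subgroup.subgroupOfEquivOfLe (hV.trans A.le_normalizer)).symm h4)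
    (Subgroup.comap_mono hV)
  by_contra h8
  have key : ∀ x : N, x.1 ∈ A → Commute u x → x.1 ∈ ⨆ V : {V : Subgroup G // V ≤ U ∧ V ≠ ⊥},
      A ⊓ Subgroup.normalizer ((V : Subgroup G) : Set G) := fun x hx h =>
    Subgroup.mem_iSup_of_mem ⟨Subgroup.zpowers u.1, Subgroup.zpowers_le.mpr hu,
      fun e => h1 (Subtype.ext (Subgroup.zpowers_eq_bot.mp e))⟩ ⟨hx, Subgroup.centralizer_le_normalizer _ fun z hz => by
        obtain ⟨k, rfl⟩ := Subgroup.mem_zpowers_iff.mp hz
        exact (Commute.zpow_left (congrArg Subtype.val h : Commute u.1 x.1) k).eq⟩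
  exact rank_iff.mp hΓ.1 _ ((Subgroup.closure_le _).mpr (Set.insert_subset (key x hx h2)
    (Set.singleton_subset_iff.mpr (key y hy h3)))) (Inv.isKleinFour_closure (by rwa [Subgroup.orderOf_coe])
      (by rwa [Subgroup.orderOf_coe]) (congrArg Subtype.val h5) fun e => h8 (Subtype.ext e))

end Cfsg.Agent.S1915
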