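import Mathlib
import Cfsg.Statements.S1914
import Cfsg.Agent.Isaacs.Z4d
import Cfsg.Agent.S1915
-- import your own Cfsg.Agent.* helpers here

set_option autoImplicit false
open Cfsg

namespace Cfsg.Agent.S1914

section
open Subgroup Cfsg.Agent.Core Cfsg.Agent.Rel4 Cfsg.Agent.Inv Cfsg.Agent.Z4 Cfsg.Agent.PGrp
open scoped commutatorElement Pointwise

variable {G : Type*} [Group G] [Finite G]

theorem four_in (A : Subgroup G) [A.Normal] (S : Sylow 2 G) {V : Subgroup G} (hV : IsKleinFour V) (hVA : V ≤ A) :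
    ∃ V : Subgroup G, IsKleinFour V ∧ V ≤ (S : Subgroup G) ⊓ A := by
  have : Fact (Nat.Prime 2) := ⟨Nat.prime_two⟩
  obtain ⟨k, -, hk⟩ := (isSylowOf_sylow_inf_normal S A).exists_conj_le (four_isPGroup hV) hVA
  exact ⟨_, isKleinFour_of_mulEquiv (equivSMul _ V) hV, hk⟩

omit [Finite G] in
theorem not_le {V C : Subgroup G} (hV : IsKleinFour V) (hC : IsCyclic C) : ¬ V ≤ C := fun h =>
  IsKleinFour.not_isCyclic (G := V) (isCyclic_of_injective (inclusion h) (inclusion_injective h))

theorem core {A : Subgroup G} {S : Sylow 2 G} {t y : G} (h : Hyp A S t y) {V : Subgroup G} (hV : IsKleinFour V) :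
    ¬ V ≤ A := fun hVA => by
  have : Fact (Nat.Prime 2) := ⟨Nat.prime_two⟩
  have := h.nA
  obtain ⟨V, hV, hk⟩ := four_in A S hV hVA
  have hno : ∀ z b : S, z.1 ∈ A → b.1 ∈ A → z ∈ center S → orderOf z = 2 → b ^ 2 = 1 → b ∉ zpowers z →
      ¬ ∀ g, ⁅b, g⁆ ∈ zpowers z := fun z b hz hb hc h2 hb2 hbz e => by
    have hzz : z * z = 1 := by have := pow_orderOf_eq_one z; rwa [h2, pow_two] at this
    have h3 : ∀ g ∈ (S : Subgroup G), g * z = z * g := fun g hg => congrArg Subtype.val (mem_center_iff.mp hc ⟨g, hg⟩)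
    have h4 := h.inv z.2 hz (h3 t h.tS) (congrArg Subtype.val hzz) fun e => by simp [show z = 1 from Subtype.ext e] at h2
    refine Hyp2.false (A := A) (S := S) (t := t) (y := y) (u := b.1) ⟨h, b.2, hb, by simpa [pow_two] using congrArg Subtype.val hb2,
      fun e => hbz ((Subtype.ext e : b = 1) ▸ one_mem _), fun e => hbz ((Subtype.ext (e.trans h4.symm) : b = z) ▸ mem_zpowers z), h4 ▸ h3,
      fun g hg => (one_or_eq_of_mem_zpowers hzz (commutator_symm_mem (e ⟨g, hg⟩))).imp (fun e => ?_) fun e => ?_⟩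
    · exact mul_inv_eq_iff_eq_mul.mpr (congrArg Subtype.val (commutatorElement_eq_one_iff_commute.mp e))
    · rw [← h4, h3 _ b.2, ← e, conj_eq_commutator_mul]; rfl
  obtain ⟨a, n, hD⟩ := exists_D S.isPGroup' A (fun W hW h4 hn => by
    obtain ⟨z, hz, hc, h2⟩ := exists_mem_center_orderOf_eq S.isPGroup' W fun e => by
      have := four_card h4
      rw [e, card_bot] at this
      omega
    obtain ⟨b, hb, h1, h3⟩ := four_exists_ne h4 z
    have hz1 : z ≠ 1 := fun e => by simp [e] at h2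
    refine hno z b (hW hz) (hW hb) hc h2 (by rw [pow_two, four_mul_self h4 hb])
      (fun e => (one_or_eq_of_mem_zpowers (four_mul_self h4 hz) e).elim h1 h3) fun g => commutator_symm_mem ?_
    rcases four_cases h4 hz hb hz1 h1 h3.symm (hn.conj_mem b hb g) with e | e | e | e
    · exact (conj_ne_one h1 g e).elim
    · exact (conj_ne h3 g (e.trans (mul_inv_eq_iff_eq_mul.mpr (mem_center_iff.mp hc g)).symm)).elim
    · rw [commutatorElement_def, e]; simp
    · rw [commutatorElement_def, e]; simp) hno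
    fun hc => not_le hV (C := (S : Subgroup G) ⊓ A) (by
      rw [← inf_subgroupOf_left] at hc
      exact isCyclic_of_surjective _ (subgroupOfEquivOfLe inf_le_left).surjective) hk
  obtain ⟨s, hs, hsa⟩ := SetLike.not_le_iff_exists.mp (not_le hV (C := zpowers a) inferInstance)
  exact h.caseI hD (hk hs) (four_mul_self hV hs) hsa

theorem core2 (A : Subgroup G) [hA : A.Normal] (perf : commutator A = ⊤) {t y : G} (ht : orderOf t = 2)
    (two : ∀ g, g ∉ A → t * g ∈ A) (hy : orderOf y = 2 ^ (1 + 1)) (hR : IsSylowOf 2 (zpowers y) (A ⊓ centralizer {t}))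
    {V : Subgroup G} (hV : IsKleinFour V) : ¬ V ≤ A := fun hVA => by
  have : Fact (Nat.Prime 2) := ⟨Nat.prime_two⟩
  have tt : t * t = 1 := by have := pow_orderOf_eq_one t; rwa [ht, pow_two] at this
  have h1 := hR.le (mem_zpowers y)
  have ty : Commute t y := (mem_centralizer_singleton_iff.mp h1.2).symm
  obtain ⟨S, hS⟩ := (hR.isPGroup.to_sup_of_normal_right' (K := zpowers t) (IsPGroup.of_card (n := 1) (by simp [ht]))
    (zpowers_le.mpr (centralizer_le_normalizer _ fun z hz => by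
      obtain ⟨k, rfl⟩ := mem_zpowers_iff.mp hz
      exact (ty.zpow_left k).eq))).exists_le_sylow
  have hyS := hS (mem_sup_left (mem_zpowers y))
  have htS := hS (mem_sup_right (mem_zpowers t))
  have cen : ∀ x ∈ (S : Subgroup G), x ∈ A → Commute t x → x ∈ zpowers y := fun x h2 h3 h4 =>
    (hR.eq_of_le (Q := (S : Subgroup G) ⊓ (A ⊓ centralizer {t})) (S.isPGroup'.to_le inf_le_left) inf_le_right
      (le_inf (zpowers_le.mpr hyS) hR.le)).ge ⟨h2, h3, mem_centralizer_singleton_iff.mpr h4.symm⟩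
  by_cases htA : t ∈ A
  · obtain ⟨V, hV, hk⟩ := four_in A S hV hVA
    obtain ⟨z, hz, hc, h2⟩ := exists_mem_center_orderOf_eq S.isPGroup' (A.subgroupOf S) fun e => by
      have h2 : (⟨t, htS⟩ : S) ∈ A.subgroupOf S := htA
      rw [e, mem_bot, Subtype.ext_iff] at h2
      simp [show t = 1 from h2] at ht
    have h3 : ∀ g ∈ (S : Subgroup G), g * z = z * g := fun g hg => congrArg Subtype.val (mem_center_iff.mp hc ⟨g, hg⟩)
    rw [← Subgroup.orderOf_coe] at h2
    have h4 : ∀ x ∈ zpowers y, orderOf x = 2 → x = y ^ 2 ^ 1 := fun x hx e =>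
      (eq_one_or_eq_of_sq_eq_one hy hx (e ▸ pow_orderOf_eq_one x)).resolve_left fun e' => by simp [e'] at e
    have h5 := (h4 _ (cen _ z.2 hz (h3 t htS)) h2).trans (h4 _ (cen _ htS htA (Commute.refl t)) ht).symm
    exact not_le hV (C := zpowers y) inferInstance fun x hx => cen x (hk hx).1 (hk hx).2 (h5 ▸ (h3 x (hk hx).1).symm)
  refine core ⟨hA, perf, tt, htA, htS, two, hyS, h1.1, hy, ty, cen, fun g x hx x' hx' e1 e2 e3 e4 e5 e6 e7 => ?_⟩ hV hVA
  by_contra e
  have key : ∀ x ∈ A, Commute (g * t * g⁻¹) x → g⁻¹ * x * g⁻¹⁻¹ ∈ A ⊓ centralizer {t} := fun x hx e =>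
    ⟨hA.conj_mem _ hx _, mem_centralizer_singleton_iff.mpr (by
      simpa [mul_assoc] using (e.map (MulAut.conj g⁻¹)).symm.eq)⟩
  have h4 := isKleinFour_closure (two_of_mul_self (conj_ne_one e3 g⁻¹) (conj_sq e1 g⁻¹))
    (two_of_mul_self (conj_ne_one e4 g⁻¹) (conj_sq e2 g⁻¹)) (e5.map (MulAut.conj g⁻¹)) (conj_ne e g⁻¹)
  obtain ⟨k, -, hk⟩ := hR.exists_conj_le (four_isPGroup h4)
    ((closure_le _).mpr (Set.insert_subset (key x hx e6) (Set.singleton_subset_iff.mpr (key x' hx' e7))))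
  exact not_le (isKleinFour_of_mulEquiv (equivSMul _ _) h4) inferInstance hk

end

/-- Let A be a semisimple subgroup (a central product of quasisimple groups, A = E(A)) of a finite group and t an involution normalizing A such that the Sylow 2-subgroups of C_A(t) are cyclic of order 4. Then A has 2-rank exactly 1. -/
theorem result {G : Type*} [Group G] [Finite G] (A : Subgroup G) (hA : Cfsg.layer ↥A = ⊤)
    (t : G) (ht : orderOf t = 2) (htA : t ∈ Subgroup.normalizer (A : Set G))
    (hC : ∀ R : Sylow 2 ↥(A ⊓ Subgroup.centralizer ({t} : Set G)), IsCyclic R ∧ Nat.card R = 4) :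
    Cfsg.PRankLE 2 1 A ∧ ¬ Cfsg.PRankLE 2 0 A := by
  have : Fact (Nat.Prime 2) := ⟨Nat.prime_two⟩
  obtain ⟨R, hR⟩ := Core.exists_isSylowOf 2 (A ⊓ Subgroup.centralizer ({t} : Set G))
  obtain ⟨h1, h2⟩ := hC hR.toSylow
  have e := Subgroup.subgroupOfEquivOfLe hR.le
  obtain ⟨y, rfl⟩ := PGrp.exists_zpowers_eq_of_isCyclic (C := R) (by
    have : IsCyclic (R.subgroupOf (A ⊓ Subgroup.centralizer ({t} : Set G))) := h1
    exact isCyclic_of_surjective _ e.surjective)
  have hy : orderOf y = 2 ^ (1 + 1) := by rw [← Nat.card_zpowers, ← Nat.card_congr e.toEquiv]; exact h2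
  have hyA := (hR.le (Subgroup.mem_zpowers y)).1
  refine ⟨S1915.rank_iff.mpr fun V hV h4 => ?_, fun h => ?_⟩
  · let X := A ⊔ Subgroup.zpowers t
    have hAX : A ≤ X := le_sup_left
    have htX : t ∈ X := Subgroup.mem_sup_right (Subgroup.mem_zpowers t)
    have hn : (A.subgroupOf X).Normal :=
      Subgroup.normal_subgroupOf_of_le_normalizer (sup_le A.le_normalizer (Subgroup.zpowers_le.mpr htA))
    have tt : t * t = 1 := by have := pow_orderOf_eq_one t; rwa [ht, pow_two] at this
    have e' := (Subgroup.subgroupOfEquivOfLe hAX).symm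
    refine core2 (A.subgroupOf X) ?_ (t := ⟨t, htX⟩) (y := ⟨y, hAX hyA⟩) (by rwa [Subgroup.orderOf_mk]) (fun g hg => ?_)
      (by rwa [Subgroup.orderOf_mk]) ?_ (V := V.subgroupOf X)
      (Inv.isKleinFour_of_mulEquiv (Subgroup.subgroupOfEquivOfLe (hV.trans hAX)).symm h4) (Subgroup.comap_mono hV)
    · have h3 := congrArg (Subgroup.map e'.toMonoidHom) (Comp2.layer_commutator_self (G := A))
      rwa [hA, Subgroup.map_commutator, Subgroup.map_top_of_surjective _ e'.surjective] at h3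
    · have h3 := PGrp.conj_mem_of_mem_normalizer htA ((Z4.mem_sup_two htA (tt ▸ one_mem _) g.2).resolve_left hg)
      rwa [mul_assoc, mul_assoc, ← mul_inv_rev, tt, inv_one, mul_one] at h3
    · convert hR.subgroupOf (inf_le_left.trans hAX) using 1
      · ext g; exact Rel4.mem_zpowers_coe.symm
      · ext g
        simp only [Subgroup.mem_inf, Subgroup.mem_subgroupOf, Subgroup.mem_centralizer_singleton_iff, Subtype.ext_iff,
          Subgroup.coe_mul]
  · have h3 := h (Subgroup.zpowers ⟨y ^ 2 ^ 1, pow_mem hyA _⟩) inferInstance fun a ha => by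
      obtain ⟨k, rfl⟩ := Subgroup.mem_zpowers_iff.mp ha
      rw [← zpow_natCast, ← zpow_mul, mul_comm, zpow_mul, zpow_natCast, Subtype.ext_iff]
      simp [← pow_mul, show 4 = orderOf y from hy.symm]
    rw [Nat.card_zpowers, Subgroup.orderOf_mk, PGrp.orderOf_pow_pow_eq_prime Nat.prime_two hy] at h3
    omega

end Cfsg.Agent.S1914
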