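import Mathlib
import Cfsg.Statements.S1916
import Cfsg.Agent.GW.Cor2

set_option autoImplicit false
open Cfsg

namespace Cfsg.Agent.S1916

open Subgroup Cfsg.Agent.GW

/-- Let L be a non-abelian simple subgroup of a finite group with dihedral Sylow 2-subgroups, and a, b two distinct commuting involutions normalizing L such that C_L(a) and C_L(b) have cyclic Sylow 2-subgroups and L is not contained in the subgroup generated by a, b, C_L(a) and C_L(b). Then ab centralizes L. -/
theorem result {G : Type*} [Group G] [Finite G] (L : Subgroup G) (hL : IsSimpleGroup L) (hLn : ¬ IsMulCommutative L)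
    (hD : ∀ P : Sylow 2 L, ∃ n : ℕ, Nonempty (↥(P : Subgroup L) ≃* DihedralGroup n))
    (a b : G) (ha : orderOf a = 2) (hb : orderOf b = 2) (hab : a ≠ b) (hc : a * b = b * a)
    (haL : a ∈ Subgroup.normalizer (L : Set G)) (hbL : b ∈ Subgroup.normalizer (L : Set G))
    (hCa : ∀ R : Sylow 2 ↥(L ⊓ Subgroup.centralizer ({a} : Set G)), IsCyclic R)
    (hCb : ∀ R : Sylow 2 ↥(L ⊓ Subgroup.centralizer ({b} : Set G)), IsCyclic R)
    (hgen : ¬ L ≤ Subgroup.closure ({a, b} : Set G) ⊔ (L ⊓ Subgroup.centralizer ({a} : Set G)) ⊔ (L ⊓ Subgroup.centralizer ({b} : Set G))) :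
    a * b ∈ Subgroup.centralizer (L : Set G) := by
  obtain ⟨P⟩ : Nonempty (Sylow 2 L) := inferInstance
  obtain ⟨n, ⟨e⟩⟩ := hD P
  have hK := known hLn (dihSyl_of_simple hLn P e)
  have hf : ∀ a (h : a ∈ normalizer (L : Set G)), (fixA (L.normalizerMonoidHom ⟨a, h⟩)).map L.subtype =
      L ⊓ centralizer {a} := fun a h => by
    ext x
    simp only [mem_map, mem_inf, mem_centralizer_singleton_iff]
    constructor
    · rintro ⟨y, hy, rfl⟩
      exact ⟨y.2, (mul_inv_eq_iff_eq_mul.1 (congrArg Subtype.val hy)).symm⟩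
    · rintro ⟨h1, h2⟩
      exact ⟨⟨x, h1⟩, Subtype.ext (mul_inv_eq_iff_eq_mul.2 h2.symm), rfl⟩
  have hn : ∀ a (h : a ∈ normalizer (L : Set G)), NoFour (L ⊓ centralizer {a}) →
      NoFour (fixA (L.normalizerMonoidHom ⟨a, h⟩)) := fun a h h1 u hu v hv uu vv uv => by
    simpa using h1 u (hf a h ▸ mem_map_of_mem _ hu) v (hf a h ▸ mem_map_of_mem _ hv)
      (congrArg Subtype.val uu) (congrArg Subtype.val vv) (congrArg Subtype.val uv)
  have sq2 : ∀ a (h : a ∈ normalizer (L : Set G)), orderOf a = 2 →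
      L.normalizerMonoidHom ⟨a, h⟩ * L.normalizerMonoidHom ⟨a, h⟩ = 1 := fun a h h1 => by
    rw [← map_mul, ← map_one L.normalizerMonoidHom]
    exact congrArg _ (Subtype.ext (by simpa [h1, sq] using pow_orderOf_eq_one a))
  by_cases h : L.normalizerMonoidHom ⟨a, haL⟩ = L.normalizerMonoidHom ⟨b, hbL⟩
  · have h1 := sq2 a haL ha
    nth_rw 2 [h] at h1
    rw [← map_mul, ← MonoidHom.mem_ker, normalizerMonoidHom_ker] at h1
    exact h1
  · have h1 := fixA_sup hK (sq2 a haL ha) (sq2 b hbL hb)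
      (by rw [← map_mul, ← map_mul]; exact congrArg _ (Subtype.ext hc)) h
      (hn a haL (noFour_of_cyclic hCa)) (hn b hbL (noFour_of_cyclic hCb))
    apply_fun map L.subtype at h1
    rw [Subgroup.map_sup, hf, hf, ← MonoidHom.range_eq_map, range_subtype] at h1
    exact absurd (h1.ge.trans (by rw [sup_assoc]; exact le_sup_right)) hgen

end Cfsg.Agent.S1916
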