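import Mathlib
import Cfsg.Statements.S1921
import Cfsg.Agent.Comp2.GenFitting
import Cfsg.Agent.LocalEven.Resid

set_option autoImplicit false
open Cfsg

namespace Cfsg.Agent.S1921

open Cfsg.Agent Cfsg.Agent.LocalEven Subgroup

/-- Let a be an involution of a finite group H and L a component of H with a L a⁻¹ ≠ L; put M = ⟨L, aLa⁻¹⟩ and let J be the subgroup generated by the elements x · a x a⁻¹ with x ∈ L (the diagonal). Then every element of M outside J·Z(M) generates M together with J. -/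
theorem result {H : Type*} [Group H] [Finite H] (a : H) (ha : orderOf a = 2) (L : Subgroup H) (hL : Cfsg.IsComponent L)
    (hLa : L.map (MulAut.conj a).toMonoidHom ≠ L) (x : H) (hxM : x ∈ L ⊔ L.map (MulAut.conj a).toMonoidHom)
    (hxJ : x ∉ Subgroup.closure {y : H | ∃ l ∈ L, y = l * (a * l * a⁻¹)} ⊔
      ((L ⊔ L.map (MulAut.conj a).toMonoidHom) ⊓ Subgroup.centralizer ((L ⊔ L.map (MulAut.conj a).toMonoidHom : Subgroup H) : Set H))) :
    Subgroup.closure {y : H | ∃ l ∈ L, y = l * (a * l * a⁻¹)} ⊔ Subgroup.zpowers x = L ⊔ L.map (MulAut.conj a).toMonoidHom := by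
  have hc := Comp2.component_commutator_eq_bot_of_ne hL (Comp2.component_conj hL a) hLa.symm
  have hc' : ∀ l ∈ L, ∀ m ∈ L, l * (a * m * a⁻¹) = (a * m * a⁻¹) * l := fun l hl m hm =>
    Comp2.commutator_eq_bot_iff_forall.1 hc l hl _ (conj_mem_cj hm)
  have hJ : ∀ l ∈ L, l * (a * l * a⁻¹) ∈ closure {y : H | ∃ l ∈ L, y = l * (a * l * a⁻¹)} :=
    fun l hl => subset_closure ⟨l, hl, rfl⟩
  have hJM : closure {y : H | ∃ l ∈ L, y = l * (a * l * a⁻¹)} ≤ L ⊔ cj a L := by
    rw [closure_le]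
    rintro _ ⟨l, hl, rfl⟩
    exact mul_mem_sup hl (conj_mem_cj hl)
  generalize closure {y : H | ∃ l ∈ L, y = l * (a * l * a⁻¹)} = J at *
  refine le_antisymm (sup_le hJM (zpowers_le.2 hxM)) ?_
  obtain ⟨l, hl, _, ⟨m, hm, rfl⟩, rfl⟩ := Comp2.mem_sup_of_commutator_eq_bot hc hxM
  change l * (a * m * a⁻¹) ∉ _ at hxJ
  change _ ≤ J ⊔ zpowers (l * (a * m * a⁻¹))
  have e : l * (a * m * a⁻¹) = l * m⁻¹ * (m * (a * m * a⁻¹)) := by group
  have hLY : L ≤ J ⊔ zpowers (l * (a * m * a⁻¹)) := by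
    generalize hY : J ⊔ zpowers (l * (a * m * a⁻¹)) = Y
    have hJY : J ≤ Y := hY ▸ le_sup_left
    rcases Comp2.quasisimple_le_or_inf_le_centralizer hL.2 (N := L ⊓ Y)
      (le_normalizer_of_cj_le fun g hg => cj_le_iff'.2 fun y hy => ⟨L.mul_mem (L.mul_mem hg hy.1)
        (L.inv_mem hg), by
          have := Y.mul_mem (Y.mul_mem (hJY (hJ g hg)) hy.2) (Y.inv_mem (hJY (hJ g hg)))
          rwa [mul_assoc g, ← hc' y hy.1 g hg, mul_inv_rev, ← mul_assoc, ← mul_assoc,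
            mul_inv_cancel_right] at this⟩) with h | h
    · exact h.trans inf_le_right
    · exfalso
      have h1 : l * m⁻¹ ∈ L := L.mul_mem hl (L.inv_mem hm)
      have h2 : l * m⁻¹ ∈ Y := by
        have := Y.mul_mem (hY ▸ mem_sup_right (mem_zpowers _) : l * (a * m * a⁻¹) ∈ Y)
          (Y.inv_mem (hJY (hJ m hm)))
        rwa [e, mul_inv_cancel_right] at this
      refine hxJ ?_
      rw [e, sup_comm]
      refine mul_mem_sup ⟨mem_sup_left h1, ?_⟩ (hJ m hm)
      rw [centralizer_sup']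
      exact ⟨h ⟨⟨h1, h2⟩, h1⟩, LocalEven.commutator_eq_bot_iff.1 hc h1⟩
  refine sup_le hLY ?_
  rintro _ ⟨k, hk, rfl⟩
  have := mul_mem (inv_mem (hLY hk)) (mem_sup_left (hJ k hk))
  rwa [inv_mul_cancel_left] at this

end Cfsg.Agent.S1921
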