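import Mathlib
import Cfsg.Statements.S1922
import Cfsg.Agent.Inv.Count
import Cfsg.Agent.Inv.Four
import Cfsg.Agent.Inv.StrongEmb
import Cfsg.Agent.LocalEven.Cores
import Cfsg.Agent.PLocal.Extremal

set_option autoImplicit false
open Cfsg

namespace Cfsg.Agent.S1922

open Cfsg.Agent Cfsg.Agent.Inv Cfsg.Agent.LocalEven Subgroup

theorem odd_card {α : Type*} [Finite α] (f : α → α) (hf : ∀ a, f (f a) = a) (a : α)
    (ha : f a = a) (h : ∀ b, f b = b → b = a) : Odd (Nat.card α) := by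
  classical
  have := Fintype.ofFinite α
  have h1 := Equiv.Perm.card_fixedPoints_modEq (f := (f : Function.End α)) (p := 2) (n := 1)
    (funext hf)
  have h2 : Fintype.card (Function.fixedPoints f) = 1 :=
    Fintype.card_eq_one_iff.2 ⟨⟨a, ha⟩, fun b => Subtype.ext (h b b.2)⟩
  erw [h2] at h1
  rw [Nat.card_eq_fintype_card, Nat.odd_iff]
  exact h1

theorem central {G : Type*} [Group G] [Finite G] {z : G} (hz : orderOf z = 2) {H : Subgroup G}
    (hH : H ≠ ⊤) (h0 : ∀ g : G, g⁻¹ * z * g ∈ H ↔ g ∈ H)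
    (h1 : ∀ t : G, IsConj z t → t ≠ z → t * z = z * t → ∀ g : G, g⁻¹ * (z * t) * g ∈ H → g ∈ H) :
    Odd (centralizer ({z} : Set G)).index := by
  have hzH : z ∈ H := by simpa using (h0 1).2 H.one_mem
  have hC : centralizer {z} ≤ H := fun c hc => (h0 c).1 (by
    rw [mul_assoc, ← mem_centralizer_singleton_iff.1 hc]; simpa using hzH)
  -- products of commuting conjugates fix only one coset
  have h2 : ∀ i k : G, IsConj z i → IsConj z k → k ≠ i → Commute k i → ∀ g : G,
      i * k ∈ H → g⁻¹ * (i * k) * g ∈ H → g ∈ H := by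
    intro i k hi hk hne hc g hg1 hg2
    obtain ⟨x, rfl⟩ := isConj_iff.1 hi
    have h3 := h1 (x⁻¹ * k * x) (hk.trans (isConj_iff.2 ⟨x⁻¹, by simp⟩))
      (fun e => hne (by rw [← e]; group)) (by
        calc x⁻¹ * k * x * z = x⁻¹ * (k * (x * z * x⁻¹)) * x := by group
          _ = _ := by rw [hc.eq]; group)
    have h4 := h3 x⁻¹ (by convert hg1 using 1; group)
    have h5 := h3 (x⁻¹ * g) (by convert hg2 using 1; group)
    simpa using H.mul_mem (H.inv_mem h4) h5
  have h3 : ∀ g : G, g ∉ H → Odd (orderOf (z * (g * z * g⁻¹))) := by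
    intro g hg
    rw [← Nat.not_even_iff_odd]
    intro he
    have hz2 := mul_self_of_two hz
    have hu2 := mul_self_of_two (two_conj hz g)
    obtain ⟨a1, a2, a3⟩ := half_power hz2 hu2 he
    have a4 := zpow_mul_conj hz2 hu2 ((orderOf (z * (g * z * g⁻¹)) / 2 : ℕ) : ℤ)
    rw [zpow_natCast] at a4
    generalize (z * (g * z * g⁻¹)) ^ (orderOf (z * (g * z * g⁻¹)) / 2) = w at *
    have a5 : IsConj z (w * z) := by
      rcases a4 with ⟨-, d, -, e⟩ | ⟨-, d, -, e⟩
      · exact isConj_iff.2 ⟨d, e⟩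
      · exact (isConj_conj g z).trans (isConj_iff.2 ⟨d, e⟩)
    have e : z * (w * z) = w := by rw [a2.eq, ← mul_assoc, hz2, one_mul]
    refine hg (h1 _ a5 (fun e => ne_one_of_two a1 (by simpa using e))
      (by rw [← mul_assoc, a2.eq]) g (hC ?_))
    rw [e, mem_centralizer_singleton_iff]
    calc g⁻¹ * w * g * z = g⁻¹ * (w * (g * z * g⁻¹)) * g := by group
      _ = _ := by rw [a3.eq]; group
  obtain ⟨u, hu⟩ : ∃ g, g ∉ H := by
    by_contra! h
    exact hH (eq_top_iff.2 fun x _ => h x)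
  have hI2 : ∀ i : G, IsConj z i → i * i = 1 := fun i hi =>
    mul_self_of_two ((orderOf_of_isConj hi).symm.trans hz)
  have hIH : ∀ i : G, u⁻¹ * i ∈ H → i ∉ H := fun i h1 h2 =>
    hu (by simpa using H.mul_mem h1 (H.inv_mem h2))
  have hII : ∀ i k : G, IsConj z i → u⁻¹ * i ∈ H → u⁻¹ * k ∈ H → i * k ∈ H := fun i k a b c => by
    have := H.mul_mem (H.inv_mem b) c
    rwa [mul_inv_rev, inv_inv, mul_assoc, mul_inv_cancel_left,
      inv_eq_of_mul_eq_one_right (hI2 i a)] at this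
  have h4 : ∀ i k : G, IsConj z i → IsConj z k → u⁻¹ * i ∈ H → u⁻¹ * k ∈ H → Commute k i →
      k = i := fun i k a b c d e => by
    by_contra hne
    refine hIH i c (h2 i k a b hne e i (hII i k a c d) ?_)
    rw [← mul_assoc, inv_mul_cancel, one_mul]
    exact hII k i b d c
  have h5 : ∀ s : H, IsConj (⟨z, hzH⟩ : H) s → ∃ i, IsConj z i ∧ u⁻¹ * i ∈ H ∧
      i * z * i⁻¹ = u * s * u⁻¹ := by
    intro s hs
    obtain ⟨h, rfl⟩ := isConj_iff.1 hs
    have b1 := h3 (u * h) fun b => hu (by simpa using H.mul_mem b (H.inv_mem h.2))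
    have hz2 := mul_self_of_two hz
    have hy2 := mul_self_of_two (two_conj hz (u * h))
    obtain ⟨d, hd, e⟩ := exists_conj_of_odd hz2 hy2 b1
    have e' : d * z * z * (d * z)⁻¹ = u * h * z * (u * h)⁻¹ := by rw [← e]; group
    refine ⟨d * z, isConj_mul_of_odd_inverts (inverts_of_mem_zpowers (inverts_mul_left hz2 hy2) hd)
      (odd_orderOf_of_mem_zpowers b1 hd), ?_, by rw [e']; simp [mul_assoc]⟩
    refine H.inv_mem_iff.1 ((h0 _).1 ?_)
    have : (u⁻¹ * (d * z))⁻¹⁻¹ * z * (u⁻¹ * (d * z))⁻¹ = u⁻¹ * (d * z * z * (d * z)⁻¹) * u := by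
      group
    rw [this, e']
    simpa [mul_assoc] using H.mul_mem (H.mul_mem h.2 hzH) (H.inv_mem h.2)
  have h6 : Nat.card {i : G // IsConj z i ∧ u⁻¹ * i ∈ H} =
      Nat.card {s : H // IsConj (⟨z, hzH⟩ : H) s} := by
    refine Nat.card_congr (Equiv.ofBijective (fun i => ⟨_, isConj_conj ⟨_, i.2.2⟩ _⟩) ⟨?_, ?_⟩)
    · rintro ⟨i, hi, hi'⟩ ⟨k, hk, hk'⟩ h
      have h' : (u⁻¹ * i) * z * (u⁻¹ * i)⁻¹ = (u⁻¹ * k) * z * (u⁻¹ * k)⁻¹ :=
        congrArg (fun x => (x.1 : G)) h
      have b1 : Commute (k * i) z := by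
        rw [commute_iff_conj]
        calc k * i * z * (k * i)⁻¹ = k * u * ((u⁻¹ * i) * z * (u⁻¹ * i)⁻¹) * u⁻¹ * k⁻¹ := by group
          _ = (k * k) * z * (k * k)⁻¹ := by rw [h']; group
          _ = z := by rw [hI2 k hk]; group
      obtain ⟨x, rfl⟩ := isConj_iff.1 hi
      have b2 := h3 x fun hx => hIH _ hi' (H.mul_mem (H.mul_mem hx hzH) (H.inv_mem hx))
      generalize x * z * x⁻¹ = i at *
      have b3 : (z * i) * (k * i) * (z * i)⁻¹ = (k * i)⁻¹ := by
        calc (z * i) * (k * i) * (z * i)⁻¹ = z * (i * (k * i) * i⁻¹) * z⁻¹ := by group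
          _ = _ := by rw [inverts_mul_right (hI2 k hk) (hI2 i hi), ← b1.inv_left.eq]; group
      exact Subtype.ext (h4 i k hi hk hi' hk' (commute_of_mul_self (hI2 k hk) (hI2 i hi)
        (mul_self_of_odd_inverts b3 b2))).symm
    · rintro ⟨s, hs⟩
      obtain ⟨i, a, b, c⟩ := h5 s hs
      refine ⟨⟨i, a, b⟩, Subtype.ext (Subtype.ext ?_)⟩
      calc (u⁻¹ * i) * z * (u⁻¹ * i)⁻¹ = u⁻¹ * (i * z * i⁻¹) * u := by group
        _ = s := by rw [c]; group
  obtain ⟨j, j1, j2, -⟩ := h5 _ (IsConj.refl _)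
  have h7 : Odd (Nat.card {i : G // IsConj z i ∧ u⁻¹ * i ∈ H}) := by
    refine odd_card (fun i => ⟨j * i * j⁻¹, i.2.1.trans (isConj_conj _ _), ?_⟩)
      (fun i => Subtype.ext ?_) ⟨j, j1, j2⟩ (Subtype.ext (by simp)) fun i hi => Subtype.ext ?_
    · rw [inv_eq_of_mul_eq_one_right (hI2 j j1), mul_assoc j, ← mul_assoc]
      exact H.mul_mem j2 (hII _ _ i.2.1 i.2.2 j2)
    · calc j * (j * i * j⁻¹) * j⁻¹ = (j * j) * i * (j * j)⁻¹ := by group
        _ = i := by rw [hI2 j j1]; group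
    · exact h4 j i j1 i.2.1 j2 i.2.2 (commute_iff_conj.2 (congrArg Subtype.val hi)).symm
  have h8 : Odd H.index := by
    refine odd_card (α := G ⧸ H) (z • ·) (fun a => ?_) ((1 : G) : G ⧸ H)
      (PLocal.smul_mk_eq_iff.2 (by simpa using hzH)) fun b hb => ?_
    · rw [smul_smul, mul_self_of_two hz, one_smul]
    · obtain ⟨g, rfl⟩ := QuotientGroup.mk_surjective b
      rw [QuotientGroup.eq, mul_one]
      exact H.inv_mem ((h0 g).1 (PLocal.smul_mk_eq_iff.1 hb))
  rw [← relIndex_mul_index hC]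
  refine Odd.mul ?_ h8
  rw [h6, card_isConj_eq_index] at h7
  rw [relIndex]
  convert h7 using 2
  ext x
  simp only [mem_subgroupOf, mem_centralizer_singleton_iff, Subtype.ext_iff, coe_mul]

/-- Let z be an involution of a finite group G and H a proper subgroup such that z lies in gHg⁻¹ exactly when g ∈ H. Then the following are equivalent: (1) for every conjugate t ≠ z of z commuting with z, the product zt lies in gHg⁻¹ exactly when g ∈ H; (2) z lies in the centre of some Sylow 2-subgroup of G, and for every conjugate t ≠ z of z commuting with z, the centralizer of zt is contained in H. -/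
theorem result {G : Type*} [Group G] [Finite G] (z : G) (hz : orderOf z = 2) (H : Subgroup G) (hH : H ≠ ⊤)
    (h0 : ∀ g : G, z ∈ H.map (MulAut.conj g).toMonoidHom ↔ g ∈ H) :
    (∀ t : G, IsConj z t → t ≠ z → t * z = z * t → ∀ g : G, z * t ∈ H.map (MulAut.conj g).toMonoidHom ↔ g ∈ H) ↔
      ((∃ P : Sylow 2 G, z ∈ (Subgroup.center ↥(P : Subgroup G)).map (P : Subgroup G).subtype) ∧
        ∀ t : G, IsConj z t → t ≠ z → t * z = z * t → Subgroup.centralizer ({z * t} : Set G) ≤ H) := by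
  have : Fact (Nat.Prime 2) := ⟨Nat.prime_two⟩
  simp only [mem_map_conj] at h0 ⊢
  have hzH : z ∈ H := by simpa using (h0 1).2 H.one_mem
  have hC : centralizer {z} ≤ H := fun c hc => (h0 c).1 (by
    rw [mul_assoc, ← mem_centralizer_singleton_iff.1 hc]; simpa using hzH)
  refine ⟨fun h1 => ⟨?_, fun t a b c g hg => (h1 t a b c g).1 ?_⟩, ?_⟩
  · have h2 := central hz hH h0 fun t a b c g => (h1 t a b c g).1
    obtain ⟨T, hT, hzT⟩ := exists_isSylowIn_le (isPGroup_zpowers_of_mul_self (mul_self_of_two hz))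
      (zpowers_le.2 (mem_centralizer_singleton_iff.2 rfl))
    obtain ⟨P, rfl⟩ := (hT.of_not_dvd_relIndex le_top
      (by rw [relIndex_top_right]; exact h2.not_two_dvd_nat)).exists_sylow_top
    refine ⟨P, ?_⟩
    rw [center_map_subtype]
    exact ⟨hzT (mem_zpowers z), fun x hx => mem_centralizer_singleton_iff.1 (hT.1 hx)⟩
  · rw [mul_assoc, ← mem_centralizer_singleton_iff.1 hg, inv_mul_cancel_left]
    exact H.mul_mem hzH (hC (mem_centralizer_singleton_iff.2 c))
  · rintro ⟨⟨P, hP⟩, h1⟩ t a b c g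
    rw [center_map_subtype] at hP
    refine ⟨fun hg => ?_, fun hg => H.mul_mem (H.mul_mem (H.inv_mem hg)
      (H.mul_mem hzH (hC (mem_centralizer_singleton_iff.2 c)))) hg⟩
    have hPH : (P : Subgroup G) ≤ H := fun x hx =>
      hC (mem_centralizer_singleton_iff.2 (hP.2 x hx))
    have hw : (z * t) ^ 2 = 1 := by
      rw [Commute.mul_pow c.symm, sq_of_two hz, sq_of_two ((orderOf_of_isConj a).symm.trans hz),
        one_mul]
    obtain ⟨m, hm, h2⟩ := (isSylowIn_of_sylow_le P hPH).exists_conj_mem hg (k := 1) (by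
      have := conj_pow (a := g⁻¹) (b := z * t) (i := 2)
      rw [inv_inv] at this
      rw [pow_one, this, hw]; simp)
    have h3 := (h0 (m * g⁻¹)).1 (h1 t a b c (mem_centralizer_singleton_iff.2 (by
      have := hP.2 _ h2
      calc (m * g⁻¹)⁻¹ * z * (m * g⁻¹) * (z * t) =
            (m * g⁻¹)⁻¹ * (z * (m * (g⁻¹ * (z * t) * g) * m⁻¹)) * (m * g⁻¹) := by group
        _ = _ := by rw [← this]; group)))
    simpa using H.mul_mem (H.inv_mem hm) h3

end Cfsg.Agent.S1922
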