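import Mathlib
import Cfsg.Statements.S1936
import Cfsg.Agent.FGS.Homog2
import Cfsg.Agent.FGS.PSL2Real
import Cfsg.Agent.FGS.Walter
import Cfsg.Agent.FGS.Solv
import Cfsg.Agent.CIT.F7

set_option autoImplicit false
open Cfsg

namespace Cfsg.Agent.S1936

open Subgroup Cfsg.Agent.LocalEven Cfsg.Agent.FGS

/-- All `p'`-subgroups are abelian. -/
def AP (p : ℕ) (X : Type*) [Group X] : Prop :=
  ∀ H : Subgroup X, IsPiSubgroup {r | r ≠ p} H → IsMulCommutative H

section
variable {G : Type*} [Group G] [Finite G] {p : ℕ}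

omit [Finite G] in
theorem AP.sub (h : AP p G) (Y : Subgroup G) : AP p Y := by
  intro H hH
  have := h (H.map Y.subtype) (fun p hp hd => hH p hp (by rwa [card_map_subtype] at hd))
  refine ⟨⟨fun a b => Subtype.ext (Subtype.ext ?_)⟩⟩
  have e := this.is_comm.comm ⟨a, mem_map_of_mem _ a.2⟩ ⟨b, mem_map_of_mem _ b.2⟩
  simpa using congrArg Subtype.val e

theorem AP.quot (h : AP p G) (h2 : 2 ≠ p) (N : Subgroup G) [N.Normal] : AP p (G ⧸ N) := by
  intro H hH
  have hNH : N ≤ H.comap (QuotientGroup.mk' N) := fun x hx => by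
    rw [mem_comap, QuotientGroup.mk'_apply, (QuotientGroup.eq_one_iff x).2 hx]; exact H.one_mem
  have hr : N.relIndex (H.comap (QuotientGroup.mk' N)) = Nat.card H := by
    have := card_mul_relIndex hNH
    rw [FGS.card_comap_mk'] at this
    exact Nat.eq_of_mul_eq_mul_left Nat.card_pos this
  obtain ⟨L, -, hL, hs, -⟩ := exists_pi_supplement (π := {r | r ≠ p}) Nat.prime_two h2 hNH
    (by simp [normalizer_eq_top])
    (fun r hr' hrπ R hR hle => le_of_not_dvd_relIndex hr' hR hle (by simp [normalizer_eq_top])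
      (fun hd => hrπ (hH r hr' (hr ▸ hd))))
  have hm : L.map (QuotientGroup.mk' N) = H := by
    have := congrArg (Subgroup.map (QuotientGroup.mk' N)) hs
    rwa [Subgroup.map_sup, map_comap_eq_self_of_surjective (QuotientGroup.mk'_surjective N),
      QuotientGroup.map_mk'_self, bot_sup_eq] at this
  haveI := h L hL
  rw [← hm]
  infer_instance

theorem AP.comm (h : AP p G) {Q R : Subgroup G} {q r : ℕ} (hq : q.Prime) (hr : r.Prime)
    (hqp : q ≠ p) (hrp : r ≠ p) (hQ : IsPGroup q Q) (hR : IsPGroup r R)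
    (hn : R ≤ normalizer (Q : Set G)) {a b : G} (ha : a ∈ Q) (hb : b ∈ R) : a * b = b * a :=
  congrArg Subtype.val ((h _ (IsPi.sup (IsPi.of_pgroup hq hqp hQ) (IsPi.of_pgroup hr hrp hR)
    hn)).is_comm.comm ⟨a, mem_sup_left ha⟩ ⟨b, mem_sup_right hb⟩)

theorem AP.not_four [IsSimpleGroup G] (hn : ¬ IsMulCommutative G) (h : AP p G) (h2 : 2 ≠ p)
    (h3 : 3 ≠ p) : ¬ Gs.Four G := by
  rintro ⟨S, hS⟩
  obtain ⟨x, hx, hx3, htr⟩ := (GsC.fd_top hn S hS).exists_three
  obtain ⟨a, ha, ha1, -⟩ := Gs.exists_ne_two (T := (S : Subgroup G)) (by rw [hS]; norm_num) 1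
  obtain ⟨b, hb, hb1, hba⟩ := Gs.exists_ne_two (T := (S : Subgroup G)) (by rw [hS]; norm_num) a
  obtain ⟨y, hy, hy'⟩ := htr a ha b hb ha1 hb1
  rw [← h.comm Nat.prime_two Nat.prime_three h2 h3 S.isPGroup'
    (isPGroup_zpowers_of_orderOf (k := 1) (by simpa using hx3)) (zpowers_le.2 hx.2) ha hy,
    mul_inv_cancel_right] at hy'
  exact hba hy'.symm

theorem solv_of_two (h : ∀ r : ℕ, r.Prime → r ∣ Nat.card G → r = 2 ∨ r = p) :
    Group.IsSolvable G := by
  by_contra hns
  have h1 := CIT.F.three_primes hns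
  have h2 : (Nat.card G).primeFactors ⊆ {2, p} := fun r hr => by
    simpa using h r (Nat.prime_of_mem_primeFactors hr) (Nat.dvd_of_mem_primeFactors hr)
  have := (Finset.card_le_card h2).trans Finset.card_le_two
  omega

theorem AP.simple [IsSimpleGroup G] (h : AP p G) (h2 : 2 ≠ p) (h3 : 3 ≠ p) :
    Group.IsSolvable G := by
  by_cases hn : IsMulCommutative G
  · exact IsSimpleGroup.comm_iff_isSolvable.mp hn.is_comm.comm
  rcases walter hn (fun T hT => h T (IsPi.of_pgroup Nat.prime_two h2 hT)) with h1 | h1 | h1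
  · obtain ⟨F, _, _, n, -, hF, ⟨e⟩⟩ := h1
    refine solv_of_two (p := p) fun r hr hd => ?_
    by_contra hc
    push Not at hc
    haveI := Fact.mk hr
    obtain ⟨x, hx⟩ := exists_prime_orderOf_dvd_card' r hd
    obtain ⟨t, ht, e⟩ := real_of_psl2 e x (by
      rw [hx, Nat.card_eq_fintype_card, hF]
      exact Nat.Coprime.pow_right _ ((Nat.coprime_primes hr Nat.prime_two).2 hc.1))
    have hc' := h.comm hr Nat.prime_two hc.2 h2
      (isPGroup_zpowers_of_orderOf (k := 1) (by simpa using hx))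
      (LocalEven.isPGroup_zpowers (x := t) (k := 1) (by simpa [pow_two] using ht))
      (zpowers_le.2 (cj_eq_self_iff.1 (by rw [cj_zpowers, e, zpowers_inv])))
      (mem_zpowers x) (mem_zpowers t)
    rw [← hc', mul_inv_cancel_right, eq_inv_iff_mul_eq_one, ← pow_two] at e
    have := orderOf_dvd_of_pow_eq_one e
    rw [hx] at this
    exact hc.1 ((Nat.prime_dvd_prime_iff_eq hr Nat.prime_two).1 this)
  · exact absurd h1 (h.not_four hn h2 h3)
  · obtain ⟨t, ht⟩ := GsC.exists_inv hn
    obtain ⟨E, E₀, hE⟩ := h1.shape t ht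
    haveI := hE.simple
    exact absurd hE.four ((h.sub E₀).not_four hE.nab h2 h3)

end

/-- Let p be a prime and G a finite group in which every subgroup of order prime to p is abelian of exponent dividing p − 1. Then G is solvable. -/
theorem result {G : Type*} [Group G] [Finite G] (p : ℕ) [Fact p.Prime] (h : ∀ H : Subgroup G, (Nat.card ↥H).Coprime p → IsMulCommutative ↥H ∧ ∀ x ∈ H, x ^ (p - 1) = 1) : Group.IsSolvable G := by
  have hp : p.Prime := Fact.out
  by_cases h23 : 2 = p ∨ 3 = p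
  · refine solv_of_two (p := p) fun r hr hd => ?_
    by_contra hc
    push Not at hc
    haveI := Fact.mk hr
    obtain ⟨x, hx⟩ := exists_prime_orderOf_dvd_card' r hd
    have := orderOf_dvd_of_pow_eq_one ((h (zpowers x) (by
      rw [Nat.card_zpowers, hx]; exact (Nat.coprime_primes hr hp).2 hc.2)).2 x (mem_zpowers x))
    rw [hx] at this
    rcases h23 with rfl | rfl
    · exact hr.ne_one (by simpa using this)
    · exact hc.1 ((Nat.prime_dvd_prime_iff_eq hr Nat.prime_two).1 this)
  push Not at h23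
  refine FGS.solvable_of_simple (P := fun X _ => AP p X) (fun X _ _ N _ h => h.sub N)
    (fun X _ _ N _ h => h.quot h23.1 N) (fun X _ _ _ h => h.simple h23.1 h23.2) G fun H hH => ?_
  exact (h H ((Nat.Prime.coprime_iff_not_dvd hp).2 fun hd => hH p hp hd rfl).symm).1

end Cfsg.Agent.S1936
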