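import Mathlib
import Cfsg.Statements.S1957
import Cfsg.Agent.Inv.NFour
import Cfsg.Agent.LocalEven.CharP2
import Cfsg.Agent.Core.CoprimeGen

set_option autoImplicit false
open Cfsg

namespace Cfsg.Agent.S1957

open scoped commutatorElement in
open Subgroup LocalEven in
theorem syl {G : Type*} [Group G] [Finite G] {P U S : Subgroup G} {u : G} (hP : IsSylowIn 2 P ⊤)
    (hUP : U ≤ P) (hUn : P ≤ normalizer (U : Set G)) (hU4 : IsKleinFour U)
    (hUZ : ¬ IsCyclic ↥(P ⊓ centralizer (P : Set G)) → U ≤ centralizer (P : Set G)) (u1 : u ∈ U)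
    (u2 : u ≠ 1) (hS : IsSylowIn 2 S (centralizer {u})) (h0 : P ⊓ centralizer (U : Set G) ≤ S) :
    ⁅S, U⁆ ≤ zpowers u := by
  have : Fact (Nat.Prime 2) := ⟨Nat.prime_two⟩
  by_cases hc : S ≤ centralizer (U : Set G)
  · rw [LocalEven.commutator_eq_bot_iff.2 hc]; exact bot_le
  have c1 := hP.card_le le_top hS.pgrp
  have c2 := card_mul_relIndex h0
  have c3 : (P ⊓ centralizer (U : Set G)).relIndex S ≠ 1 := fun e => hc ((relIndex_eq_one.1 e).trans inf_le_right)
  have c4 : 0 < Nat.card S := Nat.card_pos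
  have hn : ¬ P ≤ centralizer (U : Set G) := fun e =>
    hc ((eq_of_le_of_card_le ((le_inf le_rfl e).trans h0) c1).ge.trans e)
  have c5 := card_inf_mul_relIndex (centralizer (U : Set G)) P
  rw [(Inv.four_relIndex_cases hP.pgrp hU4 hUn).resolve_left hn, inf_comm] at c5
  have c6 : (P ⊓ centralizer (U : Set G)).relIndex S = 2 := by
    generalize (P ⊓ centralizer (U : Set G)).relIndex S = r at *
    rcases r with _ | _ | _ | r
    · omega
    · omega
    · rfl
    · nlinarith
  obtain ⟨g, -, rfl⟩ := hP.conj (hP.of_card_le le_top hS.pgrp (by rw [c6] at c2; omega))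
  have cy : IsCyclic ↥(cj g P ⊓ centralizer (cj g P : Set G)) := by
    have := by_contra fun e => hn (le_centralizer_iff.1 (hUZ e))
    rw [← cj_centralizer, ← cj_inf]
    exact isCyclic_of_surjective _ (cjEquiv g _).surjective
  generalize cj g P = S at *
  have vP : U ≤ P ⊓ centralizer (U : Set G) := le_inf hUP fun v hv w hw => (Inv.four_commute hU4 hw hv).eq
  have zu : zpowers u = omegaOneCenter 2 S := eq_of_le_of_card_le (zpowers_le.2 (mem_omegaOneCenter.2
    ⟨h0 (vP u1), fun s hs => (mem_centralizer_singleton.1 (hS.le hs)).symm, by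
      rw [pow_two, Inv.four_mul_self hU4 u1]⟩)) (by
    rw [Nat.card_zpowers, Inv.four_two hU4 u1 u2]
    exact Inv.card_le_two_of_cyclic_exp (isCyclic_of_le (le_inf (omegaOneCenter_le S)
      (omegaOneCenter_le_centralizer S))) fun x hx => by rw [← pow_two, (mem_omegaOneCenter.1 hx).2.2])
  have two : ∀ a ∈ S, ∀ b ∈ S, a * b ∈ P ⊓ centralizer (U : Set G) ↔
      (a ∈ P ⊓ centralizer (U : Set G) ↔ b ∈ P ⊓ centralizer (U : Set G)) := fun a ha b hb =>
    mul_mem_iff_of_index_two (a := ⟨a, ha⟩) (b := ⟨b, hb⟩) c6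
  refine commutator_le.2 fun s hs v hv => ?_
  by_cases s0 : s ∈ P ⊓ centralizer (U : Set G)
  · rw [commutatorElement_eq_one_iff_mul_comm.2 (s0.2 v hv).symm]; exact one_mem _
  have k1 : ∀ t ∈ P ⊓ centralizer (U : Set G), Commute t (s * v * s⁻¹) := fun t ht => by
    have := (((two _ (mul_mem (inv_mem hs) (h0 ht)) _ hs).2 (by
      rw [two _ (inv_mem hs) _ (h0 ht), inv_mem_iff]; tauto)).2 v hv)
    calc t * (s * v * s⁻¹) = s * (s⁻¹ * t * s * v) * s⁻¹ := by group
      _ = _ := by rw [← this]; group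
  have k2 : ∀ t ∈ P ⊓ centralizer (U : Set G), Commute t ⁅s, v⁆ := fun t ht =>
    (k1 t ht).mul_right (Commute.inv_right (ht.2 v hv).symm)
  have v2 : v⁻¹ = v := inv_eq_of_mul_eq_one_right (Inv.four_mul_self hU4 hv)
  have k3 : Commute s ⁅s, v⁆ := by
    have := ((two s hs s hs).2 Iff.rfl).2 v hv
    rw [commutatorElement_def, v2]
    calc s * (s * v * s⁻¹ * v) = s * (v * (s * v * s⁻¹)) := by rw [(k1 v (vP hv)).eq]
      _ = s * v * s⁻¹ * (s * s * v) * s⁻¹ := by group
      _ = _ := by rw [← this]; group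
  rw [zu]
  refine mem_omegaOneCenter.2 ⟨commutator_le_of_le le_rfl (vP.trans h0) (commutator_mem_commutator hs hv),
    fun t ht => ?_, ?_⟩
  · by_cases t0 : t ∈ P ⊓ centralizer (U : Set G)
    · exact k2 t t0
    have := k3.mul_left (k2 _ ((two _ (inv_mem hs) _ ht).2 (by rw [inv_mem_iff]; tauto)))
    rwa [mul_inv_cancel_left] at this
  · rw [commutatorElement_def, v2, (k1 v (vP hv)).symm.mul_pow, pow_two v, Inv.four_mul_self hU4 hv,
      conj_pow, pow_two, Inv.four_mul_self hU4 hv]
    group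

/-- Let `G` be a finite non-abelian simple group in which every local subgroup is solvable and which is of characteristic 2 type. Let `P` be a Sylow 2-subgroup of `G` and `U` a normal subgroup of `P` that is a four-group, with `U` central in `P` if the centre of `P` is not cyclic. Then `U` centralizes every subgroup of odd order of `G` that it normalizes. -/
theorem result {G : Type*} [Group G] [Finite G]
    [IsSimpleGroup G] (hna : ¬ IsMulCommutative G) (hN : Cfsg.IsNGroup G) (h2 : Cfsg.IsCharacteristicTwoType G)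
    (P : Sylow 2 G) (U : Subgroup G) (hUP : U ≤ (P : Subgroup G)) (hUn : (P : Subgroup G) ≤ Subgroup.normalizer (U : Set G))
    (hU4 : IsKleinFour ↥U)
    (hUZ : ¬ IsCyclic ↥((P : Subgroup G) ⊓ Subgroup.centralizer ((P : Subgroup G) : Set G)) →
      U ≤ Subgroup.centralizer ((P : Subgroup G) : Set G))
    (K : Subgroup G) (hK : Odd (Nat.card K)) (hUK : U ≤ Subgroup.normalizer (K : Set G)) :
    U ≤ Subgroup.centralizer (K : Set G) := by
  have : Fact (Nat.Prime 2) := ⟨Nat.prime_two⟩
  have hK2 : ¬ 2 ∣ Nat.card K := fun e => Nat.not_even_iff_odd.2 hK (even_iff_two_dvd.2 e)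
  have cU : U ≤ Subgroup.centralizer (U : Set G) := fun v hv w hw => (Inv.four_commute hU4 hw hv).eq
  refine Subgroup.le_centralizer_iff.1 (Core.le_of_centralizers
    (Subgroup.le_centralizer_iff_isMulCommutative.1 cU) IsKleinFour.not_isCyclic hUK (by
      rw [Inv.four_card hU4]; exact (Nat.coprime_two_left.2 hK).pow_left 2) fun u u1 u2 => ?_)
  have z2 : IsPGroup 2 (Subgroup.zpowers u) :=
    (Inv.four_isPGroup hU4).to_le (Subgroup.zpowers_le.2 u1)
  have hC : LocalEven.CharP 2 (Subgroup.centralizer ({u} : Set G)) := LocalEven.centralizer_zpowers u ▸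
    LocalEven.charP_centralizer_of_normalizer (LocalEven.charP_iff.2
      (h2.2 _ z2 fun e => u2 (Subgroup.zpowers_eq_bot.1 e)))
  have cu : Subgroup.centralizer (U : Set G) ≤ Subgroup.centralizer {u} :=
    Subgroup.centralizer_le (Set.singleton_subset_iff.2 u1)
  obtain ⟨S, s1, s2⟩ := LocalEven.exists_isSylowIn_le (P.isPGroup'.to_le inf_le_left)
    (inf_le_right.trans cu)
  have s3 := syl (LocalEven.isSylowIn_top P) hUP hUn hU4 hUZ u1 u2 s1 s2
  set C := Subgroup.centralizer ({u} : Set G)
  have zc : C ≤ Subgroup.centralizer (Subgroup.zpowers u : Set G) := (LocalEven.centralizer_zpowers u).ge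
  have zn := zc.trans (Subgroup.centralizer_le_normalizer _)
  have d1 : IsPGroup 2 ↥(C ⊓ LocalEven.centMod (pCoreOf 2 C) (Subgroup.zpowers u)) :=
    LocalEven.isPGroup_of_charP_of_quadratic hC inf_le_left (LocalEven.commutator_eq_bot_iff.2
      ((LocalEven.le_centMod.1 inf_le_right).2.trans (Subgroup.le_centralizer_iff.1 (inf_le_left.trans zc))))
  refine LocalEven.commutator_eq_bot_iff.1 (LocalEven.eq_bot_of_not_dvd (d1.to_le ?_) ?_ hK2)
  · refine (Subgroup.commutator_mono inf_le_right (le_inf (cU.trans cu) (LocalEven.le_centMod.2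
      ⟨(cU.trans cu).trans zn, (Subgroup.commutator_mono s1.pCoreOf_le le_rfl).trans s3⟩))).trans
      (LocalEven.commutator_le_right_of_le_normalizer (LocalEven.le_normalizer_inf Subgroup.le_normalizer
        (LocalEven.le_normalizer_centMod (LocalEven.le_normalizer_pCoreOf C) zn)))
  · exact (Subgroup.commutator_mono inf_le_left le_rfl).trans
      (LocalEven.commutator_le_left_of_le_normalizer hUK)

end Cfsg.Agent.S1957
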