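import Cfsg.Statements.S2043
-- import your own Cfsg.Agent.* helpers here
import Cfsg.Agent.Schur.Co1.P2
import Cfsg.Agent.Schur.Co1.P3
import Cfsg.Agent.Schur.Co1.P5
import Cfsg.Agent.Schur.Co1.P7
import Cfsg.Agent.SchurG.Co1.Iso

set_option autoImplicit false
open Cfsg

namespace Cfsg.Agent.S2043

/-- The Schur multiplier of the Conway group Co₁ (the automorphism group of the rank-24 lattice modulo its centre) is cyclic of order 2; here the Schur multiplier is described through stem extensions, as in the definitions: surjective homomorphisms onto the group from a finite group, whose kernel is central in that finite group and contained in that finite group's commutator subgroup. -/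
theorem low : Schur.Low SchurG.Co1.G 2 := by
  obtain ⟨e⟩ := SchurG.Co1.exists_iso
  obtain ⟨Γ, _, _, σ, h, hm⟩ := Schur.low_co1 (a := 0x42108421084210842108421084210000000004210842108421084210842108420080000000421084210842108421084210840108000000042108421084210842108421080210800000004210842108421084210842100421080000000421084210842108421084220842108000000042108421084210842108401084210800000004210842108421084210882108421080000000421084210842108421004210842108000000042108421084210842008421084210800000004210842108421084410842108421080000000421084210842108821084210842108000000042108421084210042108421084210800000004210842108420084210842108421080000000421084210844108421084210842108000000042108421088210842108421084210800000004210842100421084210842108421080000000421084220842108421084210842108000000042108401084210842108421084210800000004210882108421084210842108421080000000421104210842108421084210842108000000042208421084210842108421084210800000004410842108421084210842108421080000000821084210842108421084210842108)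
    (b := 0x82108421084210842108421084210800000004410842108421084210842108421080000000421084210842108821084210842108000000042108421088210842108421084210800000004210842208421084210842108421080000000421084210842108422084210842108000000042108821084210842108421084210800000004210842108422084210842108421080000000421104210842108421084210842108000000042108421084210842108422084210800000004210842110421084210842108421080000000421084210842108421084210844108000000042208421084210842108421084210800000004210842108421084210882108421080000000421084410842108421084210842108000000042108421084210842108421088210800000004210842108421084410842108421080000000421084210842108421084211042108000000042108421084410842108421084210800000004210842108421084210844108421080000000421084210842108421104210842108000000042108421084211042108421084210800000004210842108421084210842108422080000000421084210842108421084210842110) (by decide +kernel)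
  have hk : (e.symm.toMonoidHom.comp σ).ker = σ.ker := by ext; simp
  exact ⟨Γ, _, inferInstance, e.symm.toMonoidHom.comp σ,
    ⟨e.symm.surjective.comp h.1, hk ▸ h.2.1, hk ▸ h.2.2⟩, hk ▸ hm⟩


theorem result : Cfsg.HasCyclicSchurMultiplier Cfsg.Spor.Co1 2 := by
  have := Cfsg.Agent.Schur.Co1.card.1
  refine Cfsg.Agent.Schur.has_of_equiv (Cfsg.Agent.Schur.hasCyc (by norm_num) Cfsg.Agent.Schur.Co1.card.2 [2, 3, 5, 7, 11, 13, 23] 21 (by norm_num) (by norm_num) ?_ low) SchurG.Co1.exists_iso
  simp only [List.forall_mem_cons]
  exact ⟨Or.inr ⟨1, by norm_num, Cfsg.Agent.Schur.Co1.P2.gen⟩,
    Or.inr ⟨0, by norm_num, Cfsg.Agent.Schur.Co1.P3.gen.of_nil _⟩,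
    Or.inr ⟨0, by norm_num, Cfsg.Agent.Schur.Co1.P5.gen.of_nil _⟩,
    Or.inr ⟨0, by norm_num, Cfsg.Agent.Schur.Co1.P7.gen.of_nil _⟩,
    Or.inl (by norm_num),
    Or.inl (by norm_num),
    Or.inl (by norm_num), by simp⟩

end Cfsg.Agent.S2043
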