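import Mathlib
import Cfsg.Statements.S2071
import Cfsg.Agent.Leech.OutCo3

set_option autoImplicit false
open Cfsg

namespace Cfsg.Agent.S2071

/-- The outer automorphism group of the Conway group Co₃ (the stabiliser of a vector of the second shortest length in the rank-24 lattice) is trivial: every automorphism is inner. -/
theorem result : Nat.card (Cfsg.Out ↥Cfsg.Spor.Co3) = 1 := by
  rw [← Leech.OutCo3.card_out]
  refine (Leech.card_out_congr (Leech.subEquiv _ _ (fun g => ?_) inf_le_left)).symm
  rw [Leech.OutCo3.HH, Leech.uu, Leech.stab_neg]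
  exact ⟨fun h => ⟨g.2, h⟩, fun h => h.2⟩

end Cfsg.Agent.S2071
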