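import Cfsg.Statements.S2202
import Mathlib
import Cfsg.Agent.Ben.AbC

set_option autoImplicit false
open Cfsg

namespace Cfsg.Agent.S2202

/-- Finite groups in which the centralizer of every involution is abelian. Let G be a finite group of even order in which the centralizer of every element of order 2 is abelian. Then the Sylow 2-subgroups of G are cyclic, or a Sylow 2-subgroup of G is normal, or G is isomorphic to the direct product of SL₂(F) for a finite field F of characteristic two and an abelian group of odd order. -/
theorem result {G : Type*} [Group G] [Finite G] (heven : Even (Nat.card G)) (h : ∀ t : G, orderOf t = 2 → IsMulCommutative ↥(Subgroup.centralizer ({t} : Set G))) :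
    (∀ P : Sylow 2 G, IsCyclic ↥P) ∨ (∀ P : Sylow 2 G, (P : Subgroup G).Normal) ∨
    (∃ (F : Type) (_ : Field F) (_ : Fintype F) (A : Type) (_ : CommGroup A) (_ : Finite A), CharP F 2 ∧ Odd (Nat.card A) ∧ Nonempty (G ≃* Matrix.SpecialLinearGroup (Fin 2) F × A)) := by
  have hA : Ben.AbC G := fun u h1 h2 x y hx hy =>
    congrArg Subtype.val ((h u (orderOf_eq_prime (by rw [sq]; exact h2) h1)).is_comm.comm
      ⟨x, Subgroup.mem_centralizer_singleton_iff.mpr hx⟩ ⟨y, Subgroup.mem_centralizer_singleton_iff.mpr hy⟩)
  refine (hA.main heven).imp id (Or.imp id ?_)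
  rintro ⟨F, _, _, _, O, -, ho, hc, ⟨e⟩⟩
  let _ : CommGroup O :=
    { (inferInstance : Group O) with
      mul_comm := fun x y => Subtype.ext (Subgroup.mem_center_iff.mp (hc y.2) x) }
  have : Finite (Shrink.{0} O) := Finite.of_equiv _ (equivShrink.{0} O)
  refine ⟨F, inferInstance, inferInstance, Shrink.{0} O, inferInstance, inferInstance, inferInstance, ?_,
    ⟨e.trans ((MulEquiv.refl _).prodCongr (Shrink.mulEquiv.{0} (α := O)).symm)⟩⟩
  rwa [Nat.card_congr (equivShrink.{0} O).symm]

end Cfsg.Agent.S2202
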