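import Mathlib
import Cfsg.Statements.S2205
import Cfsg.Agent.Isaacs.DP4
import Cfsg.Agent.Perm.Multi
-- import your own Cfsg.Agent.* helpers here

set_option autoImplicit false
open Cfsg

namespace Cfsg.Agent.S2205

open Cfsg.Agent.Isaacs.DP Cfsg.Agent.Perm

/-- A finite group acting faithfully and 2-transitively on a set with p² + 1 points, p a prime, is doubly primitive — a point stabilizer acts primitively on the remaining p² points — unless p = 2 and the group is the Frobenius group of order 20. -/
theorem result {G Ω : Type*} [Group G] [Finite G] [Fintype Ω] [MulAction G Ω] [FaithfulSMul G Ω] (p : ℕ) (hp : p.Prime) (hΩ : Fintype.card Ω = p ^ 2 + 1) (h2 : MulAction.IsMultiplyPretransitive G Ω 2) (a : Ω) :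
    MulAction.IsPreprimitive ↥(MulAction.stabilizer G a) ↥(SubMulAction.ofStabilizer G a) ∨ (p = 2 ∧ Nat.card G = 20) := by
  haveI : Fact p.Prime := ⟨hp⟩
  by_contra hc
  rw [not_or] at hc
  obtain ⟨Y⟩ := exists_sys hp (Nat.card_eq_fintype_card.trans hΩ)
    (fun a b c d h1 h3 => two_trans h2 h1 h3) a hc.1
  by_cases hp2 : p = 2
  · subst hp2
    exact hc.2 ⟨rfl, Y.card_two h2⟩
  · exact Y.false_of_odd hp2

end Cfsg.Agent.S2205
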