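import Mathlib
import Cfsg.Statements.S2207
import Cfsg.Agent.Part.Rk8
import Cfsg.Agent.Part.Zh3
import Cfsg.Agent.S0547
import Cfsg.Agent.S0144
import Cfsg.Agent.Core.MinNormal

set_option autoImplicit false
open Cfsg

namespace Cfsg.Agent.S2207


/-- Primitive rank 3 groups whose point stabilizer acts as a Frobenius group on one of its two non-trivial orbits. Let a finite group G of even order act faithfully and primitively on a finite set X so that the stabilizer of a point A has exactly three orbits, and suppose that on one of its non-trivial orbits I the stabilizer of A acts faithfully as a Frobenius group: transitively, some non-identity element fixing a point of I, and no non-identity element fixing two points of I. Then either G ≅ A₅ and X has 10 points (the action on unordered pairs), or G is solvable and has a normal subgroup of order 16 acting regularly on X. -/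
theorem result {G X : Type*} [Group G] [Finite G] [Fintype X] [MulAction G X] [FaithfulSMul G X] (heven : Even (Nat.card G)) (hprim : MulAction.IsPreprimitive G X) (A : X)
    (h3 : Nat.card (MulAction.orbitRel.Quotient ↥(MulAction.stabilizer G A) X) = 3) (B : X) (hBA : B ≠ A)
    (hfaith : ∀ g ∈ MulAction.stabilizer G A, (∀ h ∈ MulAction.stabilizer G A, g • (h • B) = h • B) → g = 1)
    (hfix : ∃ g ∈ MulAction.stabilizer G A, g ≠ 1 ∧ g • B = B)
    (hfrob : ∀ g ∈ MulAction.stabilizer G A, ∀ h ∈ MulAction.stabilizer G A, g • B = B → g • (h • B) = h • B → h • B ≠ B → g = 1) :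
    (Nonempty (G ≃* ↥(alternatingGroup (Fin 5))) ∧ Fintype.card X = 10) ∨
    (IsSolvable G ∧ ∃ N : Subgroup G, N.Normal ∧ Nat.card N = 16 ∧ ∀ x y : X, ∃! n : ↥N, (n : G) • x = y) := by
  classical
  haveI := Fintype.ofFinite G
  obtain ⟨s⟩ := Part.Rk.exists_St heven hprim A h3 B hBA hfaith hfix hfrob
  haveI : Nonempty X := ⟨A⟩
  have hn := Part.Rk.St.card_X (s := s)
  have hG := Part.Rk.St.card_G (s := s)
  have hm := Part.Rk.St.m_dvd (s := s)
  haveI : Nontrivial G := let ⟨g, _, h, _⟩ := hfix; ⟨g, 1, h⟩
  have key : Group.IsSolvable G → ∃ N : Subgroup G, N.Normal ∧ Nat.card N = Fintype.card X ∧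
      (∃ p d : ℕ, p.Prime ∧ Fintype.card X = p ^ d) ∧ ∀ x y : X, ∃! n : ↥N, (n : G) • x = y := by
    intro hs
    obtain ⟨N, hN, h1, -, h2⟩ := Core.exists_minimal_normal_le (⊤ : Subgroup G) top_ne_bot
    obtain ⟨t1, t2, p, d, hp, -, t3, t4⟩ := S0547.result hprim N h1 h2
    rw [Nat.card_eq_fintype_card] at t3
    refine ⟨N, hN, t4.trans t3.symm, ⟨p, d, hp, t3⟩, fun x y => ?_⟩
    obtain ⟨n, hn⟩ := t1.exists_smul_eq x y
    refine ⟨n, hn, fun n' hn' => ?_⟩
    have : n⁻¹ * n' ∈ MulAction.stabilizer N x := by
      rw [MulAction.mem_stabilizer_iff, mul_smul, inv_smul_eq_iff, hn]; exact hn'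
    rw [t2, Subgroup.mem_bot, inv_mul_eq_one] at this
    exact this.symm
  rcases s.main with ⟨h1, h2, h4⟩ | ⟨h1, h2⟩ | ⟨h1, h2⟩
  · rw [h1, h2] at hn
    rw [hn, h1, h4] at hG
    refine Or.inl ⟨Part.equiv_A5_of_perfect ?_ hG, hn⟩
    by_contra hc
    have hs : Group.IsSolvable G := by
      by_contra hns
      have hex : ∃ P : Subgroup G, ¬ Group.IsSolvable P := ⟨⊤, fun h => hns
        (solvable_of_surjective (f := (⊤ : Subgroup G).subtype) fun g => ⟨⟨g, trivial⟩, rfl⟩)⟩
      obtain ⟨P, hP, hmin⟩ := exists_minimalFor_of_wellFoundedLT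
        (fun P : Subgroup G => ¬ Group.IsSolvable P) (fun P => Nat.card P) hex
      have hperf : commutator P = ⊤ := by
        by_contra h
        have h5 : Group.IsSolvable ((commutator P).map P.subtype) := by
          by_contra h6
          have h7 : Nat.card ((commutator P).map P.subtype) < Nat.card P := by
            rw [Subgroup.card_map_of_injective P.subtype_injective]
            exact lt_of_le_of_ne (Subgroup.card_le_card_group _)
              fun e => h (Subgroup.eq_top_of_card_eq _ e)
          exact absurd (hmin h6 h7.le) (not_le.mpr h7)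
        have h6 : Group.IsSolvable (commutator P) := solvable_of_solvable_injective
          (f := ((commutator P).equivMapOfInjective _ P.subtype_injective).toMonoidHom)
          (MulEquiv.injective _)
        exact hP (solvable_of_ker_le_range (commutator P).subtype (Abelianization.of (G := P))
          (by simp [Abelianization.ker_of]))
      have hnt : Nontrivial P := by
        by_contra h
        rw [not_nontrivial_iff_subsingleton] at h
        exact hP inferInstance
      have := Part.sixty_le_of_perfect P hperf hnt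
      obtain rfl : P = ⊤ := Subgroup.eq_top_of_card_eq _
        (le_antisymm (Subgroup.card_le_card_group _) (by omega))
      apply hc
      have := congrArg (Subgroup.map (⊤ : Subgroup G).subtype) hperf
      rwa [Subgroup.map_subtype_commutator, ← MonoidHom.range_eq_map, Subgroup.range_subtype] at this
    obtain ⟨-, -, -, ⟨p, d, hp, h5⟩, -⟩ := key hs
    rw [hn] at h5
    have e2 := (Nat.prime_dvd_prime_iff_eq Nat.prime_two hp).mp
      (Nat.prime_two.dvd_of_dvd_pow (h5 ▸ (by norm_num : 2 ∣ 1 + 3 + 6)))
    have e5 := (Nat.prime_dvd_prime_iff_eq Nat.prime_five hp).mp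
      (Nat.prime_five.dvd_of_dvd_pow (h5 ▸ (by norm_num : 5 ∣ 1 + 3 + 6)))
    omega
  · rw [h1, h2] at hn
    rw [h1] at hm
    obtain ⟨j, -, hj⟩ := (Nat.dvd_prime_pow Nat.prime_two (i := s.m) (m := 2)).mp hm
    have hs := S0144.result (G := G) 2 5 (4 + j) 1 Nat.prime_two Nat.prime_five
      (by rw [hG, hn, h1, hj]; ring)
    obtain ⟨N, n1, n2, -, n3⟩ := key hs
    exact Or.inr ⟨hs, N, n1, n2.trans hn, n3⟩
  · rw [h1, h2] at hn
    rw [h1] at hm
    obtain ⟨j, -, hj⟩ := (Nat.dvd_prime_pow Nat.prime_two (i := s.m) (m := 3)).mp hm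
    have hs := S0144.result (G := G) 2 3 (4 + j) 2 Nat.prime_two Nat.prime_three
      (by rw [hG, hn, h1, hj]; ring)
    obtain ⟨N, n1, n2, -, n3⟩ := key hs
    exact Or.inr ⟨hs, N, n1, n2.trans hn, n3⟩

end Cfsg.Agent.S2207
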