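import Mathlib
import Cfsg.Statements.S2245
import Cfsg.Agent.FGS.SymSyl3

set_option autoImplicit false
open Cfsg

namespace Cfsg.Agent.S2245

open Subgroup Equiv MulAction

theorem uniq {G : Type*} [Group G] [Finite G] {R S : Subgroup G} (h1 : R ≤ S) (h2 : S ≠ ⊤)
    (h : ∀ M, R ≤ M → ¬ M ≤ S → M = ⊤) : ∃! M : Subgroup G, IsCoatom M ∧ R ≤ M := by
  have h3 : IsCoatom S := ⟨h2, fun M hM => h M (h1.trans hM.le) hM.not_ge⟩
  exact ⟨S, ⟨h3, h1⟩, fun M hM => ((hM.1.le_iff.mp (by_contra fun h4 => hM.1.1 (h M hM.2 h4))).resolve_left h2).symm⟩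

theorem not_uniq {G : Type*} [Group G] [Finite G] {R H K : Subgroup G} (h1 : R ≤ H) (h2 : R ≤ K) (h3 : H ≠ ⊤)
    (h4 : K ≠ ⊤) (h : H ⊔ K = ⊤) : ¬ ∃! M : Subgroup G, IsCoatom M ∧ R ≤ M := fun ⟨M, hM, hu⟩ => by
  obtain ⟨A, hA, h5⟩ := (eq_top_or_exists_le_coatom H).resolve_left h3
  obtain ⟨B, hB, h6⟩ := (eq_top_or_exists_le_coatom K).resolve_left h4
  exact hM.1.1 (top_le_iff.mp (h.ge.trans (sup_le (h5.trans_eq (hu A ⟨hA, h1.trans h5⟩))
    (h6.trans_eq (hu B ⟨hB, h2.trans h6⟩)))))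

/-- For n ≥ 5 with n ≠ 6, a Sylow 2-subgroup of the alternating group A_n lies in exactly one maximal subgroup of A_n if and only if n = 2^k + 1 for some k ≥ 2; the same holds for the symmetric group S_n. -/
theorem result (n : ℕ) (hn : 5 ≤ n) (h6 : n ≠ 6) :
    ((∀ R : Sylow 2 ↥(alternatingGroup (Fin n)), (∃! M : Subgroup ↥(alternatingGroup (Fin n)), IsCoatom M ∧ (R : Subgroup ↥(alternatingGroup (Fin n))) ≤ M) ↔ ∃ k : ℕ, 2 ≤ k ∧ n = 2 ^ k + 1) ∧
    (∀ R : Sylow 2 (Equiv.Perm (Fin n)), (∃! M : Subgroup (Equiv.Perm (Fin n)), IsCoatom M ∧ (R : Subgroup (Equiv.Perm (Fin n))) ≤ M) ↔ ∃ k : ℕ, 2 ≤ k ∧ n = 2 ^ k + 1)) := by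
  haveI : Nontrivial (Fin n) := Fin.nontrivial_iff_two_le.mpr (by omega)
  have h1 : ∀ x : Fin n, ¬ alternatingGroup (Fin n) ≤ stabilizer (Perm (Fin n)) x := fun x hle => by
    obtain ⟨y, hy⟩ := exists_ne x
    obtain ⟨g, hg⟩ := (alternatingGroup.isPretransitive_of_three_le_card (Fin n) (by simp; omega)).exists_smul_eq x y
    exact hy (hg.symm.trans (hle g.2))
  have h2 : ∀ (R : Sylow 2 (Perm (Fin n))) M, ↑R ≤ M → alternatingGroup (Fin n) ≤ M → M = ⊤ := fun R M h h' =>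
    index_eq_one.mp (((Nat.dvd_prime Nat.prime_two).mp ((index_dvd_of_le h').trans
      alternatingGroup.index_eq_two.dvd)).resolve_right fun e => R.not_dvd_index (e.symm.dvd.trans (index_dvd_of_le h)))
  refine ⟨fun R => ⟨fun h => by_contra fun h3 => ?_, fun ⟨k, hk, h⟩ => ?_⟩,
    fun R => ⟨fun h => by_contra fun h3 => ?_, fun ⟨k, hk, h⟩ => ?_⟩⟩
  · obtain ⟨P, hP⟩ := R.exists_comap_subtype_eq
    obtain ⟨H, K, h4, h5, h7, h8, h9⟩ := FGS.two_overgroups P (by simpa using hn) (by simpa using h3)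
    refine not_uniq (hP ▸ comap_mono h4) (hP ▸ comap_mono h5) (mt subgroupOf_eq_top.mp h7)
      (mt subgroupOf_eq_top.mp h8) ?_ h
    rw [← inf_subgroupOf_right H, ← inf_subgroupOf_right K,
      ← subgroupOf_sup inf_le_right inf_le_right, subgroupOf_eq_top]
    exact h9
  · obtain ⟨P, hP⟩ := R.exists_comap_subtype_eq
    obtain ⟨x, h4, h5⟩ := FGS.unique_overgroup P hk (by simpa using h)
    refine uniq (hP ▸ comap_mono h4) (mt subgroupOf_eq_top.mp (h1 x)) fun M h7 h8 => ?_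
    have := h5 (M.map (Subgroup.subtype _)) (by
      rw [← subgroupOf_map_subtype]; exact map_mono (hP.le.trans h7)) (mt map_le_iff_le_comap.mp h8)
    exact map_subtype_inj.mp (le_antisymm (map_mono le_top) ((map_subtype_le _).trans this))
  · obtain ⟨H, K, h4, h5, h7, h8, h9⟩ := FGS.two_overgroups R (by simpa using hn) (by simpa using h3)
    exact not_uniq h4 h5 (fun e => h7 (e ▸ le_top)) (fun e => h8 (e ▸ le_top))
      (h2 R _ (le_sup_of_le_left h4) (h9.trans (sup_le_sup inf_le_left inf_le_left))) h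
  · obtain ⟨x, h4, h5⟩ := FGS.unique_overgroup R hk (by simpa using h)
    exact uniq h4 (fun e => h1 x (e ▸ le_top)) fun M h7 h8 => h2 R M h7 (h5 M (inf_le_left.trans h7) h8)

end Cfsg.Agent.S2245
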