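import Mathlib
import Cfsg.Statements.S2271


set_option autoImplicit false
open Cfsg

namespace Cfsg.Agent.S2271

open Equiv Finset

variable {α : Type*} [Fintype α] [DecidableEq α]

theorem key_pt (B : α → α → ℤ) {x y z t : α} (h1 : x ≠ y) (h2 : x ≠ z) (h3 : x ≠ t) (h4 : y ≠ z) (h5 : y ≠ t)
    (h6 : z ≠ t) (i j : α) : B i j - B (swap x y i) (swap x y j) - B (swap z t i) (swap z t j) +
      B (swap x y (swap z t i)) (swap x y (swap z t j)) =
      (B x z - B y z - B x t + B y t) * (((if i = x then 1 else 0) - (if i = y then 1 else 0)) *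
        ((if j = z then 1 else 0) - (if j = t then 1 else 0))) +
      (B z x - B z y - B t x + B t y) * (((if i = z then 1 else 0) - (if i = t then 1 else 0)) *
        ((if j = x then 1 else 0) - (if j = y then 1 else 0))) := by
  have c : ∀ i : α, (i = x ∨ i = y) ∨ (i = z ∨ i = t) ∨ (i ≠ x ∧ i ≠ y ∧ i ≠ z ∧ i ≠ t) := fun i => by tauto
  have a1 := swap_apply_of_ne_of_ne h2 h3
  have a2 := swap_apply_of_ne_of_ne h4 h5
  have a3 := swap_apply_of_ne_of_ne h2.symm h4.symm
  have a4 := swap_apply_of_ne_of_ne h3.symm h5.symm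
  have a5 : ∀ i, i ≠ x → i ≠ y → swap x y i = i := fun i => swap_apply_of_ne_of_ne
  have a6 : ∀ i, i ≠ z → i ≠ t → swap z t i = i := fun i => swap_apply_of_ne_of_ne
  rcases c i with (rfl | rfl) | (rfl | rfl) | ⟨i1, i2, i3, i4⟩ <;>
  rcases c j with (rfl | rfl) | (rfl | rfl) | ⟨j1, j2, j3, j4⟩ <;>
  simp only [swap_apply_left, swap_apply_right, a1, a2, a3, a4, a5, a6, ne_eq, not_false_eq_true, if_true, if_false,
    h1, h2, h3, h4, h5, h6, h1.symm, h2.symm, h3.symm, h4.symm, h5.symm, h6.symm, *] <;> ring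

theorem alt_sum (A B : α → α → ℤ) {x y z t : α} (h : [x, y, z, t].Nodup) :
    ∑ i, ∑ j, A j i * (B i j - B (swap x y i) (swap x y j) - B (swap z t i) (swap z t j) +
      B (swap x y (swap z t i)) (swap x y (swap z t j))) =
    (B x z - B y z - B x t + B y t) * (A z x - A z y - A t x + A t y) +
      (B z x - B z y - B t x + B t y) * (A x z - A y z - A x t + A y t) := by
  simp only [List.nodup_cons, List.mem_cons, List.not_mem_nil, or_false, not_or, List.nodup_nil, and_true,
    not_false_eq_true] at h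
  obtain ⟨⟨h1, h2, h3⟩, ⟨h4, h5⟩, h6⟩ := h
  simp only [key_pt B h1 h2 h3 h4 h5 h6]
  generalize B x z - B y z - B x t + B y t = u
  generalize B z x - B z y - B t x + B t y = v
  simp only [mul_add, mul_sub, sub_mul, mul_ite, ite_mul, mul_one, mul_zero, one_mul, zero_mul, sum_add_distrib,
    sum_sub_distrib, sum_ite_eq', mem_univ, if_true, add_mul]
  ring

/-- number of fixed points of `a * b` -/
def F (a b : Perm α) : ℕ := #{x | a (b x) = x}

theorem F_eq (a b : Perm α) : (F a b : ℤ) = ∑ i, ∑ j, (if a i = j then 1 else 0) * if b j = i then 1 else 0 := by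
  rw [sum_comm]
  simp [F]

theorem exists_quad (h : 5 ≤ Fintype.card α) {b : Perm α} (hb : b ≠ 1) :
    ∃ x y z t, [x, y, z, t].Nodup ∧ b z = x ∧ b y ≠ z ∧ b x ≠ t := by
  obtain ⟨z, hz⟩ : ∃ z, b z ≠ z := by
    by_contra! h; exact hb (Equiv.ext h)
  obtain ⟨y, -, hy⟩ := exists_mem_notMem_of_card_lt_card (s := {b z, z, b⁻¹ z}) (t := univ)
    (card_le_three.trans_lt (by rw [card_univ]; omega))
  obtain ⟨t, -, ht⟩ := exists_mem_notMem_of_card_lt_card (s := {b z, z, y, b (b z)}) (t := univ)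
    (card_le_four.trans_lt (by rw [card_univ]; omega))
  simp only [mem_insert, mem_singleton, not_or] at hy ht
  refine ⟨b z, y, z, t, ?_, rfl, fun e => hy.2.2 (Perm.eq_inv_iff_eq.mpr e), Ne.symm ht.2.2.2⟩
  simp only [List.nodup_cons, List.mem_cons, List.not_mem_nil, or_false, not_or, List.nodup_nil, and_true,
    not_false_eq_true]
  exact ⟨⟨Ne.symm hy.1, hz, Ne.symm ht.1⟩, ⟨hy.2.1, Ne.symm ht.2.2.1⟩, Ne.symm ht.2.1⟩

theorem not_const_aux {a c : Perm α} {x y z t : α} (h1 : [x, y, z, t].Nodup) (h2 : a x = z) (h3 : a t ≠ x)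
    (h4 : a z ≠ y) (h6 : c z = x) (h7 : c y ≠ z) (h8 : c x ≠ t) {k : ℕ} (hk : ∀ s, F a (s⁻¹ * c * s) = k) : False := by
  have h9 := alt_sum (fun j i => if a i = j then 1 else 0) (fun i j => if c j = i then 1 else 0) h1
  have e : ∀ s : Perm α, ∑ i, ∑ j, (if a i = j then 1 else 0) * (if c (s j) = s i then (1 : ℤ) else 0) = k :=
    fun s => by
      rw [← hk s, F_eq]
      refine sum_congr rfl fun i _ => sum_congr rfl fun j _ => ?_
      congr 1
      refine if_congr ?_ rfl rfl
      simp only [Perm.mul_apply, Perm.inv_eq_iff_eq]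
  have e1 : ∑ i, ∑ j, (if a i = j then 1 else 0) * (if c j = i then (1 : ℤ) else 0) = k := e 1
  have e2 : ∑ i, ∑ j, (if a i = j then 1 else 0) *
      (if c (swap x y (swap z t j)) = swap x y (swap z t i) then (1 : ℤ) else 0) = k := e (swap x y * swap z t)
  simp only [mul_add, mul_sub, sum_add_distrib, sum_sub_distrib] at h9
  rw [e1, e2, e (swap x y), e (swap z t)] at h9
  simp only [List.nodup_cons, List.mem_cons, List.not_mem_nil, or_false, not_or, List.nodup_nil, and_true,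
    not_false_eq_true] at h1
  have h10 : a y ≠ z := fun e => h1.1.1 (a.injective (h2.trans e.symm))
  have h11 : c t ≠ x := fun e => h1.2.2 (c.injective (h6.trans e.symm))
  have h12 : a x ≠ t := h2 ▸ h1.2.2
  have h13 : c z ≠ y := h6 ▸ h1.1.1
  rw [if_pos h2, if_pos h6, if_neg h3, if_neg h4, if_neg h7, if_neg h8, if_neg h10, if_neg h11, if_neg h12,
    if_neg h13] at h9
  split_ifs at h9 <;> omega

theorem not_const (h : 5 ≤ Fintype.card α) {a b : Perm α} (ha : a ≠ 1) (hb : b ≠ 1) {k : ℕ}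
    (hk : ∀ g, F a (g * b * g⁻¹) = k) : False := by
  obtain ⟨z, t, x, y, h1, h2, h3, h4⟩ := exists_quad h ha
  obtain ⟨x', y', z', t', h5, h6, h7, h8⟩ := exists_quad h hb
  have h1' := (List.perm_append_comm (l₁ := [z, t]) (l₂ := [x, y])).nodup_iff.mp h1
  obtain ⟨g, hg⟩ := Perm.exists_extending_pair [x', y', z', t'].get [x, y, z, t].get
    (List.nodup_iff_injective_get.mp h5) (List.nodup_iff_injective_get.mp h1')
  have e0 : g x' = x := hg 0
  have e1 : g y' = y := hg 1
  have e2 : g z' = z := hg 2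
  have e3 : g t' = t := hg 3
  refine not_const_aux (c := g * b * g⁻¹) h1' h2 h3 h4 ?_ ?_ ?_ (k := k) fun s => ?_
  · rw [← e2, ← e0]; simp [h6]
  · rw [← e1, ← e2]; simpa using h7
  · rw [← e0, ← e3]; simpa using h8
  · rw [← hk (s⁻¹ * g)]; congr 1

theorem even_ext {ι : Type*} [Fintype ι] (h : Fintype.card ι + 2 ≤ Fintype.card α) (f g : ι → α)
    (hf : Function.Injective f) (hg : Function.Injective g) :
    ∃ σ : Perm α, Perm.sign σ = 1 ∧ ∀ i, σ (f i) = g i := by
  obtain ⟨σ, hσ⟩ := Perm.exists_extending_pair f g hf hg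
  rcases Int.units_eq_one_or (Perm.sign σ) with h1 | h1
  · exact ⟨σ, h1, hσ⟩
  have : 1 < #((univ.image f)ᶜ) := by
    rw [card_compl]; have := card_image_le (s := (univ : Finset ι)) (f := f); rw [card_univ] at this; omega
  obtain ⟨u, hu, v, hv, huv⟩ := one_lt_card.mp this
  simp only [mem_compl, mem_image, mem_univ, true_and, not_exists] at hu hv
  refine ⟨σ * swap u v, by simp [h1, huv], fun i => ?_⟩
  rw [Perm.mul_apply, swap_apply_of_ne_of_ne (hu i) (hv i), hσ]

theorem even_two (h : 5 ≤ Fintype.card α) {x y x' y' : α} (h1 : x ≠ y) (h2 : x' ≠ y') :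
    ∃ σ : Perm α, Perm.sign σ = 1 ∧ σ x = x' ∧ σ y = y' := by
  obtain ⟨σ, h3, h4⟩ := even_ext (ι := Fin 2) (by simp; omega) [x, y].get [x', y'].get
    (List.nodup_iff_injective_get.mp (by simpa using h1)) (List.nodup_iff_injective_get.mp (by simpa using h2))
  exact ⟨σ, h3, h4 0, h4 1⟩

theorem F_conj (a b g : Perm α) : F (g * a * g⁻¹) (g * b * g⁻¹) = F a b := by
  refine (card_bij (fun x _ => g x) (fun x hx => by simpa using hx) (fun _ _ _ _ e => g.injective e)
    fun y hy => ⟨g⁻¹ y, ?_, by simp⟩).symm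
  simpa [Equiv.eq_symm_apply] using hy

theorem avg (h : 5 ≤ Fintype.card α) {b : Perm α} (hb : ∀ u v, b u = u → b v = v → u = v) (x y : α) :
    (Fintype.card α - 1) * #{g : Perm α | Perm.sign g = 1 ∧ (g * b * g⁻¹) x = y} ≤
      #{g : Perm α | Perm.sign g = 1} := by
  obtain ⟨H, hH⟩ : ∃ H : α → Perm α, ∀ t, t ≠ x → Perm.sign (H t) = 1 ∧ (y = x → H t x = t) ∧
      (y ≠ x → H t x = x ∧ H t y = t) := by
    have : ∀ t, ∃ σ : Perm α, t ≠ x → Perm.sign σ = 1 ∧ (y = x → σ x = t) ∧ (y ≠ x → σ x = x ∧ σ y = t) := by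
      intro t
      by_cases ht : t = x
      · exact ⟨1, fun e => absurd ht e⟩
      by_cases hy : y = x
      · obtain ⟨σ, h1, h2, -⟩ := even_two h (Ne.symm ht) ht
        exact ⟨σ, fun _ => ⟨h1, fun _ => h2, fun e => absurd hy e⟩⟩
      · obtain ⟨σ, h1, h2, h3⟩ := even_two h (Ne.symm hy) (Ne.symm ht)
        exact ⟨σ, fun _ => ⟨h1, fun e => absurd e hy, fun _ => ⟨h2, h3⟩⟩⟩
    exact ⟨fun t => (this t).choose, fun t => (this t).choose_spec⟩
  have e : Fintype.card α - 1 = #(univ.erase x) := by simp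
  rw [e, ← card_product]
  refine card_le_card_of_injOn (fun p => H p.1 * p.2) (fun p hp => ?_) fun p hp q hq hpq => ?_
  · simp only [coe_product, Set.mem_prod, mem_coe, mem_erase, mem_filter, mem_univ, true_and, and_true] at hp ⊢
    simp [(hH _ hp.1).1, hp.2.1]
  · simp only [coe_product, Set.mem_prod, mem_coe, mem_erase, mem_filter, mem_univ, true_and, and_true] at hp hq hpq
    have key : ∀ r : α × Perm α, r.1 ≠ x → (r.2 * b * r.2⁻¹) x = y →
        (y = x → b ((H r.1 * r.2)⁻¹ r.1) = (H r.1 * r.2)⁻¹ r.1) ∧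
        (y ≠ x → H r.1 (r.2 (b ((H r.1 * r.2)⁻¹ x))) = r.1) := fun r h1 h2 => by
      obtain ⟨-, h3, h4⟩ := hH _ h1
      simp only [Perm.mul_apply] at h2
      refine ⟨fun hy => ?_, fun hy => ?_⟩
      · have : (H r.1)⁻¹ r.1 = x := Perm.inv_eq_iff_eq.mpr (h3 hy).symm
        rw [mul_inv_rev, Perm.mul_apply, this, Perm.eq_inv_iff_eq, h2, hy]
      · have : (H r.1)⁻¹ x = x := Perm.inv_eq_iff_eq.mpr (h4 hy).1.symm
        rw [mul_inv_rev, Perm.mul_apply, this, h2, (h4 hy).2]
    have k1 := key p hp.1 hp.2.2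
    have k2 := key q hq.1 hq.2.2
    have : p.1 = q.1 := by
      by_cases hy : y = x
      · have := hb _ _ (k1.1 hy) (k2.1 hy)
        rw [hpq] at this
        exact (H q.1 * q.2)⁻¹.injective this
      · have k3 := k1.2 hy
        have k4 := k2.2 hy
        rw [← Perm.mul_apply, hpq] at k3
        rw [← Perm.mul_apply] at k4
        exact k3.symm.trans k4
    rw [this] at hpq
    exact Prod.ext this (mul_left_cancel hpq)

theorem no_swap {b : Perm α} (hb : ∀ c, c * b = b * c → Perm.sign c = 1) {u v : α} (h : u ≠ v)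
    (e : swap (b u) (b v) = swap u v) : False := by
  have := hb (swap u v) (by rw [Equiv.mul_swap_eq_swap_mul, e])
  simp [h] at this

theorem exists_tri {b : Perm α} (hb : ∀ c, c * b = b * c → Perm.sign c = 1) (h : b ≠ 1) :
    ∃ u, [u, b u, b (b u)].Nodup := by
  obtain ⟨u, hu⟩ : ∃ z, b z ≠ z := by
    by_contra! h'; exact h (Equiv.ext h')
  refine ⟨u, ?_⟩
  have : u ≠ b (b u) := fun e => no_swap hb hu (by rw [← e, swap_comm])
  simpa [hu.symm] using this

theorem case_two (h : 5 ≤ Fintype.card α) {a b : Perm α} (ha : a ≠ 1) (hb : b ≠ 1)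
    (ha' : ∀ c, c * a = a * c → Perm.sign c = 1) (hb' : ∀ c, c * b = b * c → Perm.sign c = 1) {k : ℕ}
    (hk : ∀ g, Perm.sign g = 1 → F a (g * b * g⁻¹) = k) : False := by
  obtain ⟨u, hu⟩ := exists_tri hb' hb
  obtain ⟨x, hx⟩ := exists_tri ha' ha
  have hx' : [a (a x), a x, x].Nodup := List.nodup_reverse.mp hx
  obtain ⟨g, hg, h1⟩ := even_ext (ι := Fin 3) (by simp; omega) [u, b u, b (b u)].get [a (a x), a x, x].get
    (List.nodup_iff_injective_get.mp hu) (List.nodup_iff_injective_get.mp hx')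
  have e0 : g u = a (a x) := h1 0
  have e1 : g (b u) = a x := h1 1
  have e2 : g (b (b u)) = x := h1 2
  have h2 : 2 ≤ k := by
    rw [← hk g hg]
    refine one_lt_card.mpr ⟨a x, ?_, a (a x), ?_, fun e => ?_⟩
    · simp only [mem_filter, mem_univ, true_and, a.apply_eq_iff_eq]
      rw [← e1]; simpa using e2
    · simp only [mem_filter, mem_univ, true_and, a.apply_eq_iff_eq]
      rw [← e0]; simpa using e1
    · simp [← a.injective e] at hx
  have hfix : ∀ u v, b u = u → b v = v → u = v := fun u v h1 h2 => by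
    by_contra e; exact no_swap hb' e (by rw [h1, h2])
  set A : Finset (Perm α) := {g : Perm α | Perm.sign g = 1} with hA
  have s1 : ∑ g ∈ A, F a (g * b * g⁻¹) = #A * k := by
    rw [sum_congr rfl fun g hg => hk g (by simpa [hA] using hg)]; simp
  have s2 : ∑ g ∈ A, F a (g * b * g⁻¹) =
      ∑ x, #{g : Perm α | Perm.sign g = 1 ∧ (g * b * g⁻¹) x = a⁻¹ x} := by
    simp only [F, card_filter]
    rw [sum_comm]
    refine sum_congr rfl fun x _ => ?_
    rw [hA, sum_filter]
    refine sum_congr rfl fun g _ => ?_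
    simp only [Perm.eq_inv_iff_eq, ite_and]
  have s3 : (Fintype.card α - 1) * (#A * k) ≤ Fintype.card α * #A := by
    rw [← s1, s2, mul_sum]
    refine (sum_le_sum fun x _ => avg h hfix x (a⁻¹ x)).trans ?_
    simp [hA]
  have s4 : 0 < #A := card_pos.mpr ⟨1, by simp [hA]⟩
  obtain ⟨m, hm⟩ : ∃ m, Fintype.card α = m + 1 := ⟨Fintype.card α - 1, by omega⟩
  rw [hm, Nat.add_sub_cancel] at s3
  have : 4 ≤ m := by omega
  nlinarith [Nat.mul_le_mul_left (m * #A) h2, Nat.mul_le_mul_right #A this]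

/-- Let n ≥ 5 and let a, b be non-identity permutations in the symmetric group S_n. Then the number of fixed points is not constant on the set of products a′b′ with a′ conjugate to a and b′ conjugate to b under the alternating group: there are even permutations g₁, h₁, g₂, h₂ such that (g₁ a g₁⁻¹)(h₁ b h₁⁻¹) and (g₂ a g₂⁻¹)(h₂ b h₂⁻¹) have different numbers of fixed points. -/
theorem result (n : ℕ) (hn : 5 ≤ n) (a b : Equiv.Perm (Fin n)) (ha : a ≠ 1) (hb : b ≠ 1) :
    ∃ g₁ h₁ g₂ h₂ : Equiv.Perm (Fin n), g₁ ∈ alternatingGroup (Fin n) ∧ h₁ ∈ alternatingGroup (Fin n) ∧ g₂ ∈ alternatingGroup (Fin n) ∧ h₂ ∈ alternatingGroup (Fin n) ∧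
      Nat.card (Function.fixedPoints ⇑(g₁ * a * g₁⁻¹ * (h₁ * b * h₁⁻¹))) ≠
        Nat.card (Function.fixedPoints ⇑(g₂ * a * g₂⁻¹ * (h₂ * b * h₂⁻¹))) := by
  by_contra! H
  have hc : 5 ≤ Fintype.card (Fin n) := by simpa using hn
  have e : ∀ a b : Perm (Fin n), Nat.card (Function.fixedPoints ⇑(a * b)) = F a b := fun a b => by
    rw [Nat.card_eq_fintype_card, Fintype.card_subtype]
    exact congrArg _ (filter_congr fun x _ => Iff.rfl)
  have hk : ∀ g, Perm.sign g = 1 → F a (g * b * g⁻¹) = F a b := fun g hg => by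
    have := H 1 g 1 1 (one_mem _) hg (one_mem _) (one_mem _)
    rw [e, e] at this
    simpa using this
  by_cases h1 : ∃ c, c * a = a * c ∧ Perm.sign c ≠ 1
  · obtain ⟨c, h1, h2⟩ := h1
    refine not_const hc ha hb (k := F a b) fun g => ?_
    by_cases hg : Perm.sign g = 1
    · exact hk g hg
    rw [← hk (c * g) (by simp [Int.units_ne_iff_eq_neg.mp hg, Int.units_ne_iff_eq_neg.mp h2]), ← F_conj a _ c, h1]
    simp [mul_assoc]
  by_cases h2 : ∃ c, c * b = b * c ∧ Perm.sign c ≠ 1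
  · obtain ⟨c, h1, h2⟩ := h2
    refine not_const hc ha hb (k := F a b) fun g => ?_
    by_cases hg : Perm.sign g = 1
    · exact hk g hg
    rw [← hk (g * c) (by simp [Int.units_ne_iff_eq_neg.mp hg, Int.units_ne_iff_eq_neg.mp h2]), mul_assoc g c b, h1]
    simp [mul_assoc]
  push_neg at h1 h2
  exact case_two hc ha hb h1 h2 hk

end Cfsg.Agent.S2271
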