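import Mathlib
import Cfsg.Statements.S2272
import Cfsg.Agent.Root.TS

set_option autoImplicit false
set_option backward.isDefEq.respectTransparency false
open Cfsg

namespace Cfsg.Agent.S2272

open Matrix Cfsg.Agent.Root Cfsg.Agent.Classical.Transv

section
variable {F : Type*} [Field F] {n : ℕ}

local notation "M" => Matrix (Fin (n + 3)) (Fin (n + 3)) F
local notation "S" => SpecialLinearGroup (Fin (n + 3)) F

/-- the largest conjugation invariant subspace of the kernel -/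
def KK (L : M →ₗ[F] F) : Submodule F M where
  carrier := {X | ∀ H : S, L (H.1 * X * (H⁻¹).1) = 0}
  add_mem' {X Y} hX hY H := by rw [mul_add, add_mul, map_add, hX H, hY H, add_zero]
  zero_mem' H := by simp
  smul_mem' c X hX H := by rw [mul_smul_comm, smul_mul_assoc, map_smul, hX H, smul_zero]

theorem KK_conj {L : M →ₗ[F] F} {X : M} (h : X ∈ KK L) (g : S) : g.1 * X * (g⁻¹).1 ∈ KK L := by
  intro H
  have := h (H * g)
  rw [_root_.mul_inv_rev, Matrix.SpecialLinearGroup.coe_mul, Matrix.SpecialLinearGroup.coe_mul] at this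
  rw [← this]; simp only [mul_assoc]

theorem conj_tv_coe (X : M) {v φ : Fin (n + 3) → F} (h : φ ⬝ᵥ v = 0) :
    (tv v φ h).1 * X * ((tv v φ h)⁻¹).1 = X + vecMulVec v (φ ᵥ* X) - vecMulVec (X *ᵥ v) φ -
      (φ ⬝ᵥ (X *ᵥ v)) • vecMulVec v φ := by
  rw [tv_inv, tv_coe, tv_coe, add_mul, one_mul, vecMulVec_mul, add_mul, mul_add, mul_add, mul_one,
    mul_one, mul_vecMulVec, vv_mul, vecMulVec_neg, vecMulVec_neg, ← dotProduct_mulVec]
  module

theorem KK_D {L : M →ₗ[F] F} {X : M} (h : X ∈ KK L) {v φ : Fin (n + 3) → F} (hφ : φ ⬝ᵥ v = 0) :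
    vecMulVec v (φ ᵥ* X) - vecMulVec (X *ᵥ v) φ - (φ ⬝ᵥ (X *ᵥ v)) • vecMulVec v φ ∈ KK L := by
  have := (KK L).sub_mem (KK_conj h (tv v φ hφ)) h
  rw [conj_tv_coe] at this
  convert this using 1
  abel

theorem KK_nil {L : M →ₗ[F] F} {B : M} (h : B ∈ KK L)
    (hB : ∃ v φ : Fin (n + 3) → F, φ ⬝ᵥ v = 0 ∧ φ ⬝ᵥ (B *ᵥ v) = 1)
    {z ψ : Fin (n + 3) → F} (hz : ψ ⬝ᵥ z = 0) : L (vecMulVec z ψ) = 0 := by
  by_cases z0 : z = 0
  · simp [z0]
  by_cases ψ0 : ψ = 0
  · simp [ψ0]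
  obtain ⟨v, φ, h1, h2⟩ := hB
  obtain ⟨χ, c0, c1, c2⟩ := exists_dot_zero_two (k := F) (ι := Fin (n + 3)) (by simp) v (B *ᵥ v)
  have v0 : v ≠ 0 := by rintro rfl; simp at h2
  have h3 := KK_D (KK_D h h1) c1
  simp only [vecMul_sub, vecMul_smul, vecMul_vecMulVec, sub_mulVec, smul_mulVec, vecMulVec_mulVec',
    c1, c2, h1, h2, zero_smul, sub_zero, smul_zero, ← dotProduct_mulVec, one_smul, vecMulVec_zero,
    zero_sub] at h3
  have h4 : vecMulVec v χ ∈ KK L := by simpa using h3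
  obtain ⟨g, g1, g2⟩ := exists_SL_pair c1 v0 c0
  obtain ⟨g', g3, g4⟩ := exists_SL_pair hz z0 ψ0
  have h5 := h4 (g' * g⁻¹)
  rw [mul_vecMulVec, vecMulVec_mul, _root_.mul_inv_rev, inv_inv, Matrix.SpecialLinearGroup.coe_mul,
    Matrix.SpecialLinearGroup.coe_mul, ← mulVec_mulVec, ← vecMul_vecMul, ← g1, ← g2, mulVec_mulVec _ _ g.1,
    vecMul_vecMul _ _ g.1, ← Matrix.SpecialLinearGroup.coe_mul, inv_mul_cancel, Matrix.SpecialLinearGroup.coe_one,
    one_mulVec, vecMul_one, g3, g4] at h5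
  exact h5

theorem exists_ne {A B : M} (hA : ∃ v φ : Fin (n + 3) → F, φ ⬝ᵥ v = 0 ∧ φ ⬝ᵥ (A *ᵥ v) = 1)
    (hB : ∃ v φ : Fin (n + 3) → F, φ ⬝ᵥ v = 0 ∧ φ ⬝ᵥ (B *ᵥ v) = 1) :
    ∃ H : S, (A * (H.1 * B * (H⁻¹).1)).trace ≠ 0 := by
  by_contra h
  push Not at h
  obtain ⟨v, φ, h1, h2⟩ := hA
  have := KK_nil (L := (traceLinearMap _ F F).comp (LinearMap.mulLeft F A)) h hB h1
  simp only [LinearMap.comp_apply, LinearMap.mulLeft_apply, traceLinearMap_apply, mul_vecMulVec,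
    trace_vecMulVec] at this
  rw [dotProduct_comm, h2] at this
  exact one_ne_zero this

theorem exists_eq {A B : M} (hA : ∃ v φ : Fin (n + 3) → F, φ ⬝ᵥ v = 0 ∧ φ ⬝ᵥ (A *ᵥ v) = 1)
    (hB : ∃ v φ : Fin (n + 3) → F, φ ⬝ᵥ v = 0 ∧ φ ⬝ᵥ (B *ᵥ v) = 1) :
    ∃ H : S, (A * (H.1 * B * (H⁻¹).1)).trace = 0 := by
  by_contra h
  push Not at h
  obtain ⟨v, ψ, h1, h2⟩ := hA
  obtain ⟨φ, c0, c1, c2⟩ := exists_dot_zero_two (k := F) (ι := Fin (n + 3)) (by simp) v (A *ᵥ v)
  let L : M →ₗ[F] F :=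
    { toFun := fun X => φ ⬝ᵥ (X *ᵥ (A *ᵥ v)) - φ ⬝ᵥ (A *ᵥ (X *ᵥ v))
      map_add' := fun X Y => by simp only [add_mulVec, mulVec_add, dotProduct_add]; ring
      map_smul' := fun c X => by
        simp only [smul_mulVec, mulVec_smul, dotProduct_smul, smul_eq_mul, RingHom.id_apply]; ring }
  have hK : B ∈ KK L := by
    intro H
    by_contra hL
    set X := H.1 * B * (H⁻¹).1 with hX
    have key : ∀ t : F, (A * X).trace + t * L X ≠ 0 := by
      intro t
      have ht : (t • φ) ⬝ᵥ v = 0 := by rw [smul_dotProduct, c1, smul_zero]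
      have := h (tv v (t • φ) ht * H)
      rw [_root_.mul_inv_rev, Matrix.SpecialLinearGroup.coe_mul, Matrix.SpecialLinearGroup.coe_mul,
        show (tv v (t • φ) ht).1 * H.1 * B * ((H⁻¹).1 * ((tv v (t • φ) ht)⁻¹).1) =
          (tv v (t • φ) ht).1 * X * ((tv v (t • φ) ht)⁻¹).1 by simp only [hX, mul_assoc],
        conj_tv_coe] at this
      convert this using 1
      simp only [mul_sub, mul_add, mul_smul_comm, mul_vecMulVec, trace_sub, trace_add, trace_smul,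
        trace_vecMulVec, L, LinearMap.coe_mk, AddHom.coe_mk, dotProduct_comm _ (t • φ),
        dotProduct_comm _ (_ ᵥ* X), ← dotProduct_mulVec, smul_dotProduct, smul_eq_mul, c2]
      ring
    apply key (-(A * X).trace / L X)
    field_simp
    ring
  obtain ⟨w, hw⟩ := exists_dot_right c0
  have := KK_nil hK hB (z := w - (ψ ⬝ᵥ w) • (A *ᵥ v)) (ψ := ψ)
    (by rw [dotProduct_sub, dotProduct_smul, h2]; simp)
  simp only [L, LinearMap.coe_mk, AddHom.coe_mk, vecMulVec_mulVec', h1, h2, one_smul, zero_smul,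
    mulVec_zero, dotProduct_zero, sub_zero, dotProduct_sub, dotProduct_smul, c2, smul_zero] at this
  exact hw this

theorem nonscalar {A : S} (hA : A ∉ Subgroup.center S) :
    ∃ v φ : Fin (n + 3) → F, φ ⬝ᵥ v = 0 ∧ φ ⬝ᵥ (A.1 *ᵥ v) = 1 := by
  by_contra h
  push Not at h
  have h' : ∀ v φ : Fin (n + 3) → F, φ ⬝ᵥ v = 0 → φ ⬝ᵥ (A.1 *ᵥ v) = 0 := fun v φ e => by
    by_contra e'
    exact h v ((φ ⬝ᵥ (A.1 *ᵥ v))⁻¹ • φ) (by rw [smul_dotProduct, e, smul_zero])
      (by rw [smul_dotProduct, smul_eq_mul, inv_mul_cancel₀ e'])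
  have h1 : ∀ i j, i ≠ j → A.1 i j = 0 := fun i j e => by
    simpa using h' (Pi.single j 1) (Pi.single i 1) (by simp [e])
  have h2 : ∀ i, A.1 i i = A.1 0 0 := fun i => by
    by_cases e : i = 0
    · rw [e]
    have := h' (Pi.single i 1 + Pi.single 0 1) (Pi.single i 1 - Pi.single 0 1)
      (by simp [sub_dotProduct, e, Ne.symm e])
    simp [sub_dotProduct, mulVec_add, h1 _ _ e, h1 _ _ (Ne.symm e)] at this
    linear_combination this
  have h3 : A.1 = scalar _ (A.1 0 0) := by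
    ext i j
    by_cases e : i = j
    · subst e; simp [h2 i]
    · simp [e, h1 i j e]
  apply hA
  rw [Subgroup.mem_center_iff]
  intro B
  apply Subtype.ext
  rw [Matrix.SpecialLinearGroup.coe_mul, Matrix.SpecialLinearGroup.coe_mul, h3]
  exact (scalar_commute _ (Commute.all _) B.1).symm

theorem trace_iff {X Y : S} (h : IsConj (QuotientGroup.mk X : S ⧸ Subgroup.center S) (QuotientGroup.mk Y)) :
    X.1.trace = 0 ↔ Y.1.trace = 0 := by
  obtain ⟨c, hc⟩ := isConj_iff.1 h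
  obtain ⟨C, rfl⟩ := QuotientGroup.mk_surjective c
  rw [← QuotientGroup.mk_inv, ← QuotientGroup.mk_mul, ← QuotientGroup.mk_mul, QuotientGroup.eq] at hc
  obtain ⟨r, hr, e⟩ := Matrix.SpecialLinearGroup.mem_center_iff.1 hc
  have r0 : r ≠ 0 := by rintro rfl; simp at hr
  have e1 : Y = C * X * C⁻¹ * ((C * X * C⁻¹)⁻¹ * Y) := by group
  have e2 : Y.1.trace = X.1.trace * r := by
    rw [e1, Matrix.SpecialLinearGroup.coe_mul, ← e, Matrix.SpecialLinearGroup.coe_mul, Matrix.SpecialLinearGroup.coe_mul,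
      scalar_apply, ← smul_one_eq_diagonal, mul_smul_comm, mul_one, trace_smul, trace_mul_cycle,
      ← Matrix.SpecialLinearGroup.coe_mul, inv_mul_cancel, Matrix.SpecialLinearGroup.coe_one, one_mul, smul_eq_mul,
      mul_comm]
  rw [e2]; simp [r0]

end

/-- Let F be a finite field and d ≥ 3, and let a, b be non-identity elements of PSL_d(F). Then the product of the conjugacy classes of a and b is not a single conjugacy class: there are conjugates a′ of a and b′ of b such that a′b′ is not conjugate to ab. -/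
theorem result {F : Type*} [Field F] [Fintype F] (d : ℕ) (hd : 3 ≤ d)
    (a b : Matrix.ProjectiveSpecialLinearGroup (Fin d) F) (ha : a ≠ 1) (hb : b ≠ 1) :
    ∃ g h : Matrix.ProjectiveSpecialLinearGroup (Fin d) F, ¬ IsConj (a * b) (g * a * g⁻¹ * (h * b * h⁻¹)) := by
  obtain ⟨n, rfl⟩ : ∃ n, d = n + 3 := ⟨d - 3, by omega⟩
  obtain ⟨A, rfl⟩ := QuotientGroup.mk_surjective a
  obtain ⟨B, rfl⟩ := QuotientGroup.mk_surjective b
  have hA := nonscalar (A := A) fun h => ha ((QuotientGroup.eq_one_iff _).2 h)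
  have hB := nonscalar (A := B) fun h => hb ((QuotientGroup.eq_one_iff _).2 h)
  by_contra h
  push Not at h
  have key : ∀ H : SpecialLinearGroup (Fin (n + 3)) F,
      (A * B).1.trace = 0 ↔ (A.1 * (H.1 * B.1 * (H⁻¹).1)).trace = 0 := fun H => by
    have := h 1 (QuotientGroup.mk H)
    rw [one_mul, inv_one, mul_one] at this
    exact trace_iff (X := A * B) (Y := A * (H * B * H⁻¹)) this
  obtain ⟨H, e⟩ := exists_ne hA hB
  obtain ⟨H', e'⟩ := exists_eq hA hB
  exact e ((key H).1 ((key H').2 e'))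

end Cfsg.Agent.S2272
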