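import Cfsg.Statements.S2277
import Cfsg.Agent.LocalEven.SylowIn
import Cfsg.Agent.BG.AmbHall2
import Cfsg.Agent.Core.SylowOf

set_option autoImplicit false
open Cfsg

namespace Cfsg.Agent.S2277

open Cfsg.Agent.LocalEven

open Subgroup

def fix {V P : Type*} [CommGroup V] [Group P] (f : P →* MulAut V) (c : P) : Subgroup V where
  carrier := {v | f c v = v}
  one_mem' := map_one _
  mul_mem' := fun {a b} ha hb => by
    simp only [Set.mem_setOf_eq] at *; rw [map_mul, ha, hb]
  inv_mem' := fun {a} ha => by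
    simp only [Set.mem_setOf_eq] at *; rw [map_inv, ha]

theorem lemB0 {V P : Type*} [CommGroup V] [Finite V] [Group P] [Finite P] {p : ℕ} [Fact p.Prime]
    (hP : IsPGroup p P) (hp3 : 3 ≤ p) (f : P →* MulAut V) (hf : Function.Injective f)
    (irr : ∀ U : Subgroup V, (∀ g, ∀ u ∈ U, f g u ∈ U) → U = ⊥ ∨ U = ⊤) [Nontrivial P] :
    ∃ P₀ : Subgroup P, P₀ ≠ ⊤ ∧ ∀ c, c ∉ P₀ → Nat.card (fix f c) ^ 3 ≤ Nat.card V := by
  have hz : ∀ z ∈ center P, z ≠ 1 → ∀ v, f z v = v → v = 1 := by
    intro z hz hz1 v hv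
    rcases irr (fix f z) (fun g u hu => by
      change f z (f g u) = f g u
      change f z u = u at hu
      rw [← MulAut.mul_apply, ← map_mul, ← mem_center_iff.1 hz g, map_mul, MulAut.mul_apply, hu]) with h | h
    · have : v ∈ fix f z := hv
      rw [h] at this; exact mem_bot.1 this
    · exfalso; apply hz1; apply hf; rw [map_one]; ext w
      have : w ∈ fix f z := h ▸ mem_top w
      exact this
  have hsq : ∀ z : P, z ≠ 1 → z * z ≠ 1 := by
    intro z hz1 h2
    obtain ⟨k, hk⟩ := hP z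
    apply hz1
    have h2' : z ^ 2 = 1 := by rw [pow_two, h2]
    have hc : Nat.Coprime 2 (p ^ k) := by
      apply Nat.Coprime.pow_right
      exact (Nat.coprime_primes Nat.prime_two Fact.out).2 (by omega)
    exact (pow_eq_one_iff_of_coprime hc).1 ⟨h2', hk⟩
  by_cases hab : center P = ⊤
  · refine ⟨⊥, bot_ne_top, fun c hc => ?_⟩
    have : fix f c = ⊥ := by
      rw [eq_bot_iff]; intro v hv
      exact mem_bot.2 (hz c (hab ▸ mem_top c) (fun h => hc (mem_bot.2 h)) v hv)
    rw [this, card_bot, one_pow]; exact Nat.card_pos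
  haveI : Nontrivial (P ⧸ center P) := by
    rw [QuotientGroup.nontrivial_iff]; exact hab
  haveI := (hP.to_quotient (center P)).center_nontrivial
  obtain ⟨⟨e', he'⟩, hne⟩ := exists_ne (1 : center (P ⧸ center P))
  obtain ⟨e, rfl⟩ := QuotientGroup.mk_surjective e'
  have he1 : e ∉ center P := fun h => hne (Subtype.ext ((QuotientGroup.eq_one_iff e).2 h))
  have he2 : ∀ c, e * c * e⁻¹ * c⁻¹ ∈ center P := by
    intro c
    rw [← QuotientGroup.eq_one_iff]
    have := mem_center_iff.1 he' (c : P ⧸ center P)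
    simp only [QuotientGroup.mk_mul, QuotientGroup.mk_inv]
    rw [← this]; group
  refine ⟨centralizer {e}, fun h => he1 ?_, fun c hc => ?_⟩
  · rw [mem_center_iff]; intro g
    have : g ∈ centralizer ({e} : Set P) := h ▸ mem_top g
    exact (mem_centralizer_singleton_iff.1 this)
  set z := e * c * e⁻¹ * c⁻¹ with hzd
  have hzc : z ∈ center P := he2 c
  have hz1 : z ≠ 1 := by
    intro h; apply hc; rw [mem_centralizer_singleton_iff]
    have : e * c * e⁻¹ * c⁻¹ * (c * e) = c * e := by rw [← hzd, h, one_mul]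
    rw [← this]; group
  have hec : z * c * e = e * c := by rw [hzd]; group
  have hec2 : z * z * c * (e * e) = e * e * c := by
    have h1 := mem_center_iff.1 hzc e
    calc z * z * c * (e * e) = z * (z * c * e) * e := by group
      _ = (z * e) * c * e := by rw [hec]; group
      _ = e * (z * c * e) := by rw [← h1]; group
      _ = e * e * c := by rw [hec]; group
  clear_value z
  let φ : (fix f c) × (fix f c) × (fix f c) →* V :=
    { toFun := fun u => u.1 * f e u.2.1 * f (e * e) u.2.2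
      map_one' := by simp
      map_mul' := fun a b => by
        simp only [Prod.fst_mul, Prod.snd_mul, coe_mul, map_mul]
        simp only [mul_assoc, mul_left_comm, mul_comm] }
  have hφ : Function.Injective φ := by
    rw [injective_iff_map_eq_one]
    rintro ⟨⟨u0, h0⟩, ⟨u1, h1⟩, ⟨u2, h2⟩⟩ h
    change u0 * f e u1 * f (e * e) u2 = 1 at h
    change f c u0 = u0 at h0
    change f c u1 = u1 at h1
    change f c u2 = u2 at h2
    set w1 := f e u1 with hw1d
    set w2 := f (e * e) u2 with hw2d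
    have hw1 : f z (f c w1) = w1 := by
      rw [hw1d, ← MulAut.mul_apply, ← MulAut.mul_apply, ← map_mul, ← map_mul, hec, map_mul,
        MulAut.mul_apply, h1]
    have hw2 : f z (f z (f c w2)) = w2 := by
      rw [hw2d, ← MulAut.mul_apply, ← MulAut.mul_apply, ← MulAut.mul_apply, ← map_mul, ← map_mul,
        ← map_mul, hec2, map_mul, MulAut.mul_apply, h2]
    have g1 : w1 = 1 → u1 = 1 := fun f1 => (MulEquiv.map_eq_one_iff _).1 f1
    have g2 : w2 = 1 → u2 = 1 := fun f1 => (MulEquiv.map_eq_one_iff _).1 f1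
    clear_value w1 w2
    have hcz : ∀ v, f c (f z v) = f z (f c v) := fun v => by
      rw [← MulAut.mul_apply, ← map_mul, mem_center_iff.1 hzc c, map_mul, MulAut.mul_apply]
    have h' := congrArg (f c) h
    rw [map_mul, map_mul, map_one, h0] at h'
    -- a = c w1 / w1, b = c w2 / w2, a * b = 1
    set a := f c w1 * w1⁻¹ with ha
    set b := f c w2 * w2⁻¹ with hb
    have hab : a * b = 1 := by
      have : a * b = (u0 * f c w1 * f c w2) * (u0 * w1 * w2)⁻¹ := by
        rw [ha, hb]; simp only [mul_inv, mul_assoc, mul_left_comm, mul_comm]; group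
      rw [this, h, h']; simp
    have ha' : f z (f c a) = a := by
      rw [ha, map_mul, map_mul, map_inv, map_inv, hw1, ← hcz, hw1]
    have hb' : f z (f z (f c b)) = b := by
      rw [hb, map_mul, map_mul, map_mul, map_inv, map_inv, map_inv, hw2, ← hcz, ← hcz, hw2]
    have hba : b = a⁻¹ := eq_inv_of_mul_eq_one_right hab
    have hb'' : f z (f c b) = b := by rw [hba, map_inv, map_inv, ha']
    have hb1 : b = 1 := hz z hzc hz1 b (by rw [hb''] at hb'; exact hb')
    have ha1 : a = 1 := by rw [hb1, mul_one] at hab; exact hab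
    have e1 : f c w1 = w1 := mul_inv_eq_one.1 ha1
    have e2 : f c w2 = w2 := mul_inv_eq_one.1 hb1
    have f1 : w1 = 1 := hz z hzc hz1 w1 (by rw [e1] at hw1; exact hw1)
    have f2 : w2 = 1 := hz (z * z) (mul_mem hzc hzc) (hsq z hz1) w2 (by
      rw [e2] at hw2; rw [map_mul, MulAut.mul_apply]; exact hw2)
    have g1 := g1 f1
    have g2 := g2 f2
    have g0 : u0 = 1 := by rw [f1, f2] at h; simpa using h
    exact Prod.ext (Subtype.ext g0) (Prod.ext (Subtype.ext g1) (Subtype.ext g2))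
  have := Nat.card_le_card_of_injective φ hφ
  rw [Nat.card_prod, Nat.card_prod] at this
  calc _ = Nat.card (fix f c) * (Nat.card (fix f c) * Nat.card (fix f c)) := by ring
    _ ≤ _ := this

theorem lemB {V P : Type*} [CommGroup V] [Finite V] [Group P] [Finite P] {p : ℕ} [Fact p.Prime]
    (hP : IsPGroup p P) (hp3 : 3 ≤ p) (f : P →* MulAut V)
    (irr : ∀ U : Subgroup V, (∀ g, ∀ u ∈ U, f g u ∈ U) → U = ⊥ ∨ U = ⊤) (C D : Set P)
    (hC : closure C = ⊤) (hD : closure D = ⊤)
    (hF : ∀ c ∈ C, ∀ d ∈ D, ∀ v, ∃ a b, f d a = a ∧ f c b = b ∧ v = a * b) (g : P) : f g = 1 := by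
  by_contra hg
  haveI : Nontrivial f.range := ⟨⟨⟨f g, g, rfl⟩, 1, fun h => hg (congrArg Subtype.val h)⟩⟩
  obtain ⟨P₀, h0, h1⟩ := lemB0 (hP.of_surjective f.rangeRestrict f.rangeRestrict_surjective) hp3
    f.range.subtype f.range.subtype_injective (fun U hU => irr U fun g u hu => hU ⟨f g, g, rfl⟩ u hu)
  have key : ∀ E : Set P, closure E = ⊤ → ∃ c ∈ E, f.rangeRestrict c ∉ P₀ := by
    intro E hE
    by_contra hn
    push Not at hn
    apply h0
    rw [eq_top_iff]
    intro x _
    obtain ⟨y, rfl⟩ := f.rangeRestrict_surjective x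
    have : closure E ≤ P₀.comap f.rangeRestrict := (closure_le _).2 hn
    exact this (hE ▸ mem_top y)
  obtain ⟨c, hc, hc0⟩ := key C hC
  obtain ⟨d, hd, hd0⟩ := key D hD
  have e1 := h1 _ hc0
  have e2 := h1 _ hd0
  set X := fix f.range.subtype (f.rangeRestrict c)
  set Y := fix f.range.subtype (f.rangeRestrict d)
  have e3 : Nat.card V ≤ Nat.card Y * Nat.card X := by
    rw [← Nat.card_prod]
    refine Nat.card_le_card_of_surjective (fun u : Y × X => (u.1 : V) * u.2) fun v => ?_
    obtain ⟨a, b, ha, hb, rfl⟩ := hF c hc d hd v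
    exact ⟨(⟨a, ha⟩, ⟨b, hb⟩), rfl⟩
  have e4 : Nat.card V ^ 3 ≤ Nat.card V ^ 2 := by
    calc Nat.card V ^ 3 ≤ (Nat.card Y * Nat.card X) ^ 3 := Nat.pow_le_pow_left e3 3
      _ = Nat.card Y ^ 3 * Nat.card X ^ 3 := by ring
      _ ≤ Nat.card V * Nat.card V := Nat.mul_le_mul e2 e1
      _ = _ := by ring
  have e5 : Nat.card V ≤ 1 := by
    by_contra hn
    have : Nat.card V ^ 2 < Nat.card V ^ 3 := Nat.pow_lt_pow_right (by omega) (by omega)
    omega
  haveI : Subsingleton V := Finite.card_le_one_iff_subsingleton.1 e5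
  exact hg (by ext v; exact Subsingleton.elim _ _)

/-- The action on a section. -/
def secAct {G : Type*} [Group G] {P V K : Subgroup G} [(K.subgroupOf V).Normal]
    (hV : P ≤ normalizer (V : Set G)) (hK : P ≤ normalizer (K : Set G)) :
    P →* MulAut (V ⧸ K.subgroupOf V) :=
  MonoidHom.mk' (fun g => QuotientGroup.congr _ _ (V.normalizerMonoidHom ⟨g, hV g.2⟩) (by
    ext x
    simp only [mem_map, mem_subgroupOf]
    constructor
    · rintro ⟨y, hy, rfl⟩
      exact conj_mem_of_mem_normalizer (hK g.2) hy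
    · intro hx
      refine ⟨⟨(g : G)⁻¹ * x * g, inv_conj_mem_of_mem_normalizer (hV g.2) x.2⟩,
        inv_conj_mem_of_mem_normalizer (hK g.2) hx, Subtype.ext ?_⟩
      change (g : G) * ((g : G)⁻¹ * x * g) * (g : G)⁻¹ = x
      group)) (by
    intro a b
    ext x
    obtain ⟨y, rfl⟩ := QuotientGroup.mk_surjective x
    change ((_ : V) : V ⧸ K.subgroupOf V) = ((_ : V) : V ⧸ K.subgroupOf V)
    congr 1
    apply Subtype.ext
    change ((a : G) * b) * y * ((a : G) * b)⁻¹ = a * (b * y * (b : G)⁻¹) * (a : G)⁻¹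
    group)

theorem secAct_mk {G : Type*} [Group G] {P V K : Subgroup G} [(K.subgroupOf V).Normal]
    (hV : P ≤ normalizer (V : Set G)) (hK : P ≤ normalizer (K : Set G)) (g : P) (x : V) :
    secAct hV hK g (x : V ⧸ K.subgroupOf V) =
      ((⟨g * x * (g : G)⁻¹, conj_mem_of_mem_normalizer (hV g.2) x.2⟩ : V) : V ⧸ K.subgroupOf V) := rfl

/-- Let p ≥ 3 be prime and G a finite group with a Sylow p-subgroup P and a normal p-complement N (N normal, of order prime to p, with NP = G). Suppose P is generated by a subset C and also by a subset D, and that ⟨x c x⁻¹, d⟩ is a p-group for all x ∈ N, c ∈ C, d ∈ D. Then P centralizes N, so that G = N × P. -/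
theorem result {G : Type*} [Group G] [Finite G] (p : ℕ) [Fact p.Prime] (hp3 : 3 ≤ p) (P : Sylow p G)
    (N : Subgroup G) [N.Normal] (hN : (Nat.card N).Coprime p) (hNP : N ⊔ (P : Subgroup G) = ⊤)
    (C D : Set G) (hC : Subgroup.closure C = (P : Subgroup G)) (hD : Subgroup.closure D = (P : Subgroup G))
    (h : ∀ x ∈ N, ∀ c ∈ C, ∀ d ∈ D, IsPGroup p ↥(Subgroup.closure ({x * c * x⁻¹, d} : Set G))) :
    ⁅(P : Subgroup G), N⁆ = ⊥ := by
  by_contra hne
  have hPN : (P : Subgroup G) ⊓ N = ⊥ := by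
    obtain ⟨k, hk⟩ := (IsPGroup.iff_card (p := p)).1 P.2
    exact (inf_eq_bot_of_coprime (by rw [hk]; exact hN.symm.pow_left k))
  have hcop : ∀ V ≤ N, (Nat.card V).Coprime (Nat.card (P : Subgroup G)) := by
    intro V hV
    obtain ⟨k, hk⟩ := (IsPGroup.iff_card (p := p)).1 P.2
    rw [hk]; exact (hN.coprime_dvd_left (card_dvd_of_le hV)).pow_right k
  have hCP : ∀ c ∈ C, c ∈ (P : Subgroup G) := fun c hc => hC ▸ subset_closure hc
  have hDP : ∀ c ∈ D, c ∈ (P : Subgroup G) := fun c hc => hD ▸ subset_closure hc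
  have hF : ∀ V ≤ N, (P : Subgroup G) ≤ normalizer (V : Set G) → ∀ c ∈ C, ∀ d ∈ D, ∀ x ∈ V,
      ∃ a ∈ V, ∃ b ∈ V, d * a * d⁻¹ = a ∧ c * b * c⁻¹ = b ∧ x = a * b := by
    intro V hV hn c hc d hd x hx
    have hS : IsSylowIn p (P : Subgroup G) (V ⊔ P) := isSylowIn_of_sylow_le P le_sup_right
    obtain ⟨y, hy, hle⟩ := hS.exists_cj_le (h x (hV hx) c hc d hd) (by
      rw [closure_le]
      rintro _ (rfl | rfl)
      · exact mul_mem (mul_mem (mem_sup_left hx) (mem_sup_right (hCP c hc))) (mem_sup_left (inv_mem hx))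
      · exact mem_sup_right (hDP _ hd))
    rw [sup_comm] at hy
    obtain ⟨r, hr, n, hn', rfl⟩ := (mem_sup_iff_of_le_normalizer hn).1 hy
    have hle' : cj n (closure {x * c * x⁻¹, d}) ≤ P := by
      rw [cj_mul, cj_le_iff, cj_eq_of_mem ((P : Subgroup G).inv_mem hr)] at hle; exact hle
    have fixl : ∀ u ∈ (P : Subgroup G), ∀ m ∈ N, m * u * m⁻¹ ∈ (P : Subgroup G) → m * u * m⁻¹ = u := by
      intro u hu m hm hmu
      have : m * u * m⁻¹ * u⁻¹ ∈ (P : Subgroup G) ⊓ N := by
        refine ⟨(P : Subgroup G).mul_mem hmu ((P : Subgroup G).inv_mem hu), ?_⟩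
        have := (‹N.Normal›.conj_mem _ (N.inv_mem hm) u)
        have h2 := N.mul_mem hm this
        simpa [mul_assoc] using h2
      rw [hPN] at this
      exact mul_inv_eq_one.1 (mem_bot.1 this)
    have h1 := fixl d (hDP d hd) n (hV hn') (hle' (conj_mem_cj (subset_closure (by simp))))
    have h2 := fixl c (hCP c hc) (n * x) (hV (mul_mem hn' hx)) (by
      have := hle' (conj_mem_cj (g := n) (subset_closure (k := {x * c * x⁻¹, d}) (Set.mem_insert _ _)))
      convert this using 1; group)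
    refine ⟨n⁻¹, inv_mem hn', n * x, mul_mem hn' hx, ?_, ?_, by group⟩
    · calc d * n⁻¹ * d⁻¹ = n⁻¹ * (n * d * n⁻¹) * d⁻¹ := by group
        _ = n⁻¹ := by rw [h1]; group
    · calc c * (n * x) * c⁻¹ = (n * x * c * (n * x)⁻¹) * (n * x) * c⁻¹ := by rw [h2]
        _ = n * x := by group
  -- minimal invariant subgroup not centralized
  obtain ⟨V, ⟨hVN, hVn, hVc⟩, hmin⟩ := exists_minimal_of_wellFoundedLT
    (fun V : Subgroup G => V ≤ N ∧ (P : Subgroup G) ≤ normalizer (V : Set G) ∧
      ¬ (P : Subgroup G) ≤ centralizer (V : Set G))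
    ⟨N, le_rfl, le_normalizer_of_normal, fun h => hne (commutator_eq_bot_iff_le_centralizer.2 h)⟩
  have hsmall : ∀ U < V, (P : Subgroup G) ≤ normalizer (U : Set G) →
      (P : Subgroup G) ≤ centralizer (U : Set G) := by
    intro U hU hn
    by_contra hc
    exact hU.not_ge (hmin ⟨hU.le.trans hVN, hn, hc⟩ hU.le)
  have hPs : Group.IsSolvable (P : Subgroup G) := Core.solvable_of_isPGroup P.2
  have hder : ⁅V, V⁆ < V := by
    by_contra hn
    apply hVc
    refine BG.Amb.le_cent_of_forall_sylow fun q hq _ => ?_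
    haveI := Fact.mk hq
    obtain ⟨S, hS, hRS⟩ := Core.exists_invariant_isSylowOf _ V hVn (hcop V hVN).symm (Or.inl hPs) q
    refine ⟨S, BG.Amb.sylow_mk hS.le hS.isPGroup hS.not_dvd, hsmall S (lt_of_le_of_ne hS.le fun h => hn ?_) hRS⟩
    have hq : IsPGroup q V := h ▸ hS.isPGroup
    have hVb : V ≠ ⊥ := fun h => hVc (by rw [h, ← le_centralizer_iff]; exact bot_le)
    haveI : Nontrivial V := (nontrivial_iff_ne_bot V).2 hVb
    haveI := Core.solvable_of_isPGroup hq
    have := IsSolvable.commutator_lt_top_of_nontrivial V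
    rw [← map_subtype_commutator]
    refine lt_of_le_of_ne (map_subtype_le _) fun h => this.ne ?_
    rw [eq_top_iff]; intro x _
    exact mem_map_subtype.1 (by rw [h]; exact x.2)
  obtain ⟨K, ⟨hK1, hK2, hK3⟩, hmax⟩ := exists_maximal_of_wellFoundedGT
    (fun K : Subgroup G => ⁅V, V⁆ ≤ K ∧ K < V ∧ (P : Subgroup G) ≤ normalizer (K : Set G))
    ⟨⁅V, V⁆, le_rfl, hder, le_normalizer_commutator hVn hVn⟩
  have hcm : _root_.commutator V ≤ K.subgroupOf V := by
    rw [subgroupOf, ← map_le_iff_le_comap, map_subtype_commutator]; exact hK1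
  haveI : (K.subgroupOf V).Normal := Normal.of_commutator_le _ hcm
  letI : CommGroup (V ⧸ K.subgroupOf V) :=
    { (inferInstance : Group (V ⧸ K.subgroupOf V)) with
      mul_comm := (Normal.quotient_commutative_iff_commutator_le.2 hcm).is_comm.comm }
  have hall := lemB P.2 hp3 (secAct hVn hK3) (fun U hU => ?_) (Subtype.val ⁻¹' C) (Subtype.val ⁻¹' D)
    ?_ ?_ ?_
  · apply hVc
    refine Core.le_centralizer_of_commutator_le_of_centralizes _ V K (hcop K (hK2.le.trans hVN)).symm
      (hsmall K hK2 hK3) (commutator_le.2 fun x hx g hg => ?_)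
    have := congrArg (fun σ : MulAut (V ⧸ K.subgroupOf V) => σ ((⟨x⁻¹, inv_mem hx⟩ : V) : _)) (hall ⟨g, hg⟩)
    simp only [MulAut.one_apply] at this
    rw [secAct_mk, eq_comm, QuotientGroup.eq, mem_subgroupOf] at this
    simpa [commutatorElement_def, mul_assoc] using this
  · set U' := (U.comap (QuotientGroup.mk' (K.subgroupOf V))).map V.subtype with hU'
    have hKU : K ≤ U' := fun x hx => ⟨⟨x, hK2.le hx⟩, by
      change ((⟨x, hK2.le hx⟩ : V) : V ⧸ K.subgroupOf V) ∈ U
      rw [(QuotientGroup.eq_one_iff _).2 (mem_subgroupOf.2 hx)]; exact one_mem _, rfl⟩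
    have hUn : (P : Subgroup G) ≤ normalizer (U' : Set G) := le_normalizer_of_cj_le fun g hg => by
      rw [cj_le_iff']
      rintro _ ⟨y, hy, rfl⟩
      exact ⟨⟨g * y * g⁻¹, conj_mem_of_mem_normalizer (hVn hg) y.2⟩, hU ⟨g, hg⟩ _ hy, rfl⟩
    rcases (map_subtype_le _ : U' ≤ V).lt_or_eq with hlt | heq
    · left
      have := hmax ⟨hK1.trans hKU, hlt, hUn⟩ hKU
      rw [eq_bot_iff]
      intro u hu
      obtain ⟨y, rfl⟩ := QuotientGroup.mk_surjective u
      exact mem_bot.2 ((QuotientGroup.eq_one_iff _).2 (mem_subgroupOf.2 (this ⟨y, hu, rfl⟩)))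
    · right
      rw [eq_top_iff]
      intro u _
      obtain ⟨y, rfl⟩ := QuotientGroup.mk_surjective u
      have : (y : G) ∈ U' := by rw [hU', heq]; exact y.2
      exact mem_map_subtype.1 this
  · have := closure_preimage_eq_top C
    rw [hC] at this; exact this
  · have := closure_preimage_eq_top D
    rw [hD] at this; exact this
  · intro c hc d hd v
    obtain ⟨y, rfl⟩ := QuotientGroup.mk_surjective v
    obtain ⟨a, ha, b, hb, h1, h2, h3⟩ := hF V hVN hVn c hc d hd y y.2
    refine ⟨((⟨a, ha⟩ : V) : _), ((⟨b, hb⟩ : V) : _), ?_, ?_, ?_⟩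
    · rw [secAct_mk]; congr 1; exact Subtype.ext h1
    · rw [secAct_mk]; congr 1; exact Subtype.ext h2
    · rw [← QuotientGroup.mk_mul]; congr 1; exact Subtype.ext h3

end Cfsg.Agent.S2277
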