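import Mathlib
import Cfsg.Statements.S2468
import Cfsg.Agent.Spc.PGA
-- import your own Cfsg.Agent.* helpers here

set_option autoImplicit false
open Cfsg

namespace Cfsg.Agent.S2468

open Cfsg.Agent.Spc Cfsg.Agent.Conj Module

/-- Adjacency of two odd primes in the prime graph of PSL(n,q): let F be a finite field of characteristic p with q elements, n ≥ 2 with PSL(n,F) simple, and let r ≠ s be odd primes different from p dividing the order of PSL(n,F). Let k and l be the multiplicative orders of q modulo r and modulo s, and suppose 2 ≤ k ≤ l. Then PSL(n,F) has NO element of order r·s if and only if k + l > n and k does not divide l. -/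
theorem result {F : Type*} [Field F] [Fintype F] (p : ℕ) [Fact p.Prime] [CharP F p] (n : ℕ) (hn : 2 ≤ n) (hsmall : n = 2 → 4 ≤ Fintype.card F)
    (r s : ℕ) (hr : r.Prime) (hs : s.Prime) (hr2 : r ≠ 2) (hs2 : s ≠ 2) (hrp : r ≠ p) (hsp : s ≠ p) (hrs : r ≠ s)
    (hrG : r ∣ Nat.card (Matrix.ProjectiveSpecialLinearGroup (Fin n) F)) (hsG : s ∣ Nat.card (Matrix.ProjectiveSpecialLinearGroup (Fin n) F))
    (k l : ℕ) (hk : k = orderOf ((Fintype.card F : ℕ) : ZMod r)) (hl : l = orderOf ((Fintype.card F : ℕ) : ZMod s))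
    (h2k : 2 ≤ k) (hkl : k ≤ l) :
    (r * s ∉ Set.range (orderOf : Matrix.ProjectiveSpecialLinearGroup (Fin n) F → ℕ)) ↔ (n < k + l ∧ ¬ k ∣ l) := by
  haveI := Fact.mk hr
  haveI := Fact.mk hs
  have r0 : (r : F) ≠ 0 := natCast_ne_zero_of_ne hr hrp
  have s0 : (s : F) ≠ 0 := natCast_ne_zero_of_ne hs hsp
  have rs0 : ((r * s : ℕ) : F) ≠ 0 := by rw [Nat.cast_mul]; exact mul_ne_zero r0 s0
  have hc := (Nat.coprime_primes hr hs).2 hrs
  have hcop : (r * s).Coprime (Nat.card F - 1) := by
    rw [Nat.card_eq_fintype_card]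
    exact Nat.Coprime.mul_left (coprime_sub_one_of_two_le hr Fintype.card_pos (by omega))
      (coprime_sub_one_of_two_le hs Fintype.card_pos (by omega))
  have hln : l ≤ n := hl ▸ orderOf_le_of_dvd_psl (by omega) hs s0 hsG
  rw [← not_iff_not, not_not, not_and_or, not_lt, not_not]
  constructor
  · intro h
    obtain ⟨f, hf⟩ := psl_lift (by omega) h hcop
    have h1 := (hf _).2 dvd_rfl
    have := two_primes_A (inj_frob (AlgebraicClosure F) F) (ev_frob' _ f) hr hs hrs
      (fun z hz => pow_eq_one_of_mem_ev _ h1 hz)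
      (exists_ev_pow_ne _ rs0 h1 fun h => hr.one_lt.ne' (Nat.dvd_one.1
        ((Nat.mul_dvd_mul_iff_right hs.pos).1 (by simpa using (hf _).1 h))))
      (exists_ev_pow_ne _ rs0 h1 fun h => hs.one_lt.ne' (Nat.dvd_one.1
        ((Nat.mul_dvd_mul_iff_left hr.pos).1 (by simpa using (hf _).1 h))))
      (by simpa [← hk, ← hl] using hkl)
    simpa [← hk, ← hl, card_ev] using this
  · rintro (h | h)
    · obtain ⟨f, hf⟩ := exists_gl_prim r0 (d := k) (by omega) (by rw [hk, pow_orderOf_eq_one])
      obtain ⟨g, hg⟩ := exists_gl_prim s0 (d := l) (by omega) (by rw [hl, pow_orderOf_eq_one])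
      have := prodMap_one_iff (W := Fin (n - (k + l)) → F) (prodMap_iff hf hg hc)
      exact psl_mem (by simp; omega) (by omega) ((this _).2 dvd_rfl) (mul_ne_zero hr.ne_zero hs.ne_zero) hcop
        fun m => (this m).1
    · obtain ⟨f, hf⟩ := exists_gl_prim rs0 (d := l) (by omega) (by
        apply (ZMod.chineseRemainder hc).injective
        rw [map_pow, map_natCast, map_one]
        ext
        · simpa [← orderOf_dvd_iff_pow_eq_one, ← hk] using h
        · simp [← orderOf_dvd_iff_pow_eq_one, ← hl])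
      have := prodMap_one_iff (W := Fin (n - l) → F) hf
      exact psl_mem (by simp; omega) (by omega) ((this _).2 dvd_rfl) (mul_ne_zero hr.ne_zero hs.ne_zero) hcop
        fun m => (this m).1

end Cfsg.Agent.S2468
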