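import Mathlib
import Cfsg.Statements.S2470
import Cfsg.Agent.Spc.Prj
-- import your own Cfsg.Agent.* helpers here

set_option autoImplicit false
open Cfsg

namespace Cfsg.Agent.S2470

open Cfsg.Agent.Spc Cfsg.Agent.Conj Cfsg.Agent.Spec Module

/-- Adjacency of an odd prime and the characteristic in the prime graph of PSL(n,q): let F be a finite field of characteristic p with q elements, n ≥ 2 with PSL(n,F) simple, and let r ≠ p be an odd prime dividing the order of PSL(n,F), with k the multiplicative order of q modulo r. Then PSL(n,F) has NO element of order r·p if and only if either k > n − 2, or n = 3, r = 3 and 3 divides q − 1 exactly once. -/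
theorem result {F : Type*} [Field F] [Fintype F] (p : ℕ) [Fact p.Prime] [CharP F p] (n : ℕ) (hn : 2 ≤ n) (hsmall : n = 2 → 4 ≤ Fintype.card F)
    (r : ℕ) (hr : r.Prime) (hr2 : r ≠ 2) (hrp : r ≠ p) (hrG : r ∣ Nat.card (Matrix.ProjectiveSpecialLinearGroup (Fin n) F))
    (k : ℕ) (hk : k = orderOf ((Fintype.card F : ℕ) : ZMod r)) :
    (r * p ∉ Set.range (orderOf : Matrix.ProjectiveSpecialLinearGroup (Fin n) F → ℕ)) ↔
      (n - 2 < k ∨ (n = 3 ∧ r = 3 ∧ 3 ∣ Fintype.card F - 1 ∧ ¬ 9 ∣ Fintype.card F - 1)) := by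
  classical
  haveI := Fact.mk hr
  have hp : p.Prime := Fact.out
  have r0 : (r : F) ≠ 0 := natCast_ne_zero_of_ne hr hrp
  have hc := (Nat.coprime_primes hr hp).2 hrp
  have hk0 : 0 < k := hk ▸ orderOf_zmod_pos (card_ne_zero_of_ne hr r0)
  by_cases h2 : 2 ≤ k
  · rw [psl_char_prime p (by omega) hr hrp (hk ▸ h2), ← hk]
    constructor
    · intro h; left; omega
    · rintro (h | ⟨-, rfl, h, -⟩)
      · omega
      · exact absurd h ((Nat.Prime.coprime_iff_not_dvd hr).1
          (coprime_sub_one_of_two_le hr Fintype.card_pos (hk ▸ h2)))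
  have hd : r ∣ Fintype.card F - 1 := dvd_sub_one_of_orderOf Fintype.card_pos (by omega)
  obtain ⟨u, -, u1, u2⟩ := exists_tv F p
  constructor
  · intro h
    by_contra hc'
    push Not at hc'
    apply h
    rcases Nat.lt_or_ge n 4 with h4 | h4
    · obtain rfl : n = 3 := by omega
      obtain ⟨a, ha, ha'⟩ : ∃ a : F, a ≠ 0 ∧ IsPrimitiveRoot (a ^ 3) r := by
        by_cases h3 : r = 3
        · subst h3
          obtain ⟨a, ha⟩ := exists_prim_of_dvd (F := F) (N := 9)
            (by rw [Nat.card_eq_fintype_card]; exact hc'.2 rfl rfl hd)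
          exact ⟨a, ha.ne_zero (by norm_num), ha.pow (by norm_num) (by norm_num)⟩
        · obtain ⟨a, ha⟩ := exists_prim_of_dvd (F := F) (N := r) (by rw [Nat.card_eq_fintype_card]; exact hd)
          exact ⟨a, ha.ne_zero hr.ne_zero, ha.pow_of_coprime 3 ((Nat.coprime_primes Nat.prime_three hr).2 (Ne.symm h3))⟩
      refine mem_spec_psl_of (V := (Fin 1 ⊕ Fin 1 → F) × (Fin 1 → F)) (by simp)
        (g := (a • u).prodMap ((a ^ 2)⁻¹ • (1 : End F (Fin 1 → F)))) ?_ ?_
      · rw [det_prodMap', det_smul', det_smul', det_unip u1, det_one']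
        simp [ha]
      · rintro m ⟨c, hm⟩
        obtain ⟨h1, h3⟩ := prodMap_pow_smul.1 hm
        obtain ⟨h5, h6⟩ := smul_unip_pow u1 ha h1
        refine hc.mul_dvd_of_dvd_of_dvd ((ha'.pow_eq_one_iff_dvd m).1 ?_) ((u2 m).1 h6)
        have := smul_one_pow h3
        rw [← h5, inv_pow, ← mul_eq_one_iff_inv_eq₀ (pow_ne_zero _ (pow_ne_zero _ ha)), ← mul_pow] at this
        rw [← this]; ring
    · obtain ⟨a, ha⟩ := exists_prim_of_dvd (F := F) (N := r) (by rw [Nat.card_eq_fintype_card]; exact hd)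
      have ha0 := ha.ne_zero hr.ne_zero
      refine mem_spec_psl_of (V := (((Fin 1 ⊕ Fin 1 → F) × (Fin 1 → F)) × (Fin 1 → F)) × (Fin (n - 4) → F))
        (by simp; omega) (g := ((((1 : F) • u).prodMap (a • (1 : End F (Fin 1 → F)))).prodMap
          (a⁻¹ • (1 : End F (Fin 1 → F)))).prodMap (1 : End F (Fin (n - 4) → F))) ?_ ?_
      · rw [det_prodMap', det_prodMap', det_prodMap', det_smul', det_smul', det_smul', det_unip u1, det_one', det_one']
        simp [ha0]
      · rintro m ⟨c, hm⟩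
        obtain ⟨h1, h3⟩ := prodMap_pow_smul.1 (prodMap_pow_smul.1 (prodMap_pow_smul.1 hm).1).1
        obtain ⟨h5, h6⟩ := smul_unip_pow u1 one_ne_zero h1
        refine hc.mul_dvd_of_dvd_of_dvd ((ha.pow_eq_one_iff_dvd m).1 ?_) ((u2 m).1 h6)
        rw [smul_one_pow h3, ← h5, one_pow]
  · rintro h ⟨x, hx⟩
    obtain ⟨g, hg, hN⟩ := exists_lift x
    rw [hx] at hN
    obtain ⟨c, h1, w, hw, z, hz, hzw⟩ := rp_proj (AlgebraicClosure F) p hr.one_lt hc hN
    have h3 := three_le_card hw hz hzw
    rw [card_ev, finrank_fin_fun] at h3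
    rcases h with h | ⟨rfl, rfl, -, h⟩
    · omega
    have h4 := eq_of_card_three hw hz hzw (by simp [card_ev])
    have h5 := prod_ev_eq_det (AlgebraicClosure F) g
    rw [hg, map_one, h4] at h5
    simp only [Multiset.insert_eq_cons, Multiset.prod_cons, Multiset.prod_singleton] at h5
    have h6 : z ^ 3 = w ^ 3 := by rw [h1 z hz, h1 w (Multiset.count_pos.1 (by omega))]
    obtain ⟨a, rfl⟩ := exists_of_count (AlgebraicClosure F) (f := g) (w := w) (by simp; omega)
    set w := algebraMap F (AlgebraicClosure F) a with hw'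
    have h7 : w ^ 3 ^ 2 = 1 := by linear_combination (-w ^ 6) * h6 + ((w * (w * z)) ^ 2 + w * (w * z) + 1) * h5
    have h8 : ¬ w ^ 3 ^ 1 = 1 := fun h8 => hzw (by linear_combination (-z) * h8 + w * h5)
    have h9 := orderOf_eq_prime_pow h8 h7
    apply h
    change 3 ^ (1 + 1) ∣ _
    rw [← h9, orderOf_dvd_iff_pow_eq_one, hw', ← map_pow, FiniteField.pow_card_sub_one_eq_one, map_one]
    rintro rfl
    simp [hw'] at h5

end Cfsg.Agent.S2470
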