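import Mathlib
import Cfsg.Statements.S2490
import Cfsg.Agent.Gl23.Disc

set_option autoImplicit false
open Cfsg

namespace Cfsg.Agent.S2490

open Cfsg.Agent.Golay

/-- Let G be a finite group of order 7920 = 2⁴·3²·5·11 (the order of the smallest Mathieu group) and suppose its prime graph (vertices the prime divisors of the order, distinct p, q joined when there is an element of order pq) is disconnected: the prime divisors split into two non-empty parts with no element of order pq for p in one part and q in the other. Then G is simple. -/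
theorem result {G : Type*} [Group G] [Finite G] (hord : Nat.card G = 7920)
    (hdisc : (∃ A : Set ℕ, (∃ a ∈ A, a.Prime ∧ a ∣ Nat.card G) ∧ (∃ b ∉ A, b.Prime ∧ b ∣ Nat.card G) ∧
      ∀ a ∈ A, ∀ b ∉ A, a.Prime → b.Prime → a ∣ Nat.card G → b ∣ Nat.card G → ¬ ∃ g : G, orderOf g = a * b)) :
    IsSimpleGroup G := by
  obtain ⟨A, ⟨a, ha, ha1, ha2⟩, ⟨b, hb, hb1, hb2⟩, h⟩ := hdisc
  obtain ⟨x, hx⟩ := exists_prime_orderOf_dvd_card' (G := G) (hp := ⟨by norm_num⟩) 11 (by rw [hord]; norm_num)
  have key : ∀ u v : G, (orderOf u).Prime → (orderOf v).Prime → orderOf u ∈ A → orderOf v ∉ A → u * v ≠ v * u :=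
    fun u v hu hv h1 h2 e => h _ h1 _ h2 hu hv (orderOf_dvd_natCard u) (orderOf_dvd_natCard v)
      ⟨u * v, Commute.orderOf_mul_eq_mul_orderOf_of_coprime e
        ((Nat.coprime_primes hu hv).2 fun e => h2 (e ▸ h1))⟩
  refine Gl23.simple_of_SX hord (x := x) ?_
  by_cases h11 : 11 ∈ A
  · exact Gl23.SX_of_disc hord h11 hb hb1 hb2 key hx
  · exact Gl23.SX_of_disc hord (A := Aᶜ) h11 (not_not.2 ha) ha1 ha2
      (fun u v hu hv h1 h2 => (key v u hv hu (not_not.1 h2) h1).symm) hx

end Cfsg.Agent.S2490
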