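import Mathlib
import Cfsg.Statements.S2497
import Cfsg.Agent.CIT.F6
import Cfsg.Agent.S0254

set_option autoImplicit false
open Cfsg

namespace Cfsg.Agent.S2497


/-- Let G be a finite non-abelian simple group in which every non-identity element has prime-power order. Then G is isomorphic to one of: the alternating group of degree 6, PSL(2,q) for q ∈ {4, 7, 8, 17}, PSL(3,4), or the Suzuki group over the field with 8 or with 32 elements. -/
theorem result {G : Type*} [Group G] [Finite G] [IsSimpleGroup G] (hG : ¬ IsMulCommutative G)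
    (h : ∀ g : G, g ≠ 1 → IsPrimePow (orderOf g)) :
    Nonempty (G ≃* alternatingGroup (Fin 6)) ∨
    (∃ (F : Type) (_ : Field F) (_ : Fintype F), Fintype.card F ∈ ({4, 7, 8, 17} : Finset ℕ) ∧
      Nonempty (G ≃* Matrix.ProjectiveSpecialLinearGroup (Fin 2) F)) ∨
    (∃ (F : Type) (_ : Field F) (_ : Fintype F), Fintype.card F = 4 ∧
      Nonempty (G ≃* Matrix.ProjectiveSpecialLinearGroup (Fin 3) F)) ∨
    (∃ (F : Type) (_ : Field F) (_ : Fintype F),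
      (Fintype.card F = 8 ∧ Nonempty (G ≃* ↥(Cfsg.Lie.Sz F 4))) ∨ (Fintype.card F = 32 ∧ Nonempty (G ≃* ↥(Cfsg.Lie.Sz F 8)))) := by
  have h' : CIT.F.Epp G := h
  rcases CIT.F.lst hG h'.ord2 with ⟨F, _, _, n, hn, hF, ⟨e⟩⟩ | ⟨F, _, _, m, hm, hF, ⟨e⟩⟩ |
    ⟨F, _, _, hp, h3, ⟨k, hk⟩, ⟨e⟩⟩ | ⟨F, _, _, h1, ⟨e⟩⟩ | h1
  · refine Or.inr (Or.inl ⟨F, inferInstance, inferInstance, ?_, ⟨e⟩⟩)
    rcases CIT.F.epp_l2e hn hF (h'.equiv e) with h1 | h1 <;> simp [h1]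
  · rcases CIT.F.epp_sz hm hF (h'.equiv e) with rfl | rfl
    · exact Or.inr (Or.inr (Or.inr ⟨F, inferInstance, inferInstance, Or.inl ⟨hF, ⟨e⟩⟩⟩))
    · exact Or.inr (Or.inr (Or.inr ⟨F, inferInstance, inferInstance, Or.inr ⟨hF, ⟨e⟩⟩⟩))
  · rcases CIT.F.epp_l2p hp h3 hk (h'.equiv e) with h1 | h1 | h1
    · obtain ⟨K, _, _, h2, h4⟩ := CIT.F.L2.four_of_five ⟨F, _, _, h1, ⟨e⟩⟩
      exact Or.inr (Or.inl ⟨K, inferInstance, inferInstance, by simp [h2], h4⟩)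
    · exact Or.inr (Or.inl ⟨F, inferInstance, inferInstance, by simp [h1], ⟨e⟩⟩)
    · exact Or.inr (Or.inl ⟨F, inferInstance, inferInstance, by simp [h1], ⟨e⟩⟩)
  · obtain ⟨f⟩ := S0254.result h1
    exact Or.inl ⟨e.trans f⟩
  · exact Or.inr (Or.inr (Or.inl h1))

end Cfsg.Agent.S2497
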