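import Mathlib
import Cfsg.Statements.S2515
import Cfsg.Agent.Spc.Iso
import Cfsg.Agent.Spec.Pow
-- import your own Cfsg.Agent.* helpers here

set_option autoImplicit false
open Cfsg

namespace Cfsg.Agent.S2515

/-- Let q = 3^α with α ≥ 3 odd. There is a finite group H having a non-trivial normal 3-subgroup and whose element orders maximal under divisibility are exactly 6, 9, q − 1 and (q + 1)/2. -/
theorem result (α : ℕ) (hα : 3 ≤ α) (hodd : Odd α) :
    ∃ (H : Type) (_ : Group H) (_ : Fintype H), (∃ P : Subgroup H, P.Normal ∧ P ≠ ⊥ ∧ IsPGroup 3 ↥P) ∧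
      {n : ℕ | n ∈ Set.range (orderOf : H → ℕ) ∧ ∀ m ∈ Set.range (orderOf : H → ℕ), n ∣ m → m = n} = ({6, 9, 3 ^ α - 1, (3 ^ α + 1) / 2} : Set ℕ) := by
  haveI := Fintype.ofFinite (GaloisField 3 α)
  have hc : Fintype.card (GaloisField 3 α) = 3 ^ α := by
    rw [← Nat.card_eq_fintype_card, GaloisField.card 3 α (by omega)]
  have h27 : 3 ^ 3 ≤ 3 ^ α := Nat.pow_le_pow_right (by decide) hα
  have h8 : 3 ^ α % 8 = 3 := by
    obtain ⟨k, rfl⟩ := hodd
    rw [pow_succ, pow_mul, Nat.mul_mod, Nat.pow_mod]; simp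
  have h3 : 3 ∣ 3 ^ α := dvd_pow_self 3 (by omega)
  obtain ⟨ρ, hρ⟩ := Spc.ree_rep (K := GaloisField 3 α) (by rwa [hc]) (by omega)
  obtain ⟨P, h1, h2, h4, -⟩ := Spc.exists_Op 3 ρ
  refine ⟨Spc.AR ρ, inferInstance, Fintype.ofFinite _, ⟨P, h1, h2, h4⟩, ?_⟩
  change {n | n ∈ Spec.spec _ ∧ ∀ m ∈ Spec.spec _, _} = _
  rw [hρ, hc]
  generalize 3 ^ α = q at *
  have key : ∀ a b : ℕ, 0 < b → b < 2 * a → a ∣ b → b = a := fun a b h0 h ⟨c, hc⟩ => by
    subst hc
    obtain rfl : c = 1 := by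
      rcases c with _ | _ | c
      · simp at h0
      · rfl
      · nlinarith
    simp
  ext n
  simp only [Set.mem_setOf_eq, Set.mem_insert_iff, Set.mem_singleton_iff]
  constructor
  · rintro ⟨h | h | h | h, h'⟩
    · exact Or.inl (h' _ (Or.inl dvd_rfl) h).symm
    · exact Or.inr (Or.inl (h' _ (by simp) h).symm)
    · exact Or.inr (Or.inr (Or.inl (h' _ (by simp) h).symm))
    · exact Or.inr (Or.inr (Or.inr (h' _ (by simp) h).symm))
  · intro h
    refine ⟨by rcases h with rfl | rfl | rfl | rfl <;> simp, fun m hm hd => ?_⟩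
    have k2 : ∀ b, m ∣ b → 0 < b → b = n → m = n := fun b h1 _ h2 => Nat.dvd_antisymm (h2 ▸ h1) hd
    rcases hm with hm | hm | hm | hm <;> refine k2 _ hm (by omega) ?_ <;> have := hd.trans hm <;>
      have := Nat.le_of_dvd (by omega) this <;> rcases h with rfl | rfl | rfl | rfl <;>
      first | omega | exact key _ _ (by omega) (by omega) ‹_›

end Cfsg.Agent.S2515
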