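import Mathlib
import Cfsg.Statements.S2518
import Cfsg.Agent.Chev.ToriC
import Cfsg.Agent.S2371
import Cfsg.Agent.S1059
import Cfsg.Agent.S4279
import Cfsg.Agent.S2475
import Cfsg.Agent.Spc.Basic
-- import your own Cfsg.Agent.* helpers here

set_option autoImplicit false
open Cfsg

namespace Cfsg.Agent.S2518

set_option maxHeartbeats 400000
set_option maxRecDepth 100000

open Cfsg.Lie Cfsg.Agent.BN Chev StSys Matrix Spec

/-- certificate of a cyclic torus -/
noncomputable def chk (c : Cert) (D : ChevalleyDatum) (Ω : ℕ) (P P' Q : List (List ℤ)) (μ : List ℤ)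
    (FT α q0 : ℕ) : Bool :=
  chkMul D.rank (ent2 P) (ent2 P') (dia []) (dia []) &&
  chkMul D.rank (ent2 P) (cmp D.rank (μ.getD · 0)) (ent2 Q) (dia []) &&
  chkMul D.rank (fun j k => c.cv D (byte Ω (D.simple j)) k) (ent2 Q) (ent2 P) (dia []) &&
  allN D.rank (fun j => Nat.ble (μ.getD j 0).natAbs 4) && Nat.beq (μ.getD 0 0).natAbs 1 &&
  allN D.nroots (fun r => nd D.rank (μ.getD · 0) (nib FT D.rank r) q0 && allN D.rank fun j =>
    ieq (nib FT D.rank r j) (sumN D.rank fun i => ent2 P' j i * c.ca D i r)) &&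
  Nat.blt α D.nroots && c.chkWeyl D Ω α (fun β =>
    nd D.rank (μ.getD · 0) (fun j => nib FT D.rank β j - nib FT D.rank α j) q0 ||
      anyN D.nroots fun γ => ieq (c.cpr D γ β) 3) && allN D.nroots fun γ => !ieq (c.cpr D γ α) 3

section
variable {D : ChevalleyDatum} [g : Good2 D] {F : Type*} [Field F]

theorem exists_gen' [IsAlgClosed F] {Ω FT α q0 : ℕ} {P P' Q : List (List ℤ)} {μ : List ℤ}
    (h : chk g.cert D Ω P P' Q μ FT α q0 = true) {σ : Sym D} {w : W D}
    (hΩ : ∀ r, ((w • σ.p r : Rt D) : ℕ) = byte Ω r) {q M : ℕ} (hq : q0 ≤ q) (hF : (q : F) = 0)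
    (hM : (M : ℤ) = q ^ D.rank + evp D.rank (μ.getD · 0) q) :
    ∃ c : Ix D → Fˣ, orderOf c = M ∧ Tω F (fun r => w • σ.p r) q = Subgroup.zpowers c ∧
      (∀ r, chr c r ≠ 1) ∧ ∀ v : W D, (∀ r, v • w • σ.p r = w • σ.p (v • r)) →
        (∀ r, chr c (v • r) = chr c r) → v = 1 := by
  simp only [chk, Bool.and_eq_true, allN_iff, Nat.ble_eq, Nat.beq_eq, Nat.blt_eq,
    ieq_iff] at h
  obtain ⟨⟨⟨⟨⟨⟨⟨⟨h1, h2⟩, h3⟩, h4⟩, h5⟩, h6⟩, h7⟩, h8⟩, h10⟩ := h
  replace h1 := chkMul_spec h1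
  replace h2 := chkMul_spec h2
  replace h3 := chkMul_spec h3
  rw [of_dia_nil, mul_one] at h1 h2 h3
  have hl := g.rank_pos
  haveI : NeZero (M : F) := ⟨fun e => by
    have := congrArg (Int.cast : ℤ → F) hM
    rw [evp_eq] at this
    push_cast at this
    rw [e, hF, zero_pow hl.ne', zero_add, Finset.sum_eq_single ⟨0, hl⟩ (fun j _ hj => by
      rw [zero_pow fun e => hj (Fin.ext e), mul_zero]) (by simp)] at this
    rcases Int.natAbs_eq_iff.mp h5 with e | e <;> simp [-List.getD_eq_getElem?_getD, e] at this⟩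
  haveI : NeZero M := .of_neZero_natCast F
  obtain ⟨x, hx⟩ := HasEnoughRootsOfUnity.exists_primitiveRoot F M
  lift x to Fˣ using hx.isUnit (NeZero.ne M)
  rw [IsPrimitiveRoot.coe_units_iff] at hx
  let e : Fˣ →* (Ix D → Fˣ) := (pw Fˣ (of fun i j : Ix D => ent2 P' i j)).comp
    (MonoidHom.pi fun j : Ix D => powMonoidHom (q ^ (j : ℕ)))
  have he : Function.Injective e := (pw_bijective (mul_eq_one_comm.mp h1)).1.comp fun a b h => by
    simpa using congrFun h ⟨0, hl⟩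
  have hc : ∀ r, chr (e x) r = x ^ evp D.rank (nib FT D.rank r) q := fun r => by
    simp only [chr, e, MonoidHom.comp_apply, pw_apply, MonoidHom.pi_apply, powMonoidHom_apply,
      ← zpow_natCast, ← _root_.zpow_mul, ← zpow_sum_eq, evp_eq, Finset.sum_mul, of_apply]
    rw [Finset.sum_comm]
    refine congrArg _ (Finset.sum_congr rfl fun j _ => ?_)
    simp [(h6 r r.2).2 j j.2, sumN_eq, Finset.mul_sum, ca_eq', mul_comm, mul_left_comm, mul_assoc]
  refine ⟨e x, by rw [orderOf_injective e he, ← hx.eq_orderOf], ?_, fun r hr => ?_,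
    fun v h9 hv => eq_one_of_chkWeyl (α := ⟨α, h7⟩) h8 hΩ h9 fun hs => ?_⟩
  · ext c
    rw [mem_Tω, pw_pow_eq_iff hl h1 h2 (by
      rw [← h3]; congr 1; ext j k; simp only [cvM, of_apply, cv_eq, hΩ, sim_val]),
      ← MonoidHom.map_zpowers, hx.zpowers_eq, ← hM]
    simp only [zpow_natCast, Subgroup.mem_map, mem_rootsOfUnity]
    exact exists_congr fun y => and_congr_right fun _ => eq_comm
  · rw [hc, hx.zpow_eq_one_iff_dvd, hM] at hr
    exact nd_spec (h6 r r.2).1 h4 hq hr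
  · rw [Bool.or_eq_true, anyN_iff] at hs
    rcases hs with hs | ⟨γ, hγ, hs⟩
    swap
    · have := h10 _ (v⁻¹ • (⟨γ, hγ⟩ : Rt D)).2
      rw [Bool.not_eq_true', ieq_false_iff] at this
      exact this (((cpr_eq _ ⟨α, h7⟩).trans (by rw [pr_smul_left, inv_inv, ← cpr_eq])).trans ((ieq_iff _ _).1 hs))
    refine nd_spec hs h4 hq ?_
    have := hv ⟨α, h7⟩
    rw [hc, hc, ← mul_inv_eq_one, ← _root_.zpow_sub, hx.zpow_eq_one_iff_dvd, hM] at this
    simpa only [evp_eq, sub_mul, Finset.sum_sub_distrib] using this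

theorem exists_cyc' [Fintype F]
    (hk : (st_R3 (D := D) (F := AlgebraicClosure F)).hT.ker = ⊥) {Ω FT α q0 : ℕ}
    {P P' Q : List (List ℤ)} {μ : List ℤ} (h : chk g.cert D Ω P P' Q μ FT α q0 = true)
    (l : List (Ix D)) (hΩ : allN D.nroots (fun r =>
      Nat.beq (g.cert.appW (l.map Fin.val) r) (byte Ω r)) = true) {q M : ℕ}
    (hF : Fintype.card F = q) (hq : q0 ≤ q)
    (hM : (M : ℤ) = q ^ D.rank + evp D.rank (μ.getD · 0) q) : ∃ H : Subgroup (D.group F),
      IsCyclic H ∧ Nat.card (pw Fˣ (cartanM D)).ker * Nat.card H = M ∧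
        Subgroup.centralizer (H : Set (D.group F)) = H := by
  subst hF
  obtain ⟨m, j, h1, h2, h3⟩ := exists_fix (algebraMap F _) hk
  obtain ⟨a, ha⟩ := h3 (wp sW l)
  obtain ⟨c, rfl, h4, h5, h6⟩ := exists_gen' h (σ := Sym.one D) (w := wp sW l) (fun r =>
    (wp_smul_val l r).trans (Nat.eq_of_beq_eq_true ((allN_iff _ _).mp hΩ r r.2))) hq h2 hM
  rw [← card_Tσ_one (algebraMap F (AlgebraicClosure F))]
  exact ha.exists_cyc h1 h4 h5 h6

end

theorem cyc : chk certG2 chevG2 3100927950116869625274959361 [[-1, -2], [0, 1]] [[-1, -2], [0, 1]] [[-2, -1], [1, 1]]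
    [1, -1] 46567253959363477422010374522 2 3 = true := by decide +kernel

theorem cyw : allN chevG2.nroots (fun r => Nat.beq (certG2.appW [1, 0] r) (byte 3100927950116869625274959361 r)) =
    true := by decide +kernel

theorem ex7 {F : Type*} [Field F] [Fintype F] (hF : Fintype.card F = 3) : ∃ H : Subgroup ↥(chevG2.group F),
    IsCyclic H ∧ Nat.card H = 7 ∧ Subgroup.centralizer (H : Set ↥(chevG2.group F)) = H := by
  letI := good2G2
  obtain ⟨H, h1, h2, h3⟩ := exists_cyc' (D := chevG2) (ker_st_of_ker (ker_G2 _)) cyc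
    ([1, 0] : List (Fin 2)) cyw hF le_rfl (M := 7) (by decide +kernel)
  exact ⟨H, h1, by rwa [card_ker_G2, one_mul] at h2, h3⟩

theorem no_mul {G : Type*} [Group G] [Finite G] {r s : ℕ} [hr : Fact r.Prime] (hc : ¬ r ^ 2 ∣ Nat.card G)
    {H : Subgroup G} (h1 : Nat.card H = r) (h2 : Subgroup.centralizer (H : Set G) = H) (h : r * s ∈ spec G) :
    s = 1 := by
  obtain ⟨x, hx⟩ := h
  have h0 : s ≠ 0 := by rintro rfl; exact (orderOf_pos x).ne' hx
  have key : ∀ K : Subgroup G, Nat.card K = r → ∃ P : Sylow r G, (P : Subgroup G) = K := fun K hK =>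
    ⟨(IsPGroup.of_card (G := K) (n := 1) (by rw [hK, pow_one])).toSylow fun h => hc (by
      rw [← K.card_mul_index, hK, pow_two]; exact Nat.mul_dvd_mul_left _ h), rfl⟩
  obtain ⟨P, rfl⟩ := key H h1
  obtain ⟨Q, hQ⟩ := key (Subgroup.zpowers (x ^ s)) (by
    rw [Nat.card_zpowers, orderOf_pow_of_dvd h0 (hx ▸ dvd_mul_left _ _), hx, Nat.mul_div_cancel _ (Nat.pos_of_ne_zero h0)])
  obtain ⟨g, rfl⟩ := MulAction.exists_smul_eq G Q P
  have h3 : g * x * g⁻¹ ∈ ((g • Q : Sylow r G) : Subgroup G) := h2.le fun y hy => by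
    rw [SetLike.mem_coe, Sylow.coe_subgroup_smul, hQ] at hy
    obtain ⟨_, ⟨k, rfl⟩, rfl⟩ := hy
    exact (((Commute.refl x).pow_left s).zpow_left k).map (MulAut.conj g)
  have h4 := Subgroup.orderOf_dvd_natCard _ h3
  rw [h1, show orderOf (g * x * g⁻¹) = _ from (MulAut.conj g).orderOf_eq x, hx] at h4
  exact Nat.dvd_one.1 (Nat.dvd_of_mul_dvd_mul_left hr.out.pos (by rwa [mul_one]))

theorem six {G : Type*} [Group G] [Finite G] {t : G} (ht : orderOf t = 2)
    (h : 3 ∣ Nat.card (Subgroup.centralizer ({t} : Set G))) : 6 ∈ spec G := by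
  obtain ⟨x, hx⟩ := exists_prime_orderOf_dvd_card' 3 h
  exact Spc.mul_mem_spec (x.2 t rfl) (r := 2) (s := 3) ht.symm.dvd (by rw [Subgroup.orderOf_coe, hx]) (by norm_num)

theorem primes {r : ℕ} (hr : r.Prime) {a b : ℕ} (ha : a ≠ 0) (hb : b ≠ 0) :
    r ∣ 2 ^ a * (3 ^ b * (7 * 13)) ↔ r ∈ [2, 3, 7, 13] := by
  rw [hr.dvd_mul, hr.dvd_mul, hr.dvd_mul]
  simp [hr.prime.dvd_pow_iff_dvd, ha, hb, Nat.prime_dvd_prime_iff_eq hr Nat.prime_two,
    Nat.prime_dvd_prime_iff_eq hr Nat.prime_three, Nat.prime_dvd_prime_iff_eq hr (by norm_num : Nat.Prime 7),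
    Nat.prime_dvd_prime_iff_eq hr (by norm_num : Nat.Prime 13)]

/-- Let F₃ be the field with 3 elements and F₁₃ the field with 13 elements. The Chevalley group G₂(F₃) and PSL(2, F₁₃) have the same prime graph: the same prime divisors of their orders, and for distinct primes r, s an element of order rs in one iff in the other. -/
theorem result {F : Type*} [Field F] [Fintype F] (hF : Fintype.card F = 3) {E : Type*} [Field E] [Fintype E] (hE : Fintype.card E = 13) :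
    ((∀ r : ℕ, r.Prime → (r ∣ Nat.card ↥(Cfsg.Lie.chevG2.group F) ↔ r ∣ Nat.card (Matrix.ProjectiveSpecialLinearGroup (Fin 2) E))) ∧
      (∀ r s : ℕ, r.Prime → s.Prime → r ≠ s → ((∃ x : ↥(Cfsg.Lie.chevG2.group F), orderOf x = r * s) ↔ (∃ y : (Matrix.ProjectiveSpecialLinearGroup (Fin 2) E), orderOf y = r * s)))) := by
  have hG : Nat.card (chevG2.group F) = 2 ^ 6 * (3 ^ 6 * (7 * 13)) := (S1059.result hF).trans (by norm_num)
  haveI : Finite (chevG2.group F) := Nat.finite_of_card_ne_zero (by rw [hG]; norm_num)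
  haveI : Fact (Nat.Prime 7) := ⟨by norm_num⟩
  haveI : Fact (Nat.Prime 13) := ⟨by norm_num⟩
  haveI : CharP E 13 := charP_of_card_eq_prime hE
  have hS := S2475.result (F := E) 13 (by omega)
  norm_num [hE] at hS
  have h1 : ∀ r : ℕ, r.Prime → (r ∈ spec (chevG2.group F) ↔ r ∈ [2, 3, 7, 13]) := fun r hr => by
    rw [← prime_dvd_card_iff hr, hG, primes hr (by norm_num) (by norm_num)]
  refine ⟨fun r hr => ?_, fun r s hr hs hrs => ?_⟩
  · rw [prime_dvd_card_iff hr, prime_dvd_card_iff hr, h1 r hr, spec, hS, ← primes hr one_ne_zero one_ne_zero]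
    simp only [hr.dvd_mul, Set.mem_setOf_eq, show 6 = 2 * 3 from rfl, pow_one]
    tauto
  · change r * s ∈ spec _ ↔ r * s ∈ Set.range _
    rw [hS]
    obtain ⟨H, -, h2, h3⟩ := S2371.result 3 hF le_rfl
    obtain ⟨K, -, h4, h5⟩ := ex7 hF
    have a : ∀ s, 13 * s ∈ spec (chevG2.group F) → s = 1 := fun s => no_mul (by rw [hG]; norm_num) h2 h3
    have b : ∀ s, 7 * s ∈ spec (chevG2.group F) → s = 1 := fun s => no_mul (by rw [hG]; norm_num) h4 h5
    refine ⟨fun h => Or.inr (Or.inl ?_), fun h => mem_of_dvd (n := 6) ?_ ?_⟩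
    · have h6 := (h1 r hr).1 (mem_of_dvd h (dvd_mul_right _ _))
      have h7 := (h1 s hs).1 (mem_of_dvd h (dvd_mul_left _ _))
      have h8 := mul_comm r s ▸ h
      rcases (by decide : ∀ r ∈ [2, 3, 7, 13], ∀ s ∈ [2, 3, 7, 13], r ≠ s →
        r * s ∣ 6 ∨ (r = 7 ∨ r = 13) ∨ s = 7 ∨ s = 13) r h6 s h7 hrs with h9 | (rfl | rfl) | rfl | rfl
      exacts [h9, absurd (b _ h) hs.ne_one, absurd (a _ h) hs.ne_one, absurd (b _ h8) hr.ne_one,
        absurd (a _ h8) hr.ne_one]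
    · obtain ⟨t, ht⟩ := (h1 2 Nat.prime_two).2 (by simp)
      exact six ht (by rw [(S4279.result (by rw [hF]; decide) t ht).1, hF]; norm_num)
    · have c : ∀ p : ℕ, p.Prime → ¬ r * s ∣ p := fun p hp h => hrs
        (((Nat.prime_dvd_prime_iff_eq hr hp).1 ((dvd_mul_right _ _).trans h)).trans
          ((Nat.prime_dvd_prime_iff_eq hs hp).1 ((dvd_mul_left _ _).trans h)).symm)
      exact (h.resolve_left (c _ (by norm_num))).resolve_right (c _ (by norm_num))

end Cfsg.Agent.S2518
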