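import Mathlib
import Cfsg.Statements.S2551
import Cfsg.Agent.FGS.A8
import Cfsg.Agent.Perm.Sharp4

set_option autoImplicit false
open Cfsg

namespace Cfsg.Agent.S2551

open Subgroup MulAction Matrix

variable {F : Type*} [Field F] [Fintype F]

theorem li (hF : Fintype.card F = 2) {v w : Fin 4 → F} (hv : v ≠ 0) (hw : w ≠ 0) (h : v ≠ w) :
    LinearIndependent F ![v, w] := by
  rw [LinearIndependent.pair_iff' hv]
  intro a e
  by_cases ha : a = 0
  · exact hw (by rw [← e, ha, zero_smul])
  · have := FiniteField.pow_card_sub_one_eq_one a ha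
    rw [hF] at this
    exact h (by rw [← e, show a = 1 by simpa using this, one_smul])

theorem trans2 {v w v' w' : Fin 4 → F} (h : LinearIndependent F ![v, w]) (h' : LinearIndependent F ![v', w']) :
    ∃ g : GL (Fin 4) F, g • (v, w) = (v', w') := by
  obtain ⟨g, hg⟩ := Submodule.exists_linearEquiv_restrict_eq ((Module.Basis.span h).equiv (Module.Basis.span h') (Equiv.refl _))
  refine ⟨GeneralLinearGroup.toLin.symm (LinearMap.GeneralLinearGroup.ofLinearEquiv g), ?_⟩
  have key : ∀ x, (GeneralLinearGroup.toLin.symm (LinearMap.GeneralLinearGroup.ofLinearEquiv g) : GL (Fin 4) F) • x = g x :=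
    fun x => by
      have := DFunLike.congr_fun (congrArg Units.val (GeneralLinearGroup.toLin.apply_symm_apply
        (LinearMap.GeneralLinearGroup.ofLinearEquiv g))) x
      exact this
  have h0 := hg (Module.Basis.span h 0)
  have h1 := hg (Module.Basis.span h 1)
  rw [Module.Basis.equiv_apply] at h0 h1
  simp only [Module.Basis.coe_span_apply, Equiv.refl_apply, cons_val_zero, cons_val_one] at h0 h1
  rw [Prod.smul_mk, key, key, ← h0, ← h1]

/-- Let F be the field with 2 elements. GL_4(F) (≅ A_8) has a subgroup isomorphic to the alternating group A_7, and every such subgroup acts 2-transitively on the 15 non-zero vectors of F⁴: any ordered pair of distinct non-zero vectors is carried to any other by some element of the subgroup. -/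
theorem result {F : Type*} [Field F] [Fintype F] (hF : Fintype.card F = 2) : (∃ H : Subgroup (Matrix.GeneralLinearGroup (Fin 4) F), Nonempty (H ≃* alternatingGroup (Fin 7))) ∧ ∀ H : Subgroup (Matrix.GeneralLinearGroup (Fin 4) F), Nonempty (H ≃* alternatingGroup (Fin 7)) → ∀ v w v' w' : Fin 4 → F, v ≠ 0 → w ≠ 0 → v ≠ w → v' ≠ 0 → w' ≠ 0 → v' ≠ w' → ∃ g ∈ H, (g : Matrix (Fin 4) (Fin 4) F).mulVec v = v' ∧ (g : Matrix (Fin 4) (Fin 4) F).mulVec w = w' := by
  classical
  obtain ⟨e⟩ := FGS.gl4_equiv hF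
  have hG : Nat.card (GL (Fin 4) F) = 20160 := (Nat.card_congr e.toEquiv).trans FGS.card_A8
  have h7 : Nat.card (alternatingGroup (Fin 7)) = 2520 := by
    have := Max.two_mul_card_alt (Ω := Fin 7) (by simp)
    rw [Nat.card_fin, show Nat.factorial 7 = 5040 by decide] at this
    omega
  constructor
  · let K := (stabilizer (alternatingGroup (Fin 8)) (0 : Fin 8)).comap e.toMonoidHom
    have hK : K.index = 8 := by
      have := alternatingGroup.isPretransitive_of_three_le_card (Fin 8) (by simp)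
      rw [index_comap_of_surjective _ e.surjective, index_stabilizer_of_transitive, Nat.card_fin]
    have h1 := K.card_mul_index
    rw [hG, hK] at h1
    rcases FGS.case_2520 (e.toMonoidHom.comp K.subtype) (e.injective.comp K.subtype_injective)
      (by rw [show Nat.card K = 2520 by omega]) with h | ⟨⟨a⟩⟩
    · exact ⟨K, h⟩
    · have := (Nat.card_congr a.toEquiv).trans FGS.card_A8
      omega
  rintro H ⟨a⟩
  have hH : Nat.card H = 2520 := (Nat.card_congr a.toEquiv).trans h7
  let S : Finset ((Fin 4 → F) × (Fin 4 → F)) := (Finset.univ.erase 0).offDiag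
  have hS : S.card = 210 := by simp [S, hF]
  have mS : ∀ p : (Fin 4 → F) × (Fin 4 → F), p ∈ S ↔ p.1 ≠ 0 ∧ p.2 ≠ 0 ∧ p.1 ≠ p.2 := by simp [S]
  have h1 : ∀ p ∈ S, orbit (GL (Fin 4) F) p = S := fun p hp => by
    obtain ⟨h1, h2, h3⟩ := (mS p).mp hp
    ext q
    rw [Finset.mem_coe, mS]
    refine ⟨?_, fun ⟨h4, h5, h6⟩ => trans2 (li hF h1 h2 h3) (li hF h4 h5 h6)⟩
    rintro ⟨g, rfl⟩
    exact ⟨(smul_ne_zero_iff_ne g).mpr h1, (smul_ne_zero_iff_ne g).mpr h2, by simpa using h3⟩
  obtain ⟨t, ht⟩ := exists_prime_orderOf_dvd_card' (G := H) 2 (hp := ⟨Nat.prime_two⟩) (by rw [hH]; norm_num)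
  have ht2 : ∀ x : Fin 4 → F, t • t • x = x := fun x => by rw [← mul_smul, ← sq, ← ht, pow_orderOf_eq_one, one_smul]
  obtain ⟨x, hx⟩ : ∃ x : Fin 4 → F, x ≠ t • x := by
    by_contra! h
    have : t = 1 := Subtype.ext (Units.ext (Matrix.ext_of_mulVec_single fun i => by
      rw [OneMemClass.coe_one, Units.val_one, Matrix.one_mulVec]; exact (h _).symm))
    simp [this] at ht
  have hx0 : x ≠ 0 := fun e => hx (by simp [e])
  have hp : (x, t • x) ∈ S := (mS _).mpr ⟨hx0, (smul_ne_zero_iff_ne t).mpr hx0, hx⟩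
  have h2 : orbit H (x, t • x) ⊆ S := h1 _ hp ▸ orbit_subgroup_subset H _
  have h3 : 105 ∣ (orbit H (x, t • x)).ncard := by
    have h4 := relIndex_mul_index (inf_le_right : stabilizer (GL (Fin 4) F) (x, t • x) ⊓ H ≤ H)
    have h5 := index_dvd_of_le (inf_le_left : stabilizer (GL (Fin 4) F) (x, t • x) ⊓ H ≤ _)
    have h6 := H.card_mul_index
    rw [← h4, index_stabilizer, h1 _ hp, Set.ncard_coe_finset, hS, inf_relIndex_right,
      show H.index = 8 by rw [hH, hG] at h6; omega] at h5
    rw [← index_stabilizer]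
    change 105 ∣ (stabilizer (GL (Fin 4) F) (x, t • x)).relIndex H
    omega
  have h4 : 2 ∣ (orbit H (x, t • x)).ncard := by
    have hsw : ∀ q ∈ orbit H (x, t • x), q.swap ∈ orbit H (x, t • x) := by
      rintro _ ⟨g, rfl⟩
      exact ⟨g * t, by simp [mul_smul, ht2]⟩
    exact (Perm.even_ncard_of_involution Prod.swap _ (Set.toFinite _) (fun _ _ => rfl) hsw
      fun q hq e => ((mS q).mp (h2 hq)).2.2 (congrArg Prod.snd e)).two_dvd
  have h5 : orbit H (x, t • x) = S := Set.eq_of_subset_of_ncard_le h2 (by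
    have := Set.ncard_le_ncard h2
    have h0 : 0 < (orbit H (x, t • x)).ncard := (Set.ncard_pos (Set.toFinite _)).mpr ⟨_, mem_orbit_self _⟩
    rw [Set.ncard_coe_finset, hS] at this ⊢
    omega)
  intro v w v' w' a1 a2 a3 a4 a5 a6
  obtain ⟨g, hg⟩ : (v, w) ∈ orbit H (x, t • x) := h5 ▸ (mS _).mpr ⟨a1, a2, a3⟩
  obtain ⟨g', hg'⟩ : (v', w') ∈ orbit H (x, t • x) := h5 ▸ (mS _).mpr ⟨a4, a5, a6⟩
  have : (g' * g⁻¹) • (v, w) = (v', w') := by rw [← hg, ← hg', mul_smul, inv_smul_smul]
  exact ⟨_, (g' * g⁻¹).2, congrArg Prod.fst this, congrArg Prod.snd this⟩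

end Cfsg.Agent.S2551
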