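import Mathlib
import Cfsg.Statements.S2553
import Cfsg.Agent.FGS.A8
import Cfsg.Agent.Comp2.Cores
import Cfsg.Agent.S0495
import Cfsg.Agent.S0255

set_option autoImplicit false
open Cfsg

namespace Cfsg.Agent.S2553

/-- Let H be a nontrivial subgroup of GL(4,2) (a group isomorphic to the alternating group of degree 8) whose largest normal 2-subgroup and largest normal subgroup of odd order are both trivial. Then H is isomorphic to an alternating group of degree n for some 5 ≤ n ≤ 8, to the symmetric group of degree 5 or 6, or to GL(3,2). -/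
theorem result (H : Subgroup (GL (Fin 4) (ZMod 2))) (hH : H ≠ ⊥) (hO : Cfsg.pPrimeCore 2 ↥H = ⊥) (hO2 : Cfsg.pCore 2 ↥H = ⊥) :
    (∃ n : ℕ, 5 ≤ n ∧ n ≤ 8 ∧ Nonempty (↥H ≃* alternatingGroup (Fin n))) ∨
    Nonempty (↥H ≃* Equiv.Perm (Fin 5)) ∨ Nonempty (↥H ≃* Equiv.Perm (Fin 6)) ∨ Nonempty (↥H ≃* GL (Fin 3) (ZMod 2)) := by
  obtain ⟨e⟩ := FGS.gl4_equiv (F := ZMod 2) rfl
  have : Nontrivial H := (Subgroup.nontrivial_iff_ne_bot H).mpr hH
  have : Fact (Nat.Prime 7) := ⟨by norm_num⟩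
  rcases FGS.classify_A8 (e.toMonoidHom.comp H.subtype) (e.injective.comp H.subtype_injective) (fun N _ hN => by
    have := Comp2.le_pCore_sup_pPrimeCore_of_isNilpotent 2 (N := N) (open scoped IsMulCommutative in inferInstance)
    rwa [hO, hO2, sup_idem, le_bot_iff] at this) with h | h | h | ⟨_, h⟩
  · exact Or.inl h
  · exact Or.inr (Or.inl h)
  · exact Or.inr (Or.inr (Or.inl h))
  · obtain ⟨a⟩ := S0495.result h (F := ZMod 7) rfl
    obtain ⟨b⟩ := S0255.result (F := ZMod 7) (K := ZMod 2) rfl rfl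
    obtain ⟨c⟩ := FGS.gl_equiv_psl (ι := Fin 3) (F := ZMod 2) (by simp)
    exact Or.inr (Or.inr (Or.inr ⟨(a.trans b).trans c.symm⟩))

end Cfsg.Agent.S2553
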