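import Mathlib
import Cfsg.Statements.S2555
import Cfsg.Agent.Gp.AbS
import Cfsg.Agent.S2554
import Cfsg.Agent.S2065
-- import your own Cfsg.Agent.* helpers here

set_option autoImplicit false
open Cfsg

namespace Cfsg.Agent.S2555

/-- Let G be a non-abelian finite simple group all of whose Sylow subgroups are abelian, r a prime dividing |G|, and α an automorphism of G whose order is a power of r. If α fixes some Sylow r-subgroup of G elementwise, then α is an inner automorphism. -/
theorem result {G : Type*} [Group G] [Finite G]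
    [IsSimpleGroup G] (hna : ¬ IsMulCommutative G)
    (hA : ∀ (p : ℕ), p.Prime → ∀ (P : Sylow p G), IsMulCommutative ↥P)
    (r : ℕ) [Fact r.Prime] (hr : r ∣ Nat.card G) (α : G ≃* G) (k : ℕ) (hα : orderOf α = r ^ k)
    (R : Sylow r G) (hR : ∀ x ∈ (R : Subgroup G), α x = x) :
    ∃ g : G, ∀ x : G, α x = g * x * g⁻¹ := by
  have hα' : (α : MulAut G) ^ r ^ k = 1 := hα ▸ pow_orderOf_eq_one α
  suffices h : (α : MulAut G) ∈ Inn G by
    obtain ⟨g, hg⟩ := h
    exact ⟨g, fun x => by rw [← hg]; rfl⟩
  rcases S2554.result hna hA with ⟨⟨e⟩⟩ | ⟨F, _, _, h4, h8, ⟨e⟩⟩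
  · have h := (Leech.card_out_congr e).trans S2065.result
    rw [← Subgroup.index, Subgroup.index_eq_one] at h
    rw [h]; trivial
  · obtain ⟨g, hg⟩ := Gp.AbS.psl h4 h8 (k := k) (Nat.card_congr e.toEquiv ▸ hr)
      (R.mapSurjective (f := e.toMonoidHom) e.surjective) (α := MulAut.congr e α)
      (by rw [← map_pow, hα', map_one]) (by
        rintro _ ⟨x, hx, rfl⟩
        simp [hR x hx])
    refine ⟨e.symm g, MulEquiv.ext fun x => e.injective ?_⟩
    simpa using DFunLike.congr_fun hg (e x)

end Cfsg.Agent.S2555
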