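import Mathlib
import Cfsg.Statements.S2649
import Cfsg.Agent.Golay.H23

set_option autoImplicit false
open Cfsg

namespace Cfsg.Agent.S2649

open Cfsg.Agent.Golay

/-- Extensions of the Mathieu group M₂₃ by its code module split. Let E be a finite group with a normal subgroup N, an isomorphism φ from E/N onto M₂₃ = `Spor.M23` (the stabiliser of the extra point `none` in M₂₄ acting on the 24 points `GolayPt`), and an injective additive homomorphism ψ from N onto the set of words of the binary Golay code `golayCode` that vanish at `none` (an 11-dimensional space over the field with two elements), such that conjugation by g ∈ E on N corresponds under ψ to the coordinate permutation w ↦ w ∘ σ⁻¹, σ the permutation φ(gN). Then N has a complement in E: some subgroup H meets N trivially and generates E together with N. (Equivalently, the second cohomology group of M₂₃ with coefficients in this module vanishes.) -/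
theorem result
    {E : Type*} [Group E] [Finite E] (N : Subgroup E) [hN : N.Normal]
    (φ : E ⧸ N ≃* ↥Cfsg.Spor.M23)
    (ψ : Additive ↥N →+ (Cfsg.GolayPt → ZMod 2)) (hinj : Function.Injective ψ)
    (hrange : ∀ w : Cfsg.GolayPt → ZMod 2, w ∈ Set.range ψ ↔ (w ∈ Cfsg.golayCode ∧ w none = 0))
    (hψ : ∀ (g : E) (n : ↥N),
      ψ (Additive.ofMul ⟨g * n * g⁻¹, hN.conj_mem n n.2 g⟩)
        = ψ (Additive.ofMul n) ∘ ⇑(((φ (QuotientGroup.mk g) : ↥Cfsg.Spor.M23) : Equiv.Perm Cfsg.GolayPt)⁻¹)) :
    ∃ H : Subgroup E, H ⊓ N = ⊥ ∧ H ⊔ N = ⊤ := by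
  have X : Ext (H23.prj N φ) (fun s n => ∃ hn : n ∈ N, ψ (Additive.ofMul ⟨n, hn⟩) = ind s) H23.ZA H23.UA :=
    { add := by
        rintro s t m n ⟨hm, h1⟩ ⟨hn, h2⟩
        exact ⟨N.mul_mem hm hn, by rw [ind_symmDiff, ← h1, ← h2, ← map_add]; rfl⟩
      conj := by
        rintro s n g ⟨hn, h1⟩
        exact ⟨hN.conj_mem n hn g, by rw [ind_smul, ← h1]; exact hψ g ⟨n, hn⟩⟩
      ex := fun {n} hn => ⟨Cfsg.support₂ (ψ (Additive.ofMul ⟨n, (H23.prj_ker N φ).le hn⟩)), _, (ind_support₂ _).symm⟩
      ker := fun ⟨hn, _⟩ => (H23.prj_ker N φ).ge hn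
      hZ := fun ⟨_, h1⟩ => (H23.ZA_iff _).2 ((hrange _).1 ⟨_, h1⟩)
      hS := fun h => let ⟨n, hn⟩ := (hrange _).2 ((H23.ZA_iff _).1 h); ⟨_, n.toMul.2, hn⟩
      hU := by
        rintro s n ⟨hn, h1⟩
        rw [H23.UA_iff ((mem_CW_iff s).2 ((hrange _).1 ⟨_, h1⟩).1)]
        constructor
        · rintro rfl
          rw [← support₂_ind s, ← h1, ← support₂_ind ∅, ind_empty]
          exact congrArg _ (map_zero ψ)
        · rintro rfl
          exact congrArg (fun x : Additive N => (x.toMul : E)) (hinj (h1.trans (ind_empty.trans (map_zero ψ).symm))) }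
  obtain ⟨H, h⟩ := H23.splitA X (H23.prj_range N φ)
  rw [H23.prj_ker] at h
  exact ⟨H, disjoint_iff.1 h.symm.disjoint, h.symm.sup_eq_top⟩

end Cfsg.Agent.S2649
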