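import Mathlib
import Cfsg.Statements.S2651
import Cfsg.Agent.Golay.H23
import Cfsg.Agent.Golay.Baer

set_option autoImplicit false
open Cfsg

namespace Cfsg.Agent.S2651

open Cfsg.Agent.Golay

/-- The non-split extension of the Mathieu group M₂₃ by its cocode module is unique. Suppose E and E' are finite groups, each with a normal subgroup (N, N'), an isomorphism of the quotient onto M₂₃ = `Spor.M23`, and a surjective additive homomorphism from the binary words on the 24 points `GolayPt` onto the normal subgroup with kernel the Golay code `golayCode` together with its translate by the unit vector at the extra point `none`, intertwining the coordinate permutation w ↦ w ∘ σ⁻¹ (σ the image of gN) with conjugation by g; and suppose that in each group the normal subgroup has no complement. Then E and E' are isomorphic. -/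
theorem result
    {E : Type*} [Group E] [Finite E] (N : Subgroup E) [hN : N.Normal]
    (φ : E ⧸ N ≃* ↥Cfsg.Spor.M23) (θ : (Cfsg.GolayPt → ZMod 2) →+ Additive ↥N)
    (hsurj : Function.Surjective θ)
    (hker : ∀ w : Cfsg.GolayPt → ZMod 2, θ w = 0 ↔ (w ∈ Cfsg.golayCode ∨ w + Pi.single none 1 ∈ Cfsg.golayCode))
    (hθ : ∀ (g : E) (w : Cfsg.GolayPt → ZMod 2),
      ((θ (w ∘ ⇑(((φ (QuotientGroup.mk g) : ↥Cfsg.Spor.M23) : Equiv.Perm Cfsg.GolayPt)⁻¹))).toMul : E)
        = g * ((θ w).toMul : E) * g⁻¹)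
    (hns : ∀ H : Subgroup E, H ⊓ N = ⊥ → H ⊔ N ≠ ⊤)
    {E' : Type*} [Group E'] [Finite E'] (N' : Subgroup E') [hN' : N'.Normal]
    (φ' : E' ⧸ N' ≃* ↥Cfsg.Spor.M23) (θ' : (Cfsg.GolayPt → ZMod 2) →+ Additive ↥N')
    (hsurj' : Function.Surjective θ')
    (hker' : ∀ w : Cfsg.GolayPt → ZMod 2, θ' w = 0 ↔ (w ∈ Cfsg.golayCode ∨ w + Pi.single none 1 ∈ Cfsg.golayCode))
    (hθ' : ∀ (g : E') (w : Cfsg.GolayPt → ZMod 2),
      ((θ' (w ∘ ⇑(((φ' (QuotientGroup.mk g) : ↥Cfsg.Spor.M23) : Equiv.Perm Cfsg.GolayPt)⁻¹))).toMul : E')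
        = g * ((θ' w).toMul : E') * g⁻¹)
    (hns' : ∀ H : Subgroup E', H ⊓ N' = ⊥ → H ⊔ N' ≠ ⊤) :
    Nonempty (E ≃* E') := by
  have X := H23.extB N φ θ hsurj hker hθ
  have X' := H23.extB N' φ' θ' hsurj' hker' hθ'
  obtain ⟨σ, W, h⟩ := H23.ok_dat X (H23.prj_range N φ)
  obtain ⟨σ', W', h'⟩ := H23.ok_dat X' (H23.prj_range N' φ')
  have h1 : evF W 37 H23.lam = 1 := (zmod2_cases _).resolve_left fun hl => by
    obtain ⟨H, hH⟩ := H23.splitB X (H23.prj_range N φ) h hl
    rw [H23.prj_ker] at hH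
    exact hns H (disjoint_iff.1 hH.symm.disjoint) hH.symm.sup_eq_top
  have h2 : evF W' 37 H23.lam = 1 := (zmod2_cases _).resolve_left fun hl => by
    obtain ⟨H, hH⟩ := H23.splitB X' (H23.prj_range N' φ') h' hl
    rw [H23.prj_ker] at hH
    exact hns' H (disjoint_iff.1 hH.symm.disjoint) hH.symm.sup_eq_top
  exact equiv_of_baer X X' ((H23.prj_range N φ).trans (H23.prj_range N' φ').symm) h h' fun Q _ p R τ Y hp hY =>
    H23.splitB Y (hp.trans (H23.prj_range N φ)) hY (by rw [evF_symmDiff, h1, h2]; rfl)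

end Cfsg.Agent.S2651
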