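import Cfsg.Statements.S2652
import Mathlib
import Cfsg.Agent.Fischer.JN

set_option autoImplicit false
open Cfsg

namespace Cfsg.Agent.S2652

open Fischer

/-- Let T be a Sylow 2-subgroup of the Fischer group Fi₂₃ (the finitely presented group `Spor.Fi23`; T has order 2¹⁸). Then every elementary abelian subgroup of Fi₂₃ contained in T and normal in T has order at most 2¹¹, and there is exactly one such subgroup of order 2¹¹. -/
theorem result
    (T : Sylow 2 Cfsg.Spor.Fi23) :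
    (∀ A : Subgroup Cfsg.Spor.Fi23, A ≤ T → (A.subgroupOf T).Normal → Cfsg.IsElementaryAbelian 2 A →
        Nat.card A ≤ 2 ^ 11) ∧
    ∃! A : Subgroup Cfsg.Spor.Fi23, A ≤ T ∧ (A.subgroupOf T).Normal ∧ Cfsg.IsElementaryAbelian 2 A ∧
        Nat.card A = 2 ^ 11 := by
  haveI := Comp.Fi23.card.1
  obtain ⟨τ, s, b, -⟩ := F23.base_at F23.pm.x_mem
  have h := J23.bs F23.pm.cl b
  obtain ⟨h1, h2⟩ := h.syl' b.conj_mem T
  have h3 : Subgroup.closure {y | y ∈ F23.D ∧ y ∈ (T : Subgroup _)} ≤ T :=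
    (Subgroup.closure_le _).2 fun _ e => e.2
  refine ⟨fun A a1 _ a2 => (le_total _ _).elim id fun e =>
    (h.uniq T.2 a1 a2 e h3 h1 h2.ge ▸ h2).le, _, ⟨h3, ?_, h1, h2⟩, fun A ⟨a1, _, a2, a3⟩ =>
      h.uniq T.2 a1 a2 a3.ge h3 h1 h2.ge⟩
  exact Subgroup.normal_subgroupOf_of_le_normalizer (Subgroup.le_normalizer.trans
    (h.thompson T.2 h3 h1 h2 ▸ Transfer.normalizer_le_normalizer_thompsonSubgroupOf _))

end Cfsg.Agent.S2652
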