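import Mathlib
import Cfsg.Statements.S2752
import Cfsg.Agent.S4F.Main

set_option autoImplicit false
universe u
open Cfsg

namespace Cfsg.Agent.S2752

open Subgroup Cfsg.Agent.LocalEven Cfsg.Agent.BG

/-- Let M be an elementary abelian 2-subgroup of a finite group L and G a subgroup of L acting faithfully on M by conjugation (G normalizes M and meets C(M) trivially). Assume O₂(G) = 1, the symmetric group of degree 3 is not involved in G, and every non-abelian composition factor of G is a Suzuki group Sz(2^(2n+1)) or a group PSL₂(3^(2n+1)). Then every elementary abelian 2-subgroup A of G satisfies |M / C_M(A)| ≥ |A|² and |[M, A]| ≥ |A|². -/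
theorem result {L : Type u} [Group L] [Finite L] (M G : Subgroup L) (hM : Cfsg.IsElementaryAbelian 2 M) (hGM : G ≤ Subgroup.normalizer (M : Set L)) (hf : G ⊓ Subgroup.centralizer (M : Set L) = ⊥) (ha : Cfsg.pCore 2 ↥G = ⊥) (hb : ¬ Cfsg.Involves (Equiv.Perm (Fin 3)) ↥G) (hc : Cfsg.IsCompositionKGroupWith Cfsg.IsSuzukiOrPSL2OddPowerThree ↥G) (A : Subgroup L) (hA : A ≤ G) (hAe : Cfsg.IsElementaryAbelian 2 A) : Nat.card A ^ 2 * Nat.card ↥(M ⊓ Subgroup.centralizer (A : Set L)) ≤ Nat.card M ∧ Nat.card A ^ 2 ≤ Nat.card ↥⁅M, A⁆ := by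
  have cM := elemAb_le_centralizer hM
  have m1 : M ≤ G ⊔ M := le_sup_right
  have a1 : A ≤ G ⊔ M := hA.trans le_sup_left
  haveI : (M.subgroupOf (G ⊔ M)).Normal := (normal_subgroupOf_iff_le_normalizer m1).2 (sup_le hGM le_normalizer)
  set f := (QuotientGroup.mk' 𝐂(M.subgroupOf (G ⊔ M))).comp (inclusion (le_sup_left : G ≤ G ⊔ M))
  have e := MulEquiv.ofBijective f ⟨(injective_iff_map_eq_one f).2 fun x hx => by
      have := (QuotientGroup.eq_one_iff _).1 hx
      rw [centralizer_subgroupOf m1] at this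
      exact Subtype.ext (mem_bot.1 (hf.le ⟨x.2, this⟩)), fun z => by
    obtain ⟨⟨y, hy⟩, rfl⟩ := QuotientGroup.mk'_surjective _ z
    obtain ⟨g, hg, m, hm, rfl⟩ := (mem_sup_iff_of_le_normalizer hGM).1 hy
    refine ⟨⟨g, hg⟩, QuotientGroup.eq.2 ?_⟩
    rw [centralizer_subgroupOf m1]
    simpa [mem_subgroupOf] using cM hm⟩
  have hF := (S4F.f3_of hb).surj e.toMonoidHom e.surjective
  have k := S4F.ml2 (elemAb_subgroupOf hM _) hF (S4F.gs_all hF.f4)
    (by rw [← Core.map_pCore_equiv 2 e, ha, Subgroup.map_bot]) (R := A.subgroupOf (G ⊔ M)) fun r hr => by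
      rw [show r * r = 1 from Subtype.ext (PLocal.ea_sq hAe hr)]; exact one_mem _
  rw [centralizer_subgroupOf m1, centralizer_subgroupOf a1, relIndex_subgroupOf a1, relIndex_subgroupOf m1,
    ← card_map_subtype, map_commutator, map_subgroupOf_eq_of_le m1, map_subgroupOf_eq_of_le a1,
    ← inf_relIndex_right, le_bot_iff.1 ((inf_comm _ _).le.trans ((inf_le_inf_right _ hA).trans hf.le)),
    relIndex_bot_left] at k
  refine ⟨?_, k.2⟩
  rw [← Core.card_inf_mul_relIndex 𝐂(A) M, inf_comm, mul_comm]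
  exact Nat.mul_le_mul_left _ k.1

end Cfsg.Agent.S2752
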