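import Mathlib
import Cfsg.Statements.S3071
import Cfsg.Agent.Transfer.ZJFusion
-- import your own Cfsg.Agent.* helpers here

set_option autoImplicit false
open Cfsg

namespace Cfsg.Agent.S3071

open Cfsg.Agent.Transfer

/-- Let p be an odd prime and S a Sylow p-subgroup of the finite group G such that, for every subgroup P with Z(S) ≤ P ≤ S, the normalizer N_G(P) has no section isomorphic to SL₂(p). Let J(S) be the subgroup generated by the abelian subgroups of S of largest order. Then two elements of S are conjugate in G if and only if they are conjugate in N_G(Z(J(S))). -/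
theorem result {G : Type*} [Group G] [Finite G] {p : ℕ} [Fact p.Prime]
    (hp : p ≠ 2) (S : Sylow p G)
    (hfree : ∀ P : Subgroup G, (S : Subgroup G) ⊓ Subgroup.centralizer ((S : Subgroup G) : Set G) ≤ P → P ≤ S →
      ¬ ∃ (H K : Subgroup G) (hK : (K.subgroupOf H).Normal), H ≤ Subgroup.normalizer (P : Set G) ∧
        Nonempty ((H ⧸ K.subgroupOf H) ≃* Matrix.SpecialLinearGroup (Fin 2) (ZMod p))) :
    ∀ x ∈ S, ∀ y ∈ S, (∃ g : G, g * x * g⁻¹ = y) ↔
      ∃ n ∈ Subgroup.normalizer (Cfsg.centerThompsonAOf (S : Subgroup G) : Set G), n * x * n⁻¹ = y := by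
  intro x hx y hy
  refine ⟨?_, fun ⟨n, _, h⟩ => ⟨n, h⟩⟩
  rintro ⟨g, rfl⟩
  obtain ⟨n, hn, c, hc, rfl⟩ := control_zj_local hp S
    (fun U h1 h2 h => hfree U h1 h2 (PLocal.exists_le_of_isSectionOf h))
    (A := Subgroup.zpowers x) (Subgroup.zpowers_le.2 hx) (g := g) (by
      rw [LocalEven.cj_zpowers]; exact Subgroup.zpowers_le.2 hy)
  rw [PLocal.centerThompsonAOf_eq]
  refine ⟨n, hn, ?_⟩
  have h1 := Glaub.mem_cent.1 hc x (Subgroup.mem_zpowers x)
  calc n * x * n⁻¹ = n * (c * x * c⁻¹) * n⁻¹ := by rw [h1]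
    _ = _ := by group

end Cfsg.Agent.S3071
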