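import Mathlib
import Cfsg.Statements.S2756
import Cfsg.Agent.GsD.S3Free
import Cfsg.Agent.S3071
import Cfsg.Agent.LocalEven.Sidki

set_option autoImplicit false
open Cfsg

namespace Cfsg.Agent.S2756

open Subgroup GW LocalEven BG Gs FGS S4F PLocal GsD
open scoped MatrixGroups

variable {G : Type*} [Group G] [Finite G] {q : ℕ} [Fact q.Prime]

theorem of_map {H : Type*} [Group H] [Finite H] (hq : q ≠ 2) {K : Subgroup G} {f : G →* H}
    (h : Iv q (K.map f)) : Iv q K := by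
  rw [iv_iff hq, Transfer.involves_iff_isSectionOf] at h ⊢
  exact ((Transfer.isSectionOf_self K).of_surjective _ (f.subgroupMap_surjective K)).trans h

theorem not_iv (hq : q ≠ 2) (h : ∀ P : Sylow 2 G, (P : Subgroup G).Normal) : ¬ Iv q (⊤ : Subgroup G) := by
  rintro ⟨g, -, x, -, ⟨k, hk⟩, x1, e⟩
  obtain ⟨s, -, ⟨j, hj⟩, e⟩ := two_part e
  obtain ⟨P, hP⟩ := (isPGroup_zpowers_of_orderOf hj).exists_le_sylow
  have ho : Odd (orderOf x) := (Odd.pow ((Fact.out : q.Prime).odd_of_ne_two hq)).of_dvd_nat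
    (orderOf_dvd_of_pow_eq_one hk)
  have h1 : x * x ∈ (P : Subgroup G) := inv_mem_iff.1 (by
    rw [show (x * x)⁻¹ = s * (x * s⁻¹ * x⁻¹) by rw [mul_inv_rev]; nth_rw 1 [← e]; group]
    exact mul_mem (hP (mem_zpowers s)) ((h P).conj_mem _ (inv_mem (hP (mem_zpowers s))) x))
  exact x1 (Inv.eq_one_of_odd_of_mul_self ho (eq_one_of_odd_of_two P.isPGroup' h1
    (ho.of_dvd_nat (pow_two x ▸ orderOf_pow_dvd 2))))

theorem closed (h : ∀ (q : ℕ) [Fact q.Prime], q ≠ 2 → ¬ Iv q (⊤ : Subgroup G)) (P : Sylow 2 G) :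
    (P : Subgroup G).Normal := by
  have hs := QuotientGroup.mk'_surjective (pCore 2 G)
  suffices e : (P : Subgroup G) = pCore 2 G from e ▸ inferInstance
  refine le_antisymm ?_ ((isSylowIn_top P).le_of_le_normalizer le_top (Core.pCore_isPGroup 2)
    le_normalizer_of_normal)
  rw [← QuotientGroup.ker_mk' (pCore 2 G), ← Subgroup.map_eq_bot_iff]
  by_contra k
  obtain ⟨t, -, ht⟩ := exists_mem_orderOf_eq_of_ne_bot (P.isPGroup'.map _) k
  obtain ⟨x, x1, x2, e⟩ := exists_inverted_of_not_mem_pCore (sq_of_two ht)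
    (Core.pCore_quotient_pCore (G := G) 2 ▸ fun e => ne_one_of_orderOf_eq ht (mem_bot.1 e))
  obtain ⟨r, hr, m, hm⟩ := Nat.exists_prime_and_dvd (mt orderOf_eq_one_iff.1 x1)
  have : Fact r.Prime := ⟨hr⟩
  have h2 : r ≠ 2 := by rintro rfl; exact not_two_dvd x2 ⟨m, hm⟩
  refine h r h2 (of_map h2 (f := QuotientGroup.mk' (pCore 2 G)) (map_top_of_surjective _ hs ▸
    ⟨t, trivial, x ^ m, trivial, ⟨1, by rw [← pow_mul, pow_one, mul_comm, ← hm, pow_orderOf_eq_one]⟩,
      pow_ne_one_of_lt_orderOf (fun e => (orderOf_pos x).ne' (by rw [hm, e, mul_zero])) ?_,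
        by rw [← conj_pow, e, inv_pow]⟩))
  have := orderOf_pos x
  have := hr.two_le
  rw [hm] at *
  nlinarith [Nat.pos_of_mul_pos_left ‹0 < r * m›]

theorem not_sl (hF : F3 G) (h2 : q ≠ 2) (h3 : q ≠ 3) : ¬ Transfer.IsSectionOf G SL(2, ZMod q) := fun h => by
  obtain ⟨c, hc⟩ := (Fact.out : q.Prime).odd_of_ne_two h2
  obtain ⟨x, hx⟩ := exists_prime_orderOf_dvd_card' (G := PSL(2, ZMod q)) 3
    (CIT.F.card_psl2_odd ((ZMod.card q).trans hc) ▸ CIT.F.three_dvd_odd c)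
  obtain ⟨t, ht, e⟩ := psl2_real x (by
    rw [hx, Nat.card_zmod]
    exact (Nat.coprime_primes Nat.prime_three Fact.out).2 h3.symm)
  exact no_s3 ((hF.sec h).surj _ (QuotientGroup.mk'_surjective _)) ⟨t, x, ht, hx, e⟩

theorem ca (h : ∀ (q : ℕ) [Fact q.Prime], q ≠ 2 → ∀ T : Sylow q G, ∀ x ∈ (T : Subgroup G), x ≠ 1 →
    ∀ g ∈ 𝐍(centerThompsonAOf (T : Subgroup G)), g * x * g⁻¹ ≠ x⁻¹) (P : Sylow 2 G) :
    (P : Subgroup G).Normal := by
  have hF := f3_of_zj default (h 3 (by norm_num) default)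
  refine closed (fun q _ hq => ?_) P
  by_cases h3 : q = 3
  · subst h3; exact f3_top.1 hF
  rintro ⟨g, -, x, -, ⟨k, hk⟩, x1, e⟩
  obtain ⟨c, -, hc⟩ := (isSylowIn_top (default : Sylow q G)).exists_conj_mem (mem_top x) hk
  obtain ⟨n, hn, e'⟩ := (S3071.result hq default (fun P _ _ ⟨H, K, hK, _, ⟨f⟩⟩ => not_sl hF hq h3
    ⟨H, f.toMonoidHom.comp (QuotientGroup.mk' _), f.surjective.comp (QuotientGroup.mk'_surjective _)⟩)
      _ hc _ (inv_mem hc)).1 ⟨c * g * c⁻¹, by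
        calc _ = c * (g * x * g⁻¹) * c⁻¹ := by group
          _ = _ := by rw [e]; group⟩
  exact h q hq _ _ hc (conj_ne_one x1 c) n hn e'

theorem sub (h : ∀ P : Sylow 2 G, (P : Subgroup G).Normal) (H : Subgroup G) (P : Sylow 2 H) :
    (P : Subgroup H).Normal := closed (fun q _ hq k => not_iv hq h
      ((k.map H.subtype fun _ _ _ e => Subtype.ext e).mono le_top)) P

/-- For a finite group G the following are equivalent: (a) G has a normal Sylow 2-subgroup; (b) for every odd prime q dividing the order of G and every Sylow q-subgroup T, the normalizer of Z(J(T)) has a normal Sylow 2-subgroup; (c) for every odd prime q and every Sylow q-subgroup T, no nonidentity element of T is inverted by an element of the normalizer of Z(J(T)). Here J(T) is the Thompson subgroup generated by the abelian subgroups of T of largest order. Stated as the two equivalences (a) ⇔ (b) and (a) ⇔ (c). -/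
theorem result {G : Type*} [Group G] [Finite G] : ((∀ P : Sylow 2 G, (P : Subgroup G).Normal) ↔ ∀ (q : ℕ) [Fact q.Prime], q ≠ 2 → q ∣ Nat.card G → ∀ T : Sylow q G, ∀ P : Sylow 2 ↥(Subgroup.normalizer (Cfsg.centerThompsonAOf (T : Subgroup G) : Set G)), (P : Subgroup ↥(Subgroup.normalizer (Cfsg.centerThompsonAOf (T : Subgroup G) : Set G))).Normal) ∧ ((∀ P : Sylow 2 G, (P : Subgroup G).Normal) ↔ ∀ (q : ℕ) [Fact q.Prime], q ≠ 2 → ∀ T : Sylow q G, ∀ x ∈ (T : Subgroup G), x ≠ 1 → ∀ g ∈ Subgroup.normalizer (Cfsg.centerThompsonAOf (T : Subgroup G) : Set G), g * x * g⁻¹ ≠ x⁻¹) := by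
  have k : ∀ (q : ℕ) [Fact q.Prime], q ≠ 2 → ∀ T : Sylow q G, (∀ P : Sylow 2 𝐍(centerThompsonAOf
      (T : Subgroup G)), P.1.Normal) → ∀ x ∈ (T : Subgroup G), x ≠ 1 →
      ∀ g ∈ 𝐍(centerThompsonAOf (T : Subgroup G)), g * x * g⁻¹ ≠ x⁻¹ := fun q _ hq T h x hx x1 g hg e => by
    obtain ⟨k, hk⟩ := T.isPGroup' ⟨x, hx⟩
    exact not_iv hq h ⟨⟨g, hg⟩, trivial, ⟨x, centerThompsonAOf_eq (T : Subgroup G) ▸ norm_zj _ (le_normalizer hx)⟩,
      trivial, ⟨k, Subtype.ext (congrArg Subtype.val hk :)⟩, fun e => x1 (congrArg Subtype.val e), Subtype.ext e⟩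
  exact ⟨⟨fun h q _ _ _ T => sub h _, fun h => ca fun q _ hq T x hx x1 => k q hq T (h q hq
    ((dvd_card_of_ne_bot T.isPGroup' le_top fun e => x1 (mem_bot.1 (e ▸ hx))).trans card_top.dvd) T) x hx x1⟩,
    fun h q _ hq T => k q hq T (sub h _), ca⟩

end Cfsg.Agent.S2756
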