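import Mathlib
import Cfsg.Statements.S2775
import Cfsg.Agent.GsD.SB
import Cfsg.Agent.JRE.Known

set_option autoImplicit false
universe u
open Cfsg

namespace Cfsg.Agent.S2775

open Subgroup Cfsg.Agent.GW Cfsg.Agent.LocalEven Cfsg.Agent.Gs Cfsg.Agent.GsD

/-- Goldschmidt's Theorem on strongly closed abelian 2-subgroups, structural form: let S be a Sylow 2-subgroup of a finite group G and A an abelian subgroup of S strongly closed in S with respect to G; put K = ⟨A^G⟩ and let bars denote images in K/O_{2'}(K). Then K̄ = O₂(K̄)·[K̄, K̄] with O₂(K̄) central in K̄; Ā = O₂(K̄)·Ω₁(T̄) for some Sylow 2-subgroup T̄ of K̄ containing Ā (Ω₁ the subgroup generated by involutions); and [K̄, K̄] modulo its centre is a direct product of non-abelian simple Goldschmidt groups. -/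
theorem result {G : Type u} [Group G] [Finite G] (S : Sylow 2 G) (A : Subgroup G) (hA : IsMulCommutative ↥A) (hsc : Cfsg.IsStronglyClosed A (S : Subgroup G)) (K : Subgroup G) (hK : K = Subgroup.normalClosure (A : Set G)) (Q : Type u) [Group Q] (π : ↥K →* Q) (hπ : Function.Surjective π) (hker : π.ker = Cfsg.pPrimeCore 2 ↥K) : Cfsg.pCore 2 Q ⊔ commutator Q = ⊤ ∧ Cfsg.pCore 2 Q ≤ Subgroup.center Q ∧ (∃ T : Sylow 2 Q, (A.subgroupOf K).map π ≤ (T : Subgroup Q) ∧ (A.subgroupOf K).map π = Cfsg.pCore 2 Q ⊔ Cfsg.omegaOne 2 (T : Subgroup Q)) ∧ ∃ (ι : Type) (_ : Fintype ι) (L : ι → Type u) (_ : ∀ i, Group (L i)), (∀ i, IsSimpleGroup (L i) ∧ ¬ IsMulCommutative (L i) ∧ Cfsg.IsGoldschmidtGroup (L i)) ∧ Nonempty (↥(commutator Q) ⧸ Subgroup.center ↥(commutator Q) ≃* ((i : ι) → L i)) := by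
  haveI : Finite Q := Finite.of_surjective π hπ
  haveI : K.Normal := hK ▸ inferInstance
  have hAK : A ≤ K := hK ▸ le_normalClosure
  have hT := sylow_inf_normal S K
  have h : SA (A.subgroupOf K) (((S : Subgroup G) ⊓ K).subgroupOf K) :=
    ⟨subgroupOf_self K ▸ hT.subgroupOf le_rfl, fun a ha => ⟨hsc.1 ha, a.2⟩,
      fun a ha g hg => hsc.2 a ha g hg.1,
      fun a ha b hb => Subtype.ext (congrArg Subtype.val (hA.is_comm.comm (⟨a, ha⟩ : A) ⟨b, hb⟩) :)⟩
  have h' := h.map π hπ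
  obtain ⟨h1, h2, h3, n, L, _, _, h4, h5⟩ := h'.main (by
    rw [← Core.map_pPrimeCore_equiv 2 ((QuotientGroup.quotientMulEquivOfEq hker.symm).trans
      (QuotientGroup.quotientKerEquivOfSurjective π hπ)), Core.pPrimeCore_quotient_pPrimeCore,
      Subgroup.map_bot]) fun N hN hle => by
    have k : K ≤ (N.comap π).map K.subtype := hK.le.trans ((closure_le _).2 fun x hx => by
      obtain ⟨a, ha, hx⟩ := Group.mem_conjugatesOfSet_iff.1 hx
      obtain ⟨g, rfl⟩ := isConj_iff.1 hx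
      have m := Normal.conj_mem inferInstance a (hAK ha) g
      obtain ⟨j, hj⟩ := isPGroup_iff_mem.1 S.2 a (hsc.1 ha)
      obtain ⟨k, hk, hk'⟩ := hT.exists_conj_mem m (k := j) (by rw [conj_pow, hj]; simp)
      have h1 := hsc.2 a ha (k * g) (by convert (mem_inf.1 hk').1 using 1; group)
      have h2 := (hN.comap π).conj_mem ⟨_, hAK h1⟩ (hle (mem_map_of_mem π h1)) ⟨k, hk⟩⁻¹
      exact ⟨_, h2, by simp [mul_assoc]⟩)
    refine eq_top_iff.2 fun x _ => ?_
    obtain ⟨x, rfl⟩ := hπ x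
    obtain ⟨y, hy, e⟩ := k x.2
    exact Subtype.ext e ▸ hy
  obtain ⟨T, hT'⟩ := h'.syl.exists_sylow_top
  exact ⟨h1, h2, ⟨T, hT' ▸ h'.le, hT' ▸ h3⟩, Fin n, inferInstance, L, inferInstance, fun i =>
    haveI := (h4 i).1
    ⟨(h4 i).1, (h4 i).2.1, JRE.goldschmidt_of_gold (h4 i).2.1 (h4 i).2.2⟩, h5⟩

end Cfsg.Agent.S2775
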