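import Cfsg.Statements.S2787
import Cfsg.Agent.Mix26.Qd1
-- import your own Cfsg.Agent.* helpers here

set_option autoImplicit false
open Cfsg

namespace Cfsg.Agent.S2787

open Cfsg.Agent.Mix26


/-- Let p be a prime and let H act by conjugation on the elementary abelian p-subgroup V of a finite group, irreducibly (no H-invariant subgroups of V other than 1 and V) and nontrivially, and suppose H/C_H(V) is isomorphic to PSL₂(F) for a field F with p^n elements, p^n odd, or p = 3 and H/C_H(V) is isomorphic to a Ree group ²G₂(3^(2m+1)), m ≥ 1. Then no subgroup A of H acting nontrivially on V acts quadratically: [V, A, A] = 1 forces [V, A] = 1. -/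
theorem result {G : Type*} [Group G] [Finite G] {p : ℕ} [Fact p.Prime] (V H : Subgroup G) (hV : Cfsg.IsElementaryAbelian p V) (hHV : H ≤ Subgroup.normalizer (V : Set G)) (hirr : ∀ U : Subgroup G, U ≤ V → H ≤ Subgroup.normalizer (U : Set G) → U = ⊥ ∨ U = V) (hnt : ¬ H ≤ Subgroup.centralizer (V : Set G)) [hn : ((Subgroup.centralizer (V : Set G)).subgroupOf H).Normal] (hq : (∃ (F : Type) (_ : Field F) (_ : Fintype F) (n : ℕ), Fintype.card F = p ^ n ∧ Odd (Fintype.card F) ∧ Nonempty (↥H ⧸ (Subgroup.centralizer (V : Set G)).subgroupOf H ≃* Matrix.ProjectiveSpecialLinearGroup (Fin 2) F)) ∨ (p = 3 ∧ Cfsg.Lie.IsoRee (↥H ⧸ (Subgroup.centralizer (V : Set G)).subgroupOf H))) (A : Subgroup G) (hA : A ≤ H) (hquad : ⁅⁅V, A⁆, A⁆ = ⊥) : ⁅V, A⁆ = ⊥ := by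
    have key : PLocal.NoQuadPair p (↥H ⧸ (Subgroup.centralizer (V : Set G)).subgroupOf H) ∧
        pCore p (↥H ⧸ (Subgroup.centralizer (V : Set G)).subgroupOf H) = ⊥ := by
      have tr : ∀ (X : Type) [Group X], PLocal.NoQuadPair p X → pCore p X = ⊥ →
          Nonempty (↥H ⧸ (Subgroup.centralizer (V : Set G)).subgroupOf H ≃* X) →
          PLocal.NoQuadPair p (↥H ⧸ (Subgroup.centralizer (V : Set G)).subgroupOf H) ∧
          pCore p (↥H ⧸ (Subgroup.centralizer (V : Set G)).subgroupOf H) = ⊥ := by
        rintro X _ h1 h2 ⟨e⟩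
        haveI : Finite X := Finite.of_equiv _ e.toEquiv
        refine ⟨h1.of_injective e.toMonoidHom e.injective, ?_⟩
        have h3 : (pCore p (↥H ⧸ (Subgroup.centralizer (V : Set G)).subgroupOf H)).map e.toMonoidHom ≤
            pCore p X := Core.le_pCore
              (Subgroup.Normal.map inferInstance e.toMonoidHom e.surjective)
              ((Core.pCore_isPGroup p).map _)
        rw [h2, le_bot_iff, Subgroup.map_eq_bot_iff_of_injective _ e.injective] at h3
        exact h3
      rcases hq with ⟨F, _, _, n, hF, hodd, he⟩ | ⟨rfl, K, _, _, m, hm, hK, he⟩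
      · haveI := Push.charP_of_card hF
        have hp : p ≠ 2 := by
          rintro rfl
          have h1 : 1 < Fintype.card F := Fintype.one_lt_card
          rw [hF] at hodd h1
          rcases n with _ | n
          · simp at h1
          · exact absurd hodd (by simp [pow_succ])
        exact tr _ ((dihTwo_psl hodd).noQuadPair hp) (pCore_psl F) he
      · obtain ⟨h1, h2⟩ := S1073.result hm hK
        haveI : Finite (Cfsg.Lie.twistedG2 K (3 ^ m)) := by
          obtain ⟨e⟩ := he
          exact Finite.of_equiv _ e.toEquiv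
        exact tr _ ((abelianTwo_ree hK).noQuadPair (by norm_num)) (pCore_eq_bot_of_simple h2) he
    rw [Subgroup.commutator_comm, Subgroup.commutator_eq_bot_iff_le_centralizer]
    intro a ha
    exact central_of_noQuadPair hV hHV (QuotientGroup.mk' _) (QuotientGroup.mk'_surjective _)
      (QuotientGroup.ker_mk' _) key.1 key.2 (hA ha) (PLocal.Quad.of_commutator hquad ha)

end Cfsg.Agent.S2787
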