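import Cfsg.Statements.S2799
import Cfsg.Agent.Push.S4
import Cfsg.Agent.Fusion.Func3

set_option autoImplicit false
open Cfsg

namespace Cfsg.Agent.S2799

open Cfsg.Agent.LocalEven Cfsg.Agent.Glaub

open Cfsg.Agent.Push Subgroup

theorem loc {G : Type*} [Group G] [Finite G] {p : ℕ} [Fact p.Prime] {H T : Subgroup G}
    (hT : IsSylowIn p T H) (hn : ¬ H ≤ 𝐍⟮PLocal.jn 0 T⟯) : ∃ g ∈ T, g ∉ pCoreOf p H ∧
      ⁅⁅pCoreOf p H ⊓ 𝐂⟮pCoreOf p H⟯, zpowers g⁆, zpowers g⁆ = ⊥ := by
  have n1 := le_normalizer_pCoreOf (p := p) H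
  rw [← PLocal.thompsonSubgroupOf_eq] at hn
  obtain ⟨A, hA, hAQ⟩ : ∃ A ∈ Transfer.MaxEA 0 T, ¬ A ≤ pCoreOf p H := by
    by_contra! e
    rw [← Transfer.thompsonSubgroupOf_eq_of_le (Transfer.thompsonSubgroupOf_le_iff.2 e)
      hT.pCoreOf_le] at hn
    exact hn (n1.trans (Transfer.normalizer_le_normalizer_thompsonSubgroupOf _))
  by_cases h : A ≤ 𝐂⟮pCoreOf p H ⊓ 𝐂⟮pCoreOf p H⟯⟯
  · obtain ⟨g, g1, g2⟩ := SetLike.not_le_iff_exists.1 hAQ
    refine ⟨g, hA.1 g1, g2, ?_⟩
    rw [Core.le_centralizer_iff_commutator_eq_bot.1 ((zpowers_le.2 g1).trans h), commutator_bot_left]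
  obtain ⟨B, b1, b2, b3, -⟩ := Transfer.exists_quadratic_offender hT.pgrp hA
    (inf_le_left.trans hT.pCoreOf_le) ⟨isMulCommutative_center _, fun a _ => pow_zero a⟩
    ((hA.1.trans hT.le).trans (le_normalizer_inf n1 (le_normalizer_centralizer n1))) h
  obtain ⟨g, g1, g2⟩ := SetLike.not_le_iff_exists.1 b3
  exact ⟨g, hA.1 (b1 g1), fun e => g2 (le_cent_comm inf_le_right e), eq_bot_iff.2
    ((commutator_mono (commutator_mono le_rfl (zpowers_le.2 g1)) (zpowers_le.2 g1)).trans b2.le)⟩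


/-- Let S be a Sylow p-subgroup of the finite group G, J(S) the subgroup generated by the abelian subgroups of S of largest order, and x an element of S lying in the centre of N_G(J(S)). Assume that p is odd, or that x is a p-th power of an element of Z(S), or that the symmetric group of degree 4 is not involved in G. Then x is weakly closed in S with respect to G: every G-conjugate of x that lies in S equals x. -/
theorem result {G : Type*} [Group G] [Finite G] {p : ℕ} [Fact p.Prime] (S : Sylow p G) (x : G) (hxS : x ∈ (S : Subgroup G)) (hxZ : x ∈ (Subgroup.center ↥(Subgroup.normalizer ((Cfsg.thompsonSubgroupAOf (S : Subgroup G)) : Set G))).map (Subgroup.normalizer ((Cfsg.thompsonSubgroupAOf (S : Subgroup G)) : Set G)).subtype) (h : p ≠ 2 ∨ (∃ z ∈ (S : Subgroup G) ⊓ Subgroup.centralizer ((S : Subgroup G) : Set G), z ^ p = x) ∨ ¬ Cfsg.Involves (Equiv.Perm (Fin 4)) G) : ∀ g : G, g * x * g⁻¹ ∈ (S : Subgroup G) → g * x * g⁻¹ = x := by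
  have hS := isSylowIn_top S
  rw [center_map_subtype, Transfer.thompsonSubgroupAOf_eq, PLocal.thompsonSubgroupOf_eq] at hxZ
  have hx : x ∈ 𝐂⟮⊤ ⊓ 𝐍⟮PLocal.jn 0 (S : Subgroup G)⟯⟯ := Push.cent_anti inf_le_right hxZ.2
  have hN := le_cent_comm (zpowers_le.2 hx)
  intro g hg
  have hg' : cj g (zpowers x) ≤ S := by rw [cj_zpowers]; exact zpowers_le.2 hg
  by_cases h2 : p = 2
  swap
  · refine wc_elements Fusion.conjFunctor_jn (fun P _ => Fusion.center_le_jn P)
      (fun H T hT hn => ?_) hS ⟨hxS, hx⟩ (mem_top g) hg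
    obtain ⟨g, g1, g2, g3⟩ := loc (isSylowIn_subgroupOf_top hT) fun e => hn (by
      rw [Fusion.jn_subgroupOf hT.le] at e
      rw [← map_subgroupOf_eq_of_le ((PLocal.jn_le T).trans hT.le)]
      haveI := normalizer_eq_top_iff.1 (top_le_iff.1 e)
      exact le_normalizer_map_subtype _)
    rw [pCoreOf_top] at g2 g3
    have := (Fact.out : p.Prime).two_le
    exact ⟨g, g1, g2, (good_of_eq_bot (n := 2) g3).mono le_rfl (by omega) le_rfl⟩
  rcases h.resolve_left (not_not.2 h2) with ⟨z, hz, rfl⟩ | hf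
  · exact mem_cent_zpowers.1 (wc_mho Fusion.conjFunctor_jn (fun P _ => Fusion.center_le_jn P)
      (fun H T => loc) hS (zpowers_le.2 (subset_closure ⟨z, hz, rfl⟩))
      (centralizer_le_normalizer' _) le_rfl hN (mem_top g) hg')
  subst h2
  rw [Transfer.involves_iff_isSectionOf] at hf
  refine mem_cent_zpowers.1 (weak_red Fusion.conjFunctor_jn (fun P _ => Fusion.center_le_jn P)
    (le_refl (zpowers x)) (centralizer_le_normalizer' _) (fun K T hT h1 h2 h3 h4 => ?_) hS
    (zpowers_le.2 ⟨hxS, Push.cent_anti (le_inf le_top (le_normalizer.trans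
      (PLocal.normalizer_le_normalizer_jn 0 _))) hx⟩) hN (mem_top g) hg')
  by_contra h5
  have t1 : T ≤ 𝐂⟮zpowers x⟯ := le_cent_comm (h1.trans inf_le_right)
  rcases le_pCoreOf_or_of_free hf hT (minIn_of_sylow hT
    (fun e => h3 (e.trans (PLocal.normalizer_le_normalizer_jn 0 _))) (le_inf hT.le t1)
    (inf_lt_left.2 h5) fun X a b => le_inf b.le (h4 X a b)) (Or.inl rfl) with e | e
  · rw [← PLocal.thompsonSubgroupOf_eq, ← Transfer.thompsonSubgroupOf_eq_of_le e hT.pCoreOf_le] at h3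
    exact h3 ((le_normalizer_pCoreOf K).trans
      (Transfer.normalizer_le_normalizer_thompsonSubgroupOf _))
  · exact h5 (hT.pResOf_sup.ge.trans (sup_le (e.trans (Push.cent_anti (le_inf h2
      ((h1.trans inf_le_right).trans (Push.cent_anti hT.pCoreOf_le))))) t1))

end Cfsg.Agent.S2799
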