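import Mathlib
import Cfsg.Statements.S2806
import Cfsg.Agent.LocalEven.PRed
import Cfsg.Agent.S3028

set_option autoImplicit false
open Cfsg

namespace Cfsg.Agent.S2806

open Cfsg.Agent.LocalEven

open Subgroup H2 in
theorem kieler_local {G : Type*} [Group G] [Finite G] {p : ℕ} [Fact p.Prime]
    (h : ∀ R : Subgroup G, IsPGroup p R → R ≠ ⊥ → CharP p (normalizer (R : Set G)))
    {T L : Subgroup G} (hT : IsSylowIn p T ⊤) (hL : SN ⊤ L) (hne : T ⊓ L ≠ ⊥) :
    L ⊓ centralizer (omegaOneCenter p T : Set G) =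
      L ⊓ centralizer (omegaOneCenter p (T ⊓ L) : Set G) := by
  induction hL with
  | top => rw [inf_top_eq]
  | step A K h1 h2 h3 ih =>
    have hne' : T ⊓ K ≠ ⊥ := fun h0 => hne (le_bot_iff.1 (h0 ▸ inf_le_inf_left T h1))
    have hS := isSylowIn_inf_of_sn hT h3
    have key : ∀ Z : Subgroup G, IsPGroup p Z → Z ≠ ⊥ → T ⊓ K ≤ normalizer (Z : Set G) →
        normalizer (Z : Set G) ⊓ A ⊓ centralizer (omegaOneCenter p (T ⊓ K) : Set G) =
          normalizer (Z : Set G) ⊓ A ⊓ centralizer (omegaOneCenter p (T ⊓ A) : Set G) := by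
      intro Z hZ hZ1 hn
      have h4 := h3.inf (normalizer (Z : Set G))
      rw [top_inf_eq, inf_comm] at h4
      have h5 := kieler_normal (L := normalizer (Z : Set G) ⊓ A) (charP_of_sn (h Z hZ hZ1) h4)
        (hS.mono (le_inf hn inf_le_right) inf_le_right) (inf_le_inf_left _ h1)
        (le_normalizer_inf (inf_le_left.trans le_normalizer) (inf_le_right.trans h2))
      have h6 : T ⊓ K ⊓ (normalizer (Z : Set G) ⊓ A) = T ⊓ A :=
        le_antisymm (inf_le_inf inf_le_left inf_le_right) (le_inf (inf_le_inf_left T h1)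
          (le_inf ((inf_le_inf_left T h1).trans hn) inf_le_right))
      rwa [h6] at h5
    have h4 : A ⊓ centralizer (omegaOneCenter p (T ⊓ K) : Set G) =
        A ⊓ centralizer (omegaOneCenter p (T ⊓ A) : Set G) := by
      apply le_antisymm
      · have h5 := key _ (isPGroup_of_elemAb (elemAb_omegaOneCenter (T ⊓ K)))
          (omegaOneCenter_ne_bot hS.pgrp hne')
          (le_normalizer.trans (normalizer_le_normalizer_omegaOneCenter _))
        exact (le_inf (le_inf (inf_le_right.trans (centralizer_le_normalizer' _)) inf_le_left)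
          inf_le_right).trans (h5.le.trans (inf_le_inf_right _ inf_le_right))
      · have h5 := key _ (isPGroup_of_elemAb (elemAb_omegaOneCenter (T ⊓ A)))
          (omegaOneCenter_ne_bot (hT.pgrp.to_le inf_le_left) hne)
          ((le_normalizer_inf (inf_le_left.trans le_normalizer) (inf_le_right.trans h2)).trans
            (normalizer_le_normalizer_omegaOneCenter _))
        exact (le_inf (le_inf (inf_le_right.trans (centralizer_le_normalizer' _)) inf_le_left)
          inf_le_right).trans (h5.ge.trans (inf_le_inf_right _ inf_le_right))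
    rw [← h4, ← inf_eq_left.2 h1, inf_assoc, ih hne', ← inf_assoc]

open Subgroup H2 in
theorem pointStabilizer_eq {G : Type*} [Group G] [Finite G] {p : ℕ} [Fact p.Prime]
    (h : ∀ R : Subgroup G, IsPGroup p R → R ≠ ⊥ → CharP p (normalizer (R : Set G)))
    {T L : Subgroup G} (hT : IsSylowIn p T ⊤) (hL : SN ⊤ L) :
    pointStabilizer p L (T ⊓ L) =
      pElementClosure p (L ⊓ centralizer (omegaOneCenter p T : Set G)) := by
  change pElementClosure p (L ⊓ centralizer (omegaOneCenter p (T ⊓ L) : Set G)) = _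
  by_cases hne : T ⊓ L = ⊥
  · have hS := isSylowIn_inf_of_sn hT hL
    have h1 : pElementClosure p L ≤ ⊥ := hS.pElementClosure_le hne.le
      (by rw [normalizer_eq_top]; exact le_top)
    rw [le_bot_iff.1 ((pElementClosure_mono inf_le_left).trans h1),
      le_bot_iff.1 ((pElementClosure_mono inf_le_left).trans h1)]
  · rw [kieler_local h hT hL hne]

open Subgroup H2 in
theorem pElementClosure_le_of_sn {G : Type*} [Group G] [Finite G] {p : ℕ} [Fact p.Prime]
    {K P T : Subgroup G} (hT : IsSylowIn p T K) (hP : SN K P) (h : T ≤ P) :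
    pElementClosure p K ≤ P := by
  induction hP with
  | top => exact pElementClosure_le _
  | step A B h1 h2 h3 ih =>
    rw [← pElementClosure_eq_of_le (ih (h.trans h1)) h3.le]
    exact (hT.mono (h.trans h1) h3.le).pElementClosure_le h h2

/-- Let H be a finite group of local characteristic p, T a Sylow p-subgroup, and L₁, L₂ subnormal subgroups of H generating the subgroup L. Then the point stabilizer of L with respect to T ∩ L is generated by the point stabilizers of L₁ and L₂ with respect to T ∩ L₁ and T ∩ L₂ (point stabilizer of X w.r.t. R: the subgroup generated by the p-elements of X centralizing Ω₁(Z(R))). -/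
theorem result {H : Type*} [Group H] [Finite H] {p : ℕ} [Fact p.Prime] (hH : Cfsg.IsOfLocalCharacteristic p H) (T : Sylow p H) (L₁ L₂ : Subgroup H) (h₁ : L₁.IsSubnormal) (h₂ : L₂.IsSubnormal) : Cfsg.pointStabilizer p (L₁ ⊔ L₂) ((T : Subgroup H) ⊓ (L₁ ⊔ L₂)) = Cfsg.pointStabilizer p L₁ ((T : Subgroup H) ⊓ L₁) ⊔ Cfsg.pointStabilizer p L₂ ((T : Subgroup H) ⊓ L₂) := by
  have h : ∀ R : Subgroup H, IsPGroup p R → R ≠ ⊥ → CharP p (Subgroup.normalizer (R : Set H)) :=
    fun R h1 h2 => LocalEven.charP_iff.2 (hH.2 R h1 h2)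
  have hT := isSylowIn_top T
  have s1 := H2.SN.top_iff.2 h₁
  have s2 := H2.SN.top_iff.2 h₂
  have s3 := s1.sup s2
  rw [pointStabilizer_eq h hT s1, pointStabilizer_eq h hT s2, pointStabilizer_eq h hT s3]
  set C := Subgroup.centralizer (omegaOneCenter p (T : Subgroup H) : Set H)
  have hTC : (T : Subgroup H) ≤ C := le_centralizer_omegaOneCenter _
  refine le_antisymm ?_ (sup_le (pElementClosure_mono (inf_le_inf_right C le_sup_left))
    (pElementClosure_mono (inf_le_inf_right C le_sup_right)))
  have key : ∀ L : Subgroup H, H2.SN ⊤ L → L ≤ L₁ ⊔ L₂ →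
      H2.SN ((L₁ ⊔ L₂) ⊓ C) (pElementClosure p (L ⊓ C)) := fun L hL hle =>
    ((hL.mono hle le_top).inf C).trans
      (H2.SN.of_normal (pElementClosure_le _) (le_normalizer_pElementClosure _))
  refine pElementClosure_le_of_sn ((isSylowIn_inf_of_sn hT s3).mono
    (le_inf inf_le_right (inf_le_left.trans hTC)) inf_le_left)
    ((key L₁ s1 le_sup_left).sup (key L₂ s2 le_sup_right)) ?_
  rw [inf_comm, S3028.result T L₁ L₂ h₁ h₂]
  exact sup_le_sup (le_pElementClosure (hT.pgrp.to_le inf_le_right) (inf_le_inf_left _ hTC))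
    (le_pElementClosure (hT.pgrp.to_le inf_le_right) (inf_le_inf_left _ hTC))

end Cfsg.Agent.S2806
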