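import Mathlib
import Cfsg.Statements.S2809
import Cfsg.Agent.LocalEven.CharP2

set_option autoImplicit false
open Cfsg

namespace Cfsg.Agent.S2809

open Cfsg.Agent.LocalEven

/-- Let H be a finite group, p a prime, R a p-subgroup of H with C_H(R) ≤ R, and L a subgroup of N_H(R) acting nilpotently on R (some iterated commutator [R, L, …, L] is trivial). Then L is a p-group. -/
theorem result {H : Type*} [Group H] [Finite H] {p : ℕ} [Fact p.Prime] (R : Subgroup H) (hR : IsPGroup p ↥R) (hC : Subgroup.centralizer (R : Set H) ≤ R) (L : Subgroup H) (hL : L ≤ Subgroup.normalizer (R : Set H)) (hnil : ∃ n : ℕ, Cfsg.iterCommutator R L n = ⊥) : IsPGroup p ↥L := by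
  refine isPGroup_of_pResOf_le hR (le_trans (pResOf_le_iff.2 fun x hx hc => ?_) hC)
  have h1 : ∀ n, iterCommutator R L n ≤ R := by
    intro n
    induction n with
    | zero => exact le_rfl
    | succ n ih =>
      exact (Subgroup.commutator_mono ih le_rfl).trans (commutator_le_left_of_le_normalizer hL)
  have key : ∀ k n, iterCommutator R L (n + k) = ⊥ →
      x ∈ Subgroup.centralizer (iterCommutator R L n : Set H) := by
    intro k
    induction k with
    | zero => intro n hn; rw [show iterCommutator R L n = ⊥ from hn, centralizer_bot']; trivial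
    | succ k ih =>
      intro n hn
      exact mem_centralizer_of_coprime_of_section (hR.to_le (h1 (n + 1))) hc
        (ih (n + 1) (by rwa [add_right_comm])) (Subgroup.commutator_mono le_rfl
          (Subgroup.zpowers_le.2 hx))
  obtain ⟨n, hn⟩ := hnil
  exact key n 0 (by rwa [zero_add])

end Cfsg.Agent.S2809
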