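import Mathlib
import Cfsg.Statements.S2810
import Cfsg.Agent.LocalEven.WeakCl

set_option autoImplicit false
open Cfsg

namespace Cfsg.Agent.S2810

open Cfsg.Agent.LocalEven

/-- Let H be a finite group of characteristic p and L a subgroup of H centralizing every factor of some H-invariant chain 1 = A₀ ≤ A₁ ≤ … ≤ Aₙ = O_p(H) of normal subgroups (that is, [A_{i+1}, L] ≤ Aᵢ for each i). Then L ≤ O_p(H). -/
theorem result {H : Type*} [Group H] [Finite H] {p : ℕ} [Fact p.Prime] (hchar : Subgroup.centralizer (Cfsg.pCore p H : Set H) ≤ Cfsg.pCore p H) (L : Subgroup H) (n : ℕ) (A : Fin (n + 1) → Subgroup H) (h0 : A 0 = ⊥) (hn : A (Fin.last n) = Cfsg.pCore p H) (hmono : Monotone A) (hnorm : ∀ i, (A i).Normal) (hcent : ∀ i : Fin n, ⁅A i.succ, L⁆ ≤ A i.castSucc) : L ≤ Cfsg.pCore p H := by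
  have hN : ∀ i, (⊤ : Subgroup H) ≤ Subgroup.normalizer (A i : Set H) := fun i => by
    haveI := hnorm i; rw [Subgroup.normalizer_eq_top]
  have h1 : ∀ i : Fin n, ⁅A i.succ, cjClos L ⊤⁆ ≤ A i.castSucc := fun i =>
    (le_centMod.1 (cjClos_le (le_centMod.2 ⟨le_top.trans (hN _), hcent i⟩)
      (le_normalizer_centMod (hN _) (hN _)))).2
  have hp : ∀ i, IsPGroup p (A i) := fun i => isPGroup_pCore.to_le (hn ▸ hmono (Fin.le_last i))
  refine (le_cjClos L ⊤).trans (le_pCore (Subgroup.normalizer_eq_top_iff.1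
    (top_le_iff.1 (le_normalizer_cjClos L ⊤))) (isPGroup_of_pResOf_le (isPGroup_pCore (p := p))
      (le_trans (pResOf_le_iff.2 fun x hx hc => ?_) hchar)))
  rw [← hn]
  have key : ∀ i, x ∈ Subgroup.centralizer (A i : Set H) := by
    intro i
    induction i using Fin.induction with
    | zero => rw [h0, centralizer_bot']; trivial
    | succ i ih =>
      exact mem_centralizer_of_coprime_of_section (hp _) hc ih
        ((Subgroup.commutator_mono le_rfl (Subgroup.zpowers_le.2 hx)).trans (h1 i))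
  exact key _

end Cfsg.Agent.S2810
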