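import Mathlib
import Cfsg.Statements.S2813
import Cfsg.Agent.LocalEven.WeakCl

set_option autoImplicit false
open Cfsg

namespace Cfsg.Agent.S2813

open Cfsg.Agent.LocalEven

/-- Let K be a subgroup of the finite group H with O_p(K) = 1 and Y a p-subgroup of N_H(K) with [K, Y, Y] = 1. Then [K, Y] = 1. -/
theorem result {H : Type*} [Group H] [Finite H] {p : ℕ} [Fact p.Prime] (K : Subgroup H) (hO : Cfsg.pCore p ↥K = ⊥) (Y : Subgroup H) (hY : IsPGroup p ↥Y) (hYK : Y ≤ Subgroup.normalizer (K : Set H)) (hq : ⁅⁅K, Y⁆, Y⁆ = ⊥) : ⁅K, Y⁆ = ⊥ := by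
  have h1 : cjClos Y K ≤ Subgroup.normalizer (Y : Set H) := by
    rw [cjClos_eq_commutator_sup]
    exact sup_le ((LocalEven.commutator_eq_bot_iff.1 hq).trans (centralizer_le_normalizer' Y))
      Subgroup.le_normalizer
  have h2 : cjClos Y K ≤ pCoreOf p (cjClos Y K) := by
    conv_lhs => rw [cjClos]
    exact cjClos_le (le_pCoreOf (le_cjClos Y K) h1 hY)
      ((le_normalizer_cjClos Y K).trans (normalizer_le_normalizer_pCoreOf _))
  rw [← le_bot_iff, ← pCoreOf_eq_bot_iff.2 hO]
  refine le_pCoreOf (commutator_le_left_of_le_normalizer hYK) (left_le_normalizer_commutator K Y)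
    (isPGroup_of_le_pCoreOf (le_trans ?_ h2))
  rw [cjClos_eq_commutator_sup]; exact le_sup_left

end Cfsg.Agent.S2813
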