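import Mathlib
import Cfsg.Statements.S2814
import Cfsg.Agent.LocalEven.PIrr

set_option autoImplicit false
open Cfsg

namespace Cfsg.Agent.S2814

open Cfsg.Agent.LocalEven

/-- Let A be a subgroup of the finite group H and K the subnormal closure of A (intersection of the subnormal subgroups containing A). Then K is the normal closure of A inside K and N_H(A) ≤ N_H(K); K = A·O^p(K), O^p(K) being generated by the elements of K of order prime to p; and if A is a p-group, O^p(K) = [O^p(K), A]. -/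
theorem result {H : Type*} [Group H] [Finite H] {p : ℕ} [Fact p.Prime] (A : Subgroup H) (K : Subgroup H) (hK : K = Cfsg.subnormalClosure A) : (Subgroup.normalClosure ((A.subgroupOf K : Subgroup ↥K) : Set ↥K)).map K.subtype = K ∧ Subgroup.normalizer (A : Set H) ≤ Subgroup.normalizer (K : Set H) ∧ A ⊔ (Cfsg.pResidual p ↥K).map K.subtype = K ∧ (IsPGroup p ↥A → ⁅(Cfsg.pResidual p ↥K).map K.subtype, A⁆ = (Cfsg.pResidual p ↥K).map K.subtype) := by
  have hAK : A ≤ K := hK ▸ le_sInf fun X hX => hX.1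
  have hmin : ∀ X : Subgroup H, A ≤ X → H2.SN ⊤ X → K ≤ X := fun X h1 h2 =>
    hK ▸ sInf_le ⟨h1, H2.SN.top_iff.1 h2⟩
  have hsn : H2.SN ⊤ K := by
    obtain ⟨X, ⟨h1, h2⟩, hX⟩ := exists_minimal_of_wellFoundedLT
      (fun X : Subgroup H => A ≤ X ∧ H2.SN ⊤ X) ⟨⊤, le_top, H2.SN.top⟩
    have : K = X := le_antisymm (hmin X h1 h2) (hK ▸ le_sInf fun Y hY =>
      (hX ⟨le_inf h1 hY.1, h2.inf' (H2.SN.top_iff.2 hY.2)⟩ inf_le_left).trans inf_le_right)
    rwa [this]
  have h1 : cjClos A K = K := le_antisymm (cjClos_le_self hAK) (hmin _ (le_cjClos A K)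
    (hsn.trans (H2.SN.of_normal (cjClos_le_self hAK) (le_normalizer_cjClos A K))))
  have h2 : A ⊔ pResOf p K = K := le_antisymm (sup_le hAK (pResOf_le K)) (hmin _ le_sup_left
    (hsn.trans (sn_of_pResOf_le le_sup_right (sup_le hAK (pResOf_le K)))))
  refine ⟨by rw [normalClosure_subgroupOf_map hAK, h1], le_normalizer_of_cj_le fun g hg => ?_, h2,
    fun hA => commutator_pResOf_eq_of_le hA hAK ?_⟩
  · rw [cj_le_iff]
    refine hmin _ ?_ (H2.SN.top_iff.2 (isSubnormal_cj _ (H2.SN.top_iff.1 hsn)))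
    rw [← cj_le_iff, cj_eq_of_mem_normalizer hg]; exact hAK
  · rw [← cjClos_sup_self (hAK.trans (le_normalizer_pResOf K)), sup_comm, h2, h1]
    exact pResOf_le K

end Cfsg.Agent.S2814
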