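import Mathlib
import Cfsg.Statements.S2815
import Cfsg.Agent.LocalEven.FStar

set_option autoImplicit false
open Cfsg

namespace Cfsg.Agent.S2815

open Cfsg.Agent.LocalEven

/-- Let H be a finite group and p a prime dividing its order with O_p(H) = 1, and suppose K = O^p(H) (generated by the elements of order prime to p) is quasisimple. Then K = F*(H); for every nontrivial p-subgroup Y of H, K = [K, Y] and K lies in the subgroup generated by the K-conjugates of Y; every normal subgroup of H not containing K has order prime to p; and H is p-irreducible. -/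
theorem result {H : Type*} [Group H] [Finite H] {p : ℕ} [Fact p.Prime] (hp : p ∣ Nat.card H) (hO : Cfsg.pCore p H = ⊥) (hq : Cfsg.IsQuasisimple ↥(Cfsg.pResidual p H)) : Cfsg.pResidual p H = Cfsg.generalizedFittingSubgroup H ∧ (∀ Y : Subgroup H, IsPGroup p ↥Y → Y ≠ ⊥ → ⁅Cfsg.pResidual p H, Y⁆ = Cfsg.pResidual p H ∧ Cfsg.pResidual p H ≤ ⨆ k : ↥(Cfsg.pResidual p H), Y.map (MulAut.conj (k : H)).toMonoidHom) ∧ (∀ C : Subgroup H, C.Normal → ¬ Cfsg.pResidual p H ≤ C → (Nat.card ↥C).Coprime p) ∧ Cfsg.IsPIrreducible p H := by
  haveI : (pResidual p H).Normal := pResOf_top (p := p) (G := H) ▸ pResOf_normal ⊤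
  set K := pResidual p H with hK
  have hc : IsComponent K := ⟨Subgroup.Normal.isSubnormal inferInstance, hq⟩
  have hF : K = generalizedFittingSubgroup H := by
    refine le_antisymm (Comp2.component_le_genFitting hc) (sup_le ?_ ?_)
    · refine Comp2.layer_le_iff.2 fun L hL => Comp2.le_of_perfect_of_isSolvable_quotient
        (Comp2.component_commutator_self hL) (Core.solvable_of_isPGroup (p := p) ?_)
      have h1 := (isPGroup_map_iff (p := p) (QuotientGroup.mk' K) (X := ⊤)).2
        (by rw [QuotientGroup.ker_mk', pResOf_top])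
      rw [Subgroup.map_top_of_surjective _ (QuotientGroup.mk'_surjective K)] at h1
      exact h1.of_equiv Subgroup.topEquiv
    · rw [hK, ← pResOf_top]; exact le_pResOf_of_coprime le_top (coprime_fitting hO)
  have h1 : ∀ C : Subgroup H, C.Normal → ¬ K ≤ C → (Nat.card C).Coprime p := by
    intro C hC hne
    have h2 := (Comp2.component_le_or_commutator_eq_bot_of_normal hc C).resolve_left hne
    rw [Comp2.commutator_eq_bot_comm, LocalEven.commutator_eq_bot_iff, hF] at h2
    exact Comp2.coprime_card_of_le (h2.trans Comp2.centralizer_genFitting_le_fitting)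
      (coprime_fitting hO)
  refine ⟨hF, fun Y hY hne => ?_, h1, fun h => ?_, fun N hN hc => ?_⟩
  · have h2 : ⁅K, Y⁆ = K := by
      refine (Comp2.quasisimple_commutator_eq_or_eq_bot hq
        (by rw [Subgroup.normalizer_eq_top]; exact le_top)).resolve_right fun h => hne ?_
      rw [Comp2.commutator_eq_bot_comm, LocalEven.commutator_eq_bot_iff, hF] at h
      exact eq_bot_of_le_centralizer_genFitting hO hY h
    refine ⟨h2, ?_⟩
    change K ≤ cjClos Y K
    rw [cjClos_eq_commutator_sup, h2]; exact le_sup_left
  · have h2 := IsSylowIn.ne_bot (pcl_top_iff.1 h) (by rwa [Subgroup.card_top])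
    rw [pCoreOf_top] at h2
    exact h2 hO
  · by_contra hne
    exact hc (pcl_iff.2 (pcl_of_not_dvd (not_dvd_of_coprime (h1 N hN hne))))

end Cfsg.Agent.S2815
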