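import Mathlib
import Cfsg.Statements.S2816
import Cfsg.Agent.LocalEven.FStar

set_option autoImplicit false
open Cfsg

namespace Cfsg.Agent.S2816

open Cfsg.Agent.LocalEven

/-- Let H be a finite group and p a prime with O_p(H) = 1, and Y a p-subgroup of H. Then for every subnormal subgroup K of H containing Y, [F*(H), Y] = [F*(K), Y] = [F*(K), Y, Y]; and if Y₀ ≤ Y with [F*(H), Y, Y₀] = 1 then Y₀ = 1 (in particular [F*(H), Y] = 1 forces Y = 1). -/
theorem result {H : Type*} [Group H] [Finite H] {p : ℕ} [Fact p.Prime] (hO : Cfsg.pCore p H = ⊥) (Y : Subgroup H) (hY : IsPGroup p ↥Y) : (∀ K : Subgroup H, K.IsSubnormal → Y ≤ K → ⁅Cfsg.generalizedFittingSubgroup H, Y⁆ = ⁅(Cfsg.generalizedFittingSubgroup ↥K).map K.subtype, Y⁆ ∧ ⁅(Cfsg.generalizedFittingSubgroup ↥K).map K.subtype, Y⁆ = ⁅⁅(Cfsg.generalizedFittingSubgroup ↥K).map K.subtype, Y⁆, Y⁆) ∧ (∀ Y₀ : Subgroup H, Y₀ ≤ Y → ⁅⁅Cfsg.generalizedFittingSubgroup H, Y⁆, Y₀⁆ = ⊥ → Y₀ = ⊥) := by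
  have hn : ∀ X : Subgroup H, X ≤ Subgroup.normalizer (generalizedFittingSubgroup H : Set H) :=
    fun X => by rw [Subgroup.normalizer_eq_top]; exact le_top
  have h1 := (fs_genFitting hO).commutator_commutator hY (hn Y)
  have h2 := (fs_genFitting hO).commutator_sup_centralizer hY (hn Y)
  refine ⟨fun K hK hYK => ?_, fun Y₀ hY₀ h => ?_⟩
  · have h3 := le_of_sn_of_commutator_eq (H2.SN.top_iff.2 hK) le_top hYK h1
    rw [Comp2.genFitting_map_subtype_eq_inf hK]
    have h4 : ⁅generalizedFittingSubgroup H, Y⁆ = ⁅generalizedFittingSubgroup H ⊓ K, Y⁆ :=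
      le_antisymm (h1.ge.trans (Subgroup.commutator_mono
        (le_inf (Subgroup.commutator_le_left _ _) h3) le_rfl))
        (Subgroup.commutator_mono inf_le_left le_rfl)
    exact ⟨h4, by rw [← h4, h1]⟩
  · refine eq_bot_of_le_centralizer_genFitting hO (hY.to_le hY₀) ?_
    rw [← h2, Subgroup.le_centralizer_iff]
    exact sup_le (LocalEven.commutator_eq_bot_iff.1 h)
      (inf_le_right.trans (Subgroup.centralizer_le hY₀))

end Cfsg.Agent.S2816
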