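import Mathlib
import Cfsg.Statements.S2817
import Cfsg.Agent.LocalEven.FStar

set_option autoImplicit false
open Cfsg

namespace Cfsg.Agent.S2817

open Cfsg.Agent.LocalEven

/-- Let H be a finite group and p a prime with O_p(H) = 1, Q a p-subgroup of H, L = [F*(H), Q], and F the largest normal subgroup of F*(H) centralized by Q (a normal subgroup of F*(H) centralized by Q and containing every such). Then F = C_{F*(H)}(LQ); L = [L, Q]; L ∩ F ≤ Φ(L); every p-subgroup B of N_H(Q) with [L, B] ≤ F satisfies [L, B] = 1; and C_H(FL) has order prime to p. -/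
theorem result {H : Type*} [Group H] [Finite H] {p : ℕ} [Fact p.Prime] (hO : Cfsg.pCore p H = ⊥) (Q : Subgroup H) (hQ : IsPGroup p ↥Q) (L : Subgroup H) (hL : L = ⁅Cfsg.generalizedFittingSubgroup H, Q⁆) (F : Subgroup H) (hF : F ≤ Cfsg.generalizedFittingSubgroup H ∧ Cfsg.generalizedFittingSubgroup H ≤ Subgroup.normalizer (F : Set H) ∧ Q ≤ Subgroup.centralizer (F : Set H) ∧ ∀ N : Subgroup H, N ≤ Cfsg.generalizedFittingSubgroup H → Cfsg.generalizedFittingSubgroup H ≤ Subgroup.normalizer (N : Set H) → Q ≤ Subgroup.centralizer (N : Set H) → N ≤ F) : F = Cfsg.generalizedFittingSubgroup H ⊓ Subgroup.centralizer ((L ⊔ Q : Subgroup H) : Set H) ∧ ⁅L, Q⁆ = L ∧ L ⊓ F ≤ (frattini ↥L).map L.subtype ∧ (∀ B : Subgroup H, IsPGroup p ↥B → B ≤ Subgroup.normalizer (Q : Set H) → ⁅L, B⁆ ≤ F → ⁅L, B⁆ = ⊥) ∧ (Nat.card ↥(Subgroup.centralizer ((F ⊔ L : Subgroup H) : Set H))).Coprime p := by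
  obtain ⟨hF1, hF2, hF3, hF4⟩ := hF
  set E := generalizedFittingSubgroup H
  have hn : ∀ X : Subgroup H, X ≤ Subgroup.normalizer (E : Set H) :=
    fun X => by rw [Subgroup.normalizer_eq_top]; exact le_top
  have hLE : L ≤ E := hL ▸ Subgroup.commutator_le_left _ _
  have hEL : E ≤ Subgroup.normalizer (L : Set H) := hL ▸ left_le_normalizer_commutator E Q
  have hQL : Q ≤ Subgroup.normalizer (L : Set H) := hL ▸ right_le_normalizer_commutator E Q
  have hW : L ⊔ Q = cjClos Q E := by rw [cjClos_eq_commutator_sup, hL]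
  have h1 : F = E ⊓ Subgroup.centralizer ((L ⊔ Q : Subgroup H) : Set H) := by
    rw [hW]
    refine le_antisymm (le_inf hF1 (Subgroup.le_centralizer_iff.1
      (cjClos_le hF3 (le_normalizer_centralizer hF2)))) (hF4 _ inf_le_left
        (le_normalizer_inf (hn E) (le_normalizer_centralizer (le_normalizer_cjClos Q E))) ?_)
    exact (le_cjClos Q E).trans (Subgroup.le_centralizer_iff.1 inf_le_right)
  have hFL : F ≤ Subgroup.centralizer (L : Set H) :=
    h1.le.trans (inf_le_right.trans (Subgroup.centralizer_le (le_sup_left : L ≤ L ⊔ Q)))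
  have h2 : ⁅L, Q⁆ = L := by rw [hL]; exact (fs_genFitting hO).commutator_commutator hQ (hn Q)
  have hsn : H2.SN ⊤ L :=
    (H2.SN.of_normal le_top (hn ⊤)).trans (H2.SN.of_normal hLE hEL)
  have h3 : L ⊓ F ≤ ⁅L, L⁆ := (inf_le_inf_left L (Subgroup.le_centralizer_iff.1 hF3)).trans
    ((fs_of_sn hO hsn hLE).inf_centralizer_le hQ hQL h2)
  have hZ : (Nat.card (L ⊓ Subgroup.centralizer (L : Set H) : Subgroup H)).Coprime p := by
    refine Comp2.coprime_card_of_le (Comp2.le_fitting_of_subnormal (H2.SN.top_iff.1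
      (hsn.trans (H2.SN.of_normal inf_le_left (le_normalizer_inf Subgroup.le_normalizer
        (le_normalizer_centralizer Subgroup.le_normalizer))))) ?_) (coprime_fitting hO)
    exact Comp2.isNilpotent_of_le_centralizer (inf_le_right.trans (Subgroup.centralizer_le
      (inf_le_left : L ⊓ Subgroup.centralizer (L : Set H) ≤ L)))
  refine ⟨h1, h2, ?_, fun B hB hBQ hBF => ?_, ?_⟩
  · refine le_trans ?_ (Subgroup.map_mono center_inf_commutator_le_frattini)
    rw [Subgroup.map_inf_eq _ _ _ L.subtype_injective, center_map_subtype,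
      Core.map_commutator_subtype]
    exact le_inf (inf_le_inf_left L hFL) h3
  · have hBL : B ≤ Subgroup.normalizer (L : Set H) := hL ▸ le_normalizer_commutator (hn B) hBQ
    have h4 : ⁅L, B⁆ ≤ L ⊓ F := le_inf (commutator_le_left_of_le_normalizer hBL) hBF
    have h5 : ⁅⁅L, L⁆, B⁆ = ⊥ := by
      have h6 : ⁅⁅L, B⁆, L⁆ = ⊥ := LocalEven.commutator_eq_bot_iff.2 (hBF.trans hFL)
      refine Subgroup.commutator_commutator_eq_bot_of_rotate h6 ?_
      rwa [Subgroup.commutator_comm B L]
    refine Comp2.commutator_eq_bot_of_coprime (Comp2.coprime_card_card_of_isPGroup hB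
      (Comp2.coprime_card_of_le (h4.trans (inf_le_inf_left L hFL)) hZ))
      (Comp2.commutator_eq_bot_mono h5 (h4.trans h3) le_rfl)
  · apply coprime_of_not_dvd
    intro hd
    obtain ⟨x, hx, ho⟩ := exists_mem_orderOf_eq hd
    have hP := isPGroup_zpowers_of_orderOf_eq ho
    have hxc : Subgroup.zpowers x ≤ Subgroup.centralizer ((F ⊔ L : Subgroup H) : Set H) :=
      Subgroup.zpowers_le.2 hx
    refine zpowers_ne_bot_of_orderOf ho (eq_bot_of_le_centralizer_genFitting hO hP ?_)
    change _ ≤ Subgroup.centralizer ((layer H ⊔ fittingSubgroup H : Subgroup H) : Set H)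
    rw [centralizer_sup']
    refine le_inf (hxc.trans (Subgroup.centralizer_le (Comp2.layer_le_iff.2 fun K hK => ?_))) ?_
    · rcases Comp2.component_le_commutator_or_centralizes (U := Q) hK with h | h
      · exact h.trans ((hL ▸ Subgroup.commutator_mono Comp2.layer_le_genFitting le_rfl :
          ⁅layer H, Q⁆ ≤ L).trans le_sup_right)
      · exact (hF4 K (Comp2.component_le_genFitting hK) (Comp2.genFitting_le_normalizer_component hK)
          (Subgroup.le_centralizer_iff.1 (LocalEven.commutator_eq_bot_iff.1 h))).trans le_sup_left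
    · set N := fittingSubgroup H
      have hNE : N ≤ E := Comp2.fitting_le_genFitting
      have hN : ∀ X : Subgroup H, X ≤ Subgroup.normalizer (N : Set H) :=
        fun X => by rw [Subgroup.normalizer_eq_top]; exact le_top
      refine Core.le_centralizer_of_nilpotent_of_centralizer_le Core.fitting_nilpotent (hN _)
        (Comp2.coprime_card_card_of_isPGroup hP (coprime_fitting hO)) ?_
      have h4 : N ⊓ Subgroup.centralizer ((N ⊓ Subgroup.centralizer
          (Subgroup.zpowers x : Set H) : Subgroup H) : Set H) ≤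
          N ⊓ Subgroup.centralizer (L : Set H) := by
        refine le_inf inf_le_left (Subgroup.le_centralizer_iff.1 ?_)
        conv_lhs => rw [← Comp2.subnormal_le_genFitting_eq (H2.SN.top_iff.1 hsn) hLE]
        refine sup_le ?_ (Subgroup.le_centralizer_iff.1 (inf_le_right.trans
          (Subgroup.centralizer_le (inf_le_inf_left N ?_))))
        · exact (Comp2.layer_map_subtype_le_of_subnormal (H2.SN.top_iff.1 hsn)).trans
            (Comp2.layer_le_centralizer_fitting.trans (Subgroup.centralizer_le inf_le_left))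
        · exact le_sup_right.trans (Subgroup.le_centralizer_iff.1 hxc)
      refine h4.trans (le_trans ?_ (Subgroup.le_centralizer_iff.1 hxc))
      rw [← Core.commutator_sup_centralizer Q (N ⊓ Subgroup.centralizer (L : Set H))
        (le_normalizer_inf (hN Q) (le_normalizer_centralizer hQL))
        (Comp2.coprime_card_card_of_isPGroup hQ
          (Comp2.coprime_card_of_le inf_le_left (coprime_fitting hO)))
        (Or.inl (Core.solvable_of_isPGroup hQ)), sup_comm]
      refine sup_le_sup ?_ (hL ▸ Subgroup.commutator_mono (inf_le_left.trans hNE) le_rfl)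
      rw [h1, centralizer_sup']
      exact le_inf (inf_le_left.trans (inf_le_left.trans hNE))
        (inf_le_inf_right _ inf_le_right)

end Cfsg.Agent.S2817
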