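import Mathlib
import Cfsg.Statements.S2818
import Cfsg.Agent.LocalEven.Resid
import Cfsg.Agent.PGrp.Frattini

set_option autoImplicit false
open Cfsg

namespace Cfsg.Agent.S2818

open Cfsg.Agent.LocalEven

/-- Let P be a finite p-subgroup of a group G and H a subgroup of N_G(P) with [P, H] ≤ Ω₁(Z(P)) (the elements of order dividing p in the centre of P). Then H centralizes the Frattini subgroup of P. -/
theorem result {G : Type*} [Group G] [Finite G] {p : ℕ} [Fact p.Prime] (P : Subgroup G) (hP : IsPGroup p ↥P) (H : Subgroup G) (hH : H ≤ Subgroup.normalizer (P : Set G)) (h : ⁅P, H⁆ ≤ Cfsg.omegaOne p (P ⊓ Subgroup.centralizer (P : Set G))) : ⁅(frattini ↥P).map P.subtype, H⁆ = ⊥ := by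
  rw [LocalEven.commutator_eq_bot_iff]
  have key : ∀ x ∈ P, ∀ g ∈ H, ∃ z ∈ Subgroup.centralizer (P : Set G), z ^ p = 1 ∧
      g * x * g⁻¹ = z * x := by
    intro x hx g hg
    have h1 : g * x * g⁻¹ * x⁻¹ ∈ omegaOneCenter p P := by
      apply h
      rw [Subgroup.commutator_comm]
      exact Subgroup.commutator_mem_commutator hg hx
    exact ⟨_, (mem_omegaOneCenter.1 h1).2.1, (mem_omegaOneCenter.1 h1).2.2, by group⟩
  refine (PGrp.map_frattini_le_iff hP).2 ⟨Subgroup.commutator_le.2 fun x hx y hy g hg => ?_,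
    fun x hx g hg => ?_⟩
  · obtain ⟨a, ha, -, h1⟩ := key x hx g hg
    obtain ⟨b, hb, -, h2⟩ := key y hy g hg
    rw [commutatorElement_def]
    have h3 : g * (x * y * x⁻¹ * y⁻¹) * g⁻¹ = (a * x) * (b * y) * (a * x)⁻¹ * (b * y)⁻¹ := by
      rw [← h1, ← h2]; group
    have h4 := ha _ (P.mul_mem (P.mul_mem hx hy) (P.inv_mem hx))
    have h5 := hb x hx
    have h6 := hb _ (P.mul_mem (P.mul_mem (P.mul_mem hx hy) (P.inv_mem hx)) (P.inv_mem hy))
    have h7 : a * b = b * a := by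
      have := hb _ (P.mul_mem (conj_mem_of_mem_normalizer (hH hg) hx) (P.inv_mem hx))
      rwa [h1, mul_inv_cancel_right] at this
    rw [← mul_inv_eq_iff_eq_mul, h3]
    calc (a * x) * (b * y) * (a * x)⁻¹ * (b * y)⁻¹
        = a * (x * b) * y * x⁻¹ * a⁻¹ * y⁻¹ * b⁻¹ := by group
      _ = (a * b) * (x * y * x⁻¹) * a⁻¹ * y⁻¹ * b⁻¹ := by rw [h5]; group
      _ = b * (a * (x * y * x⁻¹)) * a⁻¹ * y⁻¹ * b⁻¹ := by rw [h7]; group
      _ = b * (x * y * x⁻¹ * y⁻¹) * b⁻¹ := by rw [← h4]; group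
      _ = _ := by rw [← h6]; group
  · obtain ⟨a, ha, h1, h2⟩ := key x hx g hg
    have h3 : Commute a x := (ha x hx).symm
    rw [← mul_inv_eq_iff_eq_mul, ← conj_pow, h2, h3.mul_pow, h1, one_mul]

end Cfsg.Agent.S2818
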