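import Mathlib
import Cfsg.Statements.S2819
import Cfsg.Agent.LocalEven.WeakCl
import Cfsg.Agent.PGrp.Frattini

set_option autoImplicit false
open Cfsg

namespace Cfsg.Agent.S2819

open Cfsg.Agent.LocalEven

/-- Let P be a finite p-subgroup of a group G, H a subgroup of N_G(P), and Y a subgroup of H centralizing the derived subgroup P' such that [P, Y] is elementary abelian. Then O^p(⟨Y^H⟩), the subgroup of the normal closure of Y in H generated by its elements of order prime to p, centralizes the Frattini subgroup of P. -/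
theorem result {G : Type*} [Group G] [Finite G] {p : ℕ} [Fact p.Prime] (P : Subgroup G) (hP : IsPGroup p ↥P) (H : Subgroup G) (hH : H ≤ Subgroup.normalizer (P : Set G)) (Y : Subgroup G) (hYH : Y ≤ H) (hYc : Y ≤ Subgroup.centralizer ((⁅P, P⁆ : Subgroup G) : Set G)) (hel : Cfsg.IsElementaryAbelian p ⁅P, Y⁆) (NY : Subgroup G) (hNY : NY = (Subgroup.normalClosure ((Y.subgroupOf H : Subgroup ↥H) : Set ↥H)).map H.subtype) : (Cfsg.pResidual p ↥NY).map NY.subtype ≤ Subgroup.centralizer (((frattini ↥P).map P.subtype : Subgroup G) : Set G) := by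
  rw [normalClosure_subgroupOf_map hYH] at hNY
  subst hNY
  have hn : H ≤ Subgroup.normalizer ((⁅P, P⁆ : Subgroup G) : Set G) :=
    le_normalizer_commutator hH hH
  have hF : H ≤ Subgroup.normalizer (((frattini P).map P.subtype : Subgroup G) : Set G) :=
    hH.trans (normalizer_le_normalizer_map_subtype _)
  have hPP : ⁅P, P⁆ ≤ P := commutator_le_of_le le_rfl le_rfl
  have h1 : ⁅Y, (frattini P).map P.subtype⁆ ≤ ⁅P, P⁆ := by
    refine (le_centMod.1 ((PGrp.map_frattini_le_iff hP).2 ⟨le_centMod.2
      ⟨Subgroup.le_normalizer, ?_⟩, fun x hx => mem_centMod.2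
        ⟨left_le_normalizer_commutator P P (pow_mem hx p), fun y hy => ?_⟩⟩)).2
    · rw [LocalEven.commutator_eq_bot_iff.2 hYc]; exact bot_le
    · have h2 : y * x * y⁻¹ * x⁻¹ ∈ ⁅P, Y⁆ := by
        rw [Subgroup.commutator_comm]; exact Subgroup.commutator_mem_commutator hy hx
      have h3 := hel.2 _ h2
      set c := y * x * y⁻¹ * x⁻¹ with hc
      have hcP : c ∈ P := P.mul_mem (conj_mem_of_mem_normalizer (hH (hYH hy)) hx) (P.inv_mem hx)
      have h4 : y * x ^ p * y⁻¹ * (x ^ p)⁻¹ = (c * x) ^ p * (x ^ p)⁻¹ := by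
        rw [hc, inv_mul_cancel_right, conj_pow]
      rw [commutatorElement_def, h4]
      have h5 : ((⟨c, hcP⟩ * ⟨x, hx⟩ : P) ^ p * ((⟨x, hx⟩ : P) ^ p)⁻¹) ∈ commutator P := by
        rw [← QuotientGroup.eq_one_iff, QuotientGroup.mk_mul, QuotientGroup.mk_inv,
          QuotientGroup.mk_pow, QuotientGroup.mk_mul, Commute.mul_pow, ← QuotientGroup.mk_pow,
          show (⟨c, hcP⟩ : P) ^ p = 1 from Subtype.ext h3]
        · rw [QuotientGroup.mk_one, one_mul, QuotientGroup.mk_pow, mul_inv_cancel]
        · rw [← commutatorElement_eq_one_iff_commute]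
          exact (QuotientGroup.eq_one_iff _).2 (Subgroup.commutator_mem_commutator
            (Subgroup.mem_top _) (Subgroup.mem_top _))
      rw [← Core.map_commutator_subtype]
      exact ⟨_, h5, by simp⟩
  refine pResOf_le_centralizer_of_section (hP.to_le hPP) ((pResOf_le _).trans
    (cjClos_le hYc (le_normalizer_centralizer hn))) ?_
  rw [Subgroup.commutator_comm] at h1
  exact (le_centMod.1 ((pResOf_le _).trans (cjClos_le (le_centMod.2 ⟨hYH.trans hn, h1⟩)
    (le_normalizer_centMod hF hn)))).2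

end Cfsg.Agent.S2819
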