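import Mathlib
import Cfsg.Statements.S2823
import Cfsg.Agent.LocalEven.PRed

set_option autoImplicit false
open Cfsg

namespace Cfsg.Agent.S2823

open Cfsg.Agent.LocalEven

/-- Let H be a finite group, p a prime, T a Sylow p-subgroup and L a subgroup of characteristic p containing T; let Z_L be the subgroup generated by the Ω₁(Z(S)) over the Sylow p-subgroups S of L and O^p(L) the subgroup generated by the elements of L of order prime to p. Then Z_L = Ω₁(Z(L))·[Z_L, O^p(L)] and [Z_L, L] = [Z_L, O^p(L)]. -/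
theorem result {H : Type*} [Group H] [Finite H] {p : ℕ} [Fact p.Prime] (T : Sylow p H) (L : Subgroup H) (hTL : (T : Subgroup H) ≤ L) (hL : Subgroup.centralizer (Cfsg.pCore p ↥L : Set ↥L) ≤ Cfsg.pCore p ↥L) : Cfsg.sylowCenterClosure p L = (Cfsg.omegaOne p (L ⊓ Subgroup.centralizer ((L : Subgroup H) : Set H))) ⊔ ⁅Cfsg.sylowCenterClosure p L, (Cfsg.pResidual p ↥L).map L.subtype⁆ ∧ ⁅Cfsg.sylowCenterClosure p L, L⁆ = ⁅Cfsg.sylowCenterClosure p L, (Cfsg.pResidual p ↥L).map L.subtype⁆ := by
  have hc := LocalEven.charP_iff.2 hL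
  have hT := isSylowIn_of_sylow_le T hTL
  set Z := sylowCenterClosure p L
  have hZe : IsElementaryAbelian p Z :=
    elemAb_of_le (elemAb_omegaOneCenter _) hc.sylowCenterClosure_le
  have hLZ : L ≤ Subgroup.normalizer (Z : Set H) := le_normalizer_sylowCenterClosure L
  have hN : L ≤ Subgroup.normalizer ((⁅Z, pResOf p L⁆ : Subgroup H) : Set H) :=
    le_normalizer_commutator hLZ (le_normalizer_pResOf L)
  have h1 : ∀ S, IsSylowIn p S L → ⁅Z ⊓ Subgroup.centralizer (S : Set H), L⁆ ≤ ⁅Z, pResOf p L⁆ := by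
    intro S hS
    conv_lhs => rw [← hS.pResOf_sup]
    refine commutator_sup_right_le (Subgroup.commutator_mono inf_le_left le_rfl) ?_
      ((pResOf_le L).trans hN) (hS.le.trans hN)
    rw [LocalEven.commutator_eq_bot_iff.2 inf_le_right]; exact bot_le
  have h2 : Z ⊓ Subgroup.centralizer (L : Set H) ≤ omegaOneCenter p L := fun x hx =>
    mem_omegaOneCenter.2 ⟨sylowCenterClosure_le L hx.1, hx.2, hZe.2 x hx.1⟩
  have h3 : Z ≤ omegaOneCenter p L ⊔ ⁅Z, pResOf p L⁆ :=
    sylowCenterClosure_le_iff.2 fun S hS =>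
      (le_inf hS.le_sylowCenterClosure (omegaOneCenter_le_centralizer S)).trans
        ((inf_centralizer_le_of_sylow hZe.1 (isPGroup_of_elemAb hZe) hLZ hS (h1 S hS)).trans
          (sup_le_sup_right h2 _))
  refine ⟨le_antisymm h3 (sup_le ?_
    (commutator_le_left_of_le_normalizer ((pResOf_le L).trans hLZ))),
    le_antisymm ?_ (Subgroup.commutator_mono le_rfl (pResOf_le L))⟩
  · refine le_trans (fun x hx => ?_) hT.le_sylowCenterClosure
    have h4 := mem_omegaOneCenter.1 hx
    refine mem_omegaOneCenter.2 ⟨?_, Subgroup.centralizer_le hTL h4.2.1, h4.2.2⟩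
    exact hT.pCoreOf_le (hc ⟨h4.1, Subgroup.centralizer_le (pCoreOf_le L) h4.2.1⟩)
  · rw [Subgroup.commutator_comm]
    refine (le_centMod.1 (sylowCenterClosure_le_iff.2 fun S hS => le_centMod.2
      ⟨(omegaOneCenter_le S).trans (hS.le.trans hN), ?_⟩)).2
    rw [Subgroup.commutator_comm]
    exact (Subgroup.commutator_mono
      (le_inf hS.le_sylowCenterClosure (omegaOneCenter_le_centralizer S)) le_rfl).trans (h1 S hS)

end Cfsg.Agent.S2823
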