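import Mathlib
import Cfsg.Statements.S2825
import Cfsg.Agent.LocalEven.PRed

set_option autoImplicit false
open Cfsg

namespace Cfsg.Agent.S2825

open Cfsg.Agent.LocalEven

/-- Let L be a subnormal subgroup of the finite group H, p a prime, Y_H and Y_L the largest p-reduced normal subgroups. Then Y_H ∩ L = Y_H ∩ Y_L and this subgroup is a p-reduced normal subgroup of L; C_L(Y_L) = C_L(Y_H) = C_L(Y_H ∩ L); and if O^p(H) ≤ L, then [Y_L, L] = 1 if and only if [Y_H, H] = 1. -/
theorem result {H : Type*} [Group H] [Finite H] {p : ℕ} [Fact p.Prime] (L : Subgroup H) (hL : L.IsSubnormal) : Cfsg.largestPReduced p H ⊓ L = Cfsg.largestPReduced p H ⊓ (Cfsg.largestPReducedOf p L) ∧ Cfsg.IsPReducedNormal p ((Cfsg.largestPReduced p H ⊓ L).subgroupOf L) ∧ L ⊓ Subgroup.centralizer ((Cfsg.largestPReducedOf p L : Subgroup H) : Set H) = L ⊓ Subgroup.centralizer (Cfsg.largestPReduced p H : Set H) ∧ L ⊓ Subgroup.centralizer (Cfsg.largestPReduced p H : Set H) = L ⊓ Subgroup.centralizer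 ((Cfsg.largestPReduced p H ⊓ L : Subgroup H) : Set H) ∧ (Cfsg.pResidual p H ≤ L → (⁅(Cfsg.largestPReducedOf p L), L⁆ = ⊥ ↔ ⁅Cfsg.largestPReduced p H, (⊤ : Subgroup H)⁆ = ⊥)) := by
  have h := H2.SN.top_iff.2 hL
  have hY := pred_Y (p := p) (⊤ : Subgroup H)
  have h1 := hY.inf_of_sn h
  have h2 := inf_centralizer_Y_eq_of_sn (p := p) h
  have h3 := hY.inf_centralizer_inf h
  rw [Y_top] at hY h1 h2 h3
  refine ⟨le_antisymm (le_inf inf_le_left h1.le_Y) (inf_le_inf_left _ (pred_Y L).le),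
    (pred_subgroupOf_iff h1.le).2 h1, h2, h3.symm, fun hR => ?_⟩
  rw [LocalEven.commutator_eq_bot_iff, LocalEven.commutator_eq_bot_iff,
    Subgroup.le_centralizer_iff, Subgroup.le_centralizer_iff (H := largestPReduced p H)]
  constructor
  · intro h4
    refine hY.red ⊤ le_rfl Subgroup.le_normalizer ?_
    rw [pResOf_top]
    exact hR.trans ((le_inf le_rfl h4).trans (h2.le.trans inf_le_right))
  · intro h4
    exact (le_inf le_rfl (le_top.trans h4)).trans (h2.ge.trans inf_le_right)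

end Cfsg.Agent.S2825
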