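import Mathlib
import Cfsg.Statements.S2826
import Cfsg.Agent.LocalEven.PRed

set_option autoImplicit false
open Cfsg

namespace Cfsg.Agent.S2826

open Cfsg.Agent.LocalEven

/-- Let H be a finite group of characteristic p, T a Sylow p-subgroup, and V a normal elementary abelian p-subgroup of H containing Ω₁(Z(T)). Then C_H(Ω₁(Z(T))) = C_H([V, O^p(H)] ∩ Ω₁(Z(T))), O^p(H) being generated by the elements of order prime to p. -/
theorem result {H : Type*} [Group H] [Finite H] {p : ℕ} [Fact p.Prime] (hH : Subgroup.centralizer (Cfsg.pCore p H : Set H) ≤ Cfsg.pCore p H) (T : Sylow p H) (V : Subgroup H) [V.Normal] (hV : Cfsg.IsElementaryAbelian p V) (hZV : (Cfsg.omegaOne p ((T : Subgroup H) ⊓ Subgroup.centralizer (((T : Subgroup H) : Subgroup H) : Set H))) ≤ V) : Subgroup.centralizer ((Cfsg.omegaOne p ((T : Subgroup H) ⊓ Subgroup.centralizer (((T : Subgroup H) : Subgroup H) : Set H))) : Set H) = Subgroup.centralizer (((⁅V, Cfsg.pResidual p H⁆ ⊓ (Cfsg.omegaOne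 p ((T : Subgroup H) ⊓ Subgroup.centralizer (((T : Subgroup H) : Subgroup H) : Set H)))) : Subgroup H) : Set H) := by
  have hT := isSylowIn_top T
  refine le_antisymm (Subgroup.centralizer_le inf_le_right) ?_
  have hVT : V ≤ T := normal_le_sylow inferInstance (isPGroup_of_elemAb hV) T
  haveI : (pResidual p H).Normal := pResOf_top (p := p) (G := H) ▸ pResOf_normal ⊤
  refine Subgroup.le_centralizer_iff.1 fun z hz => ?_
  have hz' := mem_omegaOneCenter.1 hz
  obtain ⟨m, hm, π, h1, h2⟩ := mem_centralizer_sup_of_sylow (C := ⊤) (N := ⁅V, pResidual p H⁆)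
    hV.1 (isPGroup_of_elemAb hV) (by rw [Subgroup.normalizer_eq_top]) hT (hZV hz) hz'.2.1
    fun c hc => by
      obtain ⟨a, ha, t, ht, rfl⟩ := hT.exists_mul_eq hc
      rw [pResOf_top] at ha
      have h3 : a * t * z * (a * t)⁻¹ * z⁻¹ = a * z * a⁻¹ * z⁻¹ := by
        rw [mul_assoc a, hz'.2.1 t ht]; group
      rw [h3, Subgroup.commutator_comm]
      exact Subgroup.commutator_mem_commutator ha (hZV hz)
  have h3 : π * (z ^ m)⁻¹ ∈ V := mul_mem h1.1 (inv_mem (pow_mem (hZV hz) m))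
  have h4 : π * (z ^ m)⁻¹ ∈ omegaOneCenter p (T : Subgroup H) :=
    mem_omegaOneCenter.2 ⟨hVT h3, mul_mem (Subgroup.centralizer_le (fun _ _ => trivial) h1.2)
      (inv_mem (pow_mem hz'.2.1 m)), hV.2 _ h3⟩
  refine mem_of_pow_mem_of_not_dvd (k := 1) (by rw [pow_one]; exact hz'.2.2) hm ?_
  have : z ^ m = (π * (z ^ m)⁻¹)⁻¹ * π := by group
  rw [this]
  exact mul_mem (inv_mem (Subgroup.le_centralizer_iff.1 le_rfl (Subgroup.mem_inf.2 ⟨h2, h4⟩)))
    (Subgroup.centralizer_le (fun _ _ => trivial) h1.2)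

end Cfsg.Agent.S2826
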