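import Mathlib
import Cfsg.Statements.S2827
import Cfsg.Agent.LocalEven.PIrr

set_option autoImplicit false
open Cfsg

namespace Cfsg.Agent.S2827

open Cfsg.Agent.LocalEven

/-- Let H be a finite p-irreducible group (not p-closed, and O^p(H) lies in every normal subgroup that is not p-closed) and T a Sylow p-subgroup. Then H is generated by the conjugates of T and H = H'·T; O^p(H) ≤ H'; and for every normal subgroup Y of T not contained in O_p(H), O^p(H) = [O^p(H), Y] and O^p(H) is contained in the normal closure of Y in H. -/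
theorem result {H : Type*} [Group H] [Finite H] {p : ℕ} [Fact p.Prime] (hH : Cfsg.IsPIrreducible p H) (T : Sylow p H) : Subgroup.normalClosure ((T : Subgroup H) : Set H) = ⊤ ∧ commutator H ⊔ (T : Subgroup H) = ⊤ ∧ Cfsg.pResidual p H ≤ commutator H ∧ ∀ Y : Subgroup H, Y ≤ (T : Subgroup H) → (T : Subgroup H) ≤ Subgroup.normalizer (Y : Set H) → ¬ Y ≤ Cfsg.pCore p H → ⁅Cfsg.pResidual p H, Y⁆ = Cfsg.pResidual p H ∧ Cfsg.pResidual p H ≤ Subgroup.normalClosure (Y : Set H) := by
  have h := pirr_top_iff.1 hH
  have hT := isSylowIn_top T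
  have h1 := h.cjClos_sylow hT
  have h2 : commutator H ⊔ (T : Subgroup H) = ⊤ := by
    refine top_le_iff.1 (h1.ge.trans (cjClos_le le_sup_right ?_))
    exact le_normalizer_of_commutator_le_left
      ((Subgroup.commutator_mono le_top le_rfl).trans le_sup_left)
  refine ⟨by rw [← cjClos_top, h1], h2, ?_, fun Y hY hn hne => ?_⟩
  · rw [← pResOf_top, ← h2]
    exact pResOf_sup_le hT.pgrp (by rw [Subgroup.normalizer_eq_top]; exact le_top)
  · rw [← pCoreOf_top] at hne
    rw [← pResOf_top, ← cjClos_top]
    exact ⟨h.commutator_eq hT hY hn hne, h.pResOf_le_cjClos (hT.pgrp.to_le hY) le_top hne⟩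

end Cfsg.Agent.S2827
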