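import Mathlib
import Cfsg.Statements.S2828
import Cfsg.Agent.LocalEven.PIrr

set_option autoImplicit false
open Cfsg

namespace Cfsg.Agent.S2828

open Cfsg.Agent.LocalEven

/-- Let H be a finite group, p a prime and D a normal p-subgroup of H. Then H is p-irreducible if and only if H/D is p-irreducible, and H is strongly p-irreducible if and only if H/D is strongly p-irreducible. -/
theorem result {H : Type*} [Group H] [Finite H] {p : ℕ} [Fact p.Prime] (D : Subgroup H) [D.Normal] (hD : IsPGroup p ↥D) : (Cfsg.IsPIrreducible p H ↔ Cfsg.IsPIrreducible p (H ⧸ D)) ∧ (Cfsg.IsStronglyPIrreducible p H ↔ Cfsg.IsStronglyPIrreducible p (H ⧸ D)) := by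
  have hs := QuotientGroup.mk'_surjective D
  have hk : IsPGroup p (QuotientGroup.mk' D).ker := by rwa [QuotientGroup.ker_mk']
  have hcl : ∀ N : Subgroup H, PCl p (N.map (QuotientGroup.mk' D)) ↔ PCl p N := fun N =>
    ⟨pcl_of_map _ hk, PCl.map _⟩
  have htop : IsPClosed p H ↔ IsPClosed p (H ⧸ D) := by
    rw [pcl_top_iff, pcl_top_iff, ← hcl, Subgroup.map_top_of_surjective _ hs]
  have hres : (pResidual p H).map (QuotientGroup.mk' D) = pResidual p (H ⧸ D) := by
    rw [← pResOf_top, map_pResOf, Subgroup.map_top_of_surjective _ hs, pResOf_top]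
  have hle : ∀ N : Subgroup H, N.Normal → pResidual p (H ⧸ D) ≤ N.map (QuotientGroup.mk' D) →
      pResidual p H ≤ N := by
    intro N hN h
    rw [← hres, Subgroup.map_le_map_iff, QuotientGroup.ker_mk', ← pResOf_top] at h
    rw [← pResOf_top, ← pResOf_pResOf]
    exact (pResOf_mono h).trans
      (pResOf_sup_le hD (by rw [Subgroup.normalizer_eq_top]; exact le_top))
  have hle' : ∀ N : Subgroup (H ⧸ D), pResidual p H ≤ N.comap (QuotientGroup.mk' D) →
      pResidual p (H ⧸ D) ≤ N := fun N h => hres ▸ Subgroup.map_le_iff_le_comap.2 h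
  have hcomm : ∀ N : Subgroup H, ⁅N.map (QuotientGroup.mk' D), ⊤⁆ ≤ pCore p (H ⧸ D) ↔
      ⁅N, ⊤⁆ ≤ pCore p H := by
    intro N
    rw [← comap_pCore_quotient D hD, ← Subgroup.map_le_iff_le_comap, Subgroup.map_commutator,
      Subgroup.map_top_of_surjective _ hs]
  refine ⟨and_congr (not_congr htop) ⟨fun h N hN hc => hle' N (h _ (hN.comap _) ?_),
    fun h N hN hc => hle N hN (h _ (hN.map _ hs) ?_)⟩,
    and_congr (not_congr htop) ⟨fun h N hN hc => hle' N (h _ (hN.comap _) ?_),
    fun h N hN hc => hle N hN (h _ (hN.map _ hs) ?_)⟩⟩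
  · rwa [pcl_iff, ← hcl, Subgroup.map_comap_eq_self_of_surjective hs, ← pcl_iff]
  · rwa [pcl_iff, hcl, ← pcl_iff]
  · rwa [← hcomm, Subgroup.map_comap_eq_self_of_surjective hs]
  · rwa [hcomm]

end Cfsg.Agent.S2828
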