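import Mathlib
import Cfsg.Statements.S2829
import Cfsg.Agent.LocalEven.PIrr

set_option autoImplicit false
open Cfsg

namespace Cfsg.Agent.S2829

open Cfsg.Agent.LocalEven

/-- Every strongly p-irreducible finite group is p-irreducible. -/
theorem result {H : Type*} [Group H] [Finite H] {p : ℕ} [Fact p.Prime] (hH : Cfsg.IsStronglyPIrreducible p H) : Cfsg.IsPIrreducible p H := by
  refine ⟨hH.1, fun N hN hc => hH.2 N hN fun h => hc (pcl_iff.2 ?_)⟩
  refine pcl_of_commutator_le (H := ⊤) le_top (by rw [Subgroup.normalizer_eq_top]) ?_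
  rw [pCoreOf_top]
  exact (Subgroup.commutator_mono le_rfl le_top).trans h

end Cfsg.Agent.S2829
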