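import Mathlib
import Cfsg.Statements.S2830
import Cfsg.Agent.LocalEven.PIrr

set_option autoImplicit false
open Cfsg

namespace Cfsg.Agent.S2830

open Cfsg.Agent.LocalEven

/-- Let H act by conjugation on the elementary abelian p-subgroup V of a finite group G (H ≤ N(V)), with H p-irreducible and O^p(H) not centralizing V. Then C_H(V) is p-closed and C_T(V) ≤ O_p(H) for every p-subgroup T of H. If in addition O_p(H) centralizes V, then C_T(V) = T ∩ O_p(H) for every p-subgroup T of H, and V is p-reduced for H: O_p(H/C_H(V)) = 1. -/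
theorem result {G : Type*} [Group G] [Finite G] {p : ℕ} [Fact p.Prime] (V H : Subgroup G) (hV : Cfsg.IsElementaryAbelian p V) (hHV : H ≤ Subgroup.normalizer (V : Set G)) (hH : Cfsg.IsPIrreducible p ↥H) (hnc : ¬ (Cfsg.pResidual p ↥H).map H.subtype ≤ Subgroup.centralizer (V : Set G)) [hn : ((Subgroup.centralizer (V : Set G)).subgroupOf H).Normal] : Cfsg.IsPClosed p ↥(H ⊓ Subgroup.centralizer (V : Set G)) ∧ (∀ T : Subgroup G, T ≤ H → IsPGroup p ↥T → T ⊓ Subgroup.centralizer (V : Set G) ≤ Cfsg.pCoreOf p H) ∧ (Cfsg.pCoreOf p H ≤ Subgroup.centralizer (V : Set G) → (∀ T : Subgroup G, T ≤ H → IsPGroup p ↥T → T ⊓ Subgroup.centralizer (V : Set G) = T ⊓ Cfsg.pCoreOf p H) ∧ Cfsg.pCore p (↥H ⧸ (Subgroup.centralizer (V : Set G)).subgroupOf H) = ⊥) := by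
  have h := pirr_iff.1 hH
  have hC : H ≤ Subgroup.normalizer ((H ⊓ Subgroup.centralizer (V : Set G) : Subgroup G) : Set G) :=
    le_normalizer_inf Subgroup.le_normalizer (le_normalizer_centralizer hHV)
  have h1 : PCl p (H ⊓ Subgroup.centralizer (V : Set G)) := by
    by_contra hc
    exact hnc ((h.2 _ inf_le_left hC hc).trans inf_le_right)
  have h2 : ∀ T : Subgroup G, T ≤ H → IsPGroup p T →
      T ⊓ Subgroup.centralizer (V : Set G) ≤ pCoreOf p H := fun T hT hp =>
    (h1.le_pCoreOf (hp.to_le inf_le_left) (inf_le_inf_right _ hT)).trans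
      (pCoreOf_le_of_le_normalizer inf_le_left hC)
  refine ⟨pcl_iff.2 h1, h2, fun hO => ⟨fun T hT hp => le_antisymm (le_inf inf_le_left (h2 T hT hp))
    (inf_le_inf_left T hO), redOn_iff.1 fun X hX hn hr => ?_⟩⟩
  have h3 : PCl p X := by
    by_contra hc
    exact hnc ((pResOf_pResOf H).ge.trans ((pResOf_mono (h.2 X hX hn hc)).trans hr))
  rw [← IsSylowIn.pResOf_sup h3]
  exact sup_le hr ((pCoreOf_le_of_le_normalizer hX hn).trans hO)

end Cfsg.Agent.S2830
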