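import Mathlib
import Cfsg.Statements.S2832
import Cfsg.Agent.LocalEven.PIrr

set_option autoImplicit false
open Cfsg

namespace Cfsg.Agent.S2832

open Cfsg.Agent.LocalEven

/-- Let H be a finite group with Sylow p-subgroup T such that H is T-minimal (generated by the conjugates of T, with T in exactly one maximal subgroup), and let N be a normal subgroup of H. Then either H/N is a p-group or H/N is minimal over the image of T in the same sense. -/
theorem result {H : Type*} [Group H] [Finite H] {p : ℕ} [Fact p.Prime] (T : Sylow p H) (hmin : Cfsg.IsMinimalOver (T : Subgroup H)) (N : Subgroup H) [N.Normal] : IsPGroup p (H ⧸ N) ∨ Cfsg.IsMinimalOver ((T : Subgroup H).map (QuotientGroup.mk' N)) := by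
  obtain ⟨M, hM⟩ := exists_minOv hmin
  have hs := QuotientGroup.mk'_surjective N
  by_cases h : (T : Subgroup H) ⊔ N = ⊤
  · left
    have h1 : (T : Subgroup H).map (QuotientGroup.mk' N) = ⊤ := by
      rw [← Subgroup.map_top_of_surjective _ hs, ← h, Subgroup.map_sup,
        QuotientGroup.map_mk'_self, sup_bot_eq]
    have := T.isPGroup'.map (QuotientGroup.mk' N)
    rw [h1] at this
    exact this.of_equiv Subgroup.topEquiv
  · right
    have hN : N ≤ M := le_sup_right.trans (hM.le_of_ne _ le_sup_left h)
    refine MinOv.isMinimalOver (M := M.map (QuotientGroup.mk' N)) ⟨?_,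
      Core.isCoatom_map_of_ker_le hs hM.coatom (by rwa [QuotientGroup.ker_mk']),
      Subgroup.map_mono hM.le, fun X hX hne => ?_⟩
    · rw [← Subgroup.map_top_of_surjective _ hs, ← map_cjClos, hM.clos]
    · rw [← Subgroup.map_comap_eq_self_of_surjective hs X]
      refine Subgroup.map_mono (hM.le_of_ne _ (Subgroup.map_le_iff_le_comap.1 hX) fun h0 => hne ?_)
      rw [← Subgroup.map_comap_eq_self_of_surjective hs X, h0, Subgroup.map_top_of_surjective _ hs]

end Cfsg.Agent.S2832
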