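import Mathlib
import Cfsg.Statements.S2833
import Cfsg.Agent.LocalEven.WeakCl

set_option autoImplicit false
open Cfsg

namespace Cfsg.Agent.S2833

open Cfsg.Agent.LocalEven

/-- Let V be a subgroup of a finite group G normalized by the subgroup L, let X ≤ L and g ∈ L with [V, X, X] = 1 and L generated by X and gXg⁻¹. Put W = [V, L]. Then W = [V, X]·[V, gXg⁻¹], C_W(X) = [V, X], and C_W(L) = [V, X] ∩ [V, gXg⁻¹]. -/
theorem result {G : Type*} [Group G] [Finite G] (V L : Subgroup G) (hLV : L ≤ Subgroup.normalizer (V : Set G)) (X : Subgroup G) (hX : X ≤ L) (g : G) (hg : g ∈ L) (hq : ⁅⁅V, X⁆, X⁆ = ⊥) (hgen : X ⊔ X.map (MulAut.conj g).toMonoidHom = L) (W : Subgroup G) (hW : W = ⁅V, L⁆) : ⁅V, X⁆ ⊔ ⁅V, X.map (MulAut.conj g).toMonoidHom⁆ = W ∧ W ⊓ Subgroup.centralizer (X : Set G) = ⁅V, X⁆ ∧ W ⊓ Subgroup.centralizer (L : Set G) = ⁅V, X⁆ ⊓ ⁅V, X.map (MulAut.conj g).toMonoidHom⁆ := by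
  subst hW
  have hX' : cj g X ≤ L := cj_le_of_mem hg hX
  have hV : cj g V = V := cj_eq_of_mem_normalizer (hLV hg)
  have hB : ⁅V, cj g X⁆ = cj g ⁅V, X⁆ := by rw [cj_commutator, hV]
  have hA1 : ⁅V, X⁆ ≤ Subgroup.centralizer (X : Set G) := LocalEven.commutator_eq_bot_iff.1 hq
  have hB1 : ⁅V, cj g X⁆ ≤ Subgroup.centralizer (cj g X : Set G) := by
    rw [hB, ← cj_centralizer]; exact cj_mono g hA1
  have hAV : ⁅V, X⁆ ≤ V := commutator_le_left_of_le_normalizer (hX.trans hLV)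
  have hBV : ⁅V, cj g X⁆ ≤ V := commutator_le_left_of_le_normalizer (hX'.trans hLV)
  have h1 : ⁅V, X⁆ ⊔ ⁅V, cj g X⁆ = ⁅V, L⁆ := by
    refine le_antisymm (sup_le (Subgroup.commutator_mono le_rfl hX)
      (Subgroup.commutator_mono le_rfl hX')) ?_
    conv_lhs => rw [← hgen]
    refine commutator_sup_right_le le_sup_left le_sup_right
      (le_normalizer_of_commutator_le_left ?_) (le_normalizer_of_commutator_le_left ?_)
    · exact (Subgroup.commutator_mono (sup_le hAV hBV) le_rfl).trans le_sup_left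
    · exact (Subgroup.commutator_mono (sup_le hAV hBV) le_rfl).trans le_sup_right
  have hC : Subgroup.centralizer (L : Set G) =
      Subgroup.centralizer (X : Set G) ⊓ Subgroup.centralizer (cj g X : Set G) := by
    rw [← centralizer_sup', hgen]
  have h2 : ⁅V, cj g X⁆ ⊓ Subgroup.centralizer (L : Set G) =
      ⁅V, X⁆ ⊓ Subgroup.centralizer (L : Set G) := by
    rw [hB, ← cj_eq_of_mem_normalizer (normalizer_le_normalizer_centralizer L
      (Subgroup.le_normalizer hg)), ← cj_inf, cj_eq_of_mem_normalizer (normalizer_le_normalizer_centralizer L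
      (Subgroup.le_normalizer hg))]
    exact cj_eq_of_mem_normalizer (centralizer_le_normalizer' _
      (Subgroup.le_centralizer_iff.1 inf_le_right hg))
  have h3 : ⁅V, L⁆ ⊓ Subgroup.centralizer (X : Set G) = ⁅V, X⁆ := by
    rw [← h1, inf_sup_of_le_normalizer (hAV.trans (left_le_normalizer_commutator _ _)) hA1,
      sup_eq_left]
    refine le_trans ?_ (h2.le.trans inf_le_left)
    rw [hC]
    exact le_inf inf_le_left (le_inf inf_le_right (inf_le_left.trans hB1))
  have h4 : ⁅V, L⁆ ⊓ Subgroup.centralizer (cj g X : Set G) = ⁅V, cj g X⁆ := by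
    rw [hB, ← h3, cj_inf, cj_commutator, hV, cj_eq_of_mem hg, cj_centralizer]
  refine ⟨h1, h3, ?_⟩
  rw [hC, inf_inf_distrib_left, h3, h4]

end Cfsg.Agent.S2833
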