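import Mathlib
import Cfsg.Statements.S2836
import Cfsg.Agent.LocalEven.PIrr

set_option autoImplicit false
open Cfsg

namespace Cfsg.Agent.S2836

open Cfsg.Agent.LocalEven

/-- Let L be a finite group, L₀ a maximal subgroup, T a Sylow p-subgroup of L₀, Y ≤ T, and suppose L is Y-minimal. Let D be the intersection of the conjugates of L₀ (the core of L₀). Then D contains O_p(L) and D/O_p(L) is the Frattini subgroup of L/O_p(L), so D is p-closed; and every normal subgroup N of L contained in L₀ is p-closed with N/O_p(N) a nilpotent group of order prime to p. -/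
theorem result {L : Type*} [Group L] [Finite L] {p : ℕ} [Fact p.Prime] (L₀ : Subgroup L) (hL₀ : IsCoatom L₀) (T : Sylow p ↥L₀) (Y : Subgroup L) (hYT : Y ≤ (T : Subgroup ↥L₀).map L₀.subtype) (hmin : Cfsg.IsMinimalOver Y) : (Cfsg.pCore p L ≤ L₀.normalCore ∧ (L₀.normalCore).map (QuotientGroup.mk' (Cfsg.pCore p L)) = frattini (L ⧸ Cfsg.pCore p L) ∧ Cfsg.IsPClosed p ↥(L₀.normalCore)) ∧ ∀ (N : Subgroup L) [N.Normal], N ≤ L₀ → Cfsg.IsPClosed p ↥N ∧ Group.IsNilpotent (↥N ⧸ Cfsg.pCore p ↥N) ∧ (Nat.card (↥N ⧸ Cfsg.pCore p ↥N)).Coprime p := by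
  have hT := isSylowIn_map T
  have h := minOv_of hmin hL₀ (hYT.trans hT.le)
  have hY := hT.pgrp.to_le hYT
  have hs := QuotientGroup.mk'_surjective (pCore p L)
  have hO := h.pCore_le hY
  refine ⟨⟨Subgroup.normal_le_normalCore.2 hO, le_antisymm
    (h.map_le_frattini hY L₀.normalCore_le) ?_, pcl_iff.2 (h.pcl_of_le hY L₀.normalCore_le)⟩,
    fun N _ hN => ⟨pcl_iff.2 (h.pcl_of_le hY hN), ?_, ?_⟩⟩
  · rw [← Subgroup.map_comap_eq_self_of_surjective hs (frattini _)]
    refine Subgroup.map_mono (Subgroup.normal_le_normalCore.2 ?_)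
    have h1 := frattini_le_coatom
      (Core.isCoatom_map_of_ker_le hs hL₀ (by rwa [QuotientGroup.ker_mk']))
    have h2 := Subgroup.comap_mono (f := QuotientGroup.mk' (pCore p L)) h1
    rwa [Subgroup.comap_map_eq_self (by rwa [QuotientGroup.ker_mk'])] at h2
  · let f : N →* L ⧸ pCore p L := (QuotientGroup.mk' (pCore p L)).comp N.subtype
    have hk : pCore p N = f.ker := by
      rw [Core.pCore_eq_subgroupOf, ← MonoidHom.comap_ker, QuotientGroup.ker_mk']; rfl
    have hr : f.range ≤ frattini (L ⧸ pCore p L) := by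
      rw [MonoidHom.range_comp, Subgroup.range_subtype]; exact h.map_le_frattini hY hN
    haveI := Core.nilpotent_of_le hr frattini_nilpotent
    exact Group.nilpotent_of_mulEquiv ((QuotientGroup.quotientMulEquivOfEq hk).trans
      (QuotientGroup.quotientKerEquivRange f)).symm
  · have h1 := IsSylowIn.not_dvd (h.pcl_of_le hY hN)
    rw [Subgroup.relIndex, pCoreOf_subgroupOf] at h1
    exact ((Nat.Prime.coprime_iff_not_dvd Fact.out).2 h1).symm

end Cfsg.Agent.S2836
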