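import Mathlib
import Cfsg.Statements.S2837
import Cfsg.Agent.LocalEven.PIrr
import Cfsg.Agent.PGrp.Frattini

set_option autoImplicit false
open Cfsg

namespace Cfsg.Agent.S2837

open Cfsg.Agent.LocalEven

/-- Let L be a finite group of characteristic p, L₀ a maximal subgroup, Y an elementary abelian p-subgroup of L₀ with L Y-minimal and O_p(L) ≤ N_L(Y). Put A = the normal closure of O_p(L) ∩ Y in L. Then for every g ∈ L outside L₀: Φ(A) = A' = [A ∩ Y, A] = [A ∩ Y, A ∩ gYg⁻¹] ≤ C_Y(L), and Y ∩ gYg⁻¹ = (A ∩ Y) ∩ (A ∩ gYg⁻¹) = C_Y(L) = C_A(L). -/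
theorem result {L : Type*} [Group L] [Finite L] {p : ℕ} [Fact p.Prime] (hchar : Subgroup.centralizer (Cfsg.pCore p L : Set L) ≤ Cfsg.pCore p L) (L₀ : Subgroup L) (hL₀ : IsCoatom L₀) (Y : Subgroup L) (hYL₀ : Y ≤ L₀) (hYel : Cfsg.IsElementaryAbelian p Y) (hmin : Cfsg.IsMinimalOver Y) (hOY : Cfsg.pCore p L ≤ Subgroup.normalizer (Y : Set L)) (A : Subgroup L) (hA : A = Subgroup.normalClosure (((Cfsg.pCore p L ⊓ Y : Subgroup L)) : Set L)) (g : L) (hg : g ∉ L₀) : (frattini ↥A).map A.subtype = ⁅A, A⁆ ∧ ⁅A, A⁆ = ⁅A ⊓ Y, A⁆ ∧ ⁅A ⊓ Y, A⁆ = ⁅A ⊓ Y, A ⊓ Y.map (MulAut.conj g).toMonoidHom⁆ ∧ ⁅A ⊓ Y, A⁆ ≤ Y ⊓ Subgroup.center L ∧ Y ⊓ Y.map (MulAut.conj g).toMonoidHom = Y ⊓ Subgroup.center L ∧ (A ⊓ Y) ⊓ (A ⊓ Y.map (MulAut.conj g).toMonoidHom) = Y ⊓ Subgroup.center L ∧ A ⊓ Subgroup.center L = Y ⊓ Subgroup.center L := by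
  have h := minOv_of hmin hL₀ hYL₀
  set O := pCore p L
  set X := O ⊓ Y with hX
  have hOn : ∀ K : Subgroup L, K ≤ Subgroup.normalizer (O : Set L) := fun K => by
    rw [Subgroup.normalizer_eq_top]; exact le_top
  have hX' : cj g X = O ⊓ cj g Y := by rw [cj_inf, cj_eq_of_normal]
  have hOY' : O ≤ Subgroup.normalizer (cj g Y : Set L) := by
    rw [← cj_normalizer, ← cj_eq_of_normal g O]; exact cj_mono g hOY
  have hOX : O ≤ Subgroup.normalizer (X : Set L) := le_normalizer_inf (hOn O) hOY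
  have hOX' : O ≤ Subgroup.normalizer (cj g X : Set L) := hX' ▸ le_normalizer_inf (hOn O) hOY'
  have hXO : X ⊔ cj g X ≤ O := sup_le inf_le_left (hX' ▸ inf_le_left)
  have hAX : A = X ⊔ cj g X := by
    rw [hA, ← cjClos_top]
    refine le_antisymm (cjClos_le le_sup_left ?_)
      (sup_le (le_cjClos _ _) (cj_le_cjClos (Subgroup.mem_top g)))
    rw [← h.sup_cj hg]
    refine sup_le (le_normalizer_of_commutator_le_left ?_) (le_normalizer_of_commutator_le_left ?_)
    · exact (Subgroup.commutator_mono hXO le_rfl).trans ((le_inf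
        (commutator_le_left_of_le_normalizer (hOn _))
        (commutator_le_right_of_le_normalizer hOY)).trans le_sup_left)
    · refine (Subgroup.commutator_mono hXO le_rfl).trans (le_trans ?_ le_sup_right)
      rw [hX']
      exact le_inf (commutator_le_left_of_le_normalizer (hOn _))
        (commutator_le_right_of_le_normalizer hOY')
  have hAO : A ≤ O := hAX ▸ hXO
  have hAY : A ⊓ Y = X := le_antisymm (inf_le_inf_right Y hAO)
    (le_inf (hAX ▸ le_sup_left) inf_le_right)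
  have hAY' : A ⊓ cj g Y = cj g X := le_antisymm (hX' ▸ inf_le_inf_right _ hAO)
    (le_inf (hAX ▸ le_sup_right) (cj_mono g inf_le_right))
  have hXe : IsElementaryAbelian p X := elemAb_of_le hYel inf_le_right
  have hXe' := elemAb_cj hXe g
  have hN : O ≤ Subgroup.normalizer ((⁅X, cj g X⁆ : Subgroup L) : Set L) :=
    le_normalizer_commutator hOX hOX'
  have h1 : ⁅X, A⁆ ≤ ⁅X, cj g X⁆ := by
    rw [hAX]
    refine commutator_sup_right_le ?_ le_rfl (left_le_normalizer_commutator _ _)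
      (right_le_normalizer_commutator _ _)
    rw [LocalEven.commutator_eq_bot_iff.2 (elemAb_le_centralizer hXe)]; exact bot_le
  have h2 : ⁅cj g X, A⁆ ≤ ⁅X, cj g X⁆ := by
    rw [hAX]
    refine commutator_sup_right_le (Subgroup.commutator_comm _ _).le ?_
      (left_le_normalizer_commutator _ _) (right_le_normalizer_commutator _ _)
    rw [LocalEven.commutator_eq_bot_iff.2 (elemAb_le_centralizer hXe')]; exact bot_le
  have h3 : ⁅A, A⁆ ≤ ⁅X, cj g X⁆ := by
    conv_lhs => congr; rw [hAX]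
    exact commutator_sup_left_le h1 h2 (left_le_normalizer_commutator _ _)
      (right_le_normalizer_commutator _ _)
  have h4 : ⁅X, cj g X⁆ ≤ ⁅X, A⁆ := Subgroup.commutator_mono le_rfl (hAX ▸ le_sup_right)
  have h5 : ⁅X, A⁆ ≤ ⁅A, A⁆ := Subgroup.commutator_mono (hAX ▸ le_sup_left) le_rfl
  have h6 := h.inf_cj_eq hYel.1 hg
  have h7 : X ⊓ cj g X = Y ⊓ Subgroup.center L := by
    refine le_antisymm (h6 ▸ inf_le_inf inf_le_right (cj_mono g inf_le_right)) ?_
    have h8 : Y ⊓ Subgroup.center L ≤ O :=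
      inf_le_right.trans ((Subgroup.center_le_centralizer _).trans hchar)
    rw [hX']
    exact le_inf (le_inf h8 inf_le_left) (le_inf h8 (h6.ge.trans inf_le_right))
  have hAp : IsPGroup p A := isPGroup_pCore.to_le hAO
  change _ ∧ _ ∧ _ = ⁅A ⊓ Y, A ⊓ cj g Y⁆ ∧ _ ∧ _ ∧ (A ⊓ Y) ⊓ (A ⊓ cj g Y) = _ ∧ _
  rw [hAY, hAY']
  refine ⟨le_antisymm ((PGrp.map_frattini_le_iff hAp).2 ⟨le_rfl, fun x hx => ?_⟩)
    (PGrp.commutator_le_map_frattini hAp), le_antisymm (h3.trans h4) h5, le_antisymm h1 h4,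
    h1.trans ?_, h6, h7, le_antisymm ?_ ?_⟩
  · haveI : A.Normal := hA ▸ Subgroup.normalClosure_normal
    obtain ⟨a, ha, b, hb, rfl⟩ := (mem_sup_iff_of_le_normalizer (inf_le_left.trans hOX')).1
      (hAX.le hx)
    rw [← QuotientGroup.eq_one_iff (N := ⁅A, A⁆), QuotientGroup.mk_pow, QuotientGroup.mk_mul,
      Commute.mul_pow, ← QuotientGroup.mk_pow, ← QuotientGroup.mk_pow, hXe.2 a ha, hXe'.2 b hb]
    · simp
    · rw [← commutatorElement_eq_one_iff_commute]
      exact (QuotientGroup.eq_one_iff _).2 (Subgroup.commutator_mem_commutator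
        (hAX.ge (le_sup_left (b := cj g X) ha)) (hAX.ge (le_sup_right (a := X) hb)))
  · rw [← h7]
    exact le_inf (commutator_le_left_of_le_normalizer (le_sup_right.trans (hXO.trans hOX)))
      (commutator_le_right_of_le_normalizer (inf_le_left.trans hOX'))
  · refine le_inf (fun x hx => ?_) inf_le_right
    obtain ⟨a, ha, b, hb, rfl⟩ := (mem_sup_iff_of_le_normalizer (inf_le_left.trans hOX')).1
      (hAX.le hx.1)
    have hb1 : b ∈ Subgroup.center L := by
      rw [← Subgroup.centralizer_univ, ← Subgroup.coe_top, ← h.sup_cj hg, centralizer_sup']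
      refine ⟨?_, elemAb_le_centralizer (elemAb_cj hYel g) (cj_mono g inf_le_right hb)⟩
      have := mul_mem (inv_mem (elemAb_le_centralizer hYel ha.2))
        (Subgroup.center_le_centralizer (Y : Set L) hx.2)
      simpa using this
    have hb2 : b ∈ X := by
      have h8 := mem_cj.1 hb
      rwa [mul_assoc, ← Subgroup.mem_center_iff.1 hb1 g, inv_mul_cancel_left] at h8
    exact mul_mem ha.2 hb2.2
  · refine le_inf ?_ inf_le_right
    rw [← h7, hAX]; exact inf_le_left.trans le_sup_left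

end Cfsg.Agent.S2837
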