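import Mathlib
import Cfsg.Statements.S2840
import Cfsg.Agent.LocalEven.WeakCl

set_option autoImplicit false
open Cfsg

namespace Cfsg.Agent.S2840

open Cfsg.Agent.LocalEven

/-- Let Q be a nontrivial p-subgroup of the finite group H that is a weakly closed subgroup and K a subgroup containing Q; let K° be the weak closure of Q in K (generated by the H-conjugates of Q inside K). Then K° is generated by the K-conjugates of Q, and K° is the subnormal closure of Q in K. -/
theorem result {H : Type*} [Group H] [Finite H] {p : ℕ} [Fact p.Prime] (Q : Subgroup H) (hQp : IsPGroup p ↥Q) (hQ1 : Q ≠ ⊥) (hwc : Cfsg.IsWeaklyClosedSubgroup p Q) (K : Subgroup H) (hQK : Q ≤ K) (Kc : Subgroup H) (hKc : Kc = Cfsg.weakClosure Q K) : Kc = ⨆ k : ↥K, ((Q : Subgroup H).map (MulAut.conj ((k : H) : H)).toMonoidHom) ∧ Kc = (Cfsg.subnormalClosure (Q.subgroupOf K)).map K.subtype := by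
  have h := wc_iff.2 hwc
  subst hKc
  refine ⟨h.weakClosure_eq hQK, ?_⟩
  rw [h.weakClosure_eq hQK]
  apply le_antisymm
  · rw [← Subgroup.map_subgroupOf_eq_of_le (cjClos_le_self hQK)]
    refine Subgroup.map_mono (le_sInf ?_)
    rintro X ⟨h1, h2⟩
    have h3 : H2.SN K (X.map K.subtype) := by
      refine H2.SN.of_subgroupOf (Subgroup.map_subtype_le X) ?_
      rwa [map_subtype_subgroupOf]
    have h4 : Q ≤ X.map K.subtype := by
      rw [← Subgroup.map_subgroupOf_eq_of_le hQK]; exact Subgroup.map_mono h1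
    exact (Subgroup.comap_mono (h.cjClos_le_of_sn h3 h4)).trans (map_subtype_subgroupOf X).le
  · rw [Subgroup.map_le_iff_le_comap]
    refine sInf_le ⟨Subgroup.comap_mono (le_cjClos Q K), ?_⟩
    exact (H2.SN.of_normal (cjClos_le_self hQK) (le_normalizer_cjClos Q K)).isSubnormal_subgroupOf

end Cfsg.Agent.S2840
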