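import Mathlib
import Cfsg.Statements.S2841
import Cfsg.Agent.LocalEven.WeakCl

set_option autoImplicit false
open Cfsg

namespace Cfsg.Agent.S2841

open Cfsg.Agent.LocalEven

/-- Let Q be a nontrivial p-subgroup of the finite group H that is a weakly closed subgroup and N a normal subgroup of H. Then N = N_N(Q)·[N, Q] and [N, Q] = (Q ∩ [N, Q])·[N, Q, Q]. -/
theorem result {H : Type*} [Group H] [Finite H] {p : ℕ} [Fact p.Prime] (Q : Subgroup H) (hQp : IsPGroup p ↥Q) (hQ1 : Q ≠ ⊥) (hwc : Cfsg.IsWeaklyClosedSubgroup p Q) (N' : Subgroup H) [N'.Normal] : (∀ n : H, n ∈ N' → ∃ a ∈ N' ⊓ Subgroup.normalizer ((Q : Subgroup H) : Set H), ∃ b ∈ ⁅N', Q⁆, n = a * b) ∧ (∀ c : H, c ∈ ⁅N', Q⁆ → ∃ a ∈ Q ⊓ ⁅N', Q⁆, ∃ b ∈ ⁅⁅N', Q⁆, Q⁆, c = a * b) := by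
  have h := wc_iff.2 hwc
  have hD : ⁅N', Q⁆ ≤ N' := Subgroup.commutator_le_left N' Q
  have hQD := right_le_normalizer_commutator N' Q
  have key : ∀ n ∈ N', ∃ b ∈ ⁅N', Q⁆, cj n Q = cj b Q := by
    intro n hn
    obtain ⟨k, hk, he⟩ := h.exists_conj le_sup_right (cj_le_commutator_sup (Q := Q) hn)
    obtain ⟨b, hb, q, hq, rfl⟩ := (mem_sup_iff_of_le_normalizer' hQD).1 hk
    exact ⟨b, hb, by rw [he, cj_mul, cj_eq_of_mem hq]⟩
  refine ⟨fun n hn => ?_, fun c hc => ?_⟩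
  · obtain ⟨b, hb, he⟩ := key n⁻¹ (N'.inv_mem hn)
    refine ⟨n * b, ⟨N'.mul_mem hn (hD hb), cj_eq_self_iff.1 ?_⟩, b⁻¹, inv_mem hb, by group⟩
    rw [cj_mul, ← he, cj_cj_inv]
  · have h1 : cjClos Q N' ≤ cjClos Q ⁅N', Q⁆ := cjClos_le_iff.2 fun n hn => by
      obtain ⟨b, hb, he⟩ := key n hn
      rw [he]; exact cj_le_cjClos hb
    rw [cjClos_eq_commutator_sup, cjClos_eq_commutator_sup, sup_comm ⁅⁅N', Q⁆, Q⁆] at h1
    obtain ⟨a, ha, b, hb, rfl⟩ :=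
      (mem_sup_iff_of_le_normalizer (right_le_normalizer_commutator _ Q)).1 (h1 (le_sup_left (b := Q) hc))
    have h2 : b ∈ ⁅N', Q⁆ := commutator_le_left_of_le_normalizer hQD hb
    exact ⟨a, ⟨ha, by simpa using mul_mem hc (inv_mem h2)⟩, b, hb, rfl⟩

end Cfsg.Agent.S2841
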