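import Mathlib
import Cfsg.Statements.S2843
import Cfsg.Agent.LocalEven.WeakCl

set_option autoImplicit false
open Cfsg

namespace Cfsg.Agent.S2843

open Cfsg.Agent.LocalEven

/-- Let Q be a nontrivial large p-subgroup of the finite group H, Q ≤ L ≤ H, and Y a nontrivial p-subgroup of H normalized by L. Let L° be the weak closure of Q in L (generated by the conjugates of Q inside L). Then L° equals the weak closure of Q in L·C_H(Y), and [L°, C_H(Y)] ≤ O_p(L°); in particular C_H(Y) normalizes L°. -/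
theorem result {H : Type*} [Group H] [Finite H] {p : ℕ} [Fact p.Prime] (Q : Subgroup H) (hQp : IsPGroup p ↥Q) (hQ1 : Q ≠ ⊥) (hL : Cfsg.IsLarge Q) (L : Subgroup H) (hQL : Q ≤ L) (Y : Subgroup H) (hYp : IsPGroup p ↥Y) (hY1 : Y ≠ ⊥) (hLY : L ≤ Subgroup.normalizer ((Y : Subgroup H) : Set H)) : Cfsg.weakClosure Q L = Cfsg.weakClosure Q (L ⊔ Subgroup.centralizer ((Y : Subgroup H) : Set H)) ∧ ⁅Cfsg.weakClosure Q L, Subgroup.centralizer ((Y : Subgroup H) : Set H)⁆ ≤ (Cfsg.pCoreOf p (Cfsg.weakClosure Q L)) ∧ Subgroup.centralizer ((Y : Subgroup H) : Set H) ≤ Subgroup.normalizer (((Cfsg.weakClosure Q L) : Subgroup H) : Set H) := by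
  have h := large_wc hL hQp
  set C := Subgroup.centralizer (Y : Set H)
  have hLC : L ≤ Subgroup.normalizer (C : Set H) := le_normalizer_centralizer hLY
  have h1 := large_weakClosure_sup_centralizer hL hQp hQL hYp hY1 hLY
  have h2 : C ≤ Subgroup.normalizer (weakClosure Q L : Set H) := by
    rw [← h1]
    exact le_sup_right.trans (Subgroup.le_normalizer.trans (normalizer_le_normalizer_weakClosure _ _))
  refine ⟨h1.symm, ?_, h2⟩
  have hW : weakClosure Q L ≤ L := weakClosure_le Q L
  have hn : L ≤ Subgroup.normalizer ((pCoreOf p C ⊓ weakClosure Q L : Subgroup H) : Set H) :=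
    le_normalizer_inf (hLC.trans (normalizer_le_normalizer_pCoreOf C))
      (Subgroup.le_normalizer.trans (normalizer_le_normalizer_weakClosure _ _))
  have h3 : ⁅C, weakClosure Q L⁆ ≤ pCoreOf p C ⊓ weakClosure Q L := by
    conv_lhs => rw [h.weakClosure_eq hQL]
    refine (le_centMod.1 (cjClos_le (le_centMod.2 ⟨hQL.trans hn, ?_⟩)
      (le_normalizer_centMod hLC hn))).2
    have hCQ := large_centralizer_le_of_normalizes hL hQp hYp hY1 (hQL.trans hLY)
    have h4 : ⁅C, Q⁆ ≤ Q := commutator_le_right_of_le_normalizer hCQ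
    exact le_inf (le_pCoreOf (commutator_le_left_of_le_normalizer (hQL.trans hLC))
      (left_le_normalizer_commutator C Q) (hQp.to_le h4)) (h4.trans (self_le_weakClosure hQL))
  rw [Subgroup.commutator_comm]
  exact h3.trans (le_pCoreOf inf_le_right (hW.trans hn) ((isPGroup_pCoreOf C).to_le inf_le_left))

end Cfsg.Agent.S2843
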