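import Mathlib
import Cfsg.Statements.S2844
import Cfsg.Agent.LocalEven.WeakCl

set_option autoImplicit false
open Cfsg

namespace Cfsg.Agent.S2844

open Cfsg.Agent.LocalEven

/-- Let Q be a nontrivial large p-subgroup of the finite group H and Q• = O_p(N_H(Q)). Then for every g ∈ H outside N_H(Q): C_H(Q) ∩ C_H(gQg⁻¹) = 1, C_H(Q•) ∩ C_H(gQ•g⁻¹) = 1, Z(Q) ∩ Z(gQg⁻¹) = 1 and Z(Q•) ∩ Z(gQ•g⁻¹) = 1; moreover N_H(Q) = N_H(Q•) and Q• is large in H. -/
theorem result {H : Type*} [Group H] [Finite H] {p : ℕ} [Fact p.Prime] (Q : Subgroup H) (hQp : IsPGroup p ↥Q) (hQ1 : Q ≠ ⊥) (hL : Cfsg.IsLarge Q) (Qb : Subgroup H) (hQb : Qb = Cfsg.largeBullet p Q) : (∀ g : H, g ∉ Subgroup.normalizer ((Q : Subgroup H) : Set H) → Subgroup.centralizer ((Q : Subgroup H) : Set H) ⊓ Subgroup.centralizer ((((Q : Subgroup H).map (MulAut.conj (g : H)).toMonoidHom) : Subgroup H) : Set H) = ⊥ ∧ Subgroup.centralizer ((Qb : Subgroup H) : Set H) ⊓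 Subgroup.centralizer ((((Qb : Subgroup H).map (MulAut.conj (g : H)).toMonoidHom) : Subgroup H) : Set H) = ⊥ ∧ (Q ⊓ Subgroup.centralizer ((Q : Subgroup H) : Set H)) ⊓ (((Q : Subgroup H).map (MulAut.conj (g : H)).toMonoidHom) ⊓ Subgroup.centralizer ((((Q : Subgroup H).map (MulAut.conj (g : H)).toMonoidHom) : Subgroup H) : Set H)) = ⊥ ∧ (Qb ⊓ Subgroup.centralizer ((Qb : Subgroup H) : Set H)) ⊓ (((Qb : Subgroup H).map (MulAut.conj (g : H)).toMonoidHom) ⊓ Subgroup.centralizer ((((Qb : Subgroup H).map (MulAut.conj (g : H)).toMonoidHom) : Subgroup H) : Set H)) = ⊥) ∧ Subgroup.normalizer ((Q : Subgroup H) : Set H) = Subgroup.normalizer ((Qb : Subgroup H) : Set H) ∧ Cfsg.IsLarge Qb := by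
  have h := large_wc hL hQp
  have hQ : Q ≤ Qb := hQb ▸ le_pCoreOf Subgroup.le_normalizer le_rfl hQp
  have hN : Subgroup.normalizer (Q : Set H) = Subgroup.normalizer (Qb : Set H) :=
    le_antisymm (hQb ▸ le_normalizer_pCoreOf _)
      (h.normalizer_le (hQb ▸ isPGroup_pCoreOf _) hQ)
  refine ⟨fun g hg => ?_, hN, (Subgroup.centralizer_le hQ).trans (hL.1.trans hQ),
    fun U hU hne => hN ▸ hL.2 U (hU.trans (Subgroup.centralizer_le hQ)) hne⟩
  have h1 : Subgroup.centralizer (Q : Set H) ⊓ Subgroup.centralizer (cj g Q : Set H) = ⊥ := by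
    by_contra hne
    refine hg (cj_eq_self_iff.1 (h.cj_eq_of_le_normalizer ?_))
    exact (Subgroup.le_centralizer_iff.1 inf_le_right).trans
      (large_centralizer_le hL inf_le_left hne)
  have h2 : Subgroup.centralizer (Qb : Set H) ⊓ Subgroup.centralizer (cj g Qb : Set H) = ⊥ :=
    le_bot_iff.1 (h1 ▸ inf_le_inf (Subgroup.centralizer_le hQ)
      (Subgroup.centralizer_le (cj_mono g hQ)))
  exact ⟨h1, h2, le_bot_iff.1 (h1 ▸ inf_le_inf inf_le_right inf_le_right),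
    le_bot_iff.1 (h2 ▸ inf_le_inf inf_le_right inf_le_right)⟩

end Cfsg.Agent.S2844
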