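import Mathlib
import Cfsg.Statements.S2850
import Cfsg.Agent.LocalEven.FrakM

set_option autoImplicit false
open Cfsg

namespace Cfsg.Agent.S2850

open Cfsg.Agent.LocalEven

/-- Standing hypotheses: G a finite group, S a Sylow p-subgroup, Q a nontrivial large p-subgroup of G contained in S (C_G(Q) ≤ Q and N_G(U) ≤ N_G(Q) for all nontrivial U ≤ C_G(Q)), and M a subgroup containing S with the basic property (M ∈ 𝔐_G(S)); Y_M denotes the largest p-reduced normal subgroup of M and M† = M·C_G(Y_M). Suppose Y_M is asymmetric in G. Then N_G(L) ≤ N_G(O_p(M)) ≤ M† for every p-subgroup L containing O_p(M); O_p(M) is a weakly closed subgroup of G; for every subgroup L containing O_p(M), L ∩ M† contains a Sylow p-subgroup of L; and two elements of Y_M conjugate in G are conjugate in M. -/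
theorem result {G : Type*} [Group G] [Finite G] {p : ℕ} [Fact p.Prime] (S : Sylow p G) (Q : Subgroup G) (hQp : IsPGroup p ↥Q) (hQ1 : Q ≠ ⊥) (hQS : Q ≤ (S : Subgroup G)) (hQ : Cfsg.IsLarge Q) (M : Subgroup G) (hSM : (S : Subgroup G) ≤ M) (hM : Cfsg.IsInFrakM p M) (hasym : ¬ Cfsg.IsSymmetricIn (Cfsg.largestPReducedOf p M)) : (∀ L : Subgroup G, IsPGroup p ↥L → (Cfsg.pCoreOf p M) ≤ L → Subgroup.normalizer ((L : Subgroup G) : Set G) ≤ Subgroup.normalizer (((Cfsg.pCoreOf p M) : Subgroup G) : Set G) ∧ Subgroup.normalizer (((Cfsg.pCoreOf p M) : Subgroup G) : Set G) ≤ (M ⊔ Subgroup.centralizer (((Cfsg.largestPReducedOf p M) : Subgroup G) : Set G))) ∧ Cfsg.IsWeaklyClosedSubgroup p (Cfsg.pCoreOf p M) ∧ (∀ L : Subgroup G, (Cfsg.pCoreOf p M) ≤ L → Cfsg.IsParabolic p ((L ⊓ (M ⊔ Subgroup.centralizer (((Cfsg.largestPReducedOf p M) : Subgroup G) : Set G))).subgroupOf L)) ∧ (∀ x ∈ (Cfsg.largestPReducedOf p M), ∀ g : G, g * x * g⁻¹ ∈ (Cfsg.largestPReducedOf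 p M) → ∃ m ∈ M, m * x * m⁻¹ = g * x * g⁻¹) := by
  have h : FM p S M := ⟨large_parabolicChar hQ hQp, isSylowIn_top S, hSM, hM⟩
  have hw := h.wc_of_asym hasym
  refine ⟨fun L hL hO => ⟨hw.normalizer_le hL hO, h.normalizer_Y ▸ h.normalizer_O_le⟩,
    hw.isWeaklyClosedSubgroup, fun L hO => ?_, fun x hx g hg => ?_⟩
  · obtain ⟨T, h1, -, h2⟩ := h.exists_sylow_of_asym hasym hO
    exact ⟨h1.toSylow, by
      rw [h1.coe_toSylow]; exact Subgroup.comap_mono (le_inf h1.le (h.normalizer_Y ▸ h2))⟩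
  · have h1 : ∀ y ∈ largestPReducedOf p M, pCoreOf p M ≤ Subgroup.centralizer ({y} : Set G) :=
      fun y hy => h.O_sylow.le.trans (Subgroup.centralizer_le (Set.singleton_subset_iff.2 hy))
    obtain ⟨k, hk, he⟩ := hw.exists_conj (h1 x hx) (g := g⁻¹) (by
      rw [← le_cj_iff, cj_centralizer_singleton]; exact h1 _ hg)
    have h2 : g * k ∈ Subgroup.normalizer (largestPReducedOf p M : Set G) := by
      apply h.normalizer_O_le
      rw [← cj_eq_self_iff, cj_mul, ← he, cj_cj_inv]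
    rw [h.normalizer_Y] at h2
    obtain ⟨m, hm, d, hd, he2⟩ := (mem_sup_iff_of_le_normalizer (pred_Y M).normCent).1 h2
    refine ⟨m, hm, ?_⟩
    have h3 := mem_centralizer_singleton.1 hk
    have h4 := hd x hx
    calc m * x * m⁻¹ = m * (x * d) * (m * d)⁻¹ := by group
      _ = (m * d) * x * (m * d)⁻¹ := by rw [h4]; group
      _ = g * (k * x) * (g * k)⁻¹ := by rw [he2]; group
      _ = _ := by rw [← h3]; group

end Cfsg.Agent.S2850
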