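import Mathlib
import Cfsg.Statements.S2851
import Cfsg.Agent.LocalEven.FrakM

set_option autoImplicit false
open Cfsg

namespace Cfsg.Agent.S2851

open Cfsg.Agent.LocalEven

theorem redOn_of_genFitting {G : Type*} [Group G] [Finite G] {p : ℕ} [Fact p.Prime]
    (hG : pCore p G = ⊥) {R X : Subgroup G} (hR : generalizedFittingSubgroup G ≤ R)
    (hn : R ≤ Subgroup.normalizer (X : Set G)) (hX : IsPGroup p X) : X = ⊥ := by
  set F := generalizedFittingSubgroup G
  have h1 : ∀ Y : Subgroup G, Y ≤ X ⊓ F → Y = ⊥ := fun Y hY => le_bot_iff.1 (hG ▸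
    hY.trans ((le_pCoreOf inf_le_right (le_normalizer_inf (hR.trans hn) Subgroup.le_normalizer)
      (hX.to_le inf_le_left)).trans (pCoreOf_le_pCore_of_normal F)))
  have h2 := h1 ⁅X, F⁆ (le_inf (commutator_le_left_of_le_normalizer (hR.trans hn))
    (Subgroup.commutator_le_right X F))
  exact h1 X (le_inf le_rfl
    ((LocalEven.commutator_eq_bot_iff.1 h2).trans Comp2.centralizer_genFitting_le))

/-- Standing hypotheses: G a finite group, S a Sylow p-subgroup, Q a nontrivial large p-subgroup of G contained in S, M a subgroup containing S with the basic property (M ∈ 𝔐_G(S)); Y_M the largest p-reduced normal subgroup of M and M† = M·C_G(Y_M). Let F be the preimage in M† of the generalized Fitting subgroup of M†/C_{M†}(Y_M). If Y_M is asymmetric in G and H is a subgroup of characteristic p containing F, then Y_M ≤ Y_H. -/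
theorem result {G : Type*} [Group G] [Finite G] {p : ℕ} [Fact p.Prime] (S : Sylow p G) (Q : Subgroup G) (hQp : IsPGroup p ↥Q) (hQ1 : Q ≠ ⊥) (hQS : Q ≤ (S : Subgroup G)) (hQ : Cfsg.IsLarge Q) (M : Subgroup G) (hSM : (S : Subgroup G) ≤ M) (hM : Cfsg.IsInFrakM p M) (hasym : ¬ Cfsg.IsSymmetricIn (Cfsg.largestPReducedOf p M)) [hn : ((Subgroup.centralizer (((Cfsg.largestPReducedOf p M) : Subgroup G) : Set G)).subgroupOf (M ⊔ Subgroup.centralizer (((Cfsg.largestPReducedOf p M) : Subgroup G) : Set G))).Normal] (F : Subgroup G) (hF : F = ((Cfsg.generalizedFittingSubgroup (↥(M ⊔ Subgroup.centralizer (((Cfsg.largestPReducedOf p M) : Subgroup G) : Set G)) ⧸ (Subgroup.centralizer (((Cfsg.largestPReducedOf p M) : Subgroup G) : Set G)).subgroupOf (M ⊔ Subgroup.centralizer (((Cfsg.largestPReducedOf p M) : Subgroup G) : Set G)))).comap (QuotientGroup.mk' ((Subgroup.centralizer (((Cfsg.largestPReducedOf p M) : Subgroup G) : Set G)).subgroupOf (M ⊔ Subgroup.centralizer (((Cfsg.largestPReducedOf p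 M) : Subgroup G) : Set G))))).map ((M ⊔ Subgroup.centralizer (((Cfsg.largestPReducedOf p M) : Subgroup G) : Set G))).subtype) (H : Subgroup G) (hFH : F ≤ H) (hH : Subgroup.centralizer (Cfsg.pCore p ↥H : Set ↥H) ≤ Cfsg.pCore p ↥H) : (Cfsg.largestPReducedOf p M) ≤ Cfsg.largestPReducedOf p H := by
  have h : FM p S M := ⟨large_parabolicChar hQ hQp, isSylowIn_top S, hSM, hM⟩
  have hP := h.pred_dagger
  rw [h.normalizer_Y] at hP
  set Y := largestPReducedOf p M
  set C := Subgroup.centralizer (Y : Set G)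
  set D := M ⊔ C
  have hCF : C ≤ F := by
    rw [hF, ← Subgroup.map_subgroupOf_eq_of_le (le_sup_right : C ≤ D)]
    refine Subgroup.map_mono ?_
    conv_lhs => rw [← QuotientGroup.ker_mk' (C.subgroupOf D)]
    exact Subgroup.ker_le_comap _ _
  have hFD : F ≤ D := hF ▸ Subgroup.map_subtype_le _
  have hOH : pCoreOf p M ≤ H := h.O_sylow.le.trans (hCF.trans hFH)
  obtain ⟨T, h1, h2, h3⟩ := h.exists_sylow_of_asym hasym hOH
  rw [h.normalizer_Y] at h3
  refine PRed.le_Y_of_le (LocalEven.charP_iff.2 hH) h1 (le_inf h1.le h3) inf_le_left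
    ⟨le_inf ((pred_Y M).le_pCoreOf.trans hOH) hP.le, inf_le_right.trans hP.norm, hP.elem,
      fun X hX hXn hr => ?_⟩
  have hXD : X ≤ D := hX.trans inf_le_right
  have h4 := redOn_of_genFitting (redOn_iff.1 hP.red)
    (R := ((H ⊓ D).subgroupOf D).map (QuotientGroup.mk' (C.subgroupOf D)))
    (X := (X.subgroupOf D).map (QuotientGroup.mk' (C.subgroupOf D))) ?_
    (Core.map_le_normalizer_map (Core.subgroupOf_le_normalizer_subgroupOf hXn D) _) ?_
  · rw [Subgroup.map_eq_bot_iff, QuotientGroup.ker_mk'] at h4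
    exact (subgroupOf_le_subgroupOf_iff hXD).1 h4
  · rw [← Subgroup.map_comap_eq_self_of_surjective (QuotientGroup.mk'_surjective (C.subgroupOf D))
      (generalizedFittingSubgroup _)]
    refine Subgroup.map_mono (Subgroup.map_le_iff_le_comap.1 ?_)
    exact hF ▸ le_inf hFH hFD
  · rw [isPGroup_map_iff, QuotientGroup.ker_mk', pResOf_subgroupOf_eq hXD]
    exact Subgroup.comap_mono hr

end Cfsg.Agent.S2851
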