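import Mathlib
import Cfsg.Statements.S2852
import Cfsg.Agent.LocalEven.FrakM

set_option autoImplicit false
open Cfsg

namespace Cfsg.Agent.S2852

open Cfsg.Agent.LocalEven

/-- Standing hypotheses: G a finite group, S a Sylow p-subgroup, Q a nontrivial large p-subgroup of G contained in S, M a subgroup containing S with the basic property (M ∈ 𝔐_G(S)); Y_M the largest p-reduced normal subgroup of M. If Y_M is char-p-tall and asymmetric in G, then some subgroup H of G lies in ℌ_G(O_p(M)): H has characteristic p, O_p(M) ≤ H, Y_M ≰ O_p(H), and Y_M ≤ O_p(P) for every proper subgroup P of H containing O_p(M). -/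
theorem result {G : Type*} [Group G] [Finite G] {p : ℕ} [Fact p.Prime] (S : Sylow p G) (Q : Subgroup G) (hQp : IsPGroup p ↥Q) (hQ1 : Q ≠ ⊥) (hQS : Q ≤ (S : Subgroup G)) (hQ : Cfsg.IsLarge Q) (M : Subgroup G) (hSM : (S : Subgroup G) ≤ M) (hM : Cfsg.IsInFrakM p M) (htall : Cfsg.IsCharPTall p (Cfsg.largestPReducedOf p M)) (hasym : ¬ Cfsg.IsSymmetricIn (Cfsg.largestPReducedOf p M)) : ∃ H : Subgroup G, Cfsg.IsInFrakH p M H := by
  have h : FM p S M := ⟨large_parabolicChar hQ hQp, isSylowIn_top S, hSM, hM⟩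
  obtain ⟨T, L, h1, h2, h3⟩ := htall
  obtain ⟨c, hc, he⟩ := (isSylowIn_map T).conj h.O_sylow
  have h4 : pCoreOf p M ≤ cj c L := he ▸ cj_mono c h1
  have h5 : ¬ largestPReducedOf p M ≤ pCoreOf p (cj c L) := by
    rwa [← cj_pCoreOf, ← cj_eq_of_mem_normalizer (centralizer_le_normalizer' _ hc), cj_le_cj]
  obtain ⟨H, ⟨h6, h7, h8⟩, hmin⟩ := exists_minimal_of_wellFoundedLT
    (fun H : Subgroup G => pCoreOf p M ≤ H ∧ H ≤ cj c L ∧ ¬ largestPReducedOf p M ≤ pCoreOf p H)
    ⟨_, h4, le_rfl, h5⟩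
  refine ⟨H, LocalEven.charP_iff.1 ((h.wc_of_asym hasym).charP_of_le h.centralizer_le h6 h7
    ((LocalEven.charP_iff.2 h2).cj c)), h6, h8, fun P hP hlt => ?_⟩
  by_contra hne
  exact hlt.not_ge (hmin ⟨hP, hlt.le.trans h7, hne⟩ hlt.le)

end Cfsg.Agent.S2852
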