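import Mathlib
import Cfsg.Statements.S2855
import Cfsg.Agent.LocalEven.PMin
import Cfsg.Agent.LocalEven.Trace

set_option autoImplicit false
open Cfsg

namespace Cfsg.Agent.S2855

open Cfsg.Agent.LocalEven

open Subgroup

variable {H : Type*} [Group H] [Finite H] {p : ℕ} [hp : Fact p.Prime]

def SI (p : ℕ) (E : Subgroup H) : Prop :=
  ¬ PCl p E ∧ ∀ N ≤ E, E ≤ normalizer (N : Set H) → ⁅N, E⁆ ≠ ⊥ → pResOf p E ≤ N

theorem SI.comm {E : Subgroup H} (h : SI p E) : ⁅pResOf p E, E⁆ = pResOf p E := by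
  have h1 : ⁅pResOf p E, E⁆ ≤ pResOf p E :=
    commutator_le_left_of_le_normalizer (le_normalizer_pResOf E)
  refine le_antisymm h1 (h.2 _ (h1.trans (pResOf_le E)) (right_le_normalizer_commutator _ _)
    fun h0 => h.1 ?_)
  obtain ⟨T, hT⟩ := exists_isSylowIn p E
  have h2 : E ≤ normalizer ((T ⊔ ⁅pResOf p E, E⁆ : Subgroup H) : Set H) := by
    refine hT.pResOf_sup.ge.trans (sup_le ?_ (le_sup_left.trans le_normalizer))
    refine le_normalizer_of_commutator_le_left (commutator_sup_left_le ?_ ?_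
      (le_sup_left.trans le_normalizer) (le_sup_right.trans le_normalizer))
    · rw [commutator_comm]; exact (commutator_mono le_rfl hT.le).trans le_sup_right
    · exact ((commutator_mono le_rfl (pResOf_le E)).trans h0.le).trans bot_le
  have h3 := (hT.mono le_sup_left (sup_le hT.le (h1.trans (pResOf_le E)))).self_eq_pCoreOf
    (sup_le le_normalizer (((LocalEven.commutator_eq_bot_iff.1 h0).trans
      (centralizer_le hT.le)).trans (centralizer_le_normalizer' T)))
  refine pcl_of_normal hT ?_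
  rw [h3]
  exact h2.trans (normalizer_le_normalizer_pCoreOf _)

theorem SI.cent {E X : Subgroup H} (h : SI p E) (hO : pCoreOf p X = ⊥)
    (hn : E ≤ normalizer (X : Set H)) (hq : ⁅⁅X, E⁆, E⁆ = ⊥) : ⁅X, E⁆ = ⊥ := by
  obtain ⟨T, hT⟩ := exists_isSylowIn p E
  have h1 := commutator_eq_bot_of_pCoreOf_eq_bot hO hT.pgrp (hT.le.trans hn)
    (eq_bot_iff.2 ((commutator_mono (commutator_mono le_rfl hT.le) hT.le).trans hq.le))
  have h3 := LocalEven.commutator_eq_bot_iff.1 hq
  rw [commutator_comm] at h3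
  have h2 : pResOf p E ≤ centralizer (X : Set H) := by
    rw [← h.comm]
    exact Core.three_subgroups ((commutator_mono (pResOf_le E) le_rfl).trans h3)
      (h3.trans (centralizer_le (pResOf_le E)))
  rw [commutator_comm, LocalEven.commutator_eq_bot_iff, ← hT.pResOf_sup]
  exact sup_le h2 (le_centralizer_iff.1 (LocalEven.commutator_eq_bot_iff.1 h1))

theorem normal_sSup {𝒦 : Set (Subgroup H)} (hinv : ∀ h : H, ∀ E ∈ 𝒦, cj h E ∈ 𝒦) :
    (sSup 𝒦).Normal := normal_of_cj_le fun g => by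
  rw [sSup_eq_iSup', cj_iSup]
  exact iSup_le fun E => le_iSup_of_le ⟨_, hinv g E E.2⟩ le_rfl

theorem part2 (hO : pCore p H = ⊥) {𝒦 : Set (Subgroup H)} (hne : 𝒦.Nonempty)
    (hinv : ∀ h : H, ∀ E ∈ 𝒦, cj h E ∈ 𝒦) (htr : ∀ E ∈ 𝒦, ∀ K ∈ 𝒦, ∃ h : H, K = cj h E)
    (hres : pResidual p H ≤ sSup 𝒦) (hnorm : ∀ E ∈ 𝒦, sSup 𝒦 ≤ normalizer (E : Set H))
    (hSI : ∀ E ∈ 𝒦, SI p E) :
    (∀ N : Subgroup H, N.Normal → ¬ PCl p N → pResidual p H ≤ N) ∧
      ∀ E ∈ 𝒦, ∀ K ∈ 𝒦, pResOf p E = pResOf p K ∨ ⁅E, K⁆ = ⊥ := by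
  haveI := normal_sSup hinv
  set R := sSup 𝒦 with hR
  have hO' : ∀ X ≤ R, R ≤ normalizer (X : Set H) → pCoreOf p X = ⊥ := fun X h1 h2 =>
    eq_bot_iff.2 ((pCoreOf_le_of_le_normalizer h1 h2).trans
      (hO ▸ pCoreOf_le_pCore_of_normal R))
  have gen : ∀ W : Subgroup H, W.Normal → (∀ E ∈ 𝒦, pResOf p E ≤ W) → pResidual p H ≤ W := by
    intro W _ hW
    have h1 : R ≤ (pCoreOf p (R.map (QuotientGroup.mk' W))).comap (QuotientGroup.mk' W) := by
      refine sSup_le fun E hE => map_le_iff_le_comap.1 (le_pCoreOf (map_mono (le_sSup hE))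
        ((map_mono (hnorm E hE)).trans (le_normalizer_map _)) (isPGroup_of_pResOf_eq_bot ?_))
      rw [← map_pResOf, Subgroup.map_eq_bot_iff, QuotientGroup.ker_mk']
      exact hW E hE
    have h2 := pResOf_eq_bot_of_isPGroup (isPGroup_of_le_pCoreOf (map_le_iff_le_comap.2 h1))
    rw [← map_pResOf, Subgroup.map_eq_bot_iff, QuotientGroup.ker_mk'] at h2
    rw [← pResOf_top, ← pResOf_eq_of_le (pResOf_top.le.trans hres) le_top]
    exact h2
  refine ⟨fun N hN hcl => ?_, fun E hE K hK => ?_⟩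
  · have hn : ∀ X : Subgroup H, X ≤ normalizer (N : Set H) := fun X =>
      le_top.trans (normalizer_eq_top N).ge
    by_cases h0 : ∃ E ∈ 𝒦, ⁅N ⊓ E, E⁆ ≠ ⊥
    · obtain ⟨E, hE, h0⟩ := h0
      have h1 := ((hSI E hE).2 _ inf_le_right (le_normalizer_inf (hn _) le_normalizer) h0).trans
        inf_le_left
      refine gen N hN fun K hK => ?_
      obtain ⟨h, rfl⟩ := htr E hE K hK
      rw [← cj_pResOf]
      exact cj_le_of_mem_normalizer (hn _ (mem_top h)) h1
    push Not at h0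
    refine absurd (pcl_of_commutator_le (H := ⊤) le_top (hn _) ?_) hcl
    rw [commutator_comm, pResOf_top, LocalEven.commutator_eq_bot_iff.2 (gen _ inferInstance
      fun E hE => ?_)]
    · exact bot_le
    have hER : E ≤ R := le_sSup hE
    have h1 : ⁅N ⊓ R, E⁆ = ⊥ := by
      refine (hSI E hE).cent (hO' _ inf_le_right (le_normalizer_inf (hn _) le_normalizer))
        (hER.trans (le_normalizer_inf (hn _) le_normalizer))
        (eq_bot_iff.2 ((commutator_mono (le_inf ?_ ?_) le_rfl).trans (h0 E hE).le))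
      · exact (commutator_mono inf_le_left le_rfl).trans (commutator_le_left _ _)
      · exact commutator_le_right_of_le_normalizer (inf_le_right.trans (hnorm E hE))
    have h2 : ⁅E, N⁆ ≤ centralizer (E : Set H) :=
      (le_inf (commutator_le_right _ _) ((commutator_mono hER le_rfl).trans
        (commutator_le_left _ _))).trans (LocalEven.commutator_eq_bot_iff.1 h1)
    rw [← (hSI E hE).comm]
    exact Core.three_subgroups ((commutator_mono (pResOf_le E) le_rfl).trans h2)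
      (h2.trans (centralizer_le (pResOf_le E)))
  · have hEK : E ≤ normalizer (K : Set H) := (le_sSup hE).trans (hnorm K hK)
    have hKE : K ≤ normalizer (E : Set H) := (le_sSup hK).trans (hnorm E hE)
    by_cases h0 : ⁅K ⊓ E, E⁆ = ⊥
    · right
      rw [commutator_comm]
      exact (hSI E hE).cent (hO' K (le_sSup hK) (hnorm K hK)) hEK
        (eq_bot_iff.2 ((commutator_mono (le_inf (commutator_le_left_of_le_normalizer hEK)
          (commutator_le_right_of_le_normalizer hKE)) le_rfl).trans h0.le))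
    · left
      have h1 := ((hSI E hE).2 _ inf_le_right (le_normalizer_inf hEK le_normalizer) h0).trans
        inf_le_left
      refine eq_of_le_of_card_le (by rw [← pResOf_pResOf]; exact pResOf_mono h1) ?_
      obtain ⟨h, rfl⟩ := htr E hE K hK
      rw [← cj_pResOf, card_cj]

theorem part1 {𝒦 : Set (Subgroup H)} (hne : 𝒦.Nonempty)
    (hinv : ∀ h : H, ∀ E ∈ 𝒦, cj h E ∈ 𝒦) (htr : ∀ E ∈ 𝒦, ∀ K ∈ 𝒦, ∃ h : H, K = cj h E)
    (hres : pResidual p H ≤ sSup 𝒦)
    (hnorm : ∀ E ∈ 𝒦, sSup 𝒦 ⊔ pCore p H ≤ normalizer ((E ⊔ pCore p H : Subgroup H) : Set H))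
    (hmin : ∀ E ∈ 𝒦, ∀ T, IsSylowIn p T E → ∃ M, MinIn T E M) {T : Subgroup H}
    (hT : IsSylowIn p T ⊤) : IsMinimalOver T := by
  haveI := normal_sSup hinv
  set R := sSup 𝒦 with hR
  set O := pCore p H with hO
  have hOT : O ≤ T := pCoreOf_top.ge.trans hT.pCoreOf_le
  have hn : ∀ X : Subgroup H, X ≤ normalizer (O : Set H) := fun X =>
    le_top.trans (normalizer_eq_top O).ge
  have hRT : R ⊔ T = ⊤ := top_le_iff.1 (hT.pResOf_sup.ge.trans
    (sup_le_sup_right (pResOf_top.le.trans hres) T))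
  have hsyl : ∀ E ∈ 𝒦, IsSylowIn p (T ⊓ (E ⊔ O)) (E ⊔ O) := fun E hE =>
    isSylowIn_inf_of_sn hT ((H2.SN.of_normal le_top (normalizer_eq_top (R ⊔ O)).ge).trans
      (H2.SN.of_normal (sup_le_sup_right (le_sSup hE) O) (hnorm E hE)))
  have hded : ∀ E X : Subgroup H, O ≤ X → X ⊓ (E ⊔ O) = (E ⊓ X) ⊔ O := fun E X hX => by
    rw [inf_comm, inf_sup_of_le_normalizer' (hn E) hX]
  have hsylE : ∀ E ∈ 𝒦, IsSylowIn p (E ⊓ T) E := fun E hE => by
    refine isSylowIn_of_not_dvd inf_le_left (hT.pgrp.to_le inf_le_right) ?_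
    have h1 := (hsyl E hE).not_dvd
    rw [inf_relIndex_right] at h1
    rw [inf_comm, inf_relIndex_right]
    intro hd
    apply h1
    have h2 : E ⊔ O = (T ⊓ (E ⊔ O)) ⊔ E := le_antisymm
      (sup_le le_sup_right ((le_inf hOT le_sup_right).trans le_sup_left))
      (sup_le inf_le_right le_sup_left)
    have h3 := card_inf_mul_relIndex T E
    have h4 := card_inf_mul_relIndex T (E ⊔ O)
    have h5 := PGrp.card_sup_mul_card_inf (hn E)
    have h6 := PGrp.card_sup_mul_card_inf (hn (E ⊓ T))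
    rw [sup_comm, ← hded E T hOT, ← inf_assoc, inf_right_comm, inf_eq_left.2 hOT] at h6
    rw [sup_comm, ← h4, ← h3, inf_comm T E, mul_right_comm, h6, mul_assoc] at h5
    rw [Nat.eq_of_mul_eq_mul_left Nat.card_pos (Nat.eq_of_mul_eq_mul_left Nat.card_pos h5)]
    exact hd
  have hminF : ∀ E ∈ 𝒦, ∃ M, MinIn (T ⊓ (E ⊔ O)) (E ⊔ O) M := fun E hE => by
    obtain ⟨M, hM⟩ := hmin E hE _ (hsylE E hE)
    refine ⟨M ⊔ O, minIn_of_sylow (hsyl E hE) (fun h0 => hM.not_le_normalizer' ?_) ?_ ?_ ?_⟩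
    · have : E ⊓ T = E ⊓ (T ⊓ (E ⊔ O)) := by
        rw [← inf_assoc, eq_comm, inf_eq_left]; exact inf_le_left.trans le_sup_left
      rw [this]
      exact le_normalizer_inf le_normalizer (le_sup_left.trans h0)
    · rw [hded E T hOT]; exact sup_le_sup_right hM.le O
    · refine lt_of_le_of_ne (sup_le_sup_right hM.lt.le O) fun h0 => hM.lt.not_ge ?_
      have h1 := inf_sup_of_le_normalizer (hn M) hM.lt.le
      rw [h0, inf_eq_right.2 le_sup_left] at h1
      exact h1.le.trans (sup_le le_rfl ((le_inf inf_le_right (inf_le_left.trans hOT)).trans hM.le))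
    · intro X h1 h2
      have hOX : O ≤ X := (le_inf hOT le_sup_right).trans h1
      rw [← inf_eq_left.2 h2.le, hded E X hOX]
      refine sup_le_sup_right (hM.le_of_lt _ (le_inf inf_le_left
        ((le_inf inf_le_right (inf_le_left.trans le_sup_left)).trans h1))
        (lt_of_le_of_ne inf_le_left fun h0 => h2.not_ge (sup_le (h0.ge.trans inf_le_right) hOX))) O
  set D : Subgroup H := (R ⊔ O) ⊓ ⨅ x : {x : Subgroup H × Subgroup H //
    x.1 ∈ 𝒦 ∧ MinIn (T ⊓ (x.1 ⊔ O)) (x.1 ⊔ O) x.2}, normalizer (x.1.2 : Set H) with hD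
  have hDle : ∀ E ∈ 𝒦, ∀ M, MinIn (T ⊓ (E ⊔ O)) (E ⊔ O) M → D ≤ normalizer (M : Set H) :=
    fun E hE M hM => inf_le_right.trans (iInf_le_of_le ⟨(E, M), hE, hM⟩ le_rfl)
  have hTD : T ≤ normalizer (D : Set H) := le_normalizer_of_cj_le fun t ht => by
    refine le_inf (cj_le_of_mem_normalizer (le_top.trans (normalizer_eq_top (R ⊔ O)).ge (mem_top t))
      inf_le_left) (le_iInf fun x => ?_)
    have h1 := x.2.2.cj t⁻¹
    rw [cj_inf, cj_eq_of_mem (inv_mem ht), cj_sup, cj_eq_of_normal t⁻¹ O] at h1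
    rw [cj_le_iff, cj_normalizer]
    exact hDle _ (hinv _ _ x.2.1) _ h1
  refine (minOv_mk (M := D ⊔ T) ?_ le_sup_right ?_ fun X hX hne' => ?_).isMinimalOver
  · refine eq_top_iff.2 (hRT.ge.trans (sup_le (sSup_le fun E hE => ?_) (le_cjClos _ _)))
    obtain ⟨M, hM⟩ := hminF E hE
    exact (le_sup_left.trans hM.clos.ge).trans (cjClos_mono inf_le_left le_top)
  · intro h0
    obtain ⟨E, hE⟩ := hne
    obtain ⟨M, hM⟩ := hminF E hE
    have h1 : pResOf p ⊤ ≤ D := by rw [← h0]; exact pResOf_sup_le hT.pgrp hTD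
    exact hM.not_le_normalizer ((hsyl E hE).pResOf_sup.ge.trans (sup_le
      (((pResOf_mono le_top).trans h1).trans (hDle E hE M hM)) (hM.le.trans le_normalizer)))
  · have hOX : O ≤ X := hOT.trans hX
    have hlt : ∀ E ∈ 𝒦, X ⊓ (E ⊔ O) < E ⊔ O := fun E hE => by
      refine lt_of_le_of_ne inf_le_right fun h0 => hne' (eq_top_iff.2 (hRT.ge.trans
        (sup_le (sSup_le fun K hK => ?_) hX)))
      obtain ⟨h, rfl⟩ := htr E hE K hK
      obtain ⟨t, ht, r, hr, rfl⟩ := (mem_sup_iff_of_le_normalizer (H := T) (N := R)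
        (le_top.trans (normalizer_eq_top _).ge)).1 (by rw [sup_comm, hRT]; exact mem_top h)
      refine (cj_mono _ (le_sup_left : E ≤ E ⊔ O)).trans ?_
      rw [cj_mul, cj_eq_of_mem_normalizer (hnorm E hE (mem_sup_left hr))]
      exact cj_le_of_mem (hX ht) (h0.ge.trans inf_le_left)
    have h1 : X = T ⊔ ((R ⊔ O) ⊓ X) := by
      rw [← inf_sup_of_le_normalizer (le_top.trans (normalizer_eq_top _).ge) hX,
        top_le_iff.1 (hRT.ge.trans (sup_le (le_sup_left.trans le_sup_right) le_sup_left)),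
        top_inf_eq]
    rw [h1]
    refine sup_le le_sup_right (le_sup_left.trans' (le_inf inf_le_left (le_iInf fun x => ?_)))
    obtain ⟨⟨E, M⟩, hE, hM⟩ := x
    intro g hg
    have h2 : IsSylowIn p (T ⊓ (E ⊔ O)) (X ⊓ (E ⊔ O)) :=
      (hsyl E hE).mono (inf_le_inf_right _ hX) inf_le_right
    have hgF : g ∈ normalizer ((E ⊔ O : Subgroup H) : Set H) := hnorm E hE hg.1
    obtain ⟨n, hn', y, hy, rfl⟩ := h2.frattini (g := g) (le_normalizer_inf
      (L := zpowers g) (zpowers_le.2 (le_normalizer hg.2)) (zpowers_le.2 hgF) (mem_zpowers g))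
    refine mul_mem (le_normalizer (hM.le_of_lt _ h2.le (hlt E hE) hn')) (hM.le_normalizer (mem_inf.2 ⟨hy, ?_⟩))
    simpa only [inv_mul_cancel_left] using
      mul_mem (inv_mem (le_normalizer (mem_inf.1 hn').2)) hgF

/-- Let H be a finite group, p a prime, and 𝒦 a nonempty set of subgroups of H permuted transitively by conjugation, with R the subgroup generated by the members of 𝒦. Suppose O^p(H) ≤ R, each E ∈ 𝒦 has E·O_p(H) normal in R·O_p(H), and each E ∈ 𝒦 is p-minimal (generated by the conjugates of a Sylow p-subgroup T_E of E, with T_E in exactly one maximal subgroup of E). Then H is p-minimal in the same sense. If instead each E ∈ 𝒦 is strongly p-irreducible, then H is p-irreducible and, for E, K ∈ 𝒦, either O^p(E·O_p(H)) = O^p(K·O_p(H)) or [E, K] ≤ O_p(H). -/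
theorem result {H : Type*} [Group H] [Finite H] {p : ℕ} [Fact p.Prime] (𝒦 : Set (Subgroup H)) (hne : 𝒦.Nonempty) (hinv : ∀ h : H, ∀ E ∈ 𝒦, E.map (MulAut.conj h).toMonoidHom ∈ 𝒦) (htr : ∀ E ∈ 𝒦, ∀ K ∈ 𝒦, ∃ h : H, K = E.map (MulAut.conj h).toMonoidHom) (hres : Cfsg.pResidual p H ≤ sSup 𝒦) (hnorm : ∀ E ∈ 𝒦, sSup 𝒦 ⊔ Cfsg.pCore p H ≤ Subgroup.normalizer ((E ⊔ Cfsg.pCore p H : Subgroup H) : Set H)) : ((∀ E ∈ 𝒦, ∀ T : Sylow p ↥E, Cfsg.IsMinimalOver (T : Subgroup ↥E)) → ∀ T : Sylow p H, Cfsg.IsMinimalOver (T : Subgroup H)) ∧ ((∀ E ∈ 𝒦, Cfsg.IsStronglyPIrreducible p ↥E) → Cfsg.IsPIrreducible p H ∧ ∀ E ∈ 𝒦, ∀ K ∈ 𝒦, (Cfsg.pResidual p ↥(E ⊔ Cfsg.pCore p H)).map (E ⊔ Cfsg.pCore p H).subtype = (Cfsg.pResidual p ↥(K ⊔ Cfsg.pCore p H)).map (K ⊔ Cfsg.pCore p H).subtype ∨ ⁅E, K⁆ ≤ Cfsg.pCore p H) := by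
  refine ⟨fun h T => part1 hne hinv htr hres hnorm
    (fun E hE T hT => exists_minIn_of_forall hT (h E hE)) (isSylowIn_top T), fun h => ?_⟩
  set O := pCore p H with hO
  set f := QuotientGroup.mk' O with hf
  have hfs : Function.Surjective f := QuotientGroup.mk'_surjective O
  have hker : f.ker = O := QuotientGroup.ker_mk' O
  have hkp : IsPGroup p f.ker := by rw [hker]; exact isPGroup_pCore
  have hmO : ∀ E : Subgroup H, (E ⊔ O).map f = E.map f := fun E => by
    rw [Subgroup.map_sup, (Subgroup.map_eq_bot_iff O).2 hker.ge, sup_bot_eq]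
  have hsup : sSup (map f '' 𝒦) = (sSup 𝒦).map f := by
    rw [(gc_map_comap f).l_sSup, sSup_image]
  have hinv' : ∀ h : H ⧸ O, ∀ E ∈ map f '' 𝒦, cj h E ∈ map f '' 𝒦 := by
    rintro g _ ⟨E, hE, rfl⟩
    obtain ⟨g, rfl⟩ := hfs g
    exact ⟨_, hinv g E hE, map_cj f g E⟩
  have hnorm' : ∀ E ∈ map f '' 𝒦, sSup (map f '' 𝒦) ≤ normalizer (E : Set (H ⧸ O)) := by
    rintro _ ⟨E, hE, rfl⟩
    rw [hsup, ← hmO E]
    exact (map_mono (le_sup_left.trans (hnorm E hE))).trans (le_normalizer_map _)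
  have hres' : pResidual p (H ⧸ O) ≤ sSup (map f '' 𝒦) := by
    rw [hsup, ← Transfer.map_pResidual_of_surjective hfs]; exact map_mono hres
  obtain ⟨a1, a2⟩ := part2 (p := p) pCore_quotient_pCore (hne.image (map f)) hinv'
    (by
      rintro _ ⟨E, hE, rfl⟩ _ ⟨K, hK, rfl⟩
      obtain ⟨g, rfl⟩ := htr E hE K hK
      exact ⟨f g, map_cj f g E⟩) hres' hnorm' (by
      rintro _ ⟨E, hE, rfl⟩
      refine ⟨fun h0 => (h E hE).1 (pcl_iff.2 (pcl_of_map f hkp h0)), fun N h1 h2 h3 => ?_⟩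
      haveI := normal_sSup hinv'
      have hOE : pCoreOf p (E.map f) = ⊥ := eq_bot_iff.2 ((pCoreOf_le_of_le_normalizer
        (le_sSup (Set.mem_image_of_mem _ hE)) (hnorm' _ ⟨E, hE, rfl⟩)).trans
        (pCore_quotient_pCore (p := p) (G := H) ▸ pCoreOf_le_pCore_of_normal _))
      have h4 : E ≤ normalizer ((N.comap f : Subgroup H) : Set H) :=
        (map_le_iff_le_comap.1 h2).trans (le_normalizer_comap f)
      have h5 := (h E hE).2 ((N.comap f).subgroupOf E) (normal_subgroupOf_of_le_normalizer h4)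
        fun h0 => h3 ?_
      · rw [← map_pResOf, map_le_iff_le_comap]
        exact (map_mono h5).trans (by rw [subgroupOf_map_subtype]; exact inf_le_left)
      · have h6 := map_mono (f := f) (map_mono (f := E.subtype) h0)
        rw [map_commutator, subgroupOf_map_subtype, ← MonoidHom.range_eq_map, range_subtype,
          map_commutator] at h6
        have h7 : (N.comap f ⊓ E).map f = N := by
          refine le_antisymm ((map_mono inf_le_left).trans (map_comap_le _ _)) fun y hy => ?_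
          obtain ⟨x, hx, rfl⟩ := h1 hy
          exact ⟨x, ⟨hy, hx⟩, rfl⟩
        rw [h7] at h6
        exact eq_bot_iff.2 (h6.trans ((map_pCoreOf_le f E).trans hOE.le)))
  have hn : ∀ X : Subgroup H, O ≤ normalizer (X : Set H) → ∀ Y, pResOf p Y ≤ X ⊔ O →
      pResOf p Y ≤ pResOf p X := fun X hX Y hY => by
    rw [← pResOf_sup_eq isPGroup_pCore hX, ← pResOf_pResOf]
    exact pResOf_mono hY
  refine ⟨⟨fun h0 => ?_, fun N hN hcl => ?_⟩, fun E hE K hK => ?_⟩
  · obtain ⟨E, hE⟩ := hne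
    exact (h E hE).1 (pcl_iff.2 ((pcl_top_iff.1 h0).of_le le_top))
  · have h1 := a1 (N.map f) (hN.map f hfs) fun h0 => hcl (pcl_iff.2 (pcl_of_map f hkp h0))
    rw [← Transfer.map_pResidual_of_surjective hfs, Subgroup.map_le_map_iff, hker,
      ← pResOf_top] at h1
    rw [← pResOf_top]
    exact (hn N (le_top.trans (normalizer_eq_top N).ge) _ h1).trans (pResOf_le N)
  · have key : ∀ E K : Subgroup H, pResOf p (E.map f) = pResOf p (K.map f) →
        pResOf p (E ⊔ O) ≤ pResOf p (K ⊔ O) := fun E K h0 => by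
      rw [← hmO E, ← hmO K, ← map_pResOf, ← map_pResOf] at h0
      have h1 := (Subgroup.map_le_map_iff).1 h0.le
      rw [hker] at h1
      have := hn _ (le_sup_right.trans (le_normalizer_pResOf (K ⊔ O))) _ h1
      rwa [pResOf_pResOf] at this
    rcases a2 _ ⟨E, hE, rfl⟩ _ ⟨K, hK, rfl⟩ with h0 | h0
    · exact Or.inl (le_antisymm (key E K h0) (key K E h0.symm))
    · right
      rwa [← map_commutator, Subgroup.map_eq_bot_iff, hker] at h0

end Cfsg.Agent.S2855
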