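import Mathlib
import Cfsg.Statements.S2859
import Cfsg.Agent.LocalEven.PIrr
import Cfsg.Agent.LocalEven.Spe

set_option autoImplicit false
open Cfsg

namespace Cfsg.Agent.S2859

open Cfsg.Agent.LocalEven

open Subgroup

theorem commutator_eq_bot_of_central {G : Type*} [Group G] [Finite G] {p : ℕ} [Fact p.Prime]
    {H H₁ H₂ : Subgroup G} (h₁ : H₁ ≤ H) (n₁ : H ≤ normalizer (H₁ : Set G)) (h₂ : H₂ ≤ H)
    (n₂ : H ≤ normalizer (H₂ : Set G)) (hs : H₁ ⊔ H₂ = H) (hp : pElementClosure p H = H)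
    (hc : ⁅⁅H₁, H₂⁆, H⁆ = ⊥) (hd : ¬ p ∣ Nat.card (⁅H₁, H₂⁆ : Subgroup G)) : ⁅H₁, H₂⁆ = ⊥ := by
  have key : ∀ A B : Subgroup G, A ≤ H → ⁅⁅B, A⁆, H⁆ = ⊥ →
      ¬ p ∣ Nat.card (⁅B, A⁆ : Subgroup G) → pElementClosure p A ≤ centralizer (B : Set G) := by
    intro A B hA h1 h2
    refine pElementClosure_le_of_forall_isSylowIn fun T hT => ?_
    rw [le_centralizer_iff, ← LocalEven.commutator_eq_bot_iff]
    exact Comp2.commutator_eq_bot_of_coprime (coprime_card_of_isPGroup hT.pgrp fun h =>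
      h2 (h.trans (card_dvd_of_le (commutator_mono le_rfl hT.le))))
      (Comp2.commutator_eq_bot_mono h1 (commutator_mono le_rfl hT.le) (hT.le.trans hA))
  have a₁ := key H₁ H₂ h₁ (by rwa [commutator_comm H₂]) (by rwa [commutator_comm H₂])
  have a₂ := key H₂ H₁ h₂ hc hd
  set A₁ := pElementClosure p H₁
  set A₂ := pElementClosure p H₂
  have m₁ : H ≤ normalizer (A₁ : Set G) := n₁.trans (normalizer_le_normalizer_pElementClosure _)
  have m₂ : H ≤ normalizer (A₂ : Set G) := n₂.trans (normalizer_le_normalizer_pElementClosure _)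
  have hA : A₁ ⊔ A₂ ≤ H := sup_le ((pElementClosure_le _).trans h₁) ((pElementClosure_le _).trans h₂)
  have h3 : H ≤ A₁ ⊔ A₂ := by
    obtain ⟨T, hT⟩ := exists_isSylowIn p (A₁ ⊔ A₂)
    have h4 : ¬ p ∣ (A₁ ⊔ A₂).relIndex H := by
      have h5 : A₁ ⊔ A₂ ≤ H₁ ⊔ A₂ := sup_le_sup_right (pElementClosure_le _) _
      have h6 : H₁ ⊔ A₂ ≤ H := sup_le h₁ (le_sup_right.trans hA)
      rw [← relIndex_mul_relIndex _ _ _ h5 h6, Nat.Prime.dvd_mul Fact.out, not_or]
      constructor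
      · have h7 : H₁ ⊔ A₂ = (A₁ ⊔ A₂) ⊔ H₁ := by
          rw [sup_comm H₁, sup_comm A₁, sup_assoc, sup_eq_right.2 (pElementClosure_le H₁)]
        rw [h7, Core.relIndex_sup_of_le_normalizer (h₁.trans (le_normalizer_sup m₁ m₂))]
        exact fun h => not_dvd_relIndex_pElementClosure H₁
          (h.trans (relIndex_dvd_of_le_left H₁ le_sup_left))
      · have h7 : H = (H₁ ⊔ A₂) ⊔ H₂ := by
          rw [sup_assoc, sup_eq_right.2 (pElementClosure_le H₂), hs]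
        conv => enter [1, 2, 2]; rw [h7]
        rw [Core.relIndex_sup_of_le_normalizer (h₂.trans (le_normalizer_sup n₁ m₂))]
        exact fun h => not_dvd_relIndex_pElementClosure H₂
          (h.trans (relIndex_dvd_of_le_left H₂ le_sup_right))
    exact hp.ge.trans ((hT.of_not_dvd_relIndex hA h4).pElementClosure_le hT.le
      (le_normalizer_sup m₁ m₂))
  rw [LocalEven.commutator_eq_bot_iff]
  have h4 := inf_sup_of_le_normalizer ((le_sup_left.trans hA).trans m₂) (pElementClosure_le H₁)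
  rw [inf_eq_right.2 (h₁.trans h3)] at h4
  have h5 := inf_sup_of_le_normalizer' ((le_sup_left.trans hA).trans m₂) (pElementClosure_le H₂)
  rw [inf_eq_right.2 (h₂.trans h3)] at h5
  rw [h4]
  refine sup_le a₁ ?_
  rw [h5, centralizer_sup']
  refine le_inf (inf_le_left.trans (a₂.trans (centralizer_le ?_)))
    (inf_le_right.trans (le_centralizer_iff.1 a₂))
  exact inf_le_left.trans (pElementClosure_le _)

theorem half {G : Type*} [Group G] [Finite G] {p : ℕ} [Fact p.Prime] {Q H H₁ H₂ : Subgroup G}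
    (h : WC p Q) (hQ : Q ≤ H) (h₁ : H₁ ≤ H) (n₁ : H ≤ normalizer (H₁ : Set G)) (h₂ : H₂ ≤ H)
    (hs : H₁ ⊔ H₂ = H) (hD : IsPGroup p (⁅H₁, H₂⁆ : Subgroup G)) {K : Subgroup G}
    (hK : K = pResOf p (weakClosure Q (H₁ ⊔ Q))) :
    (⁅K, Q⁆ = K ∧ ⁅K, H₁⁆ = K ∧ K ≤ ⁅H₁, H₁⁆ ∧ H ≤ normalizer (K : Set G)) ∧ K ≤ H₁ ∧
      H₁ ≤ normalizer ((K ⊔ Q : Subgroup G) : Set G) := by
  rw [h.weakClosure_eq le_sup_right] at hK
  have h1 : ⁅K, Q⁆ = K := hK ▸ h.commutator_pResOf_cjClos le_sup_right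
  have h2 : K ≤ H₁ := by
    rw [hK]
    exact (pResOf_mono (cjClos_le_self le_sup_right)).trans (pResOf_sup_le h.pgrp (hQ.trans n₁))
  have h3 : H₁ ≤ normalizer (K : Set G) := hK ▸ le_sup_left.trans
    ((le_normalizer_cjClos Q (H₁ ⊔ Q)).trans (normalizer_le_normalizer_pResOf _))
  have hKK : pResOf p K = K := by rw [hK, pResOf_pResOf]
  have hDH : ⁅H₁, H₂⁆ ≤ H₁ := commutator_le_left_of_le_normalizer (h₂.trans n₁)
  have h4 : H₂ ≤ normalizer (K : Set G) := by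
    have h5 : H₂ ≤ normalizer ((K ⊔ ⁅H₁, H₂⁆ : Subgroup G) : Set G) :=
      le_normalizer_of_commutator_le_left ((commutator_mono (sup_le h2 hDH) le_rfl).trans
        le_sup_right)
    rw [← hKK, ← pResOf_sup_eq hD (hDH.trans h3)]
    exact h5.trans (normalizer_le_normalizer_pResOf _)
  have h5 : ⁅K, H₁⁆ = K := by
    refine le_antisymm (commutator_le_left_of_le_normalizer h3) ?_
    have h6 : ⁅H₁, H₂⁆ ≤ normalizer ((⁅K, H₁⁆ : Subgroup G) : Set G) :=
      hDH.trans (right_le_normalizer_commutator _ _)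
    have h7 : K ≤ ⁅K, H₁⁆ ⊔ ⁅H₁, H₂⁆ := by
      conv_lhs => rw [← h1]
      refine (commutator_mono le_rfl (hQ.trans hs.ge)).trans (commutator_sup_right_le le_sup_left
        ((commutator_mono h2 le_rfl).trans le_sup_right) ?_ ?_)
      · exact le_normalizer_sup (right_le_normalizer_commutator _ _)
          (left_le_normalizer_commutator _ _)
      · exact le_normalizer_sup (le_normalizer_commutator h4 (h₂.trans n₁))
          (right_le_normalizer_commutator _ _)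
    exact hKK.ge.trans ((pResOf_mono h7).trans (pResOf_sup_le hD h6))
  refine ⟨⟨h1, h5, h5.ge.trans (commutator_mono h2 le_rfl), hs ▸ sup_le h3 h4⟩, h2, ?_⟩
  rw [hK, h.pResOf_cjClos_sup le_sup_right]
  exact le_sup_left.trans (le_normalizer_cjClos Q _)

/-- Let Q be a nontrivial p-subgroup of the finite group H that is a weakly closed subgroup, H° the weak closure of Q in H (generated by the conjugates of Q) and H_∘ = O^p(H°). Suppose H₁, H₂ are normal subgroups of H° with H° = H₁H₂ and [H₁, H₂] ≤ N_H(Q), and put Kᵢ = O^p of the weak closure of Q in HᵢQ. Then for i = 1, 2: Kᵢ = [Kᵢ, Q] = [Kᵢ, Hᵢ] ≤ Hᵢ′ and Kᵢ is normal in H°; H_∘ = K₁K₂; and [K₁, K₂] ≤ O_p(H°). -/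
theorem result {G : Type*} [Group G] [Finite G] {p : ℕ} [Fact p.Prime] (Q : Subgroup G) (hQp : IsPGroup p ↥Q) (hQ1 : Q ≠ ⊥) (hwc : Cfsg.IsWeaklyClosedSubgroup p Q) (Hc : Subgroup G) (hHc : Hc = Cfsg.weakClosure Q ⊤) (H₁ H₂ : Subgroup G) (hn₁ : H₁ ≤ Hc ∧ Hc ≤ Subgroup.normalizer ((H₁ : Subgroup G) : Set G)) (hn₂ : H₂ ≤ Hc ∧ Hc ≤ Subgroup.normalizer ((H₂ : Subgroup G) : Set G)) (hprod : H₁ ⊔ H₂ = Hc) (hcomm : ⁅H₁, H₂⁆ ≤ Subgroup.normalizer ((Q : Subgroup G) : Set G)) (K₁ K₂ : Subgroup G) (hK₁ : K₁ = ((Cfsg.pResidual p ↥(Cfsg.weakClosure Q (H₁ ⊔ Q))).map ((Cfsg.weakClosure Q (H₁ ⊔ Q))).subtype)) (hK₂ : K₂ = ((Cfsg.pResidual p ↥(Cfsg.weakClosure Q (H₂ ⊔ Q))).map ((Cfsg.weakClosure Q (H₂ ⊔ Q))).subtype)) : (⁅K₁, Q⁆ = K₁ ∧ ⁅K₁, H₁⁆ = K₁ ∧ K₁ ≤ ⁅H₁, H₁⁆ ∧ Hc ≤ Subgroup.normalizer ((K₁ : Subgroup G) : Set G)) ∧ (⁅K₂, Q⁆ = K₂ ∧ ⁅K₂, H₂⁆ = K₂ ∧ K₂ ≤ ⁅H₂, H₂⁆ ∧ Hc ≤ Subgroup.normalizer ((K₂ : Subgroup G) : Set G))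 ∧ K₁ ⊔ K₂ = ((Cfsg.pResidual p ↥Hc).map (Hc).subtype) ∧ ⁅K₁, K₂⁆ ≤ (Cfsg.pCoreOf p Hc) := by
  have h := wc_iff.2 hwc
  rw [h.weakClosure_eq le_top] at hHc
  have hQ : Q ≤ Hc := hHc ▸ le_cjClos Q ⊤
  have hcl : cjClos Q Hc = Hc := by rw [hHc, h.cjClos_cjClos le_top]
  set D := ⁅H₁, H₂⁆
  have hDH : D ≤ Hc := commutator_le_of_le hn₁.1 hn₂.1
  have hDn : Hc ≤ normalizer (D : Set G) := le_normalizer_commutator hn₁.2 hn₂.2
  have hEn : Hc ≤ normalizer (pCoreOf p D : Set G) :=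
    hDn.trans (normalizer_le_normalizer_pCoreOf D)
  have h1 : ⁅D, Hc⁆ ≤ pCoreOf p D := by
    conv_lhs => rw [← hcl]
    refine (le_centMod.1 (cjClos_le (le_centMod.2 ⟨hQ.trans hEn, le_pCoreOf
      (commutator_le_left_of_le_normalizer (hQ.trans hDn)) (left_le_normalizer_commutator D Q)
      (hQp.to_le (commutator_le_right_of_le_normalizer hcomm))⟩)
      (le_normalizer_centMod hDn hEn))).2
  have hD : IsPGroup p D := by
    haveI : ((pCoreOf p D).subgroupOf Hc).Normal := normal_subgroupOf_of_le_normalizer hEn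
    set f := QuotientGroup.mk' ((pCoreOf p D).subgroupOf Hc)
    have hc : ∀ A B : Subgroup G, A ≤ Hc → B ≤ Hc →
        ⁅(A.subgroupOf Hc).map f, (B.subgroupOf Hc).map f⁆ = (⁅A, B⁆.subgroupOf Hc).map f := by
      intro A B hA hB
      rw [← Subgroup.map_commutator]
      congr 1
      apply map_injective Hc.subtype_injective
      rw [Subgroup.map_commutator, map_subgroupOf_eq_of_le hA, map_subgroupOf_eq_of_le hB,
        map_subgroupOf_eq_of_le (commutator_le_of_le hA hB)]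
    have hb : ∀ A : Subgroup G, A ≤ Hc → ((A.subgroupOf Hc).map f = ⊥ ↔ A ≤ pCoreOf p D) := by
      intro A hA
      rw [Subgroup.map_eq_bot_iff, QuotientGroup.ker_mk', subgroupOf_le_subgroupOf_iff hA]
    have h2 := commutator_eq_bot_of_central (p := p) (H := (Hc.subgroupOf Hc).map f)
      (H₁ := (H₁.subgroupOf Hc).map f) (H₂ := (H₂.subgroupOf Hc).map f)
      (map_mono (comap_mono hn₁.1))
      (Core.map_le_normalizer_map (Core.subgroupOf_le_normalizer_subgroupOf hn₁.2 _) _)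
      (map_mono (comap_mono hn₂.1))
      (Core.map_le_normalizer_map (Core.subgroupOf_le_normalizer_subgroupOf hn₂.2 _) _)
      (by rw [← Subgroup.map_sup, ← subgroupOf_sup hn₁.1 hn₂.1, hprod]) ?_
      (by rw [hc _ _ hn₁.1 hn₂.1, hc _ _ hDH le_rfl, hb _ (commutator_le_of_le hDH le_rfl)]; exact h1)
      ?_
    · rw [hc _ _ hn₁.1 hn₂.1, hb _ hDH] at h2
      exact isPGroup_of_le_pCoreOf h2
    · rw [← map_pElementClosure]
      congr 1
      apply map_injective Hc.subtype_injective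
      rw [map_pElementClosure, map_subgroupOf_eq_of_le le_rfl]
      refine le_antisymm (pElementClosure_le _) ?_
      conv_lhs => rw [← hcl]
      exact cjClos_le (le_pElementClosure hQp hQ) (le_normalizer_pElementClosure _)
    · rw [hc _ _ hn₁.1 hn₂.1]
      have h3 : PCl p D := pcl_of_commutator_le hDH hDn ((commutator_mono le_rfl (pResOf_le _)).trans
        (h1.trans (pCoreOf_le_of_le_normalizer hDH hDn)))
      have h4 := (IsSylowIn.subgroupOf h3 hDH).map f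
      rw [(hb _ ((pCoreOf_le D).trans hDH)).2 le_rfl] at h4
      exact fun hd => h4.ne_bot hd rfl
  obtain ⟨a1, a2, a3⟩ := half h hQ hn₁.1 hn₁.2 hn₂.1 hprod hD hK₁
  obtain ⟨b1, b2, b3⟩ := half h hQ hn₂.1 hn₂.2 hn₁.1 (by rw [sup_comm, hprod])
    (by rwa [commutator_comm]) hK₂
  refine ⟨a1, b1, le_antisymm (sup_le ?_ ?_) ?_, (commutator_mono a2 b2).trans
    (le_pCoreOf hDH hDn hD)⟩
  · rw [hK₁]; exact pResOf_mono ((weakClosure_le _ _).trans (sup_le hn₁.1 hQ))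
  · rw [hK₂]; exact pResOf_mono ((weakClosure_le _ _).trans (sup_le hn₂.1 hQ))
  · have h2 : Hc ≤ (K₁ ⊔ K₂) ⊔ Q := by
      conv_lhs => rw [← hcl]
      refine cjClos_le le_sup_right ?_
      conv_lhs => rw [← hprod]
      refine sup_le ?_ ?_
      · rw [sup_right_comm]; exact le_normalizer_sup a3 (hn₁.1.trans b1.2.2.2)
      · rw [sup_assoc]; exact le_normalizer_sup (hn₂.1.trans a1.2.2.2) b3
    exact (pResOf_mono h2).trans (pResOf_sup_le hQp
      (hQ.trans (le_normalizer_sup a1.2.2.2 b1.2.2.2)))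

end Cfsg.Agent.S2859
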