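import Mathlib
import Cfsg.Agent.Comp2.Quasisimple
import Cfsg.Agent.S2843
import Cfsg.Statements.S2860
-- import your own Cfsg.Agent.* helpers here

set_option autoImplicit false
open Cfsg

namespace Cfsg.Agent.S2860

open Subgroup Cfsg.Agent.LocalEven
open scoped commutatorElement

theorem comm_eq {X : Type*} [Group X] [Finite X] {p : ℕ} [Fact p.Prime] (h0 : pCore p X = ⊥)
    (hq : IsQuasisimple (pResOf p (⊤ : Subgroup X))) {Y : Subgroup X} (hY : IsPGroup p Y)
    (ne : Y ≠ ⊥) : ⁅pResOf p (⊤ : Subgroup X), Y⁆ = pResOf p ⊤ := by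
  set K := pResOf p (⊤ : Subgroup X)
  have l : ⁅K, Y⁆ ≤ K := commutator_le_left_of_le_normalizer (le_top.trans (le_normalizer_pResOf _))
  rcases Comp2.quasisimple_le_or_inf_le_centralizer hq (left_le_normalizer_commutator K Y) with e | e
  · exact le_antisymm l e
  rw [inf_eq_left.2 l, ← LocalEven.commutator_eq_bot_iff, commutator_comm K] at e
  have c := LocalEven.commutator_eq_bot_iff.1 (Comp2.commutator_eq_bot_comm.1
    (Comp2.commutator_eq_bot_of_perfect (Comp2.quasisimple_commutator_self hq) e))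
  obtain ⟨T, hT, hle⟩ := exists_isSylowIn_le hY (le_top (a := Y))
  refine (ne (eq_bot_iff.2 (h0 ▸ pCoreOf_top.le.trans' (le_pCoreOf_of_forall_cj hT.pgrp le_top
    fun g hg => ?_)))).elim
  obtain ⟨t, ht, a, ha, rfl⟩ := hT.exists_mul_eq' hg
  rw [cj_mul, cj_eq_of_mem_normalizer (centralizer_le_normalizer' _ (c ha))]
  exact cj_le_of_mem ht hle

theorem core {H : Type*} [Group H] [Finite H] {p : ℕ} [Fact p.Prime] (C : Subgroup H) [C.Normal]
    (h0 : pCore p (H ⧸ C) = ⊥)
    (hq : IsQuasisimple ((pResidual p H ⊔ C).map (QuotientGroup.mk' C))) {W Q : Subgroup H}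
    [W.Normal] (h1 : Q ≤ W) (h2 : IsPGroup p Q) (h3 : ¬ Q ≤ C) (h4 : ⁅pResOf p W, Q⁆ = pResOf p W)
    (h5 : ⁅W, C⁆ ≤ pCoreOf p W) :
    pResOf p ⊤ ⊔ C = pResOf p W ⊔ C ∧ ⁅pResOf p W, pResOf p W⁆ = pResOf p W ∧
      IsQuasisimple ((pResOf p W).map (QuotientGroup.mk' C)) ∧
      ∀ Y : Subgroup H, IsPGroup p Y → ¬ Y ≤ C → ⁅pResOf p W, Y⁆ = pResOf p W := by
  set π := QuotientGroup.mk' C
  have kr : π.ker = C := QuotientGroup.ker_mk' C
  have e0 : (pResOf p ⊤).map π = pResOf p ⊤ := by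
    rw [map_pResOf, map_top_of_surjective _ (QuotientGroup.mk'_surjective C)]
  rw [Subgroup.map_sup, (Subgroup.map_eq_bot_iff C).2 kr.ge, sup_bot_eq, ← pResOf_top, e0] at hq
  have k : ∀ Y : Subgroup H, IsPGroup p Y → ¬ Y ≤ C → ⁅pResOf p ⊤, Y.map π⁆ = pResOf p ⊤ := fun Y a b =>
    comm_eq h0 hq (a.map π) fun e => b (kr ▸ (Subgroup.map_eq_bot_iff _).1 e)
  haveI := pResOf_normal (p := p) W
  set R := pResOf p W
  have e1 : R.map π = pResOf p ⊤ := by
    haveI : (W.map π).Normal := Normal.map inferInstance _ (QuotientGroup.mk'_surjective C)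
    rw [map_pResOf]
    exact pResOf_eq_of_le ((k Q h2 h3).ge.trans ((commutator_mono le_rfl (map_mono h1)).trans
      (commutator_le_right _ _))) le_top
  have P : IsPGroup p ↥⁅W, C⁆ := (isPGroup_pCoreOf W).to_le h5
  have sp : ∀ N ≤ R, N.map π = R.map π → R ≤ N ⊔ R ⊓ C := fun N a b x hx => by
    obtain ⟨y, hy, e⟩ := b.ge (mem_map_of_mem π hx)
    rw [show x = y * (y⁻¹ * x) by group]
    exact mul_mem (mem_sup_left hy) (mem_sup_right (mem_inf.2 ⟨mul_mem (inv_mem (a hy)) hx,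
      QuotientGroup.eq.1 e⟩))
  have fin : ∀ N A : Subgroup H, N ≤ R → A ≤ W → R ≤ normalizer (N : Set H) → A ≤ normalizer (N : Set H) →
      N.map π = R.map π → ⁅R, A⁆ = R → R ≤ N := fun N A a b c d e f => by
    have n : R ≤ normalizer ((N ⊔ R ⊓ ⁅W, C⁆ : Subgroup H) : Set H) :=
      le_normalizer_sup c le_normalizer_of_normal
    have : R ≤ N ⊔ R ⊓ ⁅W, C⁆ := f.ge.trans ((commutator_mono (sp N a e) le_rfl).trans
      (commutator_sup_left_le ((commutator_le_left_of_le_normalizer d).trans le_sup_left)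
        (le_sup_of_le_right (le_inf ((commutator_mono inf_le_left le_rfl).trans
          (commutator_le_left _ _)) ((commutator_comm _ _).le.trans (commutator_mono b inf_le_right))))
        (a.trans n) (inf_le_left.trans n)))
    exact (pResOf_pResOf W).ge.trans ((pResOf_mono this).trans
      (pResOf_sup_le (P.to_le inf_le_right) (inf_le_left.trans c)))
  have pf : ⁅R, R⁆ = R := le_antisymm (commutator_le_left _ _) (fin _ Q (commutator_le_left _ _) h1
    le_normalizer_of_normal le_normalizer_of_normal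
    (by rw [map_commutator, e1, Comp2.quasisimple_commutator_self hq]) h4)
  refine ⟨?_, pf, e1 ▸ hq, fun Y a b => le_antisymm (commutator_le_left _ _) (fin _ R
    (commutator_le_left _ _) (pResOf_le _) (left_le_normalizer_commutator _ _)
    (left_le_normalizer_commutator _ _) (by rw [map_commutator, e1, k Y a b]) pf)⟩
  rw [← kr, ← comap_map_eq, ← comap_map_eq, e0, e1]

theorem quot {X Y : Type*} [Group X] [Group Y] [Group.IsPerfect X] (φ : X →* Y)
    (hq : IsQuasisimple φ.range) (N : Subgroup X) [N.Normal] (h1 : N ≤ φ.ker)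
    (h2 : ∀ x ∈ φ.ker, ∀ g : X, ⁅g, x⁆ ∈ N) : IsQuasisimple (X ⧸ N) := by
  refine Comp2.quasisimple_of_ker_le_center (QuotientGroup.lift N φ.rangeRestrict
    fun x hx => Subtype.ext (h1 hx)) (fun y => ?_) (fun x hx => ?_) hq
  · obtain ⟨x, rfl⟩ := φ.rangeRestrict_surjective y
    exact ⟨x, rfl⟩
  · obtain ⟨x, rfl⟩ := QuotientGroup.mk_surjective x
    refine mem_center_iff.2 fun g => ?_
    obtain ⟨g, rfl⟩ := QuotientGroup.mk_surjective g
    have := (QuotientGroup.eq_one_iff _).2 (h2 x (congrArg Subtype.val hx) g)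
    rw [← commutatorElement_eq_one_iff_mul_comm, ← this]; rfl

/-- Let Q be a nontrivial large p-subgroup of the finite group H, U a nontrivial elementary abelian p-subgroup of H, and Q ≤ E ≤ N_H(U) with Q not normal in E. Suppose O_p(E/C_E(U)) = 1 and O^p(E)·C_E(U)/C_E(U) is quasisimple. Let E° be the weak closure of Q in E (generated by the conjugates of Q inside E) and E_∘ = O^p(E°). Then O^p(E)·C_E(U) = E_∘·C_E(U); E_∘ is perfect and equals O^p(E_∘); E_∘/C_{E_∘}(U) and E_∘/O_p(E_∘) are quasisimple; and E_∘ = [E_∘, Y] for every p-subgroup Y of E not centralizing U. -/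
theorem result {G : Type*} [Group G] [Finite G] {p : ℕ} [Fact p.Prime] (Q : Subgroup G) (hQp : IsPGroup p ↥Q) (hQ1 : Q ≠ ⊥) (hQ : Cfsg.IsLarge Q) (U : Subgroup G) (hU : Cfsg.IsElementaryAbelian p U) (hU1 : U ≠ ⊥) (E : Subgroup G) (hQE : Q ≤ E) (hEU : E ≤ Subgroup.normalizer ((U : Subgroup G) : Set G)) (hQn : ¬ E ≤ Subgroup.normalizer ((Q : Subgroup G) : Set G)) [hn : ((Subgroup.centralizer ((U : Subgroup G) : Set G)).subgroupOf E).Normal] (hred : Cfsg.pCore p (↥E ⧸ (Subgroup.centralizer ((U : Subgroup G) : Set G)).subgroupOf E) = ⊥) (hqs : Cfsg.IsQuasisimple ↥(((Cfsg.pResidual p ↥E) ⊔ (Subgroup.centralizer ((U : Subgroup G) : Set G)).subgroupOf E).map (QuotientGroup.mk' ((Subgroup.centralizer ((U : Subgroup G) : Set G)).subgroupOf E)))) (Er : Subgroup G) (hEr : Er = ((Cfsg.pResidual p ↥(Cfsg.weakClosure Q E)).map ((Cfsg.weakClosure Q E)).subtype)) [hn2 : ((Subgroup.centralizer ((U : Subgroup G) : Set G)).subgroupOf Er).Normal] : ((Cfsg.pResidual p ↥E).map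 (E).subtype) ⊔ (E ⊓ Subgroup.centralizer ((U : Subgroup G) : Set G)) = Er ⊔ (E ⊓ Subgroup.centralizer ((U : Subgroup G) : Set G)) ∧ ⁅Er, Er⁆ = Er ∧ ((Cfsg.pResidual p ↥Er).map (Er).subtype) = Er ∧ Cfsg.IsQuasisimple (↥Er ⧸ (Subgroup.centralizer ((U : Subgroup G) : Set G)).subgroupOf Er) ∧ Cfsg.IsQuasisimple (↥Er ⧸ Cfsg.pCore p ↥Er) ∧ ∀ Y : Subgroup G, Y ≤ E → IsPGroup p ↥Y → ¬ Y ≤ Subgroup.centralizer ((U : Subgroup G) : Set G) → ⁅Er, Y⁆ = Er := by
  have w := large_wc hQ hQp
  set C := centralizer (U : Set G)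
  set W := weakClosure Q E with hW
  have l : W ≤ E := weakClosure_le Q E
  have nW : E ≤ normalizer (W : Set G) :=
    le_normalizer.trans (normalizer_le_normalizer_weakClosure Q E)
  have lr : pResOf p W ≤ E := (pResOf_le W).trans l
  obtain rfl : Er = pResOf p W := hEr
  have hC := (S2843.result Q hQp hQ1 hQ E hQE U (isPGroup_of_elemAb hU) hU1 hEU).2.1
  have inj := map_injective E.subtype_injective
  have ms : ∀ {A : Subgroup G}, A ≤ E → (A.subgroupOf E).map E.subtype = A := map_subgroupOf_eq_of_le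
  haveI : (W.subgroupOf E).Normal := (normal_subgroupOf_iff_le_normalizer l).2 nW
  obtain ⟨a, b, c, d⟩ := core (C.subgroupOf E) hred hqs (W := W.subgroupOf E) (Q := Q.subgroupOf E)
    (comap_mono (self_le_weakClosure hQE)) (isPGroup_subgroupOf hQp)
    (fun e => hQn (hEU.trans (hQ.2 U (le_centralizer_iff.1 fun x hx => e (x := ⟨x, hQE hx⟩) hx) hU1)))
    (inj (by
      rw [map_commutator, pResOf_subgroupOf_map l, ms hQE, hW, w.weakClosure_eq hQE]
      exact w.commutator_pResOf_cjClos hQE))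
    (by
      rw [← map_le_map_iff_of_injective E.subtype_injective, map_commutator, pCoreOf_subgroupOf_map l,
        ms l, subgroupOf_map_subtype]
      exact (commutator_mono le_rfl inf_le_left).trans hC)
  have pf : ⁅pResOf p W, pResOf p W⁆ = pResOf p W := by
    rw [← pResOf_subgroupOf_map l, ← map_commutator, b]
  haveI : Group.IsPerfect (pResOf p W) := Subgroup.isPerfect_iff.2 pf
  let φ := (QuotientGroup.mk' (C.subgroupOf E)).comp (inclusion lr)
  have r : IsQuasisimple φ.range := by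
    rwa [MonoidHom.range_comp, inclusion_range, ← pResOf_subgroupOf_eq l]
  have kr : ∀ x, x ∈ φ.ker ↔ (x : G) ∈ C := fun x => QuotientGroup.eq_one_iff (inclusion lr x)
  refine ⟨?_, pf, pResOf_pResOf W, quot φ r _ (fun x hx => (kr x).2 hx) fun x hx g =>
    mul_mem (hn2.conj_mem x ((kr x).1 hx) g) (inv_mem (show x ∈ C.subgroupOf _ from (kr x).1 hx)),
    quot φ r _ (fun x hx => ?_) fun x hx g => mem_pCoreOf.1 (pCoreOf_inf_le (pResOf_le W)
      (mem_inf.2 ⟨hC (commutator_mem_commutator (pResOf_le W g.2) ((kr x).1 hx)), ⁅g, x⁆.2⟩)),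
    fun Y h1 h2 h3 => ?_⟩
  · have := congrArg (map E.subtype) a
    rwa [Subgroup.map_sup, Subgroup.map_sup, pResOf_subgroupOf_map l, subgroupOf_map_subtype, pResOf_top, inf_comm] at this
  · have := map_pCore_le (p := p) _ (QuotientGroup.mk'_surjective (C.subgroupOf E))
      (mem_map_of_mem _ (mem_pCoreOf.1 (pCoreOf_le_of_le_normalizer lr (nW.trans
        (normalizer_le_normalizer_pResOf W)) (mem_pCoreOf.2 hx) : ((inclusion lr x : E) : G) ∈ _)))
    rwa [hred] at this
  · rw [← pResOf_subgroupOf_map l, ← ms h1, ← map_commutator, d _ (isPGroup_subgroupOf h2)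
      fun e => h3 fun x hx => e (x := ⟨x, h1 hx⟩) hx]

end Cfsg.Agent.S2860
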