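import Mathlib
import Cfsg.Agent.BHS.SL3
import Cfsg.Agent.LocalEven.PRed
import Cfsg.Agent.RankOne.SzLie
import Cfsg.Agent.RankOne.SzSylow
import Cfsg.Statements.S2861
-- import your own Cfsg.Agent.* helpers here

set_option autoImplicit false
open Cfsg

namespace Cfsg.Agent.S2861

open Subgroup Cfsg.Agent.LocalEven Cfsg.Agent.BHS Cfsg.Agent.Classical.SL2Basic Matrix
open scoped MatrixGroups

/-- `Y` is the only nontrivial elementary abelian normal subgroup of its normalizer. -/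
def Uq (p : ℕ) {X : Type*} [Group X] (Y : Subgroup X) : Prop :=
  ∀ V : Subgroup X, IsElementaryAbelian p V → V ≠ ⊥ → V ≤ normalizer (Y : Set X) →
    normalizer (Y : Set X) ≤ normalizer (V : Set X) → V = Y

theorem Uq.of_map {p : ℕ} {X X' : Type*} [Group X] [Group X'] (e : X ≃* X') {Y : Subgroup X}
    (h : Uq p (Y.map e.toMonoidHom)) : Uq p Y := fun V a b c d => by
  have i : Function.Injective e.toMonoidHom := e.injective
  refine map_injective i (h _ (elemAb_map a _) (fun k => b ((map_eq_bot_iff_of_injective _ i).1 k))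
    ((map_le_norm i).2 c) fun g hg => ?_)
  obtain ⟨g, rfl⟩ := e.surjective g
  exact (map_mem_norm i).2 (d ((map_mem_norm i).1 hg))

theorem uq_upper {F : Type} [Field F] [Fintype F] {p : ℕ} [Fact p.Prime] [CharP F p]
    {Y : Subgroup SL(2, F)} (h : ∀ g, g ∈ Y ↔ ∃ c, g = upper c) {V : Subgroup SL(2, F)} (h1 : V ≤ Y)
    (h2 : V ≠ ⊥) (h3 : normalizer (Y : Set SL(2, F)) ≤ normalizer (V : Set SL(2, F))) : V = Y := by
  obtain ⟨⟨g, hg⟩, g1⟩ := ne_bot_iff_exists_ne_one.1 h2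
  obtain ⟨c, rfl⟩ := (h g).1 (h1 hg)
  have c0 : c ≠ 0 := fun e => g1 (Subtype.ext (by subst e; exact upper_zero))
  have k : ∀ t : F, upper (t ^ 2 * c) ∈ V := fun t => by
    by_cases t0 : t = 0
    · rw [t0, zero_pow two_ne_zero, zero_mul, upper_zero]; exact one_mem _
    let d : SL(2, F) := mkSL t 0 0 t⁻¹ (by simp [t0])
    have e : ∀ b, d * upper b * d⁻¹ = upper (t ^ 2 * b) := fun b => by
      rw [mul_inv_eq_iff_eq_mul]
      refine sl2_ext ?_ ?_ ?_ ?_ <;> simp [d, upper, Classical.SL2Basic.mul_apply]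
      field_simp
    refine e c ▸ conj_mem_of_mem_normalizer (h3 (mem_normalizer_of_cj_le (cj_le_iff'.2 fun y hy => ?_))) hg
    obtain ⟨b, rfl⟩ := (h y).1 hy
    exact (h _).2 ⟨_, e b⟩
  refine le_antisymm h1 fun y hy => ?_
  obtain ⟨b, rfl⟩ := (h y).1 hy
  by_cases h2 : p = 2
  · subst h2
    obtain ⟨t, e⟩ := FiniteField.isSquare_of_char_two (ringChar.eq F 2) (b / c)
    convert k t using 2
    rw [sq, ← e, div_mul_cancel₀ _ c0]
  have h20 : (2 : F) ≠ 0 := two_ne_zero_of_char h2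
  have := mul_mem (k ((b / c + 1) / 2)) (inv_mem (k ((b / c - 1) / 2)))
  convert this using 1
  rw [eq_mul_inv_iff_mul_eq, ← upper_add]
  congr 1; field_simp; ring

theorem uq_sl {F : Type} [Field F] [Fintype F] {p : ℕ} [Fact p.Prime] {Y : Subgroup SL(2, F)}
    (h : IsElementaryAbelian p Y) (hc : Nat.card Y = Fintype.card F) : Uq p Y := fun V a b c d => by
  obtain ⟨n, e⟩ := (isPGroup_of_elemAb h).exists_card_eq
  haveI : CharP F p := charP_of_card (hc.symm.trans e)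
  have : IsPGroup p ((V ⊔ Y).map mvP) :=
    (isPGroup_sup (isPGroup_of_elemAb a) (isPGroup_of_elemAb h) c).map _
  obtain ⟨x, hx, x0⟩ := this.exists_fixed_point_of_prime_dvd_card_of_fixed_point (Fin 2 → F)
    dvd_card_vec (a := 0) (by rintro ⟨_, n, -, rfl⟩; exact mv_zero n)
  obtain ⟨g, rfl⟩ := exists_mv x0.symm
  let U : Subgroup SL(2, F) := (MonoidHom.mk' (fun c : Multiplicative F => upper c.toAdd)
    fun a b => upper_add _ _).range
  have l : cj g⁻¹ (V ⊔ Y) ≤ U := cj_le_iff'.2 fun y hy => ⟨_, (eq_upper (by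
    have : mv y (mv g e0) = mv g e0 := hx ⟨_, mem_map_of_mem mvP hy⟩
    rw [inv_inv, mv_mul, mv_mul, this, mv_inv_mv])).symm⟩
  have e : cj g⁻¹ Y = U := eq_of_le_of_card_le ((cj_mono _ le_sup_right).trans l) (by
    rw [card_cj, hc, ← Nat.card_eq_fintype_card]
    exact Nat.card_le_card_of_surjective (α := Multiplicative F) _
      (MonoidHom.rangeRestrict_surjective _))
  refine cj_inj.1 (uq_upper (Y := cj g⁻¹ Y) (p := p) (fun y => by
    rw [e]; exact ⟨fun ⟨c, k⟩ => ⟨_, k.symm⟩, fun ⟨c, k⟩ => ⟨c, k.symm⟩⟩)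
    (((cj_mono _ le_sup_left).trans l).trans e.ge) (fun k => b (cj_eq_bot.1 k)) ?_)
  rw [← cj_normalizer, ← cj_normalizer]
  exact cj_mono _ d

theorem uq_sz {G Ω F : Type*} [Group G] [MulAction G Ω] [Field F] [Fintype F] {m : ℕ}
    (Z : RankOne.Sz.Model G Ω F m) {Y : Subgroup G} (h : IsElementaryAbelian 2 Y)
    (hc : Nat.card Y = Fintype.card F) : Uq 2 Y := fun V a b c d => by
  haveI := Z.finite
  obtain ⟨Z, l⟩ := Z.exists_model_of_isPGroup
    (isPGroup_sup (isPGroup_of_elemAb a) (isPGroup_of_elemAb h) c)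
  have k : ∀ g ∈ V ⊔ Y, g ^ 2 = 1 → ∃ y, g = Z.S 0 y := fun g hg e => by
    obtain ⟨x, y, rfl⟩ := (Z.mem_Q g).1 (l hg)
    by_cases x0 : x = 0
    · exact ⟨y, by rw [x0]⟩
    have := orderOf_dvd_of_pow_eq_one e
    rw [Z.orderOf_S x0] at this
    omega
  let U : Subgroup G := (MonoidHom.mk' (fun c : Multiplicative F => Z.S 0 c.toAdd)
    fun a b => by simp [Z.S_mul]).range
  have e : Y = U := eq_of_le_of_card_le (fun y hy => by
    obtain ⟨b, rfl⟩ := k y (mem_sup_right hy) (h.2 y hy); exact ⟨b, rfl⟩) (by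
    rw [hc, ← Nat.card_eq_fintype_card]
    exact Nat.card_le_card_of_surjective (α := Multiplicative F) _
      (MonoidHom.rangeRestrict_surjective _))
  obtain ⟨⟨g, hg⟩, g1⟩ := ne_bot_iff_exists_ne_one.1 b
  obtain ⟨x, rfl⟩ := k g (mem_sup_left hg) (a.2 g hg)
  have x0 : x ≠ 0 := fun e => g1 (Subtype.ext (by subst e; exact Z.S_zero))
  refine le_antisymm (fun y hy => ?_) fun y hy => ?_
  · obtain ⟨b, rfl⟩ := k y (mem_sup_left hy) (a.2 y hy)
    exact e.ge ⟨b, rfl⟩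
  obtain ⟨b, rfl⟩ := k y (mem_sup_right hy) (h.2 y hy)
  by_cases b0 : b = 0
  · rw [b0, Z.S_zero]; exact one_mem _
  obtain ⟨κ, rfl⟩ := Z.exists_unit_mul_θ x0 b0
  have := conj_mem_of_mem_normalizer (d (x := Z.M κ) (mem_normalizer_of_cj_le (cj_le_iff'.2
    fun y hy => ?_))) hg
  · rwa [Z.M_conj_S, mul_zero] at this
  obtain ⟨b, rfl⟩ := e.le hy
  exact e.ge ⟨Multiplicative.ofAdd _, ((Z.M_conj_S κ 0 _).trans (by rw [mul_zero]; rfl)).symm⟩

theorem uq_two {X : Type*} [Group X] [Finite X] {Y : Subgroup X} (h : IsElementaryAbelian 2 Y)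
    (ne : Y ≠ ⊥) (k : ∀ P : Subgroup X, IsPGroup 2 P → ∀ a ∈ P, ∀ b ∈ P, a ^ 2 = 1 → b ^ 2 = 1 →
      a ≠ 1 → b ≠ 1 → a = b) : Uq 2 Y := fun V a b c _ => by
  have k := k _ (isPGroup_sup (isPGroup_of_elemAb a) (isPGroup_of_elemAb h) c)
  have j : ∀ A B : Subgroup X, A ≤ V ⊔ Y → B ≤ V ⊔ Y → IsElementaryAbelian 2 A →
      IsElementaryAbelian 2 B → B ≠ ⊥ → A ≤ B := fun A B a1 b1 a2 b2 b3 x hx => by
    obtain ⟨⟨g, hg⟩, g1⟩ := ne_bot_iff_exists_ne_one.1 b3
    by_cases x1 : x = 1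
    · rw [x1]; exact one_mem _
    exact k x (a1 hx) g (b1 hg) (a2.2 x hx) (b2.2 g hg) x1 (fun e => g1 (Subtype.ext e)) ▸ hg
  exact le_antisymm (j _ _ le_sup_left le_sup_right a h ne) (j _ _ le_sup_right le_sup_left h a b)

theorem of_comm {X : Type*} [Group X] [Finite X]
    (k : ∀ a b : X, a ^ 2 = 1 → b ^ 2 = 1 → a ≠ 1 → b ≠ 1 → a * b = b * a → a = b)
    (P : Subgroup X) (hP : IsPGroup 2 P) (a : X) (ha : a ∈ P) (b : X) (hb : b ∈ P) (a2 : a ^ 2 = 1)
    (b2 : b ^ 2 = 1) (a1 : a ≠ 1) (b1 : b ≠ 1) : a = b := by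
  obtain ⟨z, hz, z1, z2⟩ := exists_mem_inf_centralizer hP hP le_normalizer
    (fun e => a1 (mem_bot.1 (e ▸ ha)))
  have z3 := z2 ▸ pow_orderOf_eq_one z
  exact (k a z a2 z3 a1 (ne_one_of_orderOf_eq z2) (z1 a ha)).trans
    (k b z b2 z3 b1 (ne_one_of_orderOf_eq z2) (z1 b hb)).symm

theorem dih {r : ℕ} (hr : r.Prime) (h2 : r ≠ 2) (a b : DihedralGroup r) (a2 : a ^ 2 = 1)
    (b2 : b ^ 2 = 1) (a1 : a ≠ 1) (b1 : b ≠ 1) (c : a * b = b * a) : a = b := by
  haveI := Fact.mk hr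
  have t : (2 : ZMod r) ≠ 0 := two_ne_zero_of_char h2
  have k : ∀ x : DihedralGroup r, x ^ 2 = 1 → x ≠ 1 → ∃ i, x = .sr i := fun x x2 x1 => by
    rcases x with i | i
    · rw [sq, DihedralGroup.r_mul_r, DihedralGroup.one_def, DihedralGroup.r.injEq, ← two_mul,
        mul_eq_zero, or_iff_right t] at x2
      exact (x1 (by rw [x2, DihedralGroup.one_def])).elim
    · exact ⟨i, rfl⟩
  obtain ⟨i, rfl⟩ := k a a2 a1
  obtain ⟨j, rfl⟩ := k b b2 b1
  rw [DihedralGroup.sr_mul_sr, DihedralGroup.sr_mul_sr, DihedralGroup.r.injEq] at c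
  rw [mul_left_cancel₀ t (show 2 * i = 2 * j by linear_combination -c)]

/-- Square matrices of size four over the field with two elements. -/
abbrev M4 := Matrix (Fin 4) (Fin 4) (ZMod 2)
/-- Their rows. -/
abbrev V4 := Fin 4 → ZMod 2
/-- The Gram matrix. -/
def J4 : M4 := !![0, 0, 0, 1; 0, 0, 1, 0; 0, 1, 0, 0; 1, 0, 0, 0]
/-- Involutions of `Sz(2)`. -/
def Tw (g : M4) : Prop := gᵀ * J4 * g = J4 ∧ Cfsg.Lie.star4 g = g ∧ g * g = 1 ∧ g ≠ 1
instance (g : M4) : Decidable (Tw g) := by unfold Tw; infer_instance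
/-- A pruned quantifier over the involutions. -/
def Al (P : M4 → Prop) : Prop := ∀ a b : V4, Cfsg.Lie.star4 (of ![a, b, 0, 0]) 0 = a → ∀ c : V4,
   Cfsg.Lie.star4 (of ![a, b, c, 0]) 1 = b → ∀ d : V4, Tw (of ![a, b, c, d]) → P (of ![a, b, c, d])
instance (P : M4 → Prop) [DecidablePred P] : Decidable (Al P) := by unfold Al; infer_instance
theorem key : Al fun g => Al fun h => g * h = h * g → g = h := by decide +kernel
theorem Al.all {P : M4 → Prop} (h : Al P) {g : M4} (hg : Tw g) : P g := by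
  have e : of ![g 0, g 1, g 2, g 3] = g := by ext i j; fin_cases i <;> rfl
  exact e ▸ h (g 0) (g 1) (congrFun hg.2.1 0) (g 2) (congrFun hg.2.1 1) (g 3) (e.symm ▸ hg)

theorem sz2 {F : Type} [Field F] [Fintype F] (hF : Fintype.card F = 2) (a b : Lie.Sz F 2)
    (a2 : a ^ 2 = 1) (b2 : b ^ 2 = 1) (a1 : a ≠ 1) (b1 : b ≠ 1) (c : a * b = b * a) : a = b := by
  classical
  haveI : CharP F 2 := charP_of_card (n := 1) hF
  let φ := (ZMod.ringEquivOfPrime F Nat.prime_two hF).symm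
  have sq : ∀ x : F, x ^ 2 = x := fun x => hF ▸ FiniteField.pow_card x
  have tw : ∀ g ∈ Lie.Sz F 2, (g : Matrix (Fin 4) (Fin 4) F)ᵀ * RankOne.Sz.Jmat F * g =
      RankOne.Sz.Jmat F ∧ Lie.star4 (g : Matrix (Fin 4) (Fin 4) F) = g := fun g hg => by
    rw [Lie.Sz, ← mem_toSubmonoid, closure_toSubmonoid_of_finite] at hg
    induction hg using Submonoid.closure_induction with
    | mem g hg => exact ⟨(RankOne.Sz.mem_Sp4_iff g).1 hg.1, hg.2.trans (by ext; exact sq _)⟩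
    | one => exact ⟨by simp, by
        have := RankOne.Sz.star4_Dmat (θ := RingHom.id F) (fun x => (sq x).symm) one_ne_zero
        rw [RankOne.Sz.Dmat_one] at this
        exact this.trans (Matrix.map_id _)⟩
    | mul g h _ _ k l => exact ⟨RankOne.Sz.form_mul k.1 l.1, by
        rw [Units.val_mul, RankOne.Sz.star4_mul k.1 l.1, k.2, l.2]⟩
  let ρ : Lie.Sz F 2 →* M4 := (φ.mapMatrix : Matrix (Fin 4) (Fin 4) F ≃+* M4).toMonoidHom.comp
    ((Units.coeHom _).comp (Lie.Sz F 2).subtype)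
  have i : Function.Injective ρ := φ.mapMatrix.injective.comp (Units.val_injective.comp Subtype.val_injective)
  have t : ∀ g : Lie.Sz F 2, g ^ 2 = 1 → g ≠ 1 → Tw (ρ g) := fun g g2 g1 => by
    have J : φ.mapMatrix (RankOne.Sz.Jmat F) = J4 := by
      ext i j; fin_cases i <;> fin_cases j <;> simp [RankOne.Sz.Jmat, J4]
    refine ⟨?_, ?_, by rw [← map_mul, ← pow_two, g2, map_one], fun e => g1 (i (e.trans (map_one ρ).symm))⟩
    · have := congrArg φ.mapMatrix (tw g g.2).1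
      rwa [map_mul, map_mul, J] at this
    · ext i j
      have := congrArg φ (congrFun (congrFun (tw g g.2).2 i) j)
      simp only [Lie.star4, of_apply, map_sub, map_mul] at this
      exact this
  exact i ((key.all (t a a2 a1)).all (t b b2 b1) (by rw [← map_mul, c, map_mul]))

/-- Standing hypotheses: G a finite group, S a Sylow p-subgroup, Q a nontrivial large p-subgroup of G contained in S, M a subgroup containing S with the basic property (M ∈ 𝔐_G(S)); Y_M the largest p-reduced normal subgroup of M and M† = M·C_G(Y_M). Let L ∈ 𝔏_G(Y_M) (L ∈ 𝔏_G(Y_M): Y_M ≤ L; O_p(L) is the normal closure in L of Y_M ∩ O_p(L) and normalizes Y_M; L is Y_M-minimal of characteristic p with N_L(Y_M) its unique maximal subgroup over Y_M; and L/O_p(L) ≅ SL₂(q) with q = |Y_M : Y_M ∩ O_p(L)|, or p = 2 and L/O_p(L) is a Suzuki group Sz(q) or dihedral of order 2r, r an odd prime) and A = O_p(L). Then Y_M·A/A is the unique nontrivial elementary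 abelian normal p-subgroup of N_L(Y_M)/A. -/
theorem result {G : Type*} [Group G] [Finite G] {p : ℕ} [Fact p.Prime] (S : Sylow p G) (Q : Subgroup G) (hQp : IsPGroup p ↥Q) (hQ1 : Q ≠ ⊥) (hQS : Q ≤ (S : Subgroup G)) (hQ : Cfsg.IsLarge Q) (M : Subgroup G) (hSM : (S : Subgroup G) ≤ M) (hM : Cfsg.IsInFrakM p M) (L : Subgroup G) (hL : Cfsg.IsInFrakL p M L) (NL : Subgroup G) (hNL : NL = L ⊓ Subgroup.normalizer (((Cfsg.largestPReducedOf p M) : Subgroup G) : Set G)) [hn : (((Cfsg.pCoreOf p L)).subgroupOf NL).Normal] : let Ybar : Subgroup (↥NL ⧸ ((Cfsg.pCoreOf p L)).subgroupOf NL) := (((Cfsg.largestPReducedOf p M)).subgroupOf NL).map (QuotientGroup.mk' (((Cfsg.pCoreOf p L)).subgroupOf NL)); Ybar ≠ ⊥ ∧ Ybar.Normal ∧ Cfsg.IsElementaryAbelian p Ybar ∧ ∀ (V : Subgroup (↥NL ⧸ ((Cfsg.pCoreOf p L)).subgroupOf NL)), V.Normal → Cfsg.IsElementaryAbelian p V → V ≠ ⊥ → V = Ybar := by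
  intro Ybar
  set Y := largestPReducedOf p M
  obtain ⟨h1, -, h3, ⟨h4, -⟩, -, ⟨h5, h6⟩, h7⟩ := hL
  have ea : IsElementaryAbelian p Y := (pred_Y M).elem
  have l : NL ≤ L := hNL ▸ inf_le_left
  have lY : Y ≤ NL := hNL ▸ le_inf h1 le_normalizer
  set π := QuotientGroup.mk' (pCore p L)
  have sπ := QuotientGroup.mk'_surjective (pCore p L)
  set Y' := (Y.subgroupOf L).map π with hY'
  have ea' : IsElementaryAbelian p Y' := elemAb_map (elemAb_subgroupOf ea L) π
  have ne : Y' ≠ ⊥ := fun e => by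
    rw [Subgroup.map_eq_bot_iff, QuotientGroup.ker_mk'] at e
    exact h5.not_ge (le_inf le_rfl fun x hx => h3 (mem_pCoreOf.2 ((h4.ge.trans
      (normalClosure_le_normal e)) (mem_top ⟨x, hx⟩))))
  have cd : Nat.card Y' = (Y ⊓ pCoreOf p L).relIndex Y := by
    rw [← relIndex_ker, QuotientGroup.ker_mk', ← pCoreOf_subgroupOf, relIndex_subgroupOf h1,
      inf_comm, inf_relIndex_right]
  have uq : Uq p Y' := by
    obtain ⟨F, _, _, e, ⟨i⟩⟩ | ⟨rfl, F, _, _, m, hF, e, ⟨i⟩⟩ | ⟨rfl, r, hr, h2, ⟨i⟩⟩ := h7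
    · exact Uq.of_map i (uq_sl (elemAb_map ea' _) (by rw [card_map_of_injective i.injective, cd, e]))
    · rcases Nat.eq_zero_or_pos m with rfl | hm
      · exact uq_two ea' ne (of_comm fun a b a2 b2 a1 b1 c => i.injective (sz2 hF _ _
          (by rw [← map_pow, a2, map_one]) (by rw [← map_pow, b2, map_one]) (by simpa using a1)
          (by simpa using b1) (by rw [← map_mul, c, map_mul])))
      obtain ⟨_, ⟨Z⟩⟩ := RankOne.Sz.exists_model_of_equiv_lie hF hm i
      exact uq_sz Z ea' (cd.trans e.symm)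
    · exact uq_two ea' ne (of_comm fun a b a2 b2 a1 b1 c => i.injective (dih hr h2 _ _
        (by rw [← map_pow, a2, map_one]) (by rw [← map_pow, b2, map_one]) (by simpa using a1)
        (by simpa using b1) (by rw [← map_mul, c, map_mul])))
  let φ := QuotientGroup.lift ((pCoreOf p L).subgroupOf NL) (π.comp (inclusion l)) fun x hx =>
    (QuotientGroup.eq_one_iff _).2 (mem_pCoreOf.1 hx)
  have i : Function.Injective φ := (injective_iff_map_eq_one _).2 fun x hx => by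
    obtain ⟨x, rfl⟩ := QuotientGroup.mk_surjective x
    exact (QuotientGroup.eq_one_iff _).2 (mem_pCoreOf.2 ((QuotientGroup.eq_one_iff _).1 hx))
  have e : Ybar.map φ = Y' := by
    refine le_antisymm ?_ ?_
    · rintro _ ⟨_, ⟨y, hy, rfl⟩, rfl⟩
      exact ⟨inclusion l y, hy, rfl⟩
    · rintro _ ⟨y, hy, rfl⟩
      exact ⟨_, ⟨⟨y, lY hy⟩, hy, rfl⟩, rfl⟩
  haveI : (Y.subgroupOf NL).Normal := (normal_subgroupOf_iff_le_normalizer lY).2 (hNL ▸ inf_le_right)
  have n : Ybar.Normal := Normal.map inferInstance _ (QuotientGroup.mk'_surjective _)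
  refine ⟨fun k => ne (by rw [← e, k, Subgroup.map_bot]), n,
    elemAb_map (elemAb_subgroupOf ea _) _, fun V v1 v2 v3 => map_injective i (e ▸ uq _
      (elemAb_map v2 _) (fun k => v3 ((map_eq_bot_iff_of_injective _ i).1 k))
      (e ▸ (map_le_norm i).2 le_normalizer_of_normal) fun g hg => ?_)⟩
  obtain ⟨g, rfl⟩ := sπ g
  have k := h6 (((normalizer (Y' : Set (L ⧸ pCore p L))).comap π).map L.subtype)
    (fun y hy => ⟨⟨y, h1 hy⟩, le_normalizer (mem_map_of_mem π hy), rfl⟩)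
    (lt_of_le_of_ne (map_subtype_le _) fun k => ne (eq_bot_iff.2 (pCore_quotient_pCore.le.trans'
      (le_pCore (normalizer_eq_top_iff.1 (eq_top_iff.2 fun x _ => by
        obtain ⟨x, rfl⟩ := sπ x
        exact mem_map_subtype.1 (k.ge x.2))) (isPGroup_of_elemAb ea'))))) (mem_map_of_mem _ hg)
  exact (map_mem_norm (f := φ) i (g := ((⟨g, hNL ▸ k⟩ : NL) : NL ⧸ _))).2
    (normalizer_eq_top_iff.2 v1 ▸ mem_top _)

end Cfsg.Agent.S2861
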