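import Mathlib
import Cfsg.Statements.S2862
import Cfsg.Agent.Part.Asy2

set_option autoImplicit false
open Cfsg

namespace Cfsg.Agent.S2862


/-- Standing hypotheses: G a finite group, S a Sylow p-subgroup, Q a nontrivial large p-subgroup of G contained in S, M a subgroup containing S with the basic property (M ∈ 𝔐_G(S)); Y_M the largest p-reduced normal subgroup of M and M† = M·C_G(Y_M). Suppose Y_M is char-p-tall and asymmetric in G, H ∈ ℌ_G(O_p(M)), and L is minimal among the subgroups of H containing Y_M with Y_M ≰ O_p(L). Then H = ⟨L, O_p(M)⟩ = ⟨hY_Mh⁻¹, O_p(M)⟩ for every h ∈ L outside N_L(Y_M); L is Y_M-minimal and of characteristic p, with N_L(Y_M) the unique maximal subgroup of L containing Y_M; [V, O^p(L)] ≠ 1 for every noncentral chief factor V/W of H inside O_p(H) (that is, O^p(L) does not act trivially on V/W); and the normal closure of O_p(L) ∩ Y_M in L lies in O_p(H). -/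
theorem result {G : Type*} [Group G] [Finite G] {p : ℕ} [Fact p.Prime] (S : Sylow p G) (Q : Subgroup G) (hQp : IsPGroup p ↥Q) (hQ1 : Q ≠ ⊥) (hQS : Q ≤ (S : Subgroup G)) (hQ : Cfsg.IsLarge Q) (M : Subgroup G) (hSM : (S : Subgroup G) ≤ M) (hM : Cfsg.IsInFrakM p M) (htall : Cfsg.IsCharPTall p (Cfsg.largestPReducedOf p M)) (hasym : ¬ Cfsg.IsSymmetricIn (Cfsg.largestPReducedOf p M)) (H : Subgroup G) (hH : Cfsg.IsInFrakH p M H) (L : Subgroup G) (hLH : L ≤ H) (hYL : (Cfsg.largestPReducedOf p M) ≤ L) (hYO : ¬ (Cfsg.largestPReducedOf p M) ≤ (Cfsg.pCoreOf p L)) (hmin : ∀ L' : Subgroup G, L' ≤ L → (Cfsg.largestPReducedOf p M) ≤ L' → ¬ (Cfsg.largestPReducedOf p M) ≤ (Cfsg.pCoreOf p L') → L' = L) : (L ⊔ (Cfsg.pCoreOf p M) = H ∧ ∀ h ∈ L, h ∉ Subgroup.normalizer (((Cfsg.largestPReducedOf p M) : Subgroup G) : Set G) → (((Cfsg.largestPReducedOf p M) : Subgroup G).map (MulAut.conj (h : G)).toMonoidHom) ⊔ (Cfsg.pCoreOf p M) = H)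 ∧ (Cfsg.IsMinimalOver (((Cfsg.largestPReducedOf p M)).subgroupOf L) ∧ Subgroup.centralizer (Cfsg.pCore p ↥L : Set ↥L) ≤ Cfsg.pCore p ↥L ∧ L ⊓ Subgroup.normalizer (((Cfsg.largestPReducedOf p M) : Subgroup G) : Set G) < L ∧ ∀ X : Subgroup G, (Cfsg.largestPReducedOf p M) ≤ X → X < L → X ≤ L ⊓ Subgroup.normalizer (((Cfsg.largestPReducedOf p M) : Subgroup G) : Set G)) ∧ (∀ V W' : Subgroup G, V ≤ (Cfsg.pCoreOf p H) → H ≤ Subgroup.normalizer ((V : Subgroup G) : Set G) → H ≤ Subgroup.normalizer ((W' : Subgroup G) : Set G) → W' < V → (∀ Z' : Subgroup G, H ≤ Subgroup.normalizer ((Z' : Subgroup G) : Set G) → W' ≤ Z' → Z' ≤ V → Z' = W' ∨ Z' = V) → ¬ ⁅V, H⁆ ≤ W' → ¬ ⁅V, ((Cfsg.pResidual p ↥L).map (L).subtype)⁆ ≤ W') ∧ (Subgroup.normalClosure (((((Cfsg.pCoreOf p L) ⊓ (Cfsg.largestPReducedOf p M)).subgroupOf L : Subgroup ↥L)) : Set ↥L)).map L.subtype ≤ (Cfsg.pCoreOf p H) := by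
  open Cfsg.Agent.LocalEven Cfsg.Agent.Part.Asy in
  have h : FM p S M := ⟨large_parabolicChar hQ hQp, isSylowIn_top S, hSM, hM⟩
  have st : St p (largestPReducedOf p M) (pCoreOf p M) H :=
    ⟨(pred_Y M).le_pCoreOf, (pred_Y M).pCoreOf_le, h.wc_of_asym hasym, h.normalizer_O_le,
      fun g => cj_le_centralizer_of_asym hasym, charP_iff.2 hH.1, hH.2.1, hH.2.2.2⟩
  obtain ⟨g, s⟩ := st.exists_sl hLH hYL hYO fun X h1 h2 => by
    by_contra e
    exact h2.ne (hmin X h2.le h1 e)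
  generalize largestPReducedOf p M = Y at *
  generalize pCoreOf p M = R at *
  have hlt : L ⊓ Subgroup.normalizer (Y : Set G) < L :=
    lt_of_le_of_ne inf_le_left fun e => s.not_le_norm (inf_eq_left.1 e)
  have key : ∀ K : Subgroup L, Y.subgroupOf L ≤ K → K ≠ ⊤ →
      K ≤ (Subgroup.normalizer (Y : Set G)).subgroupOf L := fun K h1 h2 x hx =>
    s.le_norm (X := K.map L.subtype) (fun y hy => ⟨⟨y, hYL hy⟩, h1 hy, rfl⟩)
      (lt_of_le_of_ne (Subgroup.map_subtype_le _) fun e => h2 (by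
        rw [← map_subtype_subgroupOf K, e, Subgroup.subgroupOf_self])) ⟨x, hx, rfl⟩
  have hne : (Subgroup.normalizer (Y : Set G)).subgroupOf L ≠ ⊤ := fun e =>
    s.not_le_norm (Subgroup.subgroupOf_eq_top.1 e)
  have hY : Y.subgroupOf L ≤ (Subgroup.normalizer (Y : Set G)).subgroupOf L :=
    Subgroup.comap_mono Subgroup.le_normalizer
  refine ⟨⟨s.sup_eq, fun x h1 h2 => le_antisymm (sup_le (cj_le_of_mem (hLH h1) s.YH) s.RH) ?_⟩,
    ⟨⟨?_, _, ⟨⟨hne, fun K hK => ?_⟩, hY⟩, fun K hK => ?_⟩, charP_iff.1 s.charP, hlt,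
      fun X h1 h2 => le_inf h2.le (s.le_norm h1 h2)⟩,
    fun U W h1 h2 h3 h4 h5 h6 => s.chief h1 h2 h3 h4 h5 h6, ?_⟩
  · rw [← s.sup_eq, ← s.gen_of h1 h2]
    exact sup_le (sup_le (s.YR.trans le_sup_right) le_sup_left) le_sup_right
  · apply Subgroup.map_injective L.subtype_injective
    rw [normalClosure_subgroupOf_map hYL, ← MonoidHom.range_eq_map, Subgroup.range_subtype]
    exact le_antisymm (cjClos_le_self hYL)
      (s.gen.ge.trans (sup_le (le_cjClos _ _) (cj_le_cjClos s.gL)))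
  · by_contra e
    exact hK.not_ge (key K (hY.trans hK.le) e)
  · exact (hK.1.le_iff.1 (key K hK.2 hK.1.1)).resolve_left hne |>.symm
  · rw [normalClosure_subgroupOf_map (inf_le_right.trans hYL)]
    exact cjClos_le s.inf_le (hLH.trans (le_normalizer_pCoreOf H))

end Cfsg.Agent.S2862
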