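import Mathlib
import Cfsg.Statements.S2863
import Cfsg.Agent.Isaacs.YMin3
-- import your own Cfsg.Agent.* helpers here

set_option autoImplicit false
open Cfsg

namespace Cfsg.Agent.S2863

open Cfsg.Agent.Isaacs Subgroup

/-- Standing hypotheses: G a finite group, S a Sylow p-subgroup, Q a nontrivial large p-subgroup of G contained in S, M a subgroup containing S with the basic property (M ∈ 𝔐_G(S)); Y_M the largest p-reduced normal subgroup of M and M† = M·C_G(Y_M). Let L ∈ 𝔏_G(Y_M) (L ∈ 𝔏_G(Y_M): Y_M ≤ L; O_p(L) is the normal closure in L of Y_M ∩ O_p(L) and normalizes Y_M; L is Y_M-minimal of characteristic p with N_L(Y_M) its unique maximal subgroup over Y_M; and L/O_p(L) ≅ SL₂(q) with q = |Y_M : Y_M ∩ O_p(L)|, or p = 2 and L/O_p(L) is a Suzuki group Sz(q) or dihedral of order 2r, r an odd prime), A = O_p(L), and C = C_{Y_M}(L). Then every element h of L whose order is not a power of p acts without nontrivial fixed points on A/C: for a ∈ A, hah⁻¹a⁻¹ ∈ C implies a ∈ C. -/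
theorem result {G : Type*} [Group G] [Finite G] {p : ℕ} [Fact p.Prime] (S : Sylow p G) (Q : Subgroup G) (hQp : IsPGroup p ↥Q) (hQ1 : Q ≠ ⊥) (hQS : Q ≤ (S : Subgroup G)) (hQ : Cfsg.IsLarge Q) (M : Subgroup G) (hSM : (S : Subgroup G) ≤ M) (hM : Cfsg.IsInFrakM p M) (L : Subgroup G) (hL : Cfsg.IsInFrakL p M L) (h : G) (hh : h ∈ L) (hnp : ¬ ∃ k : ℕ, orderOf h = p ^ k) : ∀ a ∈ (Cfsg.pCoreOf p L), h * a * h⁻¹ * a⁻¹ ∈ (Cfsg.largestPReducedOf p M) ⊓ Subgroup.centralizer ((L : Subgroup G) : Set G) → a ∈ (Cfsg.largestPReducedOf p M) ⊓ Subgroup.centralizer ((L : Subgroup G) : Set G) := by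
  intro a ha hR
  obtain ⟨hYL, hcl, hAN, hmin, -, ⟨hlt, hmax⟩, hX⟩ := hL
  set Y := largestPReducedOf p M with hY
  have hel : IsElementaryAbelian p Y := (LocalEven.pred_Y M).elem
  have hinf : (Y ⊓ pCoreOf p L).subgroupOf L = Y.subgroupOf L ⊓ pCore p L := by
    rw [← LocalEven.pCoreOf_subgroupOf]; rfl
  have hN : normalizer ((Y.subgroupOf L : Subgroup L) : Set L) =
      (normalizer (Y : Set G)).subgroupOf L := (subgroupOf_normalizer_eq hYL).symm
  have H : YMin.Pre p (Y.subgroupOf L) :=
    { elem := ⟨Core.isMulCommutative_of_forall fun x hx y hy => Subtype.ext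
          (Core.comm_of_isMulCommutative hel.1 hx hy),
        fun y hy => Subtype.ext (hel.2 y hy)⟩
      clA := by
        apply map_injective L.subtype_injective
        rw [← hinf, ← hcl]; rfl
      AN := by
        rw [hN, ← LocalEven.pCoreOf_subgroupOf]
        exact comap_mono hAN
      clY := hmin.1
      ne := by
        rw [hN]
        intro e
        rw [subgroupOf_eq_top] at e
        exact hlt.ne (inf_eq_left.2 e)
      max := by
        intro K hK hne
        rw [hN]
        have := hmax (K.map L.subtype) (fun y hy => ⟨⟨y, hYL hy⟩, hK hy, rfl⟩)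
          (lt_of_le_of_ne (map_subtype_le K) fun e => hne (by
            apply map_injective L.subtype_injective
            rw [e, ← MonoidHom.range_eq_map, range_subtype]))
        intro x hx
        exact (this (mem_map_of_mem _ hx)).2 }
  have hrel : (pCore p L).relIndex (Y.subgroupOf L) = (Y ⊓ pCoreOf p L).relIndex Y := by
    rw [← LocalEven.pCoreOf_subgroupOf, relIndex_subgroupOf hYL, inf_relIndex_left]
  have haL : a ∈ L := LocalEven.pCoreOf_le L ha
  have hcen : ∀ x : L, x ∈ center L ↔ (x : G) ∈ centralizer (L : Set G) := by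
    intro x
    rw [mem_center_iff, mem_centralizer_iff]
    exact ⟨fun h g hg => congrArg Subtype.val (h ⟨g, hg⟩), fun h g => Subtype.ext (h g g.2)⟩
  have := H.final (by rw [hrel]; exact hX) (h := ⟨h, hh⟩) (c := ⟨a, haL⟩)
    (by rwa [← Subgroup.orderOf_coe]) (LocalEven.mem_pCoreOf.1 ha) ⟨hR.1, (hcen _).2 hR.2⟩
  exact ⟨this.1, (hcen _).1 this.2⟩

end Cfsg.Agent.S2863
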