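import Mathlib
import Cfsg.Statements.S2864
import Cfsg.Agent.LocalEven.FrakM
import Cfsg.Agent.PGrp.Frattini

set_option autoImplicit false
open Cfsg

namespace Cfsg.Agent.S2864

open Cfsg.Agent.LocalEven

theorem mem_centralizer_of_commutator_le {G : Type*} [Group G] [Finite G] {p : ℕ} [Fact p.Prime]
    {A : Subgroup G} (hA : IsPGroup p A) {x : G} (hx : (orderOf x).Coprime p)
    (hn : x ∈ Subgroup.normalizer (A : Set G)) (h : ⁅A, Subgroup.zpowers x⁆ ≤ ⁅A, A⁆) :
    x ∈ Subgroup.centralizer (A : Set G) := by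
  obtain ⟨k, hk⟩ := IsPGroup.iff_card.1 hA
  have h1 := Core.commutator_sup_centralizer (Subgroup.zpowers x) A (Subgroup.zpowers_le.2 hn)
    (by rw [Nat.card_zpowers, hk]; exact Nat.Coprime.pow_right k hx)
    (Or.inr (Core.solvable_of_isPGroup hA))
  have h2 : A ⊓ Subgroup.centralizer (Subgroup.zpowers x : Set G) = A := by
    set C := A ⊓ Subgroup.centralizer (Subgroup.zpowers x : Set G)
    have h3 := Core.eq_top_of_sup_le_frattini (PGrp.commutator_le_frattini hA)
      (H := C.subgroupOf A) (by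
        apply Subgroup.map_injective A.subtype_injective
        rw [Subgroup.map_sup, Core.map_commutator_subtype, Subgroup.map_subgroupOf_eq_of_le
          inf_le_left, ← MonoidHom.range_eq_map, Subgroup.range_subtype]
        refine le_antisymm (sup_le inf_le_left (commutator_le_of_le le_rfl le_rfl)) ?_
        conv_lhs => rw [← h1, sup_comm]
        exact sup_le_sup_left h _)
    exact le_antisymm inf_le_left (Subgroup.subgroupOf_eq_top.1 h3)
  exact Subgroup.le_centralizer_iff.1 (h2.ge.trans inf_le_right) (Subgroup.mem_zpowers x)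

/-- Standing hypotheses: G a finite group, S a Sylow p-subgroup, Q a nontrivial large p-subgroup of G contained in S, M a subgroup containing S with the basic property (M ∈ 𝔐_G(S)); Y_M the largest p-reduced normal subgroup of M and M† = M·C_G(Y_M). Let I be a nontrivial normal p-subgroup of M and Y ≤ O_p(M†); let L be a subgroup of G containing Y and A a normal p-subgroup of L with I ≤ A ≤ M. If [Y, A] ≤ [I, A], then Y ≤ O_p(L). -/
theorem result {G : Type*} [Group G] [Finite G] {p : ℕ} [Fact p.Prime] (S : Sylow p G) (Q : Subgroup G) (hQp : IsPGroup p ↥Q) (hQ1 : Q ≠ ⊥) (hQS : Q ≤ (S : Subgroup G)) (hQ : Cfsg.IsLarge Q) (M : Subgroup G) (hSM : (S : Subgroup G) ≤ M) (hM : Cfsg.IsInFrakM p M) (I : Subgroup G) (hI1 : I ≠ ⊥) (hIp : IsPGroup p ↥I) (hIM : I ≤ M ∧ M ≤ Subgroup.normalizer ((I : Subgroup G) : Set G)) (Y : Subgroup G) (hY : Y ≤ (Cfsg.pCoreOf p (M ⊔ Subgroup.centralizer (((Cfsg.largestPReducedOf p M) : Subgroup G) : Set G)))) (L : Subgroup G) (hYL : Y ≤ L) (A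 : Subgroup G) (hAp : IsPGroup p ↥A) (hAL : A ≤ L ∧ L ≤ Subgroup.normalizer ((A : Subgroup G) : Set G)) (hIA : I ≤ A) (hAM : A ≤ M) (hc : ⁅Y, A⁆ ≤ ⁅I, A⁆) : Y ≤ (Cfsg.pCoreOf p L) := by
  have h : FM p S M := ⟨large_parabolicChar hQ hQp, isSylowIn_top S, hSM, hM⟩
  have hn : L ≤ Subgroup.normalizer ((⁅A, A⁆ : Subgroup G) : Set G) :=
    le_normalizer_commutator hAL.2 hAL.2
  have h1 : cjClos Y L ≤ centMod A ⁅A, A⁆ := by
    refine cjClos_le (le_centMod.2 ⟨hYL.trans hn, ?_⟩) (le_normalizer_centMod hAL.2 hn)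
    rw [Subgroup.commutator_comm]
    exact hc.trans (Subgroup.commutator_mono hIA le_rfl)
  have hW : cjClos Y L ≤ L := cjClos_le_self hYL
  have h2 : pResOf p (cjClos Y L) ≤ M ⊔ Subgroup.centralizer (largestPReducedOf p M : Set G) := by
    refine le_trans ?_ ((Subgroup.centralizer_le hIA).trans ((centralizer_le_normalizer' I).trans
      (h.normalizer_le_dagger hIp hI1 hIM.2)))
    exact pResOf_le_iff.2 fun x hx hc => mem_centralizer_of_commutator_le hAp hc (hAL.2 (hW hx))
      (le_centMod.1 ((Subgroup.zpowers_le.2 hx).trans h1)).2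
  have h3 : H2.SN L (pResOf p (cjClos Y L) ⊔ Y) :=
    (H2.SN.of_normal hW (le_normalizer_cjClos Y L)).trans
      (sn_of_pResOf_le le_sup_left (sup_le (pResOf_le _) (le_cjClos Y L)))
  exact ((le_inf hY le_sup_right).trans (pCoreOf_inf_le (sup_le h2 (hY.trans (pCoreOf_le _))))).trans
    (pCoreOf_le_of_sn h3)

end Cfsg.Agent.S2864
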