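import Mathlib
import Cfsg.Statements.S2872
import Cfsg.Agent.LocalEven.CentTr

set_option autoImplicit false
open Cfsg

namespace Cfsg.Agent.S2872

open Cfsg.Agent.LocalEven

open Subgroup

/-- Let S be a Sylow 2-subgroup of the finite group G. Then G has a proper normal subgroup of 2-power index (O²(G) ≠ G), or Ω₁(Z(S)) is contained in the Frattini subgroup of S, or N_G(S) acts nontrivially on Ω₁(Z(S)) by conjugation. -/
theorem result {G : Type*} [Group G] [Finite G] (S : Sylow 2 G) : Cfsg.pResidual 2 G ≠ ⊤ ∨ Cfsg.omegaOne 2 ((S : Subgroup G) ⊓ Subgroup.centralizer ((S : Subgroup G) : Set G)) ≤ (frattini ↥(S : Subgroup G)).map (S : Subgroup G).subtype ∨ ∃ g ∈ Subgroup.normalizer ((S : Subgroup G) : Set G), ∃ z ∈ Cfsg.omegaOne 2 ((S : Subgroup G) ⊓ Subgroup.centralizer ((S : Subgroup G) : Set G)), g * z * g⁻¹ ≠ z := by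
  haveI : Fact (Nat.Prime 2) := ⟨Nat.prime_two⟩
  by_contra h
  push Not at h
  obtain ⟨h1, h2, h3⟩ := h
  obtain ⟨z, hz, hz2⟩ := SetLike.not_le_iff_exists.1 h2
  obtain ⟨a, b, c⟩ := (mem_omegaOneCenter (p := 2)).1 hz
  refine not_mem_pResidual_of_central S a c (fun g hg => ?_) hz2 (h1 ▸ mem_top z)
  have := h3 g hg z hz
  rw [mul_inv_eq_iff_eq_mul] at this
  exact this

end Cfsg.Agent.S2872
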