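import Mathlib
import Cfsg.Statements.S2873
import Cfsg.Agent.Core.Cores
import Cfsg.Agent.Core.Coprime
import Cfsg.Agent.Inv.Pairs
-- import your own Cfsg.Agent.* helpers here

set_option autoImplicit false
open Cfsg

namespace Cfsg.Agent.S2873

open Subgroup DihedralGroup

theorem exists_pow_r {r : ℕ} [Fact r.Prime] {i : ZMod r} (hi : i ≠ 0) (j : ZMod r) :
    ∃ m : ℕ, (DihedralGroup.r i) ^ m = DihedralGroup.r j :=
  ⟨(i⁻¹ * j).val, by rw [r_pow, ZMod.natCast_zmod_val, mul_inv_cancel_left₀ hi]⟩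

/-- Let G be a finite group and r an odd prime such that G ⧸ O₂(G) is dihedral of order 2r, and let R be a Sylow r-subgroup of G with C_{O₂(G)}(R) = 1. Then N_G(R) is dihedral of order 2r; for any involution a of N_G(R), every involution of G outside O₂(G) is conjugate to a; and |C_{O₂(G)}(a)|² = |O₂(G)|. -/
theorem result {G : Type*} [Group G] [Finite G] {r : ℕ} [Fact r.Prime] (hr : r ≠ 2) [hN : (Cfsg.pCore 2 G).Normal] (hquot : Nonempty (G ⧸ Cfsg.pCore 2 G ≃* DihedralGroup r)) (R : Sylow r G) (hC : Cfsg.pCore 2 G ⊓ Subgroup.centralizer ((R : Subgroup G) : Set G) = ⊥) : Nonempty (↥(Subgroup.normalizer ((R : Subgroup G) : Set G)) ≃* DihedralGroup r) ∧ ∀ a : G, a ∈ Subgroup.normalizer ((R : Subgroup G) : Set G) → orderOf a = 2 → (∀ b : G, orderOf b = 2 → b ∉ Cfsg.pCore 2 G → ∃ g : G, g * a * g⁻¹ = b) ∧ Nat.card ↥(Cfsg.pCore 2 G ⊓ Subgroup.centralizer ({a} : Set G)) ^ 2 = Nat.card ↥(Cfsg.pCore 2 G) := by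
  classical
  obtain ⟨e⟩ := hquot
  have hrp : r.Prime := Fact.out
  have hodd : Odd r := hrp.odd_of_ne_two hr
  set Q := pCore 2 G with hQ
  let φ : G →* DihedralGroup r := e.toMonoidHom.comp (QuotientGroup.mk' Q)
  have hφs : Function.Surjective φ := e.surjective.comp (QuotientGroup.mk'_surjective Q)
  have hker : ∀ g, φ g = 1 ↔ g ∈ Q := fun g => by
    show e (g : G ⧸ Q) = 1 ↔ _
    rw [MulEquiv.map_eq_one_iff, QuotientGroup.eq_one_iff]
  obtain ⟨k, hk⟩ := IsPGroup.iff_card.1 (Core.pCore_isPGroup (G := G) 2)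
  obtain ⟨l, hl⟩ := IsPGroup.iff_card.1 R.isPGroup'
  have hcop : (Nat.card (R : Subgroup G)).Coprime (Nat.card Q) := by
    rw [hk, hl]; exact Nat.Coprime.pow _ _ ((Nat.coprime_primes hrp Nat.prime_two).2 hr)
  have hRQ : ∀ y ∈ (R : Subgroup G), y ∈ Q → y = 1 := fun y h1 h2 =>
    Core.eq_one_of_mem_of_coprime hcop h1 h2
  have hRr : ∀ y ∈ (R : Subgroup G), ∃ i, φ y = DihedralGroup.r i := by
    intro y hy
    rcases h : φ y with i | i
    · exact ⟨i, rfl⟩
    · exfalso
      have h1 : orderOf (φ y) ∣ Nat.card (R : Subgroup G) :=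
        (orderOf_map_dvd φ y).trans (orderOf_dvd_natCard _ hy)
      rw [h, orderOf_sr, hl] at h1
      exact hr ((Nat.prime_dvd_prime_iff_eq Nat.prime_two hrp).1 (Nat.prime_two.dvd_of_dvd_pow h1)).symm
  have hRr' : ∀ y ∈ (R : Subgroup G), y ≠ 1 → ∃ i, i ≠ 0 ∧ φ y = DihedralGroup.r i := by
    intro y hy h1
    obtain ⟨i, hi⟩ := hRr y hy
    refine ⟨i, fun h => h1 (hRQ y hy ((hker y).1 ?_)), hi⟩
    rw [hi, h]; rfl
  have hB : ∀ z ∈ (R : Subgroup G), z ≠ 1 → ∀ q ∈ Q, Commute q z → q = 1 := by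
    intro z hz hz1 q hq hc
    have : q ∈ Q ⊓ centralizer ((R : Subgroup G) : Set G) := by
      refine ⟨hq, fun w hw => ?_⟩
      obtain ⟨i, hi0, hi⟩ := hRr' z hz hz1
      obtain ⟨j, hj⟩ := hRr w hw
      obtain ⟨m, hm⟩ := exists_pow_r hi0 j
      have : w * (z ^ m)⁻¹ = 1 := hRQ _ (mul_mem hw (inv_mem (pow_mem hz m))) (by
        rw [← hker, map_mul, map_inv, map_pow, hi, hm, hj, mul_inv_cancel])
      rw [mul_inv_eq_one] at this
      rw [this]
      exact (hc.pow_right m).symm
    rwa [hC, mem_bot] at this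
  have h2 : (2 : ZMod r) ≠ 0 := by
    intro h
    have := (ZMod.natCast_eq_zero_iff 2 r).1 (by exact_mod_cast h)
    exact hr ((Nat.prime_dvd_prime_iff_eq hrp Nat.prime_two).1 this)
  have hA : ∀ y i, i ≠ 0 → φ y = DihedralGroup.r i → ∀ q ∈ Q, Commute q y → q = 1 := by
    intro y i hi hy q hq hc
    have hyr : y ^ r ∈ Q := by rw [← hker, map_pow, hy, r_pow]; simp
    have hz : (y ^ 2 ^ k) ^ r = 1 := by
      rw [← pow_mul, mul_comm, pow_mul, ← hk]
      exact congrArg Subtype.val (pow_card_eq_one' (x := (⟨_, hyr⟩ : Q)))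
    have hz1 : y ^ 2 ^ k ≠ 1 := by
      intro h
      have := congrArg φ h
      rw [map_pow, hy, r_pow, map_one, one_def] at this
      have := DihedralGroup.r.inj this
      push_cast at this
      exact mul_ne_zero hi (pow_ne_zero _ h2) this
    have hp : IsPGroup r (zpowers (y ^ 2 ^ k)) := by
      refine IsPGroup.of_card (n := 1) ?_
      rw [Nat.card_zpowers, pow_one]
      exact orderOf_eq_prime hz hz1
    obtain ⟨R', hR'⟩ := hp.exists_le_sylow
    obtain ⟨g, hg⟩ := MulAction.exists_smul_eq G R' R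
    have hmem : g * y ^ 2 ^ k * g⁻¹ ∈ (R : Subgroup G) := by
      rw [← hg]
      exact ⟨_, hR' (mem_zpowers _), rfl⟩
    have := hB _ hmem (by simpa using hz1) (g * q * g⁻¹) (hN.conj_mem _ hq g) (by
      have := (hc.pow_right (2 ^ k)).map (MulAut.conj g)
      simpa using this)
    simpa using this
  have hA' : ∀ y i, i ≠ 0 → φ y = DihedralGroup.r i → Odd (orderOf y) := by
    intro y i hi hy
    have hyr : y ^ r ∈ Q := by rw [← hker, map_pow, hy, r_pow]; simp
    exact hodd.of_dvd_nat (orderOf_dvd_of_pow_eq_one (hA y i hi hy _ hyr (Commute.pow_self y r)))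
  set N := normalizer ((R : Subgroup G) : Set G) with hNdef
  have hNQ : ∀ n ∈ N, n ∈ Q → n = 1 := by
    intro n hn hq
    have : n ∈ Q ⊓ centralizer ((R : Subgroup G) : Set G) := by
      refine ⟨hq, fun w hw => ?_⟩
      have : w * (n * w⁻¹ * n⁻¹) = 1 := hRQ _
        (mul_mem hw ((mem_normalizer_iff.1 hn _).1 (inv_mem hw))) (by
          have := Q.mul_mem (hN.conj_mem _ hq w) (Q.inv_mem hq)
          simpa [mul_assoc] using this)
      calc w * n = w * (n * w⁻¹ * n⁻¹) * (n * w) := by group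
        _ = n * w := by rw [this, one_mul]
    rwa [hC, mem_bot] at this
  obtain ⟨⟨x, hx⟩, hx1⟩ := ne_bot_iff_exists_ne_one.1 (R.ne_bot_of_dvd_card (by
    have := card_dvd_of_surjective φ hφs
    rw [nat_card] at this
    exact (Dvd.intro_left 2 rfl).trans this))
  have hx1' : x ≠ 1 := fun h => hx1 (Subtype.ext h)
  obtain ⟨c, hc0, hc⟩ := hRr' x hx hx1'
  have hsr : ∀ b : G, orderOf b = 2 → b ∉ Q → ∃ i, φ b = sr i := by
    intro b hb hbQ
    rcases h : φ b with i | i
    · exfalso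
      by_cases hi : i = 0
      · exact hbQ ((hker b).1 (by rw [h, hi]; rfl))
      · have := hA' b i hi h
        rw [hb] at this
        exact absurd this (by decide)
    · exact ⟨i, rfl⟩
  refine ⟨?_, fun a ha ha2 => ?_⟩
  · refine ⟨MulEquiv.ofBijective (φ.comp N.subtype) ⟨?_, ?_⟩⟩
    · rw [injective_iff_map_eq_one]
      exact fun n hn => Subtype.ext (hNQ n n.2 ((hker _).1 hn))
    · let Rot : Subgroup (DihedralGroup r) := zpowers (DihedralGroup.r c)
      have hRot : ∀ d, d ∈ Rot ↔ ∃ i, d = DihedralGroup.r i := by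
        intro d
        constructor
        · rintro ⟨m, rfl⟩
          exact ⟨_, r_zpow _ _⟩
        · rintro ⟨i, rfl⟩
          obtain ⟨m, hm⟩ := exists_pow_r hc0 i
          rw [← hm]; exact pow_mem (mem_zpowers _) m
      haveI : Rot.Normal := ⟨fun d hd g => by
        obtain ⟨i, rfl⟩ := (hRot d).1 hd
        rcases g with j | j <;> exact (hRot _).2 ⟨_, rfl⟩⟩
      have htop := Sylow.normalizer_sup_eq_top' R (N := Rot.comap φ)
        (fun y hy => (hRot _).2 (hRr y hy))
      intro d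
      obtain ⟨g, rfl⟩ := hφs d
      have hg : g ∈ N ⊔ Rot.comap φ := by rw [hNdef]; erw [htop]; trivial
      rw [← SetLike.mem_coe, mul_normal] at hg
      obtain ⟨n, hn, y, ⟨m, hm⟩, rfl⟩ := hg
      refine ⟨⟨n * x ^ m, N.mul_mem hn (le_normalizer (zpow_mem hx m))⟩, ?_⟩
      show φ (n * x ^ m) = φ (n * y)
      rw [map_mul, map_mul, map_zpow, hc]
      exact congrArg _ hm
  have haQ : a ∉ Q := fun h => Inv.ne_one_of_two ha2 (hNQ a ha h)
  obtain ⟨j, hj⟩ := hsr a ha2 haQ
  have haa := Inv.mul_self_of_two ha2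
  have ha' : φ (x * a * x⁻¹) = sr (j - 2 * c) := by
    rw [map_mul, map_mul, map_inv, hc, hj]; simp; ring
  have haa' : x * a * x⁻¹ * (x * a * x⁻¹) = 1 := Inv.mul_self_of_two (Inv.two_conj ha2 x)
  have h2c : 2 * c ≠ 0 := mul_ne_zero h2 hc0
  constructor
  · intro b hb hbQ
    obtain ⟨i, hi⟩ := hsr b hb hbQ
    have hbb := Inv.mul_self_of_two hb
    by_cases hij : i = j
    · have := Inv.isConj_of_odd haa' hbb (hA' _ (2 * c) h2c (by
        rw [map_mul, ha', hi, hij]; simp))
      exact isConj_iff.1 ((Inv.isConj_conj x a).trans this)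
    · exact isConj_iff.1 (Inv.isConj_of_odd haa hbb (hA' _ (i - j) (sub_ne_zero.2 hij) (by
        rw [map_mul, hi, hj]; simp)))
  · set a' := x * a * x⁻¹ with ha'def
    set C := Q ⊓ centralizer ({a} : Set G) with hCdef
    set C' := Q ⊓ centralizer ({a'} : Set G) with hC'def
    have hCC : Nat.card C' = Nat.card C := by
      have : C' = C.map (MulAut.conj x).toMonoidHom := by
        ext y
        rw [Core.mem_map_conj_iff, hCdef, hC'def, mem_inf, mem_inf, mem_centralizer_singleton_iff,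
          mem_centralizer_singleton_iff, ha'def]
        constructor
        · rintro ⟨h1, h3⟩
          refine ⟨by simpa using hN.conj_mem _ h1 x⁻¹, ?_⟩
          calc x⁻¹ * y * x * a = x⁻¹ * (y * (x * a * x⁻¹)) * x := by group
            _ = _ := by rw [h3]; group
        · rintro ⟨h1, h3⟩
          refine ⟨by simpa [mul_assoc] using hN.conj_mem _ h1 x, ?_⟩
          calc y * (x * a * x⁻¹) = x * (x⁻¹ * y * x * a) * x⁻¹ := by group
            _ = _ := by rw [h3]; group
      rw [this, card_map_of_injective (MulAut.conj x).injective]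
    have hy : ∀ q ∈ Q, ∀ q' ∈ Q, φ (q * a * q⁻¹ * (q' * a' * q'⁻¹)) = DihedralGroup.r (-(2 * c)) := by
      intro q hq q' hq'
      simp only [map_mul, map_inv, (hker q).2 hq, (hker q').2 hq', hj, ha']
      simp
    have hn2c : -(2 * c) ≠ 0 := neg_ne_zero.2 h2c
    have h1 : Nat.card C * Nat.card C' ≤ Nat.card Q := by
      rw [← Nat.card_prod]
      refine Nat.card_le_card_of_injective
        (fun u : C × C' => (⟨u.1 * u.2, Q.mul_mem u.1.2.1 u.2.2.1⟩ : Q)) ?_
      rintro ⟨u, v⟩ ⟨u', v'⟩ h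
      have h : (u : G) * v = u' * v' := congrArg Subtype.val h
      have h3 : (u' : G)⁻¹ * u = v' * (v : G)⁻¹ := by
        rw [inv_mul_eq_iff_eq_mul, ← mul_assoc, ← h, mul_inv_cancel_right]
      have h4 : (u' : G)⁻¹ * u ∈ C := C.mul_mem (C.inv_mem u'.2) u.2
      have h5 : (u' : G)⁻¹ * u ∈ C' := h3 ▸ C'.mul_mem v'.2 (C'.inv_mem v.2)
      have h6 : (u' : G)⁻¹ * u = 1 := hA (a * a') _ hn2c (by simpa using hy 1 Q.one_mem 1 Q.one_mem)
        _ h4.1 (Commute.mul_right (mem_centralizer_singleton_iff.1 h4.2)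
          (mem_centralizer_singleton_iff.1 h5.2))
      have h7 : (u' : G) = u := inv_mul_eq_one.1 h6
      rw [h6, eq_comm, mul_inv_eq_one] at h3
      exact Prod.ext (Subtype.ext h7.symm) (Subtype.ext h3.symm)
    have h3 : C.relIndex Q * C'.relIndex Q ≤ Nat.card Q := by
      rw [relIndex, relIndex, index, index, ← Nat.card_prod]
      have hm : ∀ q ∈ Q, ∀ q' ∈ Q, q * a * q⁻¹ * (q' * a' * q'⁻¹) * (a * a')⁻¹ ∈ Q := by
        intro q hq q' hq'
        have := hy 1 Q.one_mem 1 Q.one_mem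
        simp only [one_mul, inv_one, mul_one] at this
        rw [← hker, map_mul, map_inv, hy q hq q' hq', this, mul_inv_cancel]
      refine Nat.card_le_card_of_injective
        (fun u : (Q ⧸ C.subgroupOf Q) × (Q ⧸ C'.subgroupOf Q) =>
          (⟨_, hm _ u.1.out.2 _ u.2.out.2⟩ : Q)) ?_
      rintro ⟨u, v⟩ ⟨u', v'⟩ h
      have h := mul_right_cancel (congrArg Subtype.val h)
      simp only at h
      generalize hq : u.out = q at h
      generalize hq' : u'.out = q' at h
      generalize hs : v.out = s at h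
      generalize hs' : v'.out = s' at h
      have sq : ∀ t g : G, t * t = 1 → g * t * g⁻¹ * (g * t * g⁻¹) = 1 := fun t g ht => by
        calc _ = g * (t * t) * g⁻¹ := by group
          _ = 1 := by rw [ht]; group
      have i1 := Inv.inverts_mul_left (sq a q haa) (sq a' s haa')
      have i2 := Inv.inverts_mul_left (sq a q' haa) (sq a' s' haa')
      rw [← h] at i2
      have e1 : ((q' : G) * a * (q' : G)⁻¹)⁻¹ * (q * a * (q : G)⁻¹) = 1 := by
        refine hA _ _ hn2c (hy _ q.2 _ s.2) _ ?_ ?_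
        · rw [← hker]
          simp only [map_mul, map_inv, (hker _).2 q.2, (hker _).2 q'.2]
          simp
        · generalize (q : G) * a * (q : G)⁻¹ * (s * a' * (s : G)⁻¹) = y at i1 i2
          generalize (q : G) * a * (q : G)⁻¹ = b at i1
          generalize (q' : G) * a * (q' : G)⁻¹ = b' at i2
          rw [← i2] at i1
          show b'⁻¹ * b * y = y * (b'⁻¹ * b)
          calc b'⁻¹ * b * y = b'⁻¹ * (b * y * b⁻¹) * b := by group
            _ = _ := by rw [i1]; group
      have e1 := inv_mul_eq_one.1 e1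
      rw [e1] at h
      have e2 := mul_left_cancel h
      refine Prod.ext ?_ ?_
      · show u = u'
        rw [← u.out_eq, ← u'.out_eq, hq, hq']
        refine QuotientGroup.eq.2 ⟨(q⁻¹ * q').2, mem_centralizer_singleton_iff.2 ?_⟩
        show (q : G)⁻¹ * q' * a = a * ((q : G)⁻¹ * q')
        calc (q : G)⁻¹ * q' * a = (q : G)⁻¹ * (q' * a * (q' : G)⁻¹) * q' := by group
          _ = _ := by rw [e1]; group
      · show v = v'
        rw [← v.out_eq, ← v'.out_eq, hs, hs']
        refine QuotientGroup.eq.2 ⟨(s⁻¹ * s').2, mem_centralizer_singleton_iff.2 ?_⟩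
        show (s : G)⁻¹ * s' * a' = a' * ((s : G)⁻¹ * s')
        calc (s : G)⁻¹ * s' * a' = (s : G)⁻¹ * (s' * a' * (s' : G)⁻¹) * s' := by group
          _ = _ := by rw [← e2]; group
    have h4 : Nat.card C * C.relIndex Q = Nat.card Q := Core.card_mul_relIndex inf_le_left
    have h5 : Nat.card C' * C'.relIndex Q = Nat.card Q := Core.card_mul_relIndex inf_le_left
    rw [hCC] at h1 h5
    have hpos : 0 < Nat.card C := Nat.card_pos
    have h6 : C'.relIndex Q = C.relIndex Q := Nat.eq_of_mul_eq_mul_left hpos (h5.trans h4.symm)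
    rw [h6, ← h4] at h3
    rw [← h4] at h1 ⊢
    have hpos' : 0 < C.relIndex Q := by
      rcases Nat.eq_zero_or_pos (C.relIndex Q) with h | h
      · rw [h, mul_zero] at h4; exact absurd h4.symm Nat.card_pos.ne'
      · exact h
    have := le_antisymm (Nat.le_of_mul_le_mul_left h1 hpos) (Nat.le_of_mul_le_mul_right h3 hpos')
    rw [pow_two, ← this]

end Cfsg.Agent.S2873
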