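import Mathlib
import Cfsg.Statements.S2879
import Cfsg.Agent.GW.Quat
-- import your own Cfsg.Agent.* helpers here

set_option autoImplicit false
open Cfsg

namespace Cfsg.Agent.S2879

/-- Let G be a finite solvable group with O(G) = 1 whose Sylow 2-subgroup T is dihedral of order at least 8 or semidihedral, with G ≠ T and Z(T) normal in G. Then G has a normal subgroup isomorphic to SL₂(3). -/
theorem result {G : Type*} [Group G] [Finite G] (hsol : IsSolvable G) (hO : Cfsg.oddCore G = ⊥) (T : Sylow 2 G) (hT : (∃ n : ℕ, 4 ≤ n ∧ Nonempty (↥(T : Subgroup G) ≃* DihedralGroup n)) ∨ Cfsg.IsQuasiDihedral ↥(T : Subgroup G)) (hne : (T : Subgroup G) ≠ ⊤) (hZ : ((T : Subgroup G) ⊓ Subgroup.centralizer ((T : Subgroup G) : Set G)).Normal) : ∃ U : Subgroup G, U.Normal ∧ Nonempty (↥U ≃* Matrix.SpecialLinearGroup (Fin 2) (ZMod 3)) := by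
  open Subgroup Cfsg.Agent.Inv in
  haveI : Fact (Nat.Prime 2) := ⟨Nat.prime_two⟩
  haveI : Group.IsSolvable G := hsol
  obtain ⟨x, y, n, h⟩ : ∃ x y n, MC (T : Subgroup G) x y (n + 1) := by
    rcases hT with ⟨m, hm, ⟨e⟩⟩ | hT
    · obtain ⟨x, y, n, h⟩ := exists_dih T.isPGroup' (by omega) e
      have h1 := h.toMC.card
      rw [Nat.card_congr e.toEquiv, DihedralGroup.nat_card] at h1
      rcases n with _ | n
      · omega
      · exact ⟨x, y, n, h.toMC⟩
    · obtain ⟨x, y, m, h⟩ := exists_qd hT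
      exact ⟨x, y, m + 1, h.toMC⟩
  set z := x ^ 2 ^ (n + 1) with hz
  have hzc : ∀ g, g * z * g⁻¹ = z := by
    intro g
    have h1 := hZ.conj_mem z ⟨h.z_mem, fun s hs => h.commute_z hs⟩ g
    refine (h.central_cases h1.1 fun s hs => (h1.2 s hs).symm).resolve_left fun h2 => ?_
    exact ne_one_of_two (two_conj h.z_two g) h2
  have key : ∀ B : Subgroup G, B ≤ T → z ∈ B → ∀ g ∈ normalizer (B : Set G), Odd (orderOf g) →
      g ∉ centralizer (B : Set G) → Nonempty (B ≃* QuaternionGroup 2) ∧ ∃ t ∈ B, t * t = z := by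
    intro B hB hzB g hg hodd hgC
    rcases h.essential hB hzB hg hodd hgC with ⟨t, ht, ht', h2, e⟩ | ⟨m, hm, t, ht, ht', h2, e⟩
    · refine absurd (h.centralizes hB hg hodd (a := z) ?_ (by rw [hzc]; exact MC.z_memX x _)) hgC
      refine le_antisymm (fun a ha => ?_) (zpowers_le.2 ⟨MC.z_memX x _, hzB⟩)
      have h4 := (h.change ht ht').four h2
      rw [← e] at h4
      rcases h.eq_one_or_z ha.1 (congrArg Subtype.val (IsKleinFour.mul_self (⟨a, ha.2⟩ : B))) with
        h5 | h5 <;> rw [h5]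
      · exact one_mem _
      · exact mem_zpowers _
    · obtain rfl : n = m := by omega
      exact ⟨e ▸ (h.change ht ht').q8 h2, t, e ▸ subset_closure (by simp), h2⟩
  set Q := pCore 2 G with hQ
  have hQT : Q ≤ T := Core.pCore_le_sylow T
  have hC : centralizer (Q : Set G) ≤ Q := Core.centralizer_pCore_le 2 hO
  have hzQ : z ∈ Q := hC fun s _ => (mul_inv_eq_iff_eq_mul.1 (hzc s))
  obtain ⟨g, -, hodd, hgT⟩ := exists_odd_not_mem (K := (T : Subgroup G)) (N := ⊤) (fun k hk => by
    rw [relIndex_top_right] at hk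
    rcases k with _ | k
    · exact hne (index_eq_one.1 hk)
    · exact T.not_dvd_index (hk ▸ Dvd.intro_left _ rfl))
  have hgQ : g ∉ Q := fun h => hgT (hQT h)
  have hgC : g ∉ centralizer (Q : Set G) := fun h => hgQ (hC h)
  obtain ⟨⟨e⟩, t, htQ, ht⟩ := key Q hQT hzQ g (le_normalizer_of_normal (mem_top g)) hodd hgC
  have h6 := q8_relIndex_dvd e (N := ⊤) le_normalizer_of_normal
  rw [sup_eq_left.2 hC, relIndex_top_right] at h6
  set U := Q ⊔ zpowers g with hU
  have hQU : Q ≤ U := le_sup_left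
  have hgU : g ∈ U := mem_sup_right (mem_zpowers g)
  have h3 : Q.relIndex U = 3 := by
    have h1 : Q.relIndex U ∣ orderOf g := by
      rw [hU, relIndex_sup_left, ← Nat.card_zpowers]; exact relIndex_dvd_card _ _
    have h2 : Q.relIndex U ≠ 1 := fun h => hgQ (relIndex_eq_one.1 h hgU)
    have h4 : Q.relIndex U ∣ 6 := (relIndex_dvd_index_of_le hQU).trans h6
    have h5 := hodd.of_dvd_nat h1
    have := Nat.le_of_dvd (by norm_num) h4
    generalize Q.relIndex U = k at *
    interval_cases k <;> first | rfl | omega | (exfalso; revert h5; decide)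
  have hUn : U.Normal := by
    have h1 := relIndex_mul_index hQU
    rw [h3] at h1
    rw [← h1] at h6
    have h7 : U.index ∣ 2 := Nat.dvd_of_mul_dvd_mul_left (by norm_num : 0 < 3) h6
    rcases (Nat.dvd_prime Nat.prime_two).1 h7 with h8 | h8
    · rw [index_eq_one.1 h8]; infer_instance
    · exact normal_of_index_eq_two h8
  refine ⟨U, hUn, GW.QSyl.equiv_SL23 ?_ ?_ fun H hH => ?_⟩
  · let S : Sylow 2 U := IsPGroup.toSylow (P := Q.subgroupOf U)
      ((Core.pCore_isPGroup 2).of_equiv (subgroupOfEquivOfLe hQU).symm) (by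
        show ¬ 2 ∣ Q.relIndex U
        rw [h3]; decide)
    obtain ⟨a, b, hab⟩ := GW.exists_gq' (S := (S : Subgroup U)) (k := 0)
      ((subgroupOfEquivOfLe hQU).trans e)
    exact ⟨S, a, b, 0, hab⟩
  · exact (Core.pPrimeCore_eq_subgroupOf 2 U).trans (by
      rw [show pPrimeCore 2 G = ⊥ from hO]; exact bot_subgroupOf U)
  · haveI := normal_of_index_eq_two hH
    have hsq : ∀ u : U, u * u ∈ H := fun u => by
      have := pow_index_mem (H := H) u
      rwa [hH, pow_two] at this
    have hgH : (⟨g, hgU⟩ : U) ∈ H := by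
      refine Transfer.mem_of_pow_mem_of_coprime (n := 2) ?_ (by rw [pow_two]; exact hsq _)
      rw [← orderOf_coe]; exact Nat.coprime_two_left.2 hodd
    set A := Q ⊓ H.map U.subtype with hA
    have hgA : g ∈ normalizer (A : Set G) :=
      Core.le_normalizer_inf (A := U) le_normalizer_of_normal
        (Core.le_normalizer_map_subtype_of_normal U H) hgU
    by_cases hc : g ∈ centralizer (A : Set G)
    · refine hgC fun q hq => ?_
      have := conj_eq_of_odd_of_coset (A := A) ((Core.pCore_isPGroup 2).to_le inf_le_left) hodd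
        (fun a ha => by rw [← hc a ha, mul_inv_cancel_right]) (t := q) ⟨Q.mul_mem
          (Normal.conj_mem inferInstance q hq g) (Q.inv_mem hq), by
          have := H.mul_mem hgH (Normal.conj_mem inferInstance _ (H.inv_mem hgH) ⟨q, hQU hq⟩)
          exact ⟨_, this, by simp [mul_assoc]⟩⟩
      exact (mul_inv_eq_iff_eq_mul.1 this).symm
    · obtain ⟨⟨e'⟩, -⟩ := key A (inf_le_left.trans hQT) ⟨hzQ, ⟨_, hsq ⟨t, hQU htQ⟩, ht⟩⟩ g hgA hodd hc
      have h1 : A = Q := Core.eq_of_le_of_card_le inf_le_left (by rw [q8_card e, q8_card e'])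
      have h2 : U ≤ H.map U.subtype :=
        sup_le (h1 ▸ inf_le_right) (zpowers_le.2 ⟨_, hgH, rfl⟩)
      have h4 : H = ⊤ := eq_top_iff.2 fun u _ => by
        obtain ⟨v, hv, e⟩ := h2 u.2
        rwa [← Subtype.ext e]
      rw [h4, index_top] at hH
      omega

end Cfsg.Agent.S2879
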