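import Mathlib
import Cfsg.Statements.S2880
import Cfsg.Agent.LocalEven.Conj
import Cfsg.Agent.PGrp.Extra2

set_option autoImplicit false
open Cfsg

namespace Cfsg.Agent.S2880

open Cfsg.Agent.LocalEven

open Subgroup

/-- Let E be an extraspecial 2-group of order 2^(2m+1) of plus type, that is, containing an elementary abelian subgroup of order 2^(m+1) (equivalently, a central product of m dihedral groups of order 8). Then E has exactly 2^(2m) − 2^m elements of order 4. -/
theorem result {E : Type*} [Group E] [Finite E] (m : ℕ) (hm : 1 ≤ m) (hE : Cfsg.IsExtraspecial 2 E) (hcard : Nat.card E = 2 ^ (2 * m + 1)) (hplus : ∃ A : Subgroup E, Cfsg.IsElementaryAbelian 2 A ∧ Nat.card A = 2 ^ (m + 1)) : Nat.card {x : E // orderOf x = 4} = 2 ^ (2 * m) - 2 ^ m := by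
  obtain ⟨k, D, hQ, -, hc⟩ := PGrp.exists_cext_two hE
  have hk : m = k + 1 := by
    rw [hc] at hcard
    have := Nat.pow_right_injective (le_refl 2) hcard
    omega
  subst hk
  have hn := PGrp.finrank_fin_fun_zmod 2 (2 * (k + 1))
  have h1 := PGrp.nv_of_isPlus hQ ((D.isPlus_iff_exists hn hQ).2 hplus) hn
  rw [← D.card_sq_eq_one] at h1
  have h2 : ∀ x : E, orderOf x = 4 ↔ ¬ x ^ 2 = 1 := fun x => by
    constructor
    · intro h h3
      have := orderOf_dvd_of_pow_eq_one h3
      rw [h] at this
      exact absurd this (by norm_num)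
    · intro h
      refine orderOf_eq_prime_pow (p := 2) (n := 1) (by simpa using h) ?_
      rw [show (2 : ℕ) ^ (1 + 1) = 2 * 2 by norm_num, pow_mul, ← D.ι_Q x, D.ι_pow]
  have h3 : Nat.card {x : E // x ^ 2 = 1} + Nat.card {x : E // ¬ x ^ 2 = 1} = Nat.card E := by
    classical
    rw [← Nat.card_sum]
    exact Nat.card_congr (Equiv.sumCompl _)
  rw [Nat.card_congr (Equiv.subtypeEquivRight h2)]
  rw [h1, hc, pow_succ _ (2 * (k + 1))] at h3
  omega

end Cfsg.Agent.S2880
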