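import Mathlib
import Cfsg.Statements.S2881
import Cfsg.Agent.LocalEven.Conj
import Cfsg.Agent.S2880

set_option autoImplicit false
open Cfsg

namespace Cfsg.Agent.S2881

open Cfsg.Agent.LocalEven

open Subgroup

/-- Let E be an extraspecial 2-group of order 2^(2m+1) of plus type (containing an elementary abelian subgroup of order 2^(m+1)), and let ω be an automorphism of E of order 5 whose fixed points are exactly the centre of E. Then m is divisible by 4. -/
theorem result {E : Type*} [Group E] [Finite E] (m : ℕ) (hm : 1 ≤ m) (hE : Cfsg.IsExtraspecial 2 E) (hcard : Nat.card E = 2 ^ (2 * m + 1)) (hplus : ∃ A : Subgroup E, Cfsg.IsElementaryAbelian 2 A ∧ Nat.card A = 2 ^ (m + 1)) (ω : E ≃* E) (hω : orderOf ω = 5) (hfix : ∀ x : E, ω x = x ↔ x ∈ Subgroup.center E) : 4 ∣ m := by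
  have h1 := Cfsg.Agent.S2880.result m hm hE hcard hplus
  obtain ⟨k, D, hQ, hZ, -⟩ := PGrp.exists_cext_two hE
  let A : Subgroup (MulAut E) := zpowers ω
  haveI : Fact (Nat.Prime 5) := ⟨by norm_num⟩
  have hA : IsPGroup 5 A := isPGroup_zpowers_of_orderOf (k := 1) (by simpa using hω)
  let X : SubMulAction A E :=
    { carrier := {x | orderOf x = 4}
      smul_mem' := fun a x hx => by
        show orderOf ((a : MulAut E) x) = 4
        rw [MulEquiv.orderOf_eq]; exact hx }
  have h2 := hA.card_modEq_card_fixedPoints X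
  have h3 : Nat.card (MulAction.fixedPoints A X) = 0 := by
    rw [Nat.card_eq_zero]
    refine Or.inl ⟨fun ⟨⟨x, hx⟩, h⟩ => ?_⟩
    have h4 : ω x = x := congrArg Subtype.val (h ⟨ω, mem_zpowers ω⟩)
    have h5 := (hfix x).1 h4
    rw [hZ, D.mem_Z, D.χ_eq_zero] at h5
    obtain ⟨a, rfl⟩ := h5
    have h6 := orderOf_dvd_of_pow_eq_one (D.ι_pow a)
    have h7 : orderOf (D.ι a) = 4 := hx
    rw [h7] at h6
    exact absurd h6 (by norm_num)
  have h4 : Nat.card X = 2 ^ (2 * m) - 2 ^ m := h1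
  rw [h3, h4] at h2
  have h5 : 2 ^ m ≡ 2 ^ m * 2 ^ m [MOD 5] := by
    rw [← pow_add, ← two_mul]
    exact (Nat.modEq_iff_dvd' (Nat.pow_le_pow_right (by norm_num) (by omega))).2
      ((Nat.modEq_zero_iff_dvd).1 h2)
  obtain ⟨q, r, hr, rfl⟩ : ∃ q r, r < 4 ∧ m = 4 * q + r :=
    ⟨m / 4, m % 4, Nat.mod_lt _ (by norm_num), (Nat.div_add_mod m 4).symm⟩
  have h6 : 2 ^ (4 * q + r) ≡ 2 ^ r [MOD 5] := by
    rw [pow_add, pow_mul]
    simpa using ((show 2 ^ 4 ≡ 1 [MOD 5] by decide).pow q).mul_right (2 ^ r)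
  have h7 := (h6.symm.trans h5).trans (h6.mul h6)
  interval_cases r
  · simp
  all_goals exact absurd h7 (by decide)

end Cfsg.Agent.S2881
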