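import Mathlib
import Cfsg.Statements.S2882
import Cfsg.Agent.Golay.Fus

set_option autoImplicit false
open Cfsg

namespace Cfsg.Agent.S2882

open Cfsg.Agent.Golay

/-- In the Mathieu group of degree 24 (realised as the automorphism group of the extended binary Golay code) every Sylow 2-subgroup is self-normalizing. -/
theorem result (S : Sylow 2 ↥Cfsg.M24) : Subgroup.normalizer ((S : Subgroup ↥Cfsg.M24) : Set ↥Cfsg.M24) = (S : Subgroup ↥Cfsg.M24) := by
  have hle : syl24 ≤ M24 := inf_le_left.trans inf_le_left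
  have hc : Nat.card (syl24.subgroupOf M24) = 2 ^ (Nat.card M24).factorization 2 := by
    rw [Nat.card_congr (Subgroup.subgroupOfEquivOfLe hle).toEquiv, card_syl24, card_M24]
    decide +kernel
  obtain ⟨c, rfl⟩ := MulAction.exists_smul_eq M24 (Sylow.ofCard _ hc) S
  have hmem : ∀ x : M24, x ∈ ((c • Sylow.ofCard _ hc : Sylow 2 M24) : Subgroup M24) ↔
      ((c⁻¹ * x * c : M24) : P24) ∈ syl24 := fun x => by
    rw [Sylow.coe_subgroup_smul, Subgroup.mem_pointwise_smul_iff_inv_smul_mem]
    simp [Subgroup.mem_subgroupOf]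
  refine le_antisymm (fun g hg => (hmem g).2 (norm_syl24 (c⁻¹ * g * c).2 fun x hx => ?_))
    Subgroup.le_normalizer
  have := (hg (c * ⟨x, hle hx⟩ * c⁻¹)).1 ((hmem _).2 (by simpa [mul_assoc] using hx))
  simpa [mul_assoc] using (hmem _).1 this

end Cfsg.Agent.S2882
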