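import Mathlib
import Cfsg.Statements.S2924
import Cfsg.Agent.Comp2.Kill1
import Cfsg.Agent.Comp2.Pump

set_option autoImplicit false
open Cfsg

namespace Cfsg.Agent.S2924

open Cfsg.Agent.Comp2

open Subgroup Cfsg.Agent.BG
open scoped Pointwise commutatorElement

theorem pLayer_eq_bot_of_inverts {H : Type*} [Group H] [Finite H] {z : H} (hz : orderOf z = 2)
    (hE : layer H = ⊥) (hO : pPrimeCore 2 H ⊓ 𝐂[z] = ⊥) (hL : Comp2.pLayerOf 2 𝐂[z] = ⊥) :
    pLayer 2 H = ⊥ := by
  have hz2 : z * z = 1 := by rw [← pow_two, ← hz, pow_orderOf_eq_one]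
  have hinv := inverts_of_cent_bot (Y := pPrimeCore 2 H) (x := z)
    (by rw [normalizer_eq_top]; trivial) hz2 hO
  rw [eq_bot_iff, pLayer_le_iff]
  intro K hK
  exfalso
  set O := pPrimeCore 2 H with hOd
  let π := QuotientGroup.mk' O
  have hKc : IsComponent (K.map π) := hK.2.1
  rcases pComponent_le_or_commutator_le_of_subnormal hK
    (H := 𝐂(O)) (Normal.isSubnormal inferInstance) with h | h
  · exact layer_eq_bot_iff.1 hE K ((pComponent_component_iff hK).2 (Amb.le_cent_iff_comm_eq_bot.1 h))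
  have h1 : ⁅zpowers z, K⁆ ≤ 𝐂(O) := by
    rw [commutator_le]
    intro a ha k _
    rcases Inv.one_or_eq_of_mem_zpowers hz2 ha with rfl | rfl
    · simp
    · refine Amb.mem_cent.2 fun v hv => ?_
      have h2 := hinv v⁻¹ (O.inv_mem hv)
      have h3 := hinv (k⁻¹ * v * k) (by simpa using (inferInstance : O.Normal).conj_mem v hv k⁻¹)
      have h4 : a⁻¹ = a := by rw [inv_eq_iff_mul_eq_one, hz2]
      rw [commutatorElement_def]
      rw [h4] at h2 h3 ⊢
      calc v * (a * k * a * k⁻¹) = (a * v⁻¹ * a) * (a * k * a * k⁻¹) := by rw [h2, inv_inv]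
        _ = a * v⁻¹ * (a * a) * k * a * k⁻¹ := by group
        _ = a * k * (k⁻¹ * v * k)⁻¹ * a * k⁻¹ := by rw [hz2]; group
        _ = a * k * (a * (k⁻¹ * v * k) * a) * a * k⁻¹ := by rw [h3]
        _ = a * k * a * k⁻¹ * v * k * (a * a) * k⁻¹ := by group
        _ = _ := by rw [hz2]; group
  have h2 : ⁅⁅zpowers (π z), K.map π⁆, K.map π⁆ = ⊥ := by
    rw [← MonoidHom.map_zpowers, ← map_commutator, ← map_commutator, Subgroup.map_eq_bot_iff,
      QuotientGroup.ker_mk', commutator_comm]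
    exact (commutator_mono le_rfl h1).trans h
  have h3 := commutator_eq_bot_of_iterate (component_commutator_self hKc) 1 _ h2
  have h4 : K.map π ≤ 𝐂[π z] := by
    rw [← Amb.cent_zpowers]
    exact Amb.le_cent_iff_comm_eq_bot'.2 h3
  have hk : (Nat.card π.ker).Coprime 2 := by
    rw [QuotientGroup.ker_mk']; exact pPrimeCore_coprime 2
  have h5 := centralizer_singleton_map_of_coprime (p := 2) π (QuotientGroup.mk'_surjective O) hk
    (k := 1) (x := z) (by rw [hz, pow_one])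
  have h6 := map_pLayer_map_subtype (p := 2) π (H := 𝐂[z]) (coprime_card_of_le inf_le_left hk)
  have h7 : CompIn (K.map π) 𝐂[π z] := ⟨h4, component_subgroupOf hKc h4⟩
  have h8 := h7.le_pLayer
  rw [h5, Comp2.pLayerOf, ← h6] at h8
  change K.map π ≤ (Comp2.pLayerOf 2 𝐂[z]).map π at h8
  rw [hL, Subgroup.map_bot, le_bot_iff] at h8
  exact component_ne_bot hKc h8

/-- Let X be a finite group and Y an elementary abelian 2-subgroup of X of order at least 8 such that C_X(x) has no components (E(C_X(x)) = 1) for every nontrivial x ∈ Y, and F*(C_X(z)) = O₂(C_X(z)) for some nontrivial z ∈ Y. Then the subgroup generated by the cores O(C_X(y)), y ∈ Y nontrivial, has odd order and is normalized by N_X(Y). -/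
theorem result {X : Type*} [Group X] [Finite X] (Y : Subgroup X) (hY : Cfsg.IsElementaryAbelian 2 Y) (h8 : 8 ≤ Nat.card ↥Y) (hE : ∀ x ∈ Y, x ≠ 1 → Cfsg.layer ↥(Subgroup.centralizer ({x} : Set X)) = ⊥) (hz : ∃ z ∈ Y, z ≠ 1 ∧ Cfsg.generalizedFittingSubgroup ↥(Subgroup.centralizer ({z} : Set X)) = Cfsg.pCore 2 ↥(Subgroup.centralizer ({z} : Set X))) : Odd (Nat.card ↥(⨆ y : {y : X // y ∈ Y ∧ y ≠ 1}, (Cfsg.oddCore ↥(Subgroup.centralizer ({(y : X)} : Set X))).map (Subgroup.centralizer ({(y : X)} : Set X)).subtype)) ∧ Subgroup.normalizer (Y : Set X) ≤ Subgroup.normalizer ((⨆ y : {y : X // y ∈ Y ∧ y ≠ 1}, (Cfsg.oddCore ↥(Subgroup.centralizer ({(y : X)} : Set X))).map (Subgroup.centralizer ({(y : X)} : Set X)).subtype : Subgroup X) : Set X) := by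
  obtain ⟨z, hzY, hz1, hz⟩ := hz
  obtain ⟨hOz, hEz⟩ := (genFitting_eq_pCore_iff' 2).1 hz
  have hLz : pLayer 2 𝐂[z] = ⊥ := by rw [pLayer_eq_layer_of_pPrimeCore_eq_bot hOz, hEz]
  have hcz : IsPConstrained 2 𝐂[z] := isPConstrained_iff_pLayer.2 hLz
  have ho : ∀ y ∈ Y, y ≠ 1 → orderOf y = 2 := fun y hy h1 => orderOf_eq_of_elementary hY hy h1
  have hc : ∀ y ∈ Y, y ≠ 1 → IsPConstrained 2 𝐂[y] := fun y hy hy1 => by
    have hzy : z ∈ 𝐂[y] := Amb.mem_cent1.2 (Comp2.elem_comm hY hzY hy)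
    have hmap : (𝐂[(⟨z, hzy⟩ : 𝐂[y])]).map (𝐂[y]).subtype = 𝐂[z] ⊓ 𝐂[y] := by
      ext g
      constructor
      · rintro ⟨g, hg, rfl⟩
        exact ⟨Amb.mem_cent1.2 (congrArg Subtype.val (Amb.mem_cent1.1 hg)), g.2⟩
      · rintro ⟨h1, h2⟩
        exact ⟨⟨g, h2⟩, Amb.mem_cent1.2 (Subtype.ext (Amb.mem_cent1.1 h1)), rfl⟩
    refine isPConstrained_iff_pLayer.2 (pLayer_eq_bot_of_inverts (z := ⟨z, hzy⟩)
      (by rw [orderOf_mk, ho z hzY hz1]) (hE y hy hy1) ?_ ?_)
    · have h1 := centralizerPPrimeCore_inf_le_of_constrained (p := 2) (k := 1) (a := y) (b := z)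
        (by rw [ho y hy hy1, pow_one]) (Comp2.elem_comm hY hy hzY) hcz
      rw [centralizerPPrimeCore, centralizerPPrimeCore, hOz, Subgroup.map_bot] at h1
      rw [← map_eq_bot_iff_of_injective _ (𝐂[y]).subtype_injective,
        map_inf_eq _ _ _ (𝐂[y]).subtype_injective, hmap, eq_bot_iff]
      exact (inf_le_inf_left _ inf_le_left).trans h1
    · have h1 := map_pLayer_map_subtype (p := 2) (𝐂[y]).subtype (H := 𝐂[(⟨z, hzy⟩ : 𝐂[y])])
        (by rw [ker_subtype, bot_inf_eq, card_bot]; exact Nat.coprime_one_left 2)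
      have h2 := pLayerOf_inf_cent_le (H := 𝐂[z]) (T := zpowers y)
        (isPGroup_zpowers_of_orderOf (k := 1) (by rw [ho y hy hy1, pow_one]))
        (zpowers_le.2 (Amb.mem_cent1_comm.1 hzy))
      rw [Amb.cent_zpowers, ← hmap, Comp2.pLayerOf, Comp2.pLayerOf, ← h1, hLz, Subgroup.map_bot, le_bot_iff,
        map_eq_bot_iff_of_injective _ (𝐂[y]).subtype_injective] at h2
      exact h2
  have hnd : ∀ a : X, ¬ 2 ∣ Nat.card (centralizerPPrimeCore 2 a) := fun a =>
    (Nat.Prime.coprime_iff_not_dvd Nat.prime_two).1 (centralizerPPrimeCore_coprime a).symm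
  have hsf : SF 2 Y (centralizerPPrimeCore 2) := SF.mk' hY (fun a _ _ => centralizerPPrimeCore_le a)
    (fun a _ _ => hnd a)
    (fun a ha _ => (elem_le_centralizer_singleton hY ha).trans
      (centralizer_le_normalizer_centralizerPPrimeCore a))
    (fun a ha ha1 b hb hb1 => centralizerPPrimeCore_inf_le_of_constrained (k := 1)
      (by rw [ho a ha ha1, pow_one]) (Comp2.elem_comm hY ha hb) (hc b hb hb1))
    fun a _ _ => solvable_of_not_two_dvd (hnd a)
  obtain ⟨W, hW, hle⟩ := hsf.compl_two (by simpa using h8)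
  refine ⟨?_, ?_⟩
  · change Odd (Nat.card (signalizerClosure Y (centralizerPPrimeCore 2)))
    exact Nat.not_even_iff_odd.1 fun he => hW.ndvd
      ((even_iff_two_dvd.1 he).trans (card_dvd_of_le (clo_le hle)))
  · change _ ≤ 𝐍(signalizerClosure Y (centralizerPPrimeCore 2))
    intro g hg
    refine mem_normalizer_of_map_conj_le ?_
    rw [signalizerClosure, Subgroup.map_iSup]
    refine iSup_le fun a => ?_
    have h1 : (centralizerPPrimeCore 2 (a : X)).map (MulAut.conj g).toMonoidHom =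
        centralizerPPrimeCore 2 (g * a * g⁻¹) := by
      rw [cpc_eq Nat.prime_two, cpc_eq Nat.prime_two, ← Amb.conj_centralizer_singleton,
        Amb.piCoreOf_conj]
      rfl
    rw [h1]
    exact le_clo ((mem_normalizer_iff.1 hg a).1 a.2.1) (by simpa using a.2.2)

end Cfsg.Agent.S2924
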