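import Cfsg.Statements.S2928
import Cfsg.Agent.Mix26.Syl2
-- import your own Cfsg.Agent.* helpers here

set_option autoImplicit false
open Cfsg

namespace Cfsg.Agent.S2928

open Cfsg.Agent.Mix26


/-- Let n ≥ 8 and let H be a subgroup of the symmetric group of degree n whose generalized Fitting subgroup F*(H) is quasisimple. If H contains a Sylow 2-subgroup of the alternating group of degree n, then F*(H) is isomorphic to an alternating group of degree m for some m ∈ {n − 3, n − 2, n − 1, n}. -/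
theorem result (n : ℕ) (hn : 8 ≤ n) (H : Subgroup (Equiv.Perm (Fin n))) (hF : Cfsg.IsQuasisimple ↥(Cfsg.generalizedFittingSubgroup ↥H)) (hS : ∃ P : Sylow 2 ↥(alternatingGroup (Fin n)), ((P : Subgroup ↥(alternatingGroup (Fin n))).map (alternatingGroup (Fin n)).subtype) ≤ H) : ∃ m : ℕ, (m = n - 3 ∨ m = n - 2 ∨ m = n - 1 ∨ m = n) ∧ Nonempty (↥(Cfsg.generalizedFittingSubgroup ↥H) ≃* ↥(alternatingGroup (Fin m))) := by
  obtain ⟨P, hP⟩ := hS
  obtain ⟨Q, hQ⟩ := (P.isPGroup'.map (alternatingGroup (Fin n)).subtype).exists_le_sylow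
  have e : (Q : Subgroup (Equiv.Perm (Fin n))).subgroupOf (alternatingGroup (Fin n)) = P :=
    P.is_maximal' (Q.isPGroup'.comap_of_injective _ Subtype.val_injective)
      (Subgroup.map_le_iff_le_comap.1 hQ)
  obtain ⟨m, h1, h2, h3⟩ := alt_of_syl2 (by simpa) H hF Q fun g hg =>
    hP ⟨⟨g, hg.2⟩, e.le hg.1, rfl⟩
  rw [Fintype.card_fin] at h1 h2
  exact ⟨m, by omega, h3⟩

end Cfsg.Agent.S2928
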