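import Cfsg.Statements.S2930
import Cfsg.Agent.Mix26.Syl3
-- import your own Cfsg.Agent.* helpers here

set_option autoImplicit false
open Cfsg

namespace Cfsg.Agent.S2930

open Cfsg.Agent.Mix26


/-- Let X be a finite 3-minimal group (a Sylow 3-subgroup is not normal and lies in a unique maximal subgroup) whose generalized Fitting subgroup is isomorphic to an alternating group of degree n ≥ 5. Then X = F*(X), and n = 6, n = 9, or n = 3ᵃ + 1 for some a ≥ 2. -/
theorem result {X : Type*} [Group X] [Finite X] (hX : Cfsg.IsPMinimal 3 X) (n : ℕ) (hn : 5 ≤ n) (hF : Nonempty (↥(Cfsg.generalizedFittingSubgroup X) ≃* ↥(alternatingGroup (Fin n)))) : Cfsg.generalizedFittingSubgroup X = ⊤ ∧ (n = 6 ∨ n = 9 ∨ ∃ a : ℕ, 2 ≤ a ∧ n = 3 ^ a + 1) := by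
  obtain ⟨e⟩ := hF
  have h1 := fstar_top hX hn e
  refine ⟨h1, alt_three_minimal hn ?_⟩
  have e' : X ≃* alternatingGroup (Fin n) :=
    (Subgroup.topEquiv.symm.trans (MulEquiv.subgroupCongr h1.symm)).trans e
  intro S
  obtain ⟨a, M, ⟨b1, b2⟩, b3⟩ := hX (S.comapOfInjective e'.toMonoidHom e'.injective
    (by rw [MonoidHom.range_eq_top.2 e'.surjective]; exact le_top))
  let o : Subgroup (alternatingGroup (Fin n)) ≃o Subgroup X := e'.symm.mapSubgroup
  have ho : ∀ K : Subgroup (alternatingGroup (Fin n)), o K = K.comap e'.toMonoidHom := fun K =>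
    Subgroup.map_equiv_eq_comap_symm' e'.symm K
  refine ⟨fun h => a (h.comap _), o.symm M, ⟨(o.symm.isCoatom_iff M).2 b1, ?_⟩, fun N hN => ?_⟩
  · rw [o.le_symm_apply, ho]; exact b2
  · rw [← b3 (o N) ⟨(o.isCoatom_iff N).2 hN.1, by rw [ho]; exact Subgroup.comap_mono hN.2⟩]
    simp

end Cfsg.Agent.S2930
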