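import Mathlib
import Cfsg.Statements.S2932
import Cfsg.Agent.Isaacs.NatSL2
-- import your own Cfsg.Agent.* helpers here

set_option autoImplicit false
open Cfsg

namespace Cfsg.Agent.S2932

open Cfsg.Agent.Isaacs Cfsg.Agent.Core Subgroup

/-- Let p be a prime. Inside a finite ambient group let V be an elementary abelian p-subgroup and G a subgroup normalizing V and acting faithfully on it (G ∩ C(V) = 1), and let L ≤ G act on V as SL₂(F) on its natural module, F a finite field of characteristic p, with L ≅ SL₂(F). If every Sylow p-subgroup of N_G(L) is a Sylow p-subgroup of G, then either L is normal in G, or F has 4 elements and G is isomorphic to the alternating group of degree 7. -/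
theorem result {X : Type*} [Group X] [Finite X] {p : ℕ} [Fact p.Prime] (F : Type) [Field F] [Fintype F] [CharP F p] (V G L : Subgroup X) (hV : Cfsg.IsElementaryAbelian p V) (hGV : G ≤ Subgroup.normalizer (V : Set X)) (hfaith : G ⊓ Subgroup.centralizer (V : Set X) = ⊥) (hLG : L ≤ G) (hnat : Cfsg.IsNaturalSL2Module F V L) (hLiso : Nonempty (↥L ≃* Matrix.SpecialLinearGroup (Fin 2) F)) (hSyl : ∀ S : Sylow p ↥(G ⊓ Subgroup.normalizer (L : Set X)), ∀ P : Sylow p ↥G, Nat.card S = Nat.card P) : (L.subgroupOf G).Normal ∨ (Fintype.card F = 4 ∧ Nonempty (↥G ≃* ↥(alternatingGroup (Fin 7)))) := by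
  obtain ⟨-, ρ, ψ, hs, -, hact⟩ := hnat
  let θ : G →* MulAut V := V.normalizerMonoidHom.comp (inclusion hGV)
  have hθ : ∀ (g : G) (v : V), (θ g v : X) = g * v * (g : X)⁻¹ := fun g v => rfl
  letI : DistribMulAction G (Fin 2 → F) :=
    { smul := fun g w => ψ (Additive.ofMul (θ g (ψ.symm w).toMul))
      one_smul := fun w => by
        show ψ (Additive.ofMul (θ 1 (ψ.symm w).toMul)) = w
        simp
      mul_smul := fun a b w => by
        show ψ (Additive.ofMul (θ (a * b) (ψ.symm w).toMul)) =
          ψ (Additive.ofMul (θ a (ψ.symm (ψ (Additive.ofMul (θ b (ψ.symm w).toMul)))).toMul))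
        simp
      smul_zero := fun a => by
        show ψ (Additive.ofMul (θ a (ψ.symm 0).toMul)) = 0
        simp
      smul_add := fun a v w => by
        show ψ (Additive.ofMul (θ a (ψ.symm (v + w)).toMul)) =
          ψ (Additive.ofMul (θ a (ψ.symm v).toMul)) + ψ (Additive.ofMul (θ a (ψ.symm w).toMul))
        simp }
  have hsm : ∀ (g : G) (w : Fin 2 → F), g • w = ψ (Additive.ofMul (θ g (ψ.symm w).toMul)) :=
    fun _ _ => rfl
  have h : NS (F := F) (L.subgroupOf G) (ρ.comp (subgroupOfEquivOfLe hLG).toMonoidHom) :=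
    ⟨fun g hg => Subtype.ext (mem_bot.mp (hfaith ▸ (⟨g.2, fun v hv => by
        have := hg (ψ (Additive.ofMul ⟨v, hv⟩))
        rw [hsm, ψ.apply_eq_iff_eq, ψ.symm_apply_apply] at this
        have h2 : (g : X) * v * (g : X)⁻¹ = v := congrArg Subtype.val (Additive.ofMul.injective this)
        exact (mul_inv_eq_iff_eq_mul.mp h2).symm⟩ : (g : X) ∈ G ⊓ centralizer (V : Set X)))),
      hs.comp (subgroupOfEquivOfLe hLG).surjective, fun l w => by
        obtain ⟨w', h1, h2⟩ := hact (subgroupOfEquivOfLe hLG l) (ψ.symm w).toMul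
        rw [ofMul_toMul, ψ.apply_symm_apply] at h2
        rw [hsm, show θ l (ψ.symm w).toMul = w' from Subtype.ext (by rw [hθ, h1]; rfl), h2]
        rfl⟩
  obtain ⟨S⟩ : Nonempty (Sylow p ↥(G ⊓ Subgroup.normalizer (L : Set X))) := inferInstance
  obtain ⟨P⟩ : Nonempty (Sylow p G) := inferInstance
  have := h.main (p := p) (S := (S : Subgroup _).map (inclusion inf_le_left))
    ((isSylowOf_top P).of_card_le (S.isPGroup'.map _) le_top (by
      rw [card_map_of_injective (inclusion_injective _)]; exact (hSyl S P).ge))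
    (by
      rintro _ ⟨s, -, rfl⟩
      exact mem_normalizer_iff.mpr fun l => mem_normalizer_iff.mp s.2.2 l)
  rwa [Nat.card_eq_fintype_card] at this

end Cfsg.Agent.S2932
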