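import Mathlib
import Cfsg.Statements.S2933
import Cfsg.Agent.H23.Chain2
-- import your own Cfsg.Agent.* helpers here

set_option autoImplicit false
open Cfsg

namespace Cfsg.Agent.S2933

/-- Let T be a 2-subgroup of a finite group G, V ≤ Z(T) a four-group, and t, ρ ∈ N_G(V) ∩ N_G(T) elements of order 2 and 3 with t commuting with ρ and with V. If [V, ρ] = V and C_T(t) = V, then T is elementary abelian of order 16, or homocyclic of rank 2 (ℤ/2ⁿ × ℤ/2ⁿ for some n ≥ 1), or isomorphic to a Sylow 2-subgroup of PSL₃(4) or of PSU₃(4). -/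
theorem result {G : Type*} [Group G] [Finite G] (T V : Subgroup G) (hT : IsPGroup 2 ↥T) (hVT : V ≤ T ⊓ Subgroup.centralizer (T : Set G)) (hV : Nat.card ↥V = 4 ∧ ∀ v ∈ V, v ^ 2 = 1) (t ρ : G) (ht : orderOf t = 2) (hρ : orderOf ρ = 3) (htn : t ∈ Subgroup.normalizer (V : Set G) ⊓ Subgroup.normalizer (T : Set G)) (hρn : ρ ∈ Subgroup.normalizer (V : Set G) ⊓ Subgroup.normalizer (T : Set G)) (htρ : t * ρ = ρ * t) (htV : t ∈ Subgroup.centralizer (V : Set G)) (hVρ : ⁅V, Subgroup.zpowers ρ⁆ = V) (hCt : T ⊓ Subgroup.centralizer ({t} : Set G) = V) : (Nat.card ↥T = 16 ∧ ∀ x ∈ T, x ^ 2 = 1) ∨ (∃ n : ℕ, 1 ≤ n ∧ Nonempty (↥T ≃* Multiplicative (ZMod (2 ^ n)) × Multiplicative (ZMod (2 ^ n)))) ∨ (∃ (F : Type) (_ : Field F) (_ : Fintype F), Fintype.card F = 4 ∧ ∀ P : Sylow 2 (Matrix.ProjectiveSpecialLinearGroup (Fin 3) F), Nonempty (↥T ≃* ↥(P : Subgroup (Matrix.ProjectiveSpecialLinearGroup (Fin 3) F)))) ∨ (∃ (F : Type) (_ : Field F) (_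 : Fintype F), Fintype.card F = 16 ∧ ∀ P : Sylow 2 (Cfsg.PSU 3 F 4), Nonempty (↥T ≃* ↥(P : Subgroup (Cfsg.PSU 3 F 4)))) := by

  have hVT' : V ≤ T := hVT.trans inf_le_left
  have hfp : ∀ v ∈ V, ρ * v * ρ⁻¹ = v → v = 1 := by
    have hc := H23.Ord3.count (n := 0) (d := ρ) hρ hρn.1
    rw [pow_zero, pow_one ρ, hV.1] at hc
    have hd : Nat.card ↥(V ⊓ Subgroup.centralizer {ρ}) ∣ 2 ^ 2 := by
      have := Subgroup.card_dvd_of_le (inf_le_left : V ⊓ Subgroup.centralizer {ρ} ≤ V)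
      rwa [hV.1] at this
    obtain ⟨k, hk, hk2⟩ := (Nat.dvd_prime_pow Nat.prime_two).mp hd
    interval_cases k
    · intro v hv h
      have : v ∈ V ⊓ Subgroup.centralizer {ρ} :=
        ⟨hv, Subgroup.mem_centralizer_singleton_iff.mpr (mul_inv_eq_iff_eq_mul.mp h).symm⟩
      rwa [Subgroup.card_eq_one.mp hk2, Subgroup.mem_bot] at this
    · rw [hk2] at hc; omega
    · exfalso
      have h1 := PGrp.eq_of_le_of_card_le (inf_le_left : V ⊓ Subgroup.centralizer {ρ} ≤ V) (by omega)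
      have h2 : ⁅V, Subgroup.zpowers ρ⁆ = ⊥ := by
        rw [Subgroup.commutator_eq_bot_iff_le_centralizer, PGrp.centralizer_zpowers, ← h1]
        exact inf_le_right
      rw [h2] at hVρ
      have := hV.1
      rw [← hVρ, Subgroup.card_bot] at this
      omega
  have ht2 : t * t = 1 := by rw [← sq, ← ht, pow_orderOf_eq_one]
  have h := H23.Chain2.main hT (T.normalizerMonoidHom ⟨t, htn.2⟩) (T.normalizerMonoidHom ⟨ρ, hρn.2⟩)
    (fun g => by
      rw [← MulAut.mul_apply, ← map_mul, show (⟨t, htn.2⟩ * ⟨t, htn.2⟩ : Subgroup.normalizer (T : Set G)) = 1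
        from Subtype.ext ht2, map_one, MulAut.one_apply])
    (by
      rw [← map_pow, show (⟨ρ, hρn.2⟩ ^ 3 : Subgroup.normalizer (T : Set G)) = 1
        from Subtype.ext (by rw [← hρ]; exact pow_orderOf_eq_one ρ), map_one])
    (Commute.map (Subtype.ext htρ) _) (V.subgroupOf T)
    (fun x => by
      rw [Subgroup.mem_subgroupOf, Subtype.ext_iff]
      change _ ↔ t * x * t⁻¹ = x
      rw [← hCt, mul_inv_eq_iff_eq_mul, Subgroup.mem_inf, Subgroup.mem_centralizer_singleton_iff, eq_comm]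
      exact and_iff_right x.2)
    (fun a ha => Subtype.ext (by rw [← sq]; exact hV.2 a ha))
    (by rw [Nat.card_congr (Subgroup.subgroupOfEquivOfLe hVT').toEquiv, hV.1])
    (fun x hx h => Subtype.ext (hfp x hx (congrArg Subtype.val h)))
  rcases h with ⟨h1, h2⟩ | h | h | h
  · exact Or.inl ⟨h1, fun x hx => by rw [sq]; exact congrArg Subtype.val (h2 ⟨x, hx⟩)⟩
  · exact Or.inr (Or.inl h)
  · exact Or.inr (Or.inr (Or.inl h))
  · exact Or.inr (Or.inr (Or.inr h))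

end Cfsg.Agent.S2933
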