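import Mathlib
import Cfsg.Statements.S2968
import Cfsg.Agent.LocalEven.Iso

set_option autoImplicit false
open Cfsg

namespace Cfsg.Agent.S2968

open Cfsg.Agent.LocalEven

open Subgroup

/-- Let G be a finite group, p a prime, P a Sylow p-subgroup of G and x ∈ P an element of p-power order which is isolated in G (the only conjugate of x commuting with x is x itself). Then x lies in the centre of P, and the subgroup generated by x is both strongly closed and weakly closed in P with respect to G. -/
theorem result {G : Type*} [Group G] [Finite G] {p : ℕ} [Fact p.Prime] (P : Sylow p G) (x : G) (hxP : x ∈ (P : Subgroup G)) (hx : ∃ k : ℕ, orderOf x = p ^ k) (hiso : Cfsg.IsIsolated x) : x ∈ (P : Subgroup G) ⊓ Subgroup.centralizer ((P : Subgroup G) : Set G) ∧ Cfsg.IsStronglyClosed (Subgroup.zpowers x) (P : Subgroup G) ∧ Cfsg.IsWeaklyClosed (Subgroup.zpowers x) (P : Subgroup G) := by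
  have hs : ∀ y ∈ zpowers x, ∀ g : G, g * y * g⁻¹ ∈ (P : Subgroup G) → g * y * g⁻¹ ∈ zpowers x :=
    fun y hy g hg => (iso_pow_eq hiso P.2 hxP hy hg).symm ▸ hy
  refine ⟨⟨hxP, le_centralizer_iff.1 (by
    rw [centralizer_zpowers]; exact iso_le_centralizer hiso P.2 hxP) (mem_zpowers x)⟩,
    ⟨zpowers_le.2 hxP, hs⟩, zpowers_le.2 hxP, fun g hg => ?_⟩
  show cj g (zpowers x) = zpowers x
  rw [cj_zpowers, iso_eq hiso P.2 hxP (hg (conj_mem_cj (mem_zpowers x)))]

end Cfsg.Agent.S2968
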