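import Mathlib
import Cfsg.Statements.S2970
import Cfsg.Agent.LocalEven.Iso

set_option autoImplicit false
open Cfsg

namespace Cfsg.Agent.S2970

open Cfsg.Agent.LocalEven

open Subgroup

/-- Let G be a finite group, p a prime and x ∈ G an element of p-power order which is isolated in G. Then the image of x in any quotient G ⧸ N is isolated in G ⧸ N; and if x ≠ 1 and the Sylow p-subgroups of G are cyclic, then G has a normal p-complement. -/
theorem result {G : Type*} [Group G] [Finite G] {p : ℕ} [Fact p.Prime] (x : G) (hx : ∃ k : ℕ, orderOf x = p ^ k) (hiso : Cfsg.IsIsolated x) : (∀ (N : Subgroup G) [N.Normal], Cfsg.IsIsolated (QuotientGroup.mk x : G ⧸ N)) ∧ (x ≠ 1 → (∀ P : Sylow p G, IsCyclic ↥(P : Subgroup G)) → Cfsg.HasNormalPComplement p G) := by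
  obtain ⟨k, hk⟩ := hx
  have hxp := isPGroup_zpowers_of_orderOf hk
  refine ⟨fun N _ => iso_map (QuotientGroup.mk' N) (QuotientGroup.mk'_surjective N) hiso hxp,
    fun h1 hc => ?_⟩
  obtain ⟨P, hP⟩ := hxp.exists_le_sylow
  have hxP : x ∈ (P : Subgroup G) := hP (mem_zpowers x)
  haveI := hc P
  have hab : IsMulCommutative (P : Subgroup G) := PGrp.isMulCommutative_of_isCyclic (hc P)
  refine Transfer.hasNormalPComplement_of_normalizer_le_centralizer P ?_
  have hS : IsSylowIn p (P : Subgroup G) (normalizer ((P : Subgroup G) : Set G)) :=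
    isSylowIn_of_sylow_le P le_normalizer
  refine hS.pResOf_sup.ge.trans (sup_le (pResOf_le_iff.2 fun g hg hco => ?_)
    (le_centralizer_iff_isMulCommutative.2 hab))
  have hcop : (Nat.card (P : Subgroup G)).Coprime (Nat.card (zpowers g)) := by
    obtain ⟨n, hn⟩ := IsPGroup.iff_card.1 P.2
    rw [hn, Nat.card_zpowers]
    exact (hco.symm.pow_left n)
  rcases P.2.commutator_eq_bot_or_commutator_eq_self (zpowers_le.2 hg) hcop with h | h
  · exact LocalEven.commutator_eq_bot_iff.1 h (mem_zpowers g)
  · have h2 := Core.centralizer_inf_commutator_eq_bot (zpowers g) P hab (zpowers_le.2 hg) hcop.symm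
    rw [Subgroup.commutator_comm, h] at h2
    refine absurd (mem_bot.1 (h2 ▸ mem_inf.2 ⟨mem_inf.2 ⟨hxP, ?_⟩, hxP⟩)) h1
    rw [centralizer_zpowers]
    exact mem_centralizer_singleton.2 (mem_centralizer_singleton.1
      (iso_normalizer_le hiso P.2 hxP hg)).symm

end Cfsg.Agent.S2970
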