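import Mathlib
import Cfsg.Statements.S2971
import Cfsg.Agent.Transfer.OmegaFus
import Cfsg.Agent.Core.Cores
-- import your own Cfsg.Agent.* helpers here

set_option autoImplicit false
open Cfsg

namespace Cfsg.Agent.S2971

open Cfsg.Agent.Transfer

theorem mem_zpowers_of_rank_one {G : Type*} [Group G] [Finite G] {p : ℕ} (hrk : Cfsg.PRankLE p 1 G)
    {x a : G} (hx : orderOf x = p) (ha : a ^ p = 1) (hc : Commute a x) :
    a ∈ Subgroup.zpowers x := by
  have hcomm : ∀ u ∈ ({a, x} : Set G), ∀ v ∈ ({a, x} : Set G), u * v = v * u := by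
    rintro u (rfl | rfl) v (rfl | rfl)
    · rfl
    · exact hc.eq
    · exact hc.eq.symm
    · rfl
  have h1 := Subgroup.isMulCommutative_closure hcomm
  have h2 : ∀ y ∈ Subgroup.closure ({a, x} : Set G), y ^ p = 1 := by
    intro y hy
    induction hy using Subgroup.closure_induction with
    | mem y hy =>
      rcases hy with rfl | rfl
      · exact ha
      · rw [← hx]; exact pow_orderOf_eq_one _
    | one => simp
    | mul u v hu hv ihu ihv =>
      have : Commute u v := Subgroup.mul_comm_of_mem_isMulCommutative _ hu hv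
      rw [this.mul_pow, ihu, ihv, one_mul]
    | inv u _ ih => rw [inv_pow, ih, inv_one]
  have h3 := hrk _ h1 h2
  have h4 : Subgroup.zpowers x ≤ Subgroup.closure ({a, x} : Set G) :=
    Subgroup.zpowers_le.2 (Subgroup.subset_closure (by simp))
  have h5 := Subgroup.eq_of_le_of_card_ge h4 (by rwa [Nat.card_zpowers, hx, ← pow_one p])
  rw [h5]
  exact Subgroup.subset_closure (by simp)

/-- Let G be a finite group and p an odd prime such that G has p-rank at most 1 (no elementary abelian subgroup of order p²). If x ∈ G is an isolated element of order p, then x is central modulo the largest normal subgroup of G of order prime to p. -/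
theorem result {G : Type*} [Group G] [Finite G] {p : ℕ} [Fact p.Prime] (hp : p ≠ 2) (hrk : Cfsg.PRankLE p 1 G) (x : G) (hx : orderOf x = p) (hiso : Cfsg.IsIsolated x) : Cfsg.InZStar p x := by
  have hp' : p.Prime := Fact.out
  have hxp : IsPGroup p (Subgroup.zpowers x) :=
    IsPGroup.of_card (n := 1) (by rw [Nat.card_zpowers, hx, pow_one])
  obtain ⟨P, hP⟩ := hxp.exists_le_sylow
  have hxP : x ∈ (P : Subgroup G) := hP (Subgroup.mem_zpowers x)
  have hx1 : x ≠ 1 := by
    rintro rfl
    rw [orderOf_one] at hx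
    exact hp'.one_lt.ne hx
  have hxc : ∀ y ∈ (P : Subgroup G), Commute y x := by
    obtain ⟨z, -, hz2, hz3⟩ := PGrp.exists_mem_center_orderOf_eq P.isPGroup'
      (⊤ : Subgroup (P : Subgroup G)) (by
        intro h
        have : (⟨x, hxP⟩ : (P : Subgroup G)) ∈ (⊥ : Subgroup (P : Subgroup G)) := h ▸ trivial
        exact hx1 (congrArg Subtype.val (Subgroup.mem_bot.1 this)))
    have hzc : ∀ y ∈ (P : Subgroup G), Commute y (z : G) := fun y hy =>
      congrArg Subtype.val (Subgroup.mem_center_iff.1 hz2 ⟨y, hy⟩)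
    have hxz := mem_zpowers_of_rank_one hrk (x := (z : G)) (a := x)
      (by rw [Subgroup.orderOf_coe, hz3]) (by rw [← hx]; exact pow_orderOf_eq_one _) (hzc x hxP)
    obtain ⟨k, rfl⟩ := Subgroup.mem_zpowers_iff.1 hxz
    exact fun y hy => (hzc y hy).zpow_right k
  have hnpc : HasNormalPComplement p G := by
    refine hasNormalPComplement_of_control_small P fun a ha hap g hg => ⟨1, one_mem _, ?_⟩
    have hap' : a ^ p = 1 := hap.resolve_right fun h => hp h.1
    by_cases ha1 : a = 1
    · simp [ha1]
    have hao : orderOf a = p := orderOf_eq_prime hap' ha1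
    have h1 := mem_zpowers_of_rank_one hrk hao (by rw [← hx]; exact pow_orderOf_eq_one _)
      (hxc a ha).symm
    have h2 := mem_zpowers_of_rank_one hrk hx hap' (hxc a ha)
    obtain ⟨k, hk⟩ := Subgroup.mem_zpowers_iff.1 h1
    obtain ⟨l, hl⟩ := Subgroup.mem_zpowers_iff.1 h2
    have h3 : g * x * g⁻¹ ∈ (P : Subgroup G) := by
      rw [← hk, ← conj_zpow]
      exact Subgroup.zpow_mem _ hg k
    have h4 := hiso g (hxc _ h3).symm
    rw [← hl, ← conj_zpow, h4]
    simp
  intro g
  have hle : pResidual p G ≤ pPrimeCore p G := Core.le_pPrimeCore inferInstance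
    ((Nat.Prime.coprime_iff_not_dvd hp').2 (hasNormalPComplement_iff_not_dvd.1 hnpc)).symm
  obtain ⟨k, hk, y, hy, rfl⟩ := exists_mul_eq_of_sylow P g
  apply hle
  have : k * y * x * (k * y)⁻¹ * x⁻¹ = k * (x * k⁻¹ * x⁻¹) := by
    rw [mul_assoc k y x, (hxc y hy).eq]; group
  rw [this]
  exact mul_mem hk (pResidual_normal.conj_mem _ (inv_mem hk) x)

end Cfsg.Agent.S2971
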