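import Mathlib
import Cfsg.Statements.S2972
import Cfsg.Agent.LocalEven.Iso

set_option autoImplicit false
open Cfsg

namespace Cfsg.Agent.S2972

open Cfsg.Agent.LocalEven

open Subgroup

/-- Let G be a finite group, p a prime and x ∈ G an isolated element of order p (the only conjugate of x commuting with x is x) which is not central modulo the largest normal subgroup of order prime to p, while x is central modulo the largest normal subgroup of order prime to p in every proper subgroup containing x, and the image of x is so in every quotient of G by a nontrivial normal subgroup (a minimal counterexample to the Z*_p statement). Then the derived subgroup G' is a non-abelian simple group and G = G'⟨x⟩. -/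
theorem result {G : Type*} [Group G] [Finite G] {p : ℕ} [Fact p.Prime] (x : G) (hx : orderOf x = p) (hiso : Cfsg.IsIsolated x) (hnz : ¬ Cfsg.InZStar p x) (hmin : ∀ (H : Subgroup G) (hxH : x ∈ H), H ≠ ⊤ → Cfsg.InZStar p (⟨x, hxH⟩ : ↥H)) (hquot : ∀ (N : Subgroup G) [N.Normal], N ≠ ⊥ → Cfsg.InZStar p (QuotientGroup.mk x : G ⧸ N)) : IsSimpleGroup ↥(commutator G) ∧ ¬ IsMulCommutative ↥(commutator G) ∧ commutator G ⊔ Subgroup.zpowers x = ⊤ := by
  have h : ZMin p x := ⟨hx, hiso, hnz, hmin, hquot⟩
  have h1 := h.sup_zpowers_eq_top h.commutator_ne_bot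
  obtain ⟨P, hP⟩ := h.pgrp.exists_le_sylow
  have key : ∀ M : Subgroup G, M ≤ commutator G → commutator G ≤ normalizer (M : Set G) → M ≠ ⊥ →
      commutator G ≤ M := by
    intro M
    induction M using WellFoundedLT.induction with
    | ind M ih =>
    intro hle hn hne
    have hsn : M.IsSubnormal := Comp2.isSubnormal_of_le_normalizer hle hn
      (inferInstance : (commutator G).Normal).isSubnormal
    have hd : p ∣ Nat.card M := by
      by_contra hd
      have := Core.le_pPrimeCore_of_isSubnormal hsn
        ((Nat.Prime.coprime_iff_not_dvd Fact.out).2 hd).symm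
      rw [h.pPrimeCore_eq_bot, le_bot_iff] at this
      exact hne this
    have h2 := (sylow_inf_subnormal P hsn).ne_bot hd
    have h3 : (P : Subgroup G) ⊓ M ≤ M ⊓ cj x M := le_inf inf_le_right fun y hy => by
      rw [mem_cj, mul_assoc, ← mem_centralizer_singleton.1
        (iso_le_centralizer hiso P.2 (hP (mem_zpowers x)) hy.1), inv_mul_cancel_left]
      exact hy.2
    by_cases h4 : M ⊓ cj x M < M
    · refine (ih _ h4 (inf_le_left.trans hle) (le_normalizer_inf hn ?_)
        fun h0 => h2 (le_bot_iff.1 (h0 ▸ h3))).trans inf_le_left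
      rw [← cj_normalizer, ← cj_eq_of_normal x (commutator G)]
      exact cj_mono x hn
    · have h5 : M ≤ cj x M := by
        have := (lt_or_eq_of_le (inf_le_left : M ⊓ cj x M ≤ M)).resolve_left h4
        exact this.ge.trans inf_le_right
      have h6 : x ∈ normalizer (M : Set G) :=
        cj_eq_self_iff.1 (eq_of_le_of_card_le h5 (card_cj x M).le).symm
      haveI : M.Normal := normalizer_eq_top_iff.1
        (eq_top_iff.2 (h1.ge.trans (sup_le hn (zpowers_le.2 h6))))
      exact h.commutator_le hne
  refine ⟨?_, fun hab => h.commutator_ne_bot (h.eq_bot_of_abelian hab), h1⟩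
  haveI : Nontrivial (commutator G) := (Subgroup.nontrivial_iff_ne_bot _).2 h.commutator_ne_bot
  refine ⟨fun H hH => ?_⟩
  by_cases h0 : H = ⊥
  · exact Or.inl h0
  · refine Or.inr (eq_top_iff.2 fun y _ => mem_map_subtype.1 (key _ (map_subtype_le H)
      (le_normalizer_map_subtype H) (fun h2 => h0 ?_) y.2))
    exact (Subgroup.map_eq_bot_iff_of_injective _ (subtype_injective _)).1 h2

end Cfsg.Agent.S2972
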