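import Mathlib
import Cfsg.Statements.S2975
import Cfsg.Agent.LocalEven.Iso
import Cfsg.Agent.Core.SylowOf

set_option autoImplicit false
open Cfsg

namespace Cfsg.Agent.S2975

open Cfsg.Agent.LocalEven

open Subgroup

/-- Let G be a finite group, p a prime and x ∈ G an isolated element of order p (the only conjugate of x commuting with x is x) which is not central modulo the largest normal subgroup of order prime to p, while x is central modulo the largest normal subgroup of order prime to p in every proper subgroup containing x, and the image of x is so in every quotient of G by a nontrivial normal subgroup (a minimal counterexample to the Z*_p statement). Then for every prime q, every q-subgroup of G that is normalized by x and maximal among the q-subgroups normalized by x is either trivial or a Sylow q-subgroup of G; and C_G(x) permutes the x-invariant Sylow q-subgroups of G transitively by conjugation. -/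
theorem result {G : Type*} [Group G] [Finite G] {p : ℕ} [Fact p.Prime] (x : G) (hx : orderOf x = p) (hiso : Cfsg.IsIsolated x) (hnz : ¬ Cfsg.InZStar p x) (hmin : ∀ (H : Subgroup G) (hxH : x ∈ H), H ≠ ⊤ → Cfsg.InZStar p (⟨x, hxH⟩ : ↥H)) (hquot : ∀ (N : Subgroup G) [N.Normal], N ≠ ⊥ → Cfsg.InZStar p (QuotientGroup.mk x : G ⧸ N)) (q : ℕ) [Fact q.Prime] : (∀ Q : Subgroup G, IsPGroup q ↥Q → x ∈ Subgroup.normalizer (Q : Set G) → (∀ R : Subgroup G, IsPGroup q ↥R → x ∈ Subgroup.normalizer (R : Set G) → Q ≤ R → R = Q) → Q = ⊥ ∨ ∃ S : Sylow q G, (S : Subgroup G) = Q) ∧ (∀ S₁ S₂ : Sylow q G, x ∈ Subgroup.normalizer ((S₁ : Subgroup G) : Set G) → x ∈ Subgroup.normalizer ((S₂ : Subgroup G) : Set G) → ∃ c ∈ Subgroup.centralizer ({x} : Set G), (S₁ : Subgroup G).map (MulAut.conj c).toMonoidHom = (S₂ : Subgroup G)) := by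
  have h : ZMin p x := ⟨hx, hiso, hnz, hmin, hquot⟩
  refine ⟨fun Q hQ hxQ hmax => ?_, fun S₁ S₂ h1 h2 => ?_⟩
  · by_cases h0 : Q = ⊥
    · exact Or.inl h0
    refine Or.inr (IsSylowIn.exists_sylow_top ?_)
    by_cases hqp : q = p
    · subst hqp
      obtain ⟨T, hT, hle⟩ := exists_isSylowIn_le (isPGroup_sup h.pgrp hQ (zpowers_le.2 hxQ)) le_top
      rwa [← hmax T hT.pgrp (le_normalizer (hle (mem_sup_left (mem_zpowers x))))
        (le_sup_right.trans hle)]
    have hne : normalizer (Q : Set G) ≠ ⊤ := fun h1 => by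
      haveI : Q.Normal := normalizer_eq_top_iff.1 h1
      haveI := hQ.isNilpotent
      exact h0 (h.eq_bot_of_solvable inferInstance)
    refine IsSylowIn.of_normalizer ?_
    rw [top_inf_eq]
    set N := normalizer (Q : Set G) with hN
    obtain ⟨T, hT, hle⟩ := exists_isSylowIn_le hQ (le_normalizer : Q ≤ N)
    set O := (pPrimeCore p N).map N.subtype with hO
    have hNO : N ≤ normalizer (O : Set G) := le_normalizer_map_subtype _
    have hL : O ⊔ T ≤ N := sup_le (map_subtype_le _) hT.le
    have hc : (Nat.card (zpowers x)).Coprime (Nat.card (O ⊔ T : Subgroup G)) := by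
      rw [Nat.card_zpowers, hx]
      refine Nat.Coprime.coprime_dvd_right (card_sup_dvd (hT.le.trans hNO)) (Nat.Coprime.mul_right ?_ ?_)
      · rw [hO, card_map_subtype]; exact (Core.pPrimeCore_coprime p).symm
      · obtain ⟨n, hn⟩ := IsPGroup.iff_card.1 hT.pgrp
        rw [hn]
        exact ((Nat.coprime_primes Fact.out Fact.out).2 (Ne.symm hqp)).pow_right n
    have hxL : zpowers x ≤ normalizer ((O ⊔ T : Subgroup G) : Set G) := by
      refine zpowers_le.2 (mem_normalizer_of_cj_le (cj_le_iff'.2 fun y hy => ?_))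
      have h3 := mul_mem (inv_mem (mem_sup_left (h.comm_mem hxQ hne (hL hy)) :
        _ ∈ O ⊔ T)) hy
      convert h3 using 1; group
    obtain ⟨R, hR, h1, h2⟩ := Core.exists_invariant_isSylowOf_ge (zpowers x) (O ⊔ T) hxL hc
      (Or.inl inferInstance) Q (hle.trans le_sup_right) hQ (zpowers_le.2 hxQ)
    rw [hmax R hR.isPGroup (h2 (mem_zpowers x)) h1] at hR
    exact hT.of_card_le le_normalizer hQ (Nat.le_of_dvd Nat.card_pos
      (hR.card_dvd hT.pgrp le_sup_right))
  · obtain ⟨g, -, hg⟩ := (isSylowIn_top S₁).conj (isSylowIn_top S₂)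
    obtain ⟨n, hn, hc⟩ := iso_exists_conj hiso h.pgrp h2 (g := g) (by
      rw [← hg, ← cj_normalizer]; exact conj_mem_cj h1)
    refine ⟨n * g, hc, ?_⟩
    show cj (n * g) _ = _
    rw [cj_mul, hg, cj_eq_of_mem_normalizer hn]

end Cfsg.Agent.S2975
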