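import Mathlib
import Cfsg.Statements.S2976
import Cfsg.Agent.FGS.SzFix
import Cfsg.Agent.FGS.S3In
import Cfsg.Agent.FGS.S4G
import Cfsg.Agent.Perm.Comp
import Cfsg.Agent.Comp2.Component
import Cfsg.Agent.Core.Cores
import Cfsg.Agent.H2.Schur1
import Cfsg.Agent.S2112

set_option autoImplicit false
open Cfsg

namespace Cfsg.Agent.S2976

open Subgroup Cfsg.Agent.FGS
open scoped commutatorElement

section
variable {G : Type*} [Group G]

theorem not_comm_quot {K : Type*} [Group K] (hK : IsQuasisimple K) :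
    ¬ IsMulCommutative (K ⧸ center K) := by
  haveI := hK.1
  haveI := hK.2
  exact Group.IsPerfect.not_isMulCommutative _

theorem not_solv {K : Type*} [Group K] (hK : IsQuasisimple K) : ¬ Group.IsSolvable K := by
  intro h
  haveI := hK.2
  exact not_comm_quot hK ⟨⟨IsSimpleGroup.comm_iff_isSolvable.mpr inferInstance⟩⟩

theorem mem_norm {K : Subgroup G} (hK : IsComponent K) {y : G} (hy : y ^ 3 = 1)
    (hsol : Group.IsSolvable (centralizer ({y} : Set G))) : y ∈ normalizer (K : Set G) := by
  by_contra hn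
  set φ := MulAut.conj y with hφ
  have hφ3 : ∀ a, φ (φ (φ a)) = a := fun a => by
    have : φ * φ * φ = 1 := by rw [hφ, ← map_mul, ← map_mul, ← pow_three', hy, map_one]
    exact DFunLike.congr_fun this a
  have hne : K.map φ.toMonoidHom ≠ K := fun h => hn (Core.conj_smul_eq_iff_mem_normalizer.1 h)
  have h1 : ∀ a ∈ K, ∀ b ∈ K, Commute (φ a) b := fun a ha b hb =>
    Perm.comp_commute (Comp2.component_conj hK y) hK hne ⟨a, ha, rfl⟩ hb
  have h2 : ∀ a ∈ K, ∀ b ∈ K, Commute (φ (φ a)) (φ b) := fun a ha b hb => (h1 a ha b hb).map φ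
  have h3 : ∀ a ∈ K, ∀ b ∈ K, Commute a (φ (φ b)) := fun a ha b hb => by
    have := (h2 a ha b hb).map φ
    rwa [hφ3] at this
  let ψ : K →* centralizer ({y} : Set G) := MonoidHom.mk'
    (fun k => ⟨k * φ k * φ (φ k), by
      rw [mem_centralizer_singleton_iff, eq_comm, ← mul_inv_eq_iff_eq_mul, ← MulAut.conj_apply,
        ← hφ, map_mul, map_mul, hφ3, mul_assoc, ← (h3 k k.2 k k.2).eq, ← mul_assoc,
        (h1 k k.2 k k.2).eq]⟩)
    (fun a b => Subtype.ext (by
      simp only [Subgroup.coe_mul, map_mul, mul_assoc]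
      congr 1
      rw [← mul_assoc (b : G), ← (h1 a a.2 b b.2).eq, mul_assoc]
      congr 1
      rw [← mul_assoc (φ b), ← (h2 a a.2 b b.2).eq, mul_assoc, ← mul_assoc (b : G),
        (h3 b b.2 a a.2).eq, mul_assoc]))
  haveI : Group.IsSolvable (center K) := isSolvable_of_comm fun a b => mul_comm' a b
  refine not_solv hK.2 (solvable_of_ker_le_range (center K).subtype ψ fun k hk => ?_)
  rw [range_subtype, mem_center_iff]
  intro a
  have e : (k : G) * φ k * φ (φ k) = 1 := congrArg Subtype.val hk
  rw [mul_assoc, mul_eq_one_iff_eq_inv] at e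
  refine Subtype.ext ?_
  change Commute (a : G) k
  rw [e]
  exact ((h1 k k.2 a a.2).symm.mul_right (h3 a a.2 k k.2)).inv_right

theorem solv_fix {K : Type*} [Group K] (β : MulAut K) (α : MulAut (K ⧸ center K))
    (h : ∀ k : K, α k = (β k : K)) (hs : Group.IsSolvable (fixA β)) :
    Group.IsSolvable (fixA α) := by
  have h1 : (commutator (fixA α)).map (fixA α).subtype ≤
      (fixA β).map (QuotientGroup.mk' (center K)) := by
    rw [map_subtype_commutator, commutator_le]
    intro x hx y hy
    obtain ⟨x, rfl⟩ := QuotientGroup.mk_surjective x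
    obtain ⟨y, rfl⟩ := QuotientGroup.mk_surjective y
    refine ⟨⁅x, y⁆, ?_, by simp [commutatorElement_def]⟩
    rw [mem_fixA, h, QuotientGroup.eq] at hx hy
    obtain ⟨z, hz, ez⟩ : ∃ z ∈ center K, x = β x * z := ⟨_, hx, by group⟩
    obtain ⟨w, hw, ew⟩ : ∃ z ∈ center K, y = β y * z := ⟨_, hy, by group⟩
    change β ⁅x, y⁆ = ⁅x, y⁆
    rw [map_commutatorElement]
    generalize β x = a at ez
    generalize β y = b at ew
    subst ez ew
    have c1 := fun g => mem_center_iff.1 hz g
    have c2 := fun g => mem_center_iff.1 hw g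
    calc ⁅a, b⁆ = a * b * (z * z⁻¹) * a⁻¹ * (w * w⁻¹) * b⁻¹ := by
          simp [commutatorElement_def]
      _ = _ := by
          rw [commutatorElement_def, mul_inv_rev, mul_inv_rev]
          simp only [← mul_assoc]
          rw [mul_assoc a b z, c1 b, mul_assoc _ a⁻¹ w, c2 a⁻¹, ← mul_assoc, ← mul_assoc,
            mul_assoc _ z⁻¹ w, c2 z⁻¹, ← mul_assoc]
  have h2 : Group.IsSolvable ((fixA β).map (QuotientGroup.mk' (center K))) :=
    solvable_of_surjective ((QuotientGroup.mk' (center K)).subgroupMap_surjective _)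
  have h3 := solvable_of_solvable_injective (inclusion_injective h1)
  have h4 : Group.IsSolvable (commutator (fixA α)) := solvable_of_solvable_injective
    (f := ((commutator (fixA α)).equivMapOfInjective _ (fixA α).subtype_injective).toMonoidHom)
    (MulEquiv.injective _)
  exact solvable_of_ker_le_range (commutator (fixA α)).subtype Abelianization.of
    (by rw [range_subtype]; exact (Abelianization.ker_of _).le)

end

/-- Let G be a finite group, K a component of G whose order is not divisible by 3, and y ∈ G an element of order 3 whose centralizer C_G(y) is solvable. Then K ⧸ Z(K) is isomorphic to the Suzuki group over the field with 8 elements and y normalizes K. If moreover O₂(G) = 1, then K is simple. -/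
theorem result {G : Type*} [Group G] [Finite G] (K : Subgroup G) (hK : Cfsg.IsComponent K) (h3 : ¬ 3 ∣ Nat.card ↥K) (y : G) (hy : orderOf y = 3) (hsol : Group.IsSolvable ↥(Subgroup.centralizer ({y} : Set G))) : (∃ (F : Type) (_ : Field F) (_ : Fintype F), Fintype.card F = 8 ∧ Nonempty (↥K ⧸ Subgroup.center ↥K ≃* ↥(Cfsg.Lie.Sz F 4))) ∧ y ∈ Subgroup.normalizer (K : Set G) ∧ (Cfsg.pCore 2 G = ⊥ → IsSimpleGroup ↥K) := by
  have hy3 : y ^ 3 = 1 := hy ▸ pow_orderOf_eq_one y
  have hn := mem_norm hK hy3 hsol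
  haveI := hK.2.2
  have h3' : ¬ 3 ∣ Nat.card (K ⧸ Subgroup.center K) := fun h =>
    h3 (h.trans (Subgroup.center K).card_quotient_dvd_card)
  obtain ⟨F, _, _, m, hm, hF, ⟨e⟩⟩ := FGS.sz_of_gold (not_comm_quot hK.2)
    (FGS.gold_s4 (not_comm_quot hK.2) (FGS.not_involves_of_three h3')) h3'
  obtain ⟨_, ⟨Z⟩⟩ := RankOne.Sz.exists_model_of_equiv_lie hF hm e
  let β : MulAut K := K.normalizerMonoidHom ⟨y, hn⟩
  let α : MulAut (K ⧸ Subgroup.center K) := QuotientGroup.congr _ _ β
    (Subgroup.characteristic_iff_map_eq.1 inferInstance β)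
  have hα : ∀ k : K, α k = (β k : K) := fun k => rfl
  have hβ : β ^ 3 = 1 := by
    rw [← map_pow, show (⟨y, hn⟩ : Subgroup.normalizer (K : Set G)) ^ 3 = 1 from Subtype.ext hy3,
      map_one]
  have hα3 : α ^ 3 = 1 := by
    ext k
    obtain ⟨k, rfl⟩ := QuotientGroup.mk_surjective k
    rw [pow_three, MulAut.mul_apply, MulAut.mul_apply, hα, hα, hα, ← MulAut.mul_apply,
      ← MulAut.mul_apply, ← pow_three', hβ]
    rfl
  have hs : Group.IsSolvable (FGS.fixA β) := by
    refine solvable_of_solvable_injective (f := ((K.subtype.comp (FGS.fixA β).subtype).codRestrict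
      (Subgroup.centralizer ({y} : Set G)) fun k => ?_)) fun a b h => ?_
    · rw [Subgroup.mem_centralizer_singleton_iff, eq_comm, ← mul_inv_eq_iff_eq_mul]
      exact congrArg Subtype.val (FGS.mem_fixA.1 k.2)
    · have := congrArg Subtype.val h
      exact Subtype.ext (Subtype.ext this)
  have h1 := FGS.sz_fix Z hα3 (by norm_num) ((Nat.Prime.coprime_iff_not_dvd Nat.prime_three).2 h3')
    (solv_fix β α hα hs)
  obtain rfl : m = 1 := by omega
  refine ⟨⟨F, _, _, hF, ⟨e⟩⟩, hn, fun h0 => ?_⟩
  let ξ := e.toMonoidHom.comp (QuotientGroup.mk' (Subgroup.center K))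
  have hk : ξ.ker = Subgroup.center K := by
    rw [MonoidHom.ker_comp_of_injective _ _ e.injective, QuotientGroup.ker_mk']
  haveI := hK.2.1
  obtain ⟨π, hπ⟩ := H2.Schur.has_ker (S2112.result hF) (ξ := ξ)
    ⟨e.surjective.comp (QuotientGroup.mk'_surjective _), hk.le, by
      rw [Group.IsPerfect.commutator_eq_top]; exact le_top⟩
  have h2 : IsPGroup 2 (Subgroup.center K) := by
    rw [← hk]
    exact IsPGroup.of_surjective (IsPGroup.of_card (n := 2) (by simp)) π hπ
  have h4 : (Subgroup.center K).map K.subtype ≤ pCore 2 G :=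
    Core.le_pCore_of_isSubnormal (Comp2.isSubnormal_of_le_normalizer (Subgroup.map_subtype_le _)
      (by
        conv_lhs => rw [← K.range_subtype, MonoidHom.range_eq_map, ← Subgroup.normalizer_eq_top
          (Subgroup.center K)]
        exact Subgroup.le_normalizer_map _) hK.1) (h2.map _)
  rw [h0, le_bot_iff, Subgroup.map_eq_bot_iff_of_injective _ K.subtype_injective] at h4
  exact ((QuotientGroup.quotientMulEquivOfEq h4).trans QuotientGroup.quotientBot).symm.isSimpleGroup

end Cfsg.Agent.S2976
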