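import Mathlib
import Cfsg.Statements.S3017
import Cfsg.Agent.Gp.Ext
import Cfsg.Agent.S3020
-- import your own Cfsg.Agent.* helpers here

set_option autoImplicit false
open Cfsg

namespace Cfsg.Agent.S3017

/-- Let G be a finite group and H an abelian 2-subgroup of G that is extremely closed (for every g, the subgroup generated by H and g H g⁻¹ meets N_G(H) exactly in H). Then G = N_G(H) O(G), where O(G) is the largest normal subgroup of odd order. For H of order 2 this is Glauberman's Z*-statement. -/
theorem result {G : Type*} [Group G] [Finite G] (H : Subgroup G) (hH2 : IsPGroup 2 H) (hHab : IsMulCommutative H) (hcl : Cfsg.IsExtremelyClosed H) : Subgroup.normalizer (H : Set G) ⊔ Cfsg.oddCore G = ⊤ := by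
  haveI : Fact (Nat.Prime 2) := ⟨Nat.prime_two⟩
  haveI := Gp.ec_main G H ⟨hH2, Subgroup.le_centralizer_iff_isMulCommutative.2 hHab, fun g =>
    ⟨GW.oOf _, GW.odd_oOf _, GW.le_normalizer_oOf _, le_sup_right.trans
      ((S3020.result H hH2 hHab hcl g _ rfl).1.ge.trans (sup_comm _ _).le)⟩⟩
  refine top_le_iff.1 fun g _ => ?_
  obtain ⟨x, hx, n, hn, rfl⟩ := (Gp.syl_sup hH2 Inv.odd_card_oddCore Subgroup.le_normalizer_of_normal).frattini'
    (Subgroup.le_normalizer_of_normal (Subgroup.mem_top g))
  exact mul_mem (Subgroup.mem_sup_left hx)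
    (sup_le le_sup_right (le_sup_of_le_left Subgroup.le_normalizer) hn)

end Cfsg.Agent.S3017
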