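import Mathlib
import Cfsg.Statements.S3040
import Cfsg.Agent.FGS.SzFix
import Cfsg.Agent.FGS.S3In
import Cfsg.Agent.FGS.S4G
import Cfsg.Agent.FGS.Quad3
import Cfsg.Agent.Perm.Comp
import Cfsg.Agent.Comp2.GenFitting
import Cfsg.Agent.Core.PConstrained
import Cfsg.Agent.PGrp.Aut
import Cfsg.Agent.PGrp.Frattini
import Cfsg.Agent.S0205

set_option autoImplicit false
open Cfsg

namespace Cfsg.Agent.S3040

open Subgroup Cfsg.Agent.FGS
open scoped commutatorElement

universe u

/-- An automorphism of order dividing three of a `3'`-group fixing no involution. -/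
structure NF {G : Type*} [Group G] (σ : MulAut G) : Prop where
  cube : σ ^ 3 = 1
  three : ¬ 3 ∣ Nat.card G
  odd : ∀ g, σ g = g → Odd (orderOf g)

section
variable {G : Type*} [Group G] [Finite G] {σ : MulAut G}

omit [Finite G] in
theorem not_solv {K : Type*} [Group K] (hK : IsQuasisimple K) : ¬ Group.IsSolvable K := by
  intro h
  haveI := hK.1
  haveI := hK.2
  exact Group.IsPerfect.not_isMulCommutative (K ⧸ center K)
    ⟨⟨IsSimpleGroup.comm_iff_isSolvable.mpr inferInstance⟩⟩

omit [Finite G] in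
theorem map_eq {K : Subgroup G} (hK : IsComponent K) {φ : MulAut G} (hφ : φ ^ 3 = 1)
    (hsol : Group.IsSolvable (fixA φ)) : K.map φ.toMonoidHom = K := by
  by_contra hne
  have hφ3 : ∀ a, φ (φ (φ a)) = a := fun a => DFunLike.congr_fun (pow_three' φ ▸ hφ) a
  have h1 : ∀ a ∈ K, ∀ b ∈ K, Commute (φ a) b := fun a ha b hb =>
    Perm.comp_commute ((Comp2.component_map_equiv φ).2 hK) hK hne ⟨a, ha, rfl⟩ hb
  have h2 : ∀ a ∈ K, ∀ b ∈ K, Commute (φ (φ a)) (φ b) := fun a ha b hb => (h1 a ha b hb).map φ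
  have h3 : ∀ a ∈ K, ∀ b ∈ K, Commute a (φ (φ b)) := fun a ha b hb => by
    have := (h2 a ha b hb).map φ
    rwa [hφ3] at this
  let ψ : K →* fixA φ := MonoidHom.mk'
    (fun k => ⟨k * φ k * φ (φ k), by
      rw [mem_fixA, map_mul, map_mul, hφ3, mul_assoc (k : G), (h1 k k.2 k k.2).symm.mul_right
        (h3 k k.2 k k.2)]⟩)
    (fun a b => Subtype.ext (by
      simp only [Subgroup.coe_mul, map_mul, mul_assoc]
      congr 1
      rw [← mul_assoc (b : G), ← (h1 a a.2 b b.2).eq, mul_assoc]
      congr 1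
      rw [← mul_assoc (φ b), ← (h2 a a.2 b b.2).eq, mul_assoc, ← mul_assoc (b : G),
        (h3 b b.2 a a.2).eq, mul_assoc]))
  haveI : Group.IsSolvable (center K) := isSolvable_of_comm fun a b => mul_comm' a b
  refine not_solv hK.2 (solvable_of_ker_le_range (center K).subtype ψ fun k hk => ?_)
  rw [range_subtype, mem_center_iff]
  intro a
  have e : (k : G) * φ k * φ (φ k) = 1 := congrArg Subtype.val hk
  rw [mul_assoc, mul_eq_one_iff_eq_inv] at e
  refine Subtype.ext ?_
  change Commute (a : G) k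
  rw [e]
  exact ((h1 k k.2 a a.2).symm.mul_right (h3 a a.2 k k.2)).inv_right

theorem NF.lift (h : NF σ) (N : Subgroup G) [N.Characteristic] {g : G} (hg : g⁻¹ * σ g ∈ N) :
    ∃ x, g⁻¹ * x ∈ N ∧ σ x = x :=
  PGrp.exists_fixed_mem_coset (fun x => SetLike.ext_iff.1
    (characteristic_iff_comap_eq.1 inferInstance σ) x) hg (k := 1) Nat.prime_three
    (by simpa using h.cube) fun hd => h.three (hd.trans (card_subgroup_dvd_card N))

theorem NF.quot (h : NF σ) (N : Subgroup G) [N.Characteristic] : NF (PGrp.autQuot N σ) := by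
  refine ⟨by rw [← map_pow, h.cube, map_one],
    fun hd => h.three (hd.trans N.card_quotient_dvd_card), fun g hg => ?_⟩
  obtain ⟨g, rfl⟩ := QuotientGroup.mk_surjective g
  rw [PGrp.autQuot_mk, eq_comm, QuotientGroup.eq] at hg
  obtain ⟨x, h1, h2⟩ := h.lift N hg
  rw [QuotientGroup.eq.2 h1]
  exact (h.odd x h2).of_dvd_nat (orderOf_map_dvd (QuotientGroup.mk' N) x)

theorem NF.odd_card (h : NF σ) : Odd (Nat.card (fixA σ)) := by
  by_contra hc
  obtain ⟨x, hx⟩ := exists_prime_orderOf_dvd_card' 2 (even_iff_two_dvd.1 (Nat.not_odd_iff_even.1 hc))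
  have := h.odd x x.2
  rw [Subgroup.orderOf_coe, hx] at this
  exact absurd this (by decide)

theorem NF.not_simple [IsSimpleGroup G] (h : NF σ) : IsMulCommutative G := by
  by_contra hn
  obtain ⟨F, _, _, m, hm, hF, ⟨e⟩⟩ := sz_of_gold hn (gold_s4 hn (not_involves_of_three h.three))
    h.three
  obtain ⟨_, ⟨Z⟩⟩ := RankOne.Sz.exists_model_of_equiv_lie hF hm e
  obtain ⟨β, τ, hβ⟩ := sz_exists_conj Z (((Nat.Prime.coprime_iff_not_dvd Nat.prime_three).2
    h.three).coprime_dvd_left (orderOf_dvd_of_pow_eq_one h.cube))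
  have h1 : Z.t ∈ fixA (szPhi Z τ) := Z.lift_t Z τ.toRingHom
  rw [← hβ, fixA_conj] at h1
  obtain ⟨x, hx, e⟩ := h1
  have h2 := h.odd x hx
  rw [← β.orderOf_eq, show β x = Z.t from e,
    orderOf_eq_prime (p := 2) (by rw [pow_two, Z.t_mul_t]) Z.t_ne_one] at h2
  exact absurd h2 (by decide)

end

theorem NF.solv (G : Type u) [Group G] [Finite G] (σ : MulAut G) (h : NF σ) :
    Group.IsSolvable G := by
  induction hn : Nat.card G using Nat.strong_induction_on generalizing G with
  | _ n ih =>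
  by_cases hF : fittingSubgroup G = ⊥
  · by_cases hL : layer G = ⊥
    · have := Comp2.centralizer_genFitting_le_fitting (G := G)
      rw [generalizedFittingSubgroup, hL, hF, bot_sup_eq] at this
      have h1 : ∀ g : G, g = 1 := fun g => this (Core.le_centralizer_bot ⊤ (mem_top g))
      exact isSolvable_of_comm fun a b => by rw [h1 a, h1 b]
    exfalso
    obtain ⟨K, hK⟩ := Comp2.hasComponent_iff.2 hL
    have h1 := map_eq hK h.cube (S0205.result h.odd_card)
    haveI := Perm.comp_simple hF hK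
    let τ : MulAut K := (σ.subgroupMap K).trans (MulEquiv.subgroupCongr h1)
    have hτ : ∀ x : K, (τ x : G) = σ x := fun _ => rfl
    have h2 : NF τ := ⟨MulEquiv.ext fun x => Subtype.ext (by
        rw [pow_three', MulAut.mul_apply, MulAut.mul_apply, hτ, hτ, hτ]
        exact DFunLike.congr_fun (pow_three' σ ▸ h.cube) (x : G)),
      fun hd => h.three (hd.trans (card_subgroup_dvd_card K)), fun g hg => by
        rw [← Subgroup.orderOf_coe]
        exact h.odd g (congrArg Subtype.val hg)⟩
    exact not_solv hK.2 (isSolvable_of_comm h2.not_simple.is_comm.comm)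
  · haveI := Core.fitting_characteristic (G := G)
    haveI := ih _ (hn ▸ Core.card_quotient_lt _ hF) _ _ (h.quot (fittingSubgroup G)) rfl
    haveI := Core.fitting_nilpotent (G := G)
    exact solvable_of_ker_le_range (fittingSubgroup G).subtype
      (QuotientGroup.mk' (fittingSubgroup G)) (by simp)

section
variable {G : Type*} [Group G] [Finite G] {σ : MulAut G}

/-- The action on the abelianization. -/
def abRep (Q : Type*) [Group Q] : MulAut Q →* AddMonoid.End (Additive (Abelianization Q)) where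
  toFun α := MonoidHom.toAdditive (Abelianization.map α.toMonoidHom)
  map_one' := by
    ext x
    obtain ⟨x, rfl⟩ := QuotientGroup.mk_surjective (s := commutator Q) x
    rfl
  map_mul' a b := by
    ext x
    obtain ⟨x, rfl⟩ := QuotientGroup.mk_surjective (s := commutator Q) x
    rfl

theorem NF.core (h : NF σ) (h0 : pPrimeCore 2 G = ⊥) (g : G) : g⁻¹ * σ g ∈ pCore 2 G := by
  have hs := h.solv
  have hC := Comp2.centralizer_pCore_le_of_isSolvable 2 hs h0
  haveI := Core.pCore_characteristic (G := G) 2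
  have hQ : IsPGroup 2 (pCore 2 G) := Core.pCore_isPGroup 2
  set Q := pCore 2 G with hQd
  haveI : Finite (Abelianization Q) := inferInstanceAs (Finite (Q ⧸ commutator Q))
  haveI : Finite (AddMonoid.End (Additive (Abelianization Q))) :=
    Finite.of_injective _ DFunLike.coe_injective
  let Ψ := ((abRep Q).comp (MulAut.characteristic Q)).toHomUnits
  let ρ := Ψ.comp (MulAut.conj : G →* MulAut G)
  have hρ : ∀ y, ρ y = 1 ↔ ∀ x : Q, x⁻¹ * MulAut.characteristic Q (MulAut.conj y) x ∈
      commutator Q := fun y => by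
    rw [Units.ext_iff, DFunLike.ext_iff]
    constructor
    · intro h x
      exact QuotientGroup.eq.1 (h (QuotientGroup.mk (s := commutator Q) x)).symm
    · intro h x
      obtain ⟨x, rfl⟩ := QuotientGroup.mk_surjective (s := commutator Q) x
      exact (QuotientGroup.eq.2 (h x)).symm
  have hk : IsPGroup 2 ρ.ker := PGrp.isPGroup_of_forall_coprime Nat.prime_two fun y hy hc => by
    have h1 := PGrp.aut_eq_one_of_frattini hQ (hc.coprime_dvd_left
      (orderOf_map_dvd ((MulAut.characteristic Q).comp MulAut.conj) y))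
      fun x => PGrp.commutator_le_frattini hQ ((hρ y).1 hy x)
    refine PGrp.eq_one_of_mem_of_isPGroup_of_coprime hQ (hC fun x hx => ?_) hc
    have h2 := congrArg Subtype.val (DFunLike.congr_fun h1 (⟨x, hx⟩ : Q))
    exact (mul_inv_eq_iff_eq_mul.1 h2).symm
  have hQk : Q ≤ ρ.ker := fun y hy => (hρ y).2 fun x => by
    have : x⁻¹ * MulAut.characteristic Q (MulAut.conj y) x = ⁅x⁻¹, (⟨y, hy⟩ : Q)⁆ :=
      Subtype.ext (by simp [commutatorElement_def, mul_assoc])
    rw [this]
    exact commutator_mem_commutator (mem_top _) (mem_top _)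
  have h2 : IsNilpotent (2 : AddMonoid.End (Additive (Abelianization Q))) := by
    obtain ⟨k, hk⟩ := hQ.exists_card_eq
    refine ⟨k, DFunLike.ext _ _ fun x => ?_⟩
    have : ((2 : AddMonoid.End (Additive (Abelianization Q))) ^ k) = ((2 ^ k : ℕ) : _) := by
      push_cast; rfl
    rw [this, AddMonoid.End.natCast_apply, ← hk]
    obtain ⟨x, rfl⟩ := QuotientGroup.mk_surjective (s := commutator Q) x
    change (Abelianization.of x) ^ Nat.card Q = 1
    rw [← map_pow, pow_card_eq_one', map_one]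
  have ha : ((Ψ σ : _ˣ) : AddMonoid.End (Additive (Abelianization Q))) * Ψ σ + Ψ σ + 1 = 0 := by
    refine DFunLike.ext _ _ fun x => ?_
    obtain ⟨x, rfl⟩ := QuotientGroup.mk_surjective (s := commutator Q) x
    set τ := MulAut.characteristic Q σ with hτ
    have hf : MonoidHom.FixedPointFree τ := fun y hy =>
      PGrp.eq_one_of_mem_of_isPGroup_of_coprime (K := ⊤) (hQ.to_subgroup ⊤) (mem_top y) (by
        rw [← Subgroup.orderOf_coe]
        exact (h.odd y (congrArg Subtype.val hy)).coprime_two_right)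
    have h3 : τ ^ 3 = 1 := by rw [hτ, ← map_pow, h.cube, map_one]
    have h4 := hf.prod_pow_eq_one (n := 3) (funext fun y => DFunLike.congr_fun h3 y) x
    change Abelianization.of (τ (τ x)) * Abelianization.of (τ x) * Abelianization.of x = 1
    have h5 := congrArg Abelianization.of h4
    simp [List.range_succ] at h5
    rw [← h5]
    ac_rfl
  have h5 := quad_solv h2 ha (H := ρ.range) (solvable_of_surjective ρ.rangeRestrict_surjective)
    (fun hd => h.three (hd.trans (card_range_dvd ρ))) (by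
      have e1 : (piCoreOf {2} ρ.range).comap ρ ≤ Q := Core.le_pCore ⟨fun x hx y => by
          rw [mem_comap, map_mul, map_mul, map_inv]
          exact (mem_normalizer_iff.1 (BG.S7.self_le_norm_core {2} ρ.range ⟨y, rfl⟩) _).1 hx⟩
        ((BG.S7.core_isPGroup _).comap_of_ker_isPGroup ρ hk)
      refine eq_bot_iff.2 fun x hx => ?_
      obtain ⟨y, rfl⟩ := BG.S7.core_le _ _ hx
      exact hQk (e1 hx))
    (zpowers_le.2 (by
      rw [MonoidHom.range_comp]
      exact le_normalizer_map Ψ ⟨σ, (normalizer_eq_top (Cfsg.Inn G)).ge (mem_top σ), rfl⟩))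
  refine Core.le_pCore inferInstance hk ?_
  have h6 := h5 (mem_zpowers _) (ρ g) ⟨g, rfl⟩
  have h7 : MulAut.conj (σ g) = σ * MulAut.conj g * σ⁻¹ := by ext x; simp
  rw [MonoidHom.mem_ker, map_mul, map_inv, inv_mul_eq_one]
  change ρ g = Ψ (MulAut.conj (σ g))
  rw [h7, map_mul, map_mul, map_inv, eq_mul_inv_iff_mul_eq]
  exact h6

theorem NF.sup (h : NF σ) : pPrimePCore 2 G ⊔ fixA σ = ⊤ := by
  haveI := Core.pPrimeCore_characteristic (G := G) 2
  haveI := Core.pPrimePCore_characteristic (G := G) 2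
  refine eq_top_iff.2 fun g _ => ?_
  obtain ⟨x, h1, h2⟩ := h.lift (pPrimePCore 2 G) (g := g)
    ((h.quot (pPrimeCore 2 G)).core (Core.pPrimeCore_quotient_pPrimeCore 2) (g : G ⧸ _))
  have : g = x * (g⁻¹ * x)⁻¹ := by group
  rw [this]
  exact mul_mem (mem_sup_right h2) (mem_sup_left (inv_mem h1))

theorem nf_of (h3 : ¬ 3 ∣ Nat.card G) {Sig : Subgroup (MulAut G)}
    (e : Sig ≃* Equiv.Perm (Fin 3)) (hfpf : ∀ g : G, (∀ σ ∈ Sig, σ g = g) → g = 1)
    (hσ : σ ∈ Sig) (ho : orderOf σ = 3) : NF σ := by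
  have hc : σ ^ 3 = 1 := ho ▸ pow_orderOf_eq_one σ
  refine ⟨hc, h3, fun g hg => ?_⟩
  have key : ∀ s : Equiv.Perm (Fin 3), s ≠ 1 → s * s * s = 1 →
      s * Equiv.swap 0 1 = Equiv.swap 0 1 * s * s ∧ ∀ x, x = 1 ∨ x = s ∨ x = s * s ∨
        x = Equiv.swap 0 1 ∨ x = Equiv.swap 0 1 * s ∨ x = Equiv.swap 0 1 * s * s := by decide
  set s : Sig := ⟨σ, hσ⟩ with hs
  obtain ⟨k1, k2⟩ := key (e s) (fun h => by
      have : σ = 1 := congrArg Subtype.val (e.map_eq_one_iff.1 h)
      rw [this, orderOf_one] at ho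
      omega)
    (by rw [← map_mul, ← map_mul, e.map_eq_one_iff]
        exact Subtype.ext ((pow_three' σ).symm.trans hc))
  obtain ⟨t, ht⟩ := e.surjective (Equiv.swap 0 1)
  rw [← ht] at k1 k2
  simp only [← map_mul, e.apply_eq_iff_eq] at k1
  have k3 : t * t = 1 := e.injective (by rw [map_mul, ht, map_one]; decide)
  let τ : fixA σ →* fixA σ := ((t : MulAut G).toMonoidHom.comp (fixA σ).subtype).codRestrict _
    fun x => by
      have := DFunLike.congr_fun (congrArg Subtype.val k1) (x : G)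
      have hx : σ x = x := x.2
      simp only [hs, Subgroup.coe_mul, MulAut.mul_apply, hx] at this
      exact this
  have hf : MonoidHom.FixedPointFree τ := fun x hx => Subtype.ext (hfpf x fun a ha => by
    have h1 : σ x = x := x.2
    have h2 : (t : MulAut G) x = x := congrArg Subtype.val hx
    have h4 := k2 (e ⟨a, ha⟩)
    rw [← map_one e] at h4
    simp only [← map_mul, e.apply_eq_iff_eq, Subtype.ext_iff, hs, Subgroup.coe_mul,
      Subgroup.coe_one] at h4
    rcases h4 with h | h | h | h | h | h <;> simp [h, h1, h2])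
  have := hf.odd_orderOf_of_involutive (fun x => Subtype.ext
    (DFunLike.congr_fun (congrArg Subtype.val k3) (x : G))) ⟨g, hg⟩
  rwa [← Subgroup.orderOf_coe] at this

end

/-- Let G be a finite group of even order coprime to 3, and let Σ be a group of automorphisms of G isomorphic to the symmetric group of degree 3 that is fixed-point-free (only the identity of G is fixed by every element of Σ). Then G is solvable, O_{2′,2}(G) (the preimage in G of O₂(G/O(G))) has odd index in G, and G = O_{2′,2}(G) C_G(σ) for every element σ of Σ of order 3; that is, O₂(G/O(G)) is a Sylow 2-subgroup of G/O(G) and G/O(G) = O₂(G/O(G)) C_{G/O(G)}(σ). -/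
theorem result {G : Type*} [Group G] [Finite G] (heven : 2 ∣ Nat.card G) (h3 : ¬ 3 ∣ Nat.card G)
    (Sig : Subgroup (MulAut G)) (hS3 : Nonempty (↥Sig ≃* Equiv.Perm (Fin 3))) (hfpf : ∀ g : G, (∀ σ ∈ Sig, σ g = g) → g = 1) :
    Group.IsSolvable G ∧ ¬ 2 ∣ (Cfsg.pPrimePCore 2 G).index ∧ ∀ σ ∈ Sig, orderOf σ = 3 →
      Cfsg.pPrimePCore 2 G ⊔ Subgroup.closure {g : G | σ g = g} = ⊤ := by
  obtain ⟨e⟩ := hS3
  obtain ⟨s, hs⟩ := exists_prime_orderOf_dvd_card' (G := Sig) 3 (hp := ⟨Nat.prime_three⟩) (by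
    rw [Nat.card_congr e.toEquiv, Nat.card_eq_fintype_card, Fintype.card_perm]; decide)
  have h1 := nf_of h3 e hfpf s.2 (by simpa using hs)
  refine ⟨h1.solv, fun hd => ?_, fun σ hσ ho => ?_⟩
  · haveI := Core.pPrimePCore_normal (G := G) 2
    have h2 := Subgroup.relIndex_sup_left (FGS.fixA (s : MulAut G)) (pPrimePCore 2 G)
    rw [h1.sup, Subgroup.relIndex_top_right] at h2
    exact Nat.not_even_iff_odd.2 h1.odd_card
      (even_iff_two_dvd.2 ((h2 ▸ hd).trans (Subgroup.relIndex_dvd_card _ _)))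
  · rw [← (nf_of h3 e hfpf hσ ho).sup]
    congr 1
    exact Subgroup.closure_eq (FGS.fixA σ)

end Cfsg.Agent.S3040
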