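import Mathlib
import Cfsg.Statements.S3043
import Cfsg.Agent.Isaacs.Large3
-- import your own Cfsg.Agent.* helpers here

set_option autoImplicit false
open Cfsg

namespace Cfsg.Agent.S3043

open Cfsg.Agent.Isaacs Subgroup

/-- Let M be a nontrivial subgroup of a finite group G meeting each of its other conjugates trivially, with N_G(M) = M · C_{N_G(M)}(z) for some involution z ∈ N_G(M), and with C_G(x) of odd order for every nontrivial x ∈ M. Then one of the following holds: M is normal in G; the number of involutions of G is at most |G : M|; G is isomorphic to PGL₂(F) or to PSL₂(F) for a finite field F with |F| = |M|, M is an elementary abelian p-group for the characteristic p of F, and |F| ≡ 1 (mod 4) in the PSL₂ case; G is isomorphic to PSL₂(F) with |F| = 2^e, e > 1, and M is cyclic of order 2^e + 1; or for some d ≥ 1, G has an elementary abelian normal subgroup of order 2^{2d} complemented by N_G(M), and N_G(M) is dihedral of order 2(2^d + 1). -/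
theorem result {G : Type*} [Group G] [Finite G] (M : Subgroup G) (hM1 : M ≠ ⊥)
    (hTI : ∀ g : G, M ⊓ M.map (MulAut.conj g).toMonoidHom ≠ ⊥ → M.map (MulAut.conj g).toMonoidHom = M)
    (z : G) (hz : orderOf z = 2) (hzN : z ∈ Subgroup.normalizer (M : Set G))
    (hfac : M ⊔ (Subgroup.normalizer (M : Set G) ⊓ Subgroup.centralizer ({z} : Set G)) = Subgroup.normalizer (M : Set G))
    (hodd : ∀ x ∈ M, x ≠ 1 → Odd (Nat.card ↥(Subgroup.centralizer ({x} : Set G)))) :
    M.Normal ∨
    Nat.card {g : G // orderOf g = 2} ≤ M.index ∨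
    (∃ (F : Type) (_ : Field F) (_ : Fintype F) (p : ℕ) (_ : Fact p.Prime) (_ : CharP F p), Fintype.card F = Nat.card M ∧ Cfsg.IsElementaryAbelian p M ∧
        (Nonempty (G ≃* (GL (Fin 2) F ⧸ Subgroup.center (GL (Fin 2) F))) ∨
         (Fintype.card F % 4 = 1 ∧ Nonempty (G ≃* Matrix.ProjectiveSpecialLinearGroup (Fin 2) F)))) ∨
    (∃ (F : Type) (_ : Field F) (_ : Fintype F) (e : ℕ), 1 < e ∧ Fintype.card F = 2 ^ e ∧ IsCyclic ↥M ∧ Nat.card M = 2 ^ e + 1 ∧
        Nonempty (G ≃* Matrix.ProjectiveSpecialLinearGroup (Fin 2) F)) ∨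
    (∃ (d : ℕ) (E : Subgroup G), 1 ≤ d ∧ E.Normal ∧ Cfsg.IsElementaryAbelian 2 E ∧ Nat.card E = 2 ^ (2 * d) ∧
        E ⊓ Subgroup.normalizer (M : Set G) = ⊥ ∧ E ⊔ Subgroup.normalizer (M : Set G) = ⊤ ∧
        Nonempty (↥(Subgroup.normalizer (M : Set G)) ≃* DihedralGroup (2 ^ d + 1))) := by
  have : Fact (Nat.Prime 2) := ⟨Nat.prime_two⟩
  have hz' := orderOf_eq_prime_iff.mp hz
  rw [pow_two] at hz'
  have h : BL M z := ⟨hM1, fun g x hx h1 hg => by
      have := hTI g (fun e => h1 (by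
        have : g * x * g⁻¹ = 1 := mem_bot.mp (e ▸ (⟨hg, x, hx, rfl⟩ :
          g * x * g⁻¹ ∈ M ⊓ M.map (MulAut.conj g).toMonoidHom))
        calc x = g⁻¹ * (g * x * g⁻¹) * g := by group
          _ = 1 := by rw [this]; group))
      exact Transfer.mem_normalizer_of_conj_mem fun u hu => this ▸ ⟨u, hu, rfl⟩,
    hz'.1, hz'.2, hzN, fun g hg => by
      have hn : (normalizer (M : Set G) ⊓ centralizer ({z} : Set G) : Subgroup G) ≤
        normalizer (M : Set G) := inf_le_left
      rw [← hfac, ← SetLike.mem_coe, coe_mul_of_right_le_normalizer_left _ _ hn] at hg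
      obtain ⟨x, hx, k, hk, rfl⟩ := hg
      exact ⟨x, hx, k, hk.1, mem_centralizer_singleton_iff.mp hk.2, rfl⟩,
    fun x hx t h2 e => by
      by_contra hne
      push Not at hne
      have := orderOf_dvd_natCard (centralizer ({x} : Set G)) (mem_centralizer_singleton_iff.mpr e)
      rw [orderOf_eq_prime (by rw [pow_two, h2]) hne.2] at this
      exact (hodd x hx hne.1).not_two_dvd_nat this⟩
  by_cases hn : M.Normal
  · exact Or.inl hn
  by_cases hJ : Nat.card {g : G // orderOf g = 2} ≤ M.index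
  · exact Or.inr (Or.inl hJ)
  have hc := fun g => h.cos (not_le.mp hJ) (g := g)
  obtain ⟨g, hg⟩ : ∃ g, g ∉ normalizer (M : Set G) := by
    by_contra hne
    push Not at hne
    exact hn (normalizer_eq_top_iff.mp ((eq_top_iff' _).mpr hne))
  obtain ⟨-, -, -, -, v, hv, e, -⟩ := h.dec hc hg
  by_cases hB : ∀ w, w ∉ normalizer (M : Set G) → w * z = z * w → v⁻¹ * w ∈ normalizer (M : Set G)
  · exact Or.inr (Or.inr (Or.inl (h.caseB hc hv e hB)))
  push Not at hB
  obtain ⟨w, hw, e', hvw⟩ := hB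
  have hA : ∀ k ∈ normalizer (M : Set G), k * z = z * k → k = 1 ∨ k = z := fun k hk hkz => by
    refine h.kinv hk hkz ?_
    have a1 := h.vinv hc hv e hk hkz
    have a2 := h.vinv hc hw e' hk hkz
    have a3 := h.vinv hc hvw ((show Commute v z from e).inv_left.mul_left e') hk hkz
    have : k = k⁻¹ := by
      calc k = v⁻¹ * (v * k * v⁻¹) * v := by group
        _ = v⁻¹ * w * k * (v⁻¹ * w)⁻¹ := by rw [a1, ← a2]; group
        _ = _ := a3
    nth_rewrite 1 [this]; exact inv_mul_cancel k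
  obtain ⟨d, hd, hC, ⟨h1, h2, h3⟩ | ⟨h1, h2, h3⟩⟩ := h.arith hc hA hv e
  · obtain ⟨F, _, _, a1, a2, a3⟩ := h.caseA2 hc hA (by omega) hC h1 h2 h3
    exact Or.inr (Or.inr (Or.inr (Or.inl ⟨F, inferInstance, inferInstance, d + 1, by omega, a1, a2,
      h1, a3⟩)))
  · obtain ⟨E, hE⟩ := h.caseA1 hA hd h1 h2 h3
    exact Or.inr (Or.inr (Or.inr (Or.inr ⟨d, E, hd, hE⟩)))

end Cfsg.Agent.S3043
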