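import Mathlib
import Cfsg.Statements.S3066
import Cfsg.Agent.S2602
import Cfsg.Agent.S2126
import Cfsg.Agent.S2603
import Cfsg.Agent.S3065
import Cfsg.Agent.S0144
import Cfsg.Agent.S0205
import Cfsg.Agent.GsC.Known
import Cfsg.Agent.Gs.Main
import Cfsg.Agent.PGrp.Aut
import Cfsg.Agent.Perm.Small

set_option autoImplicit false
open Cfsg

namespace Cfsg.Agent.S3066

open Subgroup Cfsg.Agent.LocalEven Cfsg.Agent.Gs Cfsg.Agent.GsC Cfsg.Agent.PGrp

theorem solv_of_dvd {X : Type*} [Group X] [Finite X] {q : ℕ} (hq : q.Prime)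
    (h : Nat.card X ∣ 2 ^ 3 * q ^ 1) : Group.IsSolvable X := by
  obtain ⟨a, b, ha, hb, e⟩ := (Nat.dvd_mul).1 h
  obtain ⟨i, -, rfl⟩ := (Nat.dvd_prime_pow Nat.prime_two).1 ha
  obtain ⟨j, -, rfl⟩ := (Nat.dvd_prime_pow hq).1 hb
  exact S0144.result 2 q i j Nat.prime_two hq e.symm

theorem frat_aut {P : Type*} [Group P] [Finite P] (hP : IsPGroup 2 P) {n : ℕ}
    (hn : (frattini P).index = 2 ^ n) :
    Nat.card (MulAut (P ⧸ frattini P)) ∣ Nat.card (GL (Fin n) (ZMod 2)) := by
  obtain ⟨φ, hφ⟩ := exists_autMatrix (p := 2) (V := P ⧸ frattini P)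
    (Normal.quotient_commutative_iff_commutator_le.mpr (commutator_le_frattini hP))
    (fun v => by
      obtain ⟨v, rfl⟩ := QuotientGroup.mk_surjective v
      rw [← QuotientGroup.mk_pow, QuotientGroup.eq_one_iff]
      exact pow_mem_frattini hP v) hn
  exact card_dvd_card_GL φ hφ

theorem frat_pow {P : Type*} [Group P] [Finite P] (hP : IsPGroup 2 P) :
    ∃ n, (frattini P).index = 2 ^ n := hP.index _

theorem frat_168 {P : Type*} [Group P] [Finite P] (hP : IsPGroup 2 P) (h : (frattini P).index ≤ 8) :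
    Nat.card (MulAut (P ⧸ frattini P)) ∣ 168 := by
  obtain ⟨n, hn⟩ := frat_pow hP
  refine (frat_aut hP hn).trans ?_
  have h3 : n ≤ 3 := (Nat.pow_le_pow_iff_right (by norm_num : 1 < 2)).1 (hn ▸ h)
  rw [Matrix.card_GL_field]
  interval_cases n <;> simp [ZMod.card, Fin.prod_univ_succ]

theorem aut_solv {P : Type*} [Group P] [Finite P] (hP : IsPGroup 2 P) (h : (frattini P).index ≤ 4) :
    Group.IsSolvable (MulAut P) := by
  obtain ⟨n, hn⟩ := frat_pow hP
  have h1 := frat_aut hP hn
  have h3 : n ≤ 2 := (Nat.pow_le_pow_iff_right (by norm_num : 1 < 2)).1 (hn ▸ h)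
  haveI : Group.IsSolvable (MulAut (P ⧸ frattini P)) := solv_of_dvd Nat.prime_three (h1.trans (by
    rw [Matrix.card_GL_field]
    interval_cases n <;> simp [ZMod.card, Fin.prod_univ_succ]))
  haveI := (isPGroup_ker_autQuot_frattini hP).isNilpotent
  exact Group.isSolvable_of_ker_le_range (autQuot (frattini P)).ker.subtype (autQuot (frattini P))
    (by simp)

theorem key {G : Type*} [Group G] [Finite G] [IsSimpleGroup G]
    (hG : ¬ IsMulCommutative G) (S : Sylow 2 G) (hS1 : (S : Subgroup G) ≠ ⊥)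
    (h8 : (frattini S).index ≤ 8) {g : G} (hg : g ∈ normalizer ((S : Subgroup G) : Set G))
    (ho : Odd (orderOf g)) (hc : g ∉ centralizer ((S : Subgroup G) : Set G)) :
    Group.IsSolvable (Out G) := by
  have hinj := conj_injective_of_simple hG
  set S' : Subgroup (MulAut G) := (S : Subgroup G).map MulAut.conj with hS'
  let e : (S : Subgroup G) ≃* S' := (S : Subgroup G).equivMapOfInjective _ hinj
  have hP : IsPGroup 2 S' := S.isPGroup'.map _
  have h8' : (frattini S').index ≤ 8 := by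
    rw [← map_frattini_of_surjective S.isPGroup' e.toMonoidHom e.surjective]
    exact (Nat.le_of_dvd (Nat.pos_of_ne_zero index_ne_zero_of_finite)
      (index_map_dvd _ e.surjective)).trans h8
  set N := normalizer (S' : Set (MulAut G)) with hN
  let ψ : N →* MulAut (S' ⧸ frattini S') := (autQuot (frattini S')).comp S'.normalizerMonoidHom
  haveI h1 : Group.IsSolvable (S'.normalizerMonoidHom.ker) := by
    rw [normalizerMonoidHom_ker]
    haveI := isSolvable_centralizer_sylow hG S hS1
    exact Group.isSolvable_of_isSolvable_injective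
      (f := (subgroupOfEquivOfLe (centralizer_le_normalizer _)).toMonoidHom)
      (MulEquiv.injective _)
  haveI h2 : Group.IsSolvable ψ.ker := by
    haveI := (isPGroup_ker_autQuot_frattini hP).isNilpotent
    let θ : ψ.ker →* (autQuot (frattini S')).ker :=
      (S'.normalizerMonoidHom.comp ψ.ker.subtype).codRestrict _ fun x => x.2
    have hle : S'.normalizerMonoidHom.ker ≤ ψ.ker := fun x hx => by
      rw [MonoidHom.mem_ker] at hx ⊢
      simp [ψ, hx]
    refine Group.isSolvable_of_ker_le_range (inclusion hle) θ fun x hx => ?_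
    exact ⟨⟨x, congrArg Subtype.val hx⟩, rfl⟩
  let f : N →* Out G := (QuotientGroup.mk' (Inn G)).comp N.subtype
  have hf : Function.Surjective f := fun q => by
    obtain ⟨φ, rfl⟩ := QuotientGroup.mk_surjective q
    obtain ⟨x, hx, n, hn, rfl⟩ := (isSylowIn_inn hG S).frattini' (g := φ)
      (le_normalizer_of_normal (K := ⊤) trivial)
    exact ⟨⟨x, hx⟩, (QuotientGroup.mk_mul_of_mem x hn).symm⟩
  haveI hL : (ψ.ker.map f).Normal := Normal.map inferInstance f hf
  haveI : Group.IsSolvable (ψ.ker.map f) :=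
    Group.isSolvable_of_surjective (f := f.subgroupMap ψ.ker) (f.subgroupMap_surjective _)
  set M := (ψ.ker.map f).comap f with hM
  have hKM : ψ.ker ≤ M := le_comap_map _ _
  have hi : M.index * Nat.card (M.map ψ) ∣ 168 := by
    refine Dvd.dvd.trans ?_ (frat_168 hP h8')
    rw [← (M.map ψ).index_mul_card, index_map, sup_eq_left.2 hKM]
    exact Nat.mul_dvd_mul_right (Dvd.intro _ rfl) _
  have hgN : MulAut.conj g ∈ N := by
    rw [hN, hS']
    exact le_normalizer_map _ (mem_map_of_mem _ hg)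
  have hgM : (⟨_, hgN⟩ : N) ∈ M := by
    rw [hM, mem_comap]
    have : f ⟨_, hgN⟩ = 1 := (QuotientGroup.eq_one_iff _).2 ⟨g, rfl⟩
    rw [this]; exact one_mem _
  have hod : ∀ {X : Type _} [Group X] (φ : N →* X), orderOf (φ ⟨_, hgN⟩) ∣ orderOf g := by
    intro X _ φ
    refine (orderOf_map_dvd φ _).trans ?_
    rw [← orderOf_coe]
    exact orderOf_map_dvd _ _
  have hne : ψ ⟨_, hgN⟩ ≠ 1 := fun k => by
    have h3 : S'.normalizerMonoidHom ⟨_, hgN⟩ = 1 :=
      eq_one_of_mem_of_isPGroup_of_coprime (isPGroup_ker_autQuot_frattini hP) k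
        (Nat.Coprime.coprime_dvd_left (hod _) (Nat.coprime_two_right.2 ho))
    rw [← MonoidHom.mem_ker, normalizerMonoidHom_ker, mem_subgroupOf] at h3
    refine hc fun s hs => hinj ?_
    rw [map_mul, map_mul]
    exact h3 _ (mem_map_of_mem _ hs)
  obtain ⟨r, hr, hrd⟩ := Nat.exists_prime_and_dvd (mt orderOf_eq_one_iff.1 hne)
  have hr2 : r ≠ 2 := by
    rintro rfl
    exact (Nat.not_even_iff_odd.2 ho) (even_iff_two_dvd.2 (hrd.trans (hod _)))
  have hrM : r ∣ Nat.card (M.map ψ) := hrd.trans (orderOf_dvd_natCard _ (mem_map_of_mem _ hgM))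
  have h4 : M.index * r ∣ 168 := (Nat.mul_dvd_mul_left _ hrM).trans hi
  have h5 : r = 3 ∨ r = 7 := by
    have h6 : r ∣ 2 ^ 3 * (3 * 7) := (Dvd.intro_left _ rfl).trans h4
    rcases (Nat.Prime.dvd_mul hr).1 h6 with h | h
    · exact absurd ((Nat.prime_dvd_prime_iff_eq hr Nat.prime_two).1 (hr.dvd_of_dvd_pow h)) hr2
    · rcases (Nat.Prime.dvd_mul hr).1 h with h | h
      · exact .inl ((Nat.prime_dvd_prime_iff_eq hr Nat.prime_three).1 h)
      · exact .inr ((Nat.prime_dvd_prime_iff_eq hr (by norm_num)).1 h)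
  rw [hM, index_comap_of_surjective _ hf] at h4
  haveI : Group.IsSolvable (Out G ⧸ ψ.ker.map f) := by
    rcases h5 with rfl | rfl
    · exact solv_of_dvd (q := 7) (by norm_num)
        (Nat.dvd_of_mul_dvd_mul_right (by norm_num : 0 < 3) h4)
    · exact solv_of_dvd (q := 3) (by norm_num)
        (Nat.dvd_of_mul_dvd_mul_right (by norm_num : 0 < 7) h4)
  exact Group.isSolvable_of_ker_le_range (ψ.ker.map f).subtype (QuotientGroup.mk' (ψ.ker.map f))
    (by simp)

theorem out_congr {G G' : Type*} [Group G] [Group G'] (e : G ≃* G')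
    (h : Group.IsSolvable (Out G')) : Group.IsSolvable (Out G) := by
  refine Group.isSolvable_of_isSolvable_injective
    (f := (QuotientGroup.congr (Inn G) (Inn G') (MulAut.congr e) ?_).toMonoidHom)
    (MulEquiv.injective _)
  ext φ
  constructor
  · rintro ⟨_, ⟨g, rfl⟩, rfl⟩
    exact ⟨e g, by ext x; simp⟩
  · rintro ⟨g, rfl⟩
    exact ⟨_, ⟨e.symm g, rfl⟩, by ext x; simp⟩

theorem solv_cc {X : Type*} [Group X] {n : ℕ} (φ : X →* Multiplicative (ZMod n))
    (h : IsCyclic φ.ker) : Group.IsSolvable X := by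
  haveI : Group.IsSolvable φ.ker := by
    letI := h.commGroup
    infer_instance
  exact Group.isSolvable_of_ker_le_range φ.ker.subtype φ (by simp)

theorem out_psl {F : Type*} [Field F] [Fintype F] (h : 4 ≤ Fintype.card F) :
    Group.IsSolvable (Out (Matrix.ProjectiveSpecialLinearGroup (Fin 2) F)) := by
  obtain ⟨p, -, f, hp, hF⟩ := FiniteField.card' F
  haveI := Fact.mk hp
  obtain ⟨φ, -, h1, -⟩ := S2602.result (F := F) (p := p) (f := f) f.2 hF (hF ▸ h)
  exact solv_cc φ h1


/-- Let G be a finite non-abelian simple group with a nontrivial Sylow 2-subgroup S (that is, G has even order). Then Out(G) = Aut(G)/Inn(G) is solvable provided one of the following holds: (a) S is generated by two elements; (b) S is generated by three elements and N_G(S)/C_G(S) is not a 2-group (some element of N_G(S) of odd order does not centralize S); (c) the involutions of S commute pairwise and are all conjugate in G. -/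
theorem result {G : Type*} [Group G] [Finite G] [IsSimpleGroup G]
    (hG : ¬ IsMulCommutative G) (S : Sylow 2 G) (hS1 : (S : Subgroup G) ≠ ⊥)
    (h : (∃ a b : ↥S, Subgroup.closure ({a, b} : Set ↥S) = ⊤) ∨
      ((∃ a b c : ↥S, Subgroup.closure ({a, b, c} : Set ↥S) = ⊤) ∧
        ∃ g ∈ Subgroup.normalizer ((S : Subgroup G) : Set G), Odd (orderOf g) ∧ g ∉ Subgroup.centralizer ((S : Subgroup G) : Set G)) ∨
      ((∀ s ∈ S, ∀ t ∈ S, orderOf s = 2 → orderOf t = 2 → s * t = t * s) ∧
        (∀ s ∈ S, ∀ t ∈ S, orderOf s = 2 → orderOf t = 2 → ∃ g : G, g * s * g⁻¹ = t))) :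
    Group.IsSolvable (Cfsg.Out G) := by
  classical
  rcases h with ⟨a, b, h⟩ | ⟨⟨a, b, c, h⟩, g, hg, ho, hc⟩ | ⟨h, -⟩
  · refine S3065.result hG S hS1 (aut_solv S.isPGroup' ?_)
    refine (index_frattini_le_pow_card S.isPGroup' {a, b} (by simpa using h)).trans ?_
    exact Nat.pow_le_pow_right (by norm_num) Finset.card_le_two
  · refine key hG S hS1 ?_ hg ho hc
    refine (index_frattini_le_pow_card S.isPGroup' {a, b, c} (by simpa using h)).trans ?_
    exact Nat.pow_le_pow_right (by norm_num) Finset.card_le_three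
  have hcomm : ∀ s ∈ S, ∀ t ∈ S, s * s = 1 → t * t = 1 → s * t = t * s := fun s hs t ht h1 h2 => by
    by_cases s1 : s = 1
    · simp [s1]
    by_cases t1 : t = 1
    · simp [t1]
    exact h s hs t ht (two_of_sq h1 s1) (two_of_sq h2 t1)
  let A : Subgroup G :=
    { carrier := {s | s ∈ S ∧ s * s = 1}
      one_mem' := ⟨one_mem _, mul_one _⟩
      mul_mem' := by
        rintro s t ⟨hs, h1⟩ ⟨ht, h2⟩
        refine ⟨mul_mem hs ht, ?_⟩
        calc s * t * (s * t) = s * (t * s) * t := by group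
          _ = 1 := by rw [← hcomm s hs t ht h1 h2, ← mul_assoc, h1, one_mul, h2]
      inv_mem' := by
        rintro s ⟨hs, h1⟩
        exact ⟨inv_mem hs, by rw [← mul_inv_rev, h1, inv_one]⟩ }
  have hA : SC A := sc_of_closed S ⟨fun _ ha => ha.1, fun x hx g hg => ⟨hg, conj_sq hx.2 g⟩⟩
    fun _ ha => ha.2
  have hA0 : A ≠ ⊥ := fun k => by
    obtain ⟨z, hz, h2⟩ := exists_OZ S.isPGroup' hS1
    have : z ∈ A := ⟨hz.1, by rw [← pow_two, ← h2, pow_orderOf_eq_one]⟩
    rw [k, mem_bot] at this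
    simp [this] at h2
  rcases gold_cases hG (gold hG hA hA0) with
    h | ⟨F, _, _, m, h1, h2, ⟨e⟩⟩ | ⟨n, F, _, _, h1, h2, ⟨e⟩⟩ | ⟨F, _, _, -, h1, ⟨e⟩⟩ | h
  · obtain ⟨F, _, _, h1, -, ⟨e⟩⟩ := L2E_mod h
    exact out_congr e (out_psl (by omega))
  · refine out_congr e (S0205.result ?_)
    rw [S2126.result h1 h2]
    exact odd_two_mul_add_one m
  · obtain ⟨φ, -, h3, -⟩ := S2603.result (K := F) (p := 2) (f := n) (q := 2 ^ n) (n := 3) (by omega) rfl
      (by rw [h2, four_pow]) le_rfl (fun k => by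
        have := Nat.pow_le_pow_right (show 0 < 2 by norm_num) h1
        omega)
    exact out_congr e (solv_cc φ h3)
  · exact out_congr e (out_psl (by omega))
  · have h2 : 2 ∣ Nat.card G := (show 2 ∣ Nat.card S by rw [h.card S]; norm_num).trans
      (card_subgroup_dvd_card _)
    obtain ⟨q, hq, hd⟩ := Nat.exists_prime_and_dvd (Perm.relIndex_centralizer_ne_one hG S h2)
    obtain ⟨g, hg, hc, -, k, hk⟩ := exists_of_prime_dvd_relIndex hq hd
    have hq2 : q ≠ 2 := by
      rintro rfl
      have hle : (S : Subgroup G) ≤ centralizer ((S : Subgroup G) : Set G) :=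
        le_centralizer_iff_isMulCommutative.2 (JR_comm h S)
      exact S.not_dvd_index (hd.trans ((relIndex_dvd_index_of_le (centralizer_le_normalizer _)).trans
        (index_dvd_of_le hle)))
    refine key hG S hS1 ?_ hg (hk ▸ (hq.odd_of_ne_two hq2).pow) hc
    rw [← h.card S]
    exact Nat.le_of_dvd Nat.card_pos (index_dvd_card _)

end Cfsg.Agent.S3066
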