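import Mathlib
import Cfsg.Agent.Core.PConstrained
import Cfsg.Agent.Core.Cores
import Cfsg.Agent.PGrp.Sect2
import Cfsg.Agent.PGrp.Aut
import Cfsg.Agent.FGS.A8
import Cfsg.Statements.S3103
-- import your own Cfsg.Agent.* helpers here

set_option autoImplicit false
open Cfsg

namespace Cfsg.Agent.S3103

open Subgroup Cfsg.Agent.Core

theorem pad {n m : ℕ} (h : n ≤ m) {F : Type*} [Field F] :
    ∃ φ : Matrix (Fin n) (Fin n) F →* Matrix (Fin m) (Fin m) F, Function.Injective φ := by
  obtain ⟨k, rfl⟩ := Nat.exists_eq_add_of_le h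
  let ψ : Matrix (Fin n) (Fin n) F →* Matrix (Fin n ⊕ Fin k) (Fin n ⊕ Fin k) F :=
    { toFun := fun A => Matrix.fromBlocks A 0 0 1
      map_one' := Matrix.fromBlocks_one
      map_mul' := fun A B => by simp [Matrix.fromBlocks_multiply] }
  refine ⟨(Matrix.reindexAlgEquiv F F finSumFinEquiv).toRingEquiv.toMonoidHom.comp ψ, ?_⟩
  intro A B hAB
  have := (Matrix.reindexAlgEquiv F F (finSumFinEquiv (m := n) (n := k))).injective hAB
  exact (Matrix.fromBlocks_inj.1 this).1

/-- Let X be a finite 2-constrained group with no nontrivial normal subgroup of odd order such that O₂(X) has sectional 2-rank at most 4. Then X/O₂(X) is isomorphic to a subgroup of the alternating group of degree 8. -/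
theorem result {X : Type*} [Group X] [Finite X] (hc : Cfsg.IsPConstrained 2 X) (hO : Cfsg.oddCore X = ⊥)
    (h4 : Cfsg.SectionalPRankLE 2 4 ↥(Cfsg.pCore 2 X)) :
    ∃ f : X ⧸ Cfsg.pCore 2 X →* ↥(alternatingGroup (Fin 8)), Function.Injective f := by
  set Q := pCore 2 X with hQ
  have hQ2 : IsPGroup 2 Q := pCore_isPGroup 2
  have hC : centralizer (Q : Set X) ≤ Q := (isPConstrained_iff_of_eq_bot hO).1 hc
  have h1 := (PGrp.sect_of_sectional h4).index_frattini_le hQ2
  have hV : ∀ v : Q ⧸ frattini Q, v ^ 2 = 1 := by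
    intro v
    obtain ⟨x, rfl⟩ := QuotientGroup.mk_surjective v
    rw [← QuotientGroup.mk_pow, QuotientGroup.eq_one_iff]
    exact PGrp.pow_mem_frattini hQ2 x
  obtain ⟨n, hn⟩ := IsPGroup.iff_card.1 (hQ2.to_quotient (frattini Q))
  have hn4 : n ≤ 4 := (Nat.pow_le_pow_iff_right (by norm_num : 1 < 2)).1 (hn ▸ h1)
  obtain ⟨φ, hφ⟩ := PGrp.exists_autMatrix (p := 2)
    (Normal.quotient_commutative_iff_commutator_le.mpr (PGrp.commutator_le_frattini hQ2)) hV hn
  obtain ⟨ψ, hψ⟩ := pad hn4 (F := ZMod 2)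
  obtain ⟨e⟩ := FGS.gl4_equiv (F := ZMod 2) rfl
  let α : X →* MulAut (Q ⧸ frattini Q) := (PGrp.autQuot (frattini Q)).comp MulAut.conjNormal
  have hker : α.ker = Q := by
    apply le_antisymm
    · apply le_pCore inferInstance
      have : α.ker = (PGrp.autQuot (frattini Q)).ker.comap (MulAut.conjNormal (H := Q)) :=
        (MonoidHom.comap_ker _ _).symm
      rw [this]
      apply (PGrp.isPGroup_ker_autQuot_frattini hQ2).comap_of_ker_isPGroup
      apply hQ2.to_le
      intro x hx
      apply hC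
      rw [mem_centralizer_iff]
      intro y hy
      have := congrArg (fun a : MulAut Q => ((a ⟨y, hy⟩ : Q) : X)) (MonoidHom.mem_ker.1 hx)
      simp only [MulAut.conjNormal_apply, MulAut.one_apply] at this
      exact (mul_inv_eq_iff_eq_mul.1 this).symm
    · intro x hx
      rw [MonoidHom.mem_ker]
      show PGrp.autQuot (frattini Q) (MulAut.conjNormal x) = 1
      rw [PGrp.autQuot_eq_one_iff]
      intro y
      have := PGrp.commutatorElement_mem_frattini hQ2 y⁻¹ ⟨x, hx⟩
      convert this using 1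
      apply Subtype.ext
      simp [commutatorElement_def, mul_assoc]
  let β : X →* alternatingGroup (Fin 8) := e.toMonoidHom.comp ((ψ.comp φ).toHomUnits.comp α)
  have hinj : Function.Injective (e.toMonoidHom.comp (ψ.comp φ).toHomUnits) :=
    e.injective.comp fun _ _ h => hφ (hψ (congrArg Units.val h))
  have hβ : β.ker = Q := by
    rw [← hker]
    ext x
    rw [MonoidHom.mem_ker, MonoidHom.mem_ker]
    exact map_eq_one_iff _ hinj
  refine ⟨QuotientGroup.lift Q β hβ.ge, ?_⟩
  rw [← MonoidHom.ker_eq_bot_iff, QuotientGroup.ker_lift, hβ, Subgroup.map_eq_bot_iff,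
    QuotientGroup.ker_mk']

end Cfsg.Agent.S3103
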