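import Mathlib
import Cfsg.Statements.S3104
import Cfsg.Agent.GH4.D
import Cfsg.Agent.S3103
import Cfsg.Agent.S0495
import Cfsg.Agent.Mix26.Ru7

set_option autoImplicit false
open Cfsg

namespace Cfsg.Agent.S3104

open Subgroup Equiv Cfsg.Agent.Core Cfsg.Agent.PGrp Cfsg.Agent.GH4 Cfsg.Agent.FGS

theorem sixty {G : Type*} [Group G] [Finite G] : Nat.card G < 60 → Group.IsSolvable G := by
  refine induction_on_card (P := fun G _ _ => Nat.card G < 60 → Group.IsSolvable G) ?_ G
  intro G _ _ ih h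
  rcases subsingleton_or_nontrivial G with h1 | h1
  · infer_instance
  by_cases h2 : IsSimpleGroup G
  · refine IsSimpleGroup.comm_iff_isSolvable.1 (by_contra fun e => ?_)
    have := S0496.result (G := G) (fun h => e h.1.1) (by omega)
    omega
  obtain ⟨N, hN, h3, h4⟩ : ∃ N : Subgroup G, N.Normal ∧ N ≠ ⊥ ∧ N ≠ ⊤ := by
    by_contra e
    push Not at e
    exact h2 ⟨fun N hN => or_iff_not_imp_left.2 (e N hN)⟩
  have e := N.card_mul_index
  have a1 := (one_lt_card_iff_ne_bot N).2 h3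
  have a2 := one_lt_index_of_ne_top h4
  have a3 : Nat.card N < Nat.card G := by nlinarith
  have a4 : Nat.card (G ⧸ N) < Nat.card G := by rw [← index]; nlinarith
  exact (Group.isSolvable_iff_subgroup_quotient N).2 ⟨ih _ a3 (by omega), ih _ a4 (by omega)⟩

theorem three_cycle {σ : Perm (Fin 8)} (h1 : σ ≠ 1) {p k : ℕ} (hp : p.Prime) (h2 : p ≠ 2)
    (h : σ ^ p ^ k = 1) (hc : 60 ≤ Nat.card (centralizer {σ})) : p = 3 ∧ σ.IsThreeCycle := by
  have h3 := hp.two_le
  have h4 : σ.cycleType = Multiset.replicate σ.cycleType.card p := Multiset.eq_replicate_card.2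
    fun n hn => by
      obtain ⟨j, -, rfl⟩ := (Nat.dvd_prime_pow hp).1
        ((Perm.dvd_of_mem_cycleType hn).trans (orderOf_dvd_of_pow_eq_one h))
      have a1 := Perm.two_le_of_mem_cycleType hn
      have a2 := (Multiset.le_sum_of_mem hn).trans σ.sum_cycleType_le
      obtain _ | _ | j := j
      · simp at a1
      · simp
      · have : 3 ^ 2 ≤ p ^ (j + 1 + 1) := (Nat.pow_le_pow_left (by omega) 2).trans
          (Nat.pow_le_pow_right hp.pos (by omega))
        simp at a2; omega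
  have h5 := σ.sum_cycleType_le
  have h6 : σ.cycleType.card ≠ 0 := by simpa using h1
  rw [Perm.nat_card_centralizer] at hc
  unfold Perm.IsThreeCycle
  generalize σ.cycleType.card = m at h4 h6
  rw [h4] at hc h5 ⊢
  simp only [Multiset.sum_replicate, smul_eq_mul, Fintype.card_fin] at h5
  have a1 : p ≤ 8 := by nlinarith [Nat.pos_of_ne_zero h6]
  have a2 : m ≤ 2 := by nlinarith [show 3 ≤ p by omega]
  interval_cases p <;> interval_cases m <;>
    first | omega | exact ⟨rfl, rfl⟩ | exact absurd hc (by decide) | (exfalso; norm_num at hp)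

theorem odd_core {G : Type*} [Group G] [Finite G] (f : G →* alternatingGroup (Fin 8))
    (hf : Function.Injective f) (hns : ¬ Group.IsSolvable G) {p : ℕ} (hp : p.Prime) (h2 : p ≠ 2)
    {P : Subgroup G} [P.Normal] (hP : IsPGroup p P) (h0 : P ≠ ⊥) :
    p = 3 ∧ Nat.card P = 3 ∧ ∀ a ∈ P, a ≠ 1 → (f a).1.IsThreeCycle := by
  haveI := Fact.mk hp
  obtain ⟨k, hk⟩ := IsPGroup.iff_card.1 hP
  have d : p ^ k ∣ 20160 := hk ▸ (card_subgroup_dvd_card P).trans (card_A8 ▸ card_dvd_of_injective f hf)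
  have k0 : k ≠ 0 := fun e => h0 (card_eq_one.1 (by simp [hk, e]))
  have d1 : p = 3 ∧ k ≤ 2 ∨ p ≤ 7 ∧ k = 1 := by
    have e : p ∣ 2 ^ 6 * 3 ^ 2 * 5 * 7 := (dvd_pow_self p k0).trans d
    simp only [hp.dvd_mul, hp.dvd_iff_eq, (Nat.Prime.prime hp).dvd_pow_iff_dvd, Ne, OfNat.ofNat_ne_zero,
      not_false_eq_true, Nat.prime_dvd_prime_iff_eq hp Nat.prime_two,
      Nat.prime_dvd_prime_iff_eq hp Nat.prime_three, Nat.prime_dvd_prime_iff_eq hp Nat.prime_five,
      Nat.prime_dvd_prime_iff_eq hp Nat.prime_seven] at e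
    rcases e with ((rfl | rfl) | rfl) | rfl
    · omega
    · exact Or.inl ⟨rfl, by_contra fun e => absurd ((pow_dvd_pow 3 (by omega : 3 ≤ k)).trans d) (by decide)⟩
    · exact Or.inr ⟨by omega, by_contra fun e => absurd ((pow_dvd_pow 5 (by omega : 2 ≤ k)).trans d) (by decide)⟩
    · exact Or.inr ⟨by omega, by_contra fun e => absurd ((pow_dvd_pow 7 (by omega : 2 ≤ k)).trans d) (by decide)⟩
  have d2 : Nat.card P ≤ 9 := by
    rw [hk]
    rcases d1 with ⟨rfl, e⟩ | ⟨e, rfl⟩
    · exact Nat.pow_le_pow_right (by omega) e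
    · rw [pow_one]; omega
  have d3 : Nat.card (MulAut P) < 60 := by
    by_cases hc : IsCyclic P
    · rw [hc.card_mulAut]; exact (Nat.totient_le _).trans_lt (by omega)
    obtain ⟨rfl, rfl⟩ : p = 3 ∧ k = 2 := by
      by_contra e
      exact hc (isCyclic_of_prime_card (p := p) (by rw [hk, show k = 1 by omega, pow_one]))
    refine (Nat.le_of_dvd (by decide) (card_mulAut_dvd_of_card_le_sq (p := 3)
      (IsPGroup.isMulCommutative_of_card_eq_prime_sq hk) (fun v => by_contra fun e => hc ?_) hk.le)).trans_lt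
      (by decide)
    exact isCyclic_of_orderOf_eq_card v (hk ▸ orderOf_eq_prime_pow (n := 1) (by simpa using e)
      (hk ▸ pow_card_eq_one'))
  have d4 : 60 ≤ Nat.card (centralizer (P : Set G)) := by
    by_contra e
    refine hns ((Group.isSolvable_iff_subgroup_quotient (centralizer (P : Set G))).2
      ⟨sixty (by omega), sixty (lt_of_le_of_lt (Nat.le_of_dvd Nat.card_pos ?_) d3)⟩)
    have := relIndex_centralizer_dvd_card_mulAut (R := P) (A := ⊤) le_normalizer_of_normal
    rwa [relIndex_top_right] at this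
  have d5 : ∀ a ∈ P, a ≠ 1 → p = 3 ∧ (f a).1.IsThreeCycle := fun a ha a1 => by
    obtain ⟨j, hj⟩ := hP ⟨a, ha⟩
    refine three_cycle (k := j) (fun e => a1 (hf (Subtype.ext (by simpa using e)))) hp h2 (by
      rw [← coe_pow, ← map_pow, show a ^ p ^ j = 1 from congrArg Subtype.val hj, map_one, coe_one])
      (d4.trans (Nat.card_le_card_of_injective (fun x => ⟨(f x).1, mem_centralizer_singleton_iff.2 (by
        rw [← coe_mul, ← coe_mul, ← map_mul, ← map_mul, x.2 a ha])⟩) fun x y e =>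
          Subtype.ext (hf (Subtype.ext (Subtype.mk.inj e)))))
  obtain ⟨⟨a, ha⟩, a1⟩ := ne_bot_iff_exists_ne_one.1 h0
  obtain rfl := (d5 a ha fun e => a1 (Subtype.ext e)).1
  refine ⟨rfl, ?_, fun a ha a1 => (d5 a ha a1).2⟩
  by_contra e
  obtain rfl : k = 2 := by
    by_contra e'
    exact e (by rw [hk, show k = 1 by omega, pow_one])
  classical
  letI : MulAction P (Fin 8) := MulAction.compHom _ ((alternatingGroup _).subtype.comp (f.comp P.subtype))
  letI := Fintype.ofFinite P
  letI := Fintype.ofFinite (Quotient (MulAction.orbitRel P (Fin 8)))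
  have e1 := MulAction.sum_card_fixedBy_eq_card_orbits_mul_card_group P (Fin 8)
  have e2 : ∀ g : P, Fintype.card (MulAction.fixedBy (Fin 8) g) = 8 - (f g).1.support.card := fun g => by
    rw [Fintype.card_of_subtype (f g).1.supportᶜ fun x => by simp; rfl, Finset.card_compl, Fintype.card_fin]
  rw [← Finset.add_sum_erase _ _ (Finset.mem_univ 1), Finset.sum_congr rfl (g := fun _ => 5) fun g hg => by
    rw [e2, (d5 g g.2 fun e => Finset.ne_of_mem_erase hg (Subtype.ext e)).2.card_support],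
    Finset.sum_const, Finset.card_erase_of_mem (Finset.mem_univ _), Finset.card_univ, e2,
    ← Nat.card_eq_fintype_card (α := P), hk] at e1
  simp at e1
  omega

theorem part1 {G : Type*} [Group G] [Finite G] (f : G →* alternatingGroup (Fin 8))
    (hf : Function.Injective f) (hns : ¬ Group.IsSolvable G) (h0 : pCore 3 G ≠ ⊥) :
    Nat.card (pCore 3 G) = 3 ∧ (Nonempty (G ⧸ pCore 3 G ≃* alternatingGroup (Fin 5)) ∨
      Nonempty (G ⧸ pCore 3 G ≃* Perm (Fin 5))) := by
  classical
  obtain ⟨-, h1, h2⟩ := odd_core f hf hns Nat.prime_three (by decide) (pCore_isPGroup 3) h0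
  refine ⟨h1, ?_⟩
  set P := pCore 3 G with hP
  obtain ⟨⟨a, ha⟩, a1⟩ := ne_bot_iff_exists_ne_one.1 h0
  have a2 : a ≠ 1 := fun e => a1 (Subtype.ext e)
  have h3 : P = zpowers a := (eq_of_le_of_card_ge (zpowers_le.2 ha) (by
    rw [h1, Nat.card_zpowers, ← orderOf_injective f hf, ← orderOf_coe, (h2 a ha a2).orderOf])).symm
  have h4 : ∀ b ∈ P, ∀ x, (f a).1 x = x → (f b).1 x = x := by
    rw [h3]
    rintro _ ⟨k, rfl⟩ x hx
    simpa using Perm.zpow_apply_eq_self_of_apply_eq_self hx k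
  have h5 : ∀ g : G, ∀ x, (f a).1 x = x → (f a).1 ((f g).1 x) = (f g).1 x := fun g x hx => by
    have := h4 _ (Normal.conj_mem inferInstance a ha g⁻¹) x hx
    simpa [Equiv.symm_apply_eq] using this
  let φ : G →* Perm {x // (f a).1 x = x} := MonoidHom.mk' (fun g => (f g).1.subtypePerm fun x =>
    ⟨fun e => by simpa using h5 g⁻¹ _ e, h5 g x⟩) fun g h => Equiv.ext fun x => Subtype.ext (by
      show (f (g * h)).1 x = (f g).1 ((f h).1 x)
      rw [map_mul]; rfl)
  have h6 : φ.ker = P := le_antisymm (le_pCore inferInstance fun g => ⟨1, Subtype.ext (hf (Subtype.ext ?_))⟩)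
    fun b hb => Equiv.ext fun x => Subtype.ext (h4 b hb x x.2)
  · rcases alt_or_sym_of_inj (G := G ⧸ P) (n := 5) (by
      rw [Nat.card_eq_fintype_card, Fintype.card_of_subtype (f a).1.supportᶜ (by simp), Finset.card_compl,
        (h2 a ha a2).card_support]; rfl) (QuotientGroup.lift P φ h6.ge) (by
      rw [← MonoidHom.ker_eq_bot_iff, QuotientGroup.ker_lift, h6, Subgroup.map_eq_bot_iff,
        QuotientGroup.ker_mk']) (by
      by_contra e
      exact hns ((Group.isSolvable_iff_subgroup_quotient P).2 ⟨sixty (by omega), sixty (by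
        rw [show Nat.factorial 5 = 120 by decide] at e; omega)⟩)) with e | e
    exacts [Or.inl e.2, Or.inr e.2]
  have e1 : (f g).1.support.card ≤ 3 := (h2 a ha a2).card_support ▸ Finset.card_le_card fun x hx => by
    rw [Perm.mem_support] at hx ⊢
    exact fun e => hx (congrArg Subtype.val (Equiv.congr_fun (MonoidHom.mem_ker.1 g.2) ⟨x, e⟩))
  simp only [pow_one, coe_pow, map_pow, coe_one, map_one]
  by_cases e2 : (f g).1.support.card = 3
  · rw [← (card_support_eq_three_iff.1 e2).orderOf, pow_orderOf_eq_one]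
  have e3 : (f g).1.support.card ≠ 2 := fun e => by
    have := (Perm.card_support_eq_two.1 e).sign_eq
    rw [Perm.mem_alternatingGroup.1 (f g).2] at this
    exact absurd this (by decide)
  rw [(Perm.card_support_le_one (f := (f g).1)).1 (by omega), one_pow]

theorem s6_a8 : ∃ ψ : Perm (Fin 6) →* alternatingGroup (Fin 8), Function.Injective ψ := by
  let δ : ℤˣ →* Perm (Fin 2) := MonoidHom.mk' (fun u => if u = 1 then 1 else swap 0 1) (by decide)
  let ψ : Perm (Fin 6) →* Perm (Fin (6 + 2)) := (finSumFinEquiv.permCongrHom.toMonoidHom.comp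
    (Perm.sumCongrHom _ _)).comp ((MonoidHom.id _).prod (δ.comp Perm.sign))
  have h : ∀ u, Perm.sign (δ u) = u := by decide
  refine ⟨ψ.codRestrict _ fun σ => Perm.mem_alternatingGroup.2 (by simp [ψ, h]), fun a b e => ?_⟩
  exact congrArg Prod.fst (Perm.sumCongrHom_injective (finSumFinEquiv.permCongrHom.injective
    (congrArg Subtype.val e)))

theorem part2 {X : Type*} [Group X] [Finite X] (hc : IsPConstrained 2 X) (hO : oddCore X = ⊥)
    (h : SectionalPRankLE 2 4 X) (ψ : Perm (Fin 6) →* X ⧸ pCore 2 X) (hψ : Function.Injective ψ) : False := by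
  have hQ2 : IsPGroup 2 (pCore 2 X) := pCore_isPGroup 2
  have hC : centralizer (pCore 2 X : Set X) ≤ pCore 2 X := (isPConstrained_iff_of_eq_bot hO).1 hc
  let W := (frattini (pCore 2 X)).map (pCore 2 X).subtype
  let e := QuotientGroup.quotientQuotientEquivQuotient W (pCore 2 X) (map_subtype_le _)
  refine no_s6 ((sect_of_sectional h).quotient W) (V := (pCore 2 X).map (QuotientGroup.mk' W)) (by
    rintro _ ⟨x, hx, rfl⟩
    rw [← map_pow]
    exact (QuotientGroup.eq_one_iff _).2 (pow_mem_map_frattini hQ2 hx)) (fun x hx => ?_)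
    (e.symm.toMonoidHom.comp ψ) (e.symm.injective.comp hψ)
  obtain ⟨x, rfl⟩ := QuotientGroup.mk_surjective x
  refine ⟨x, le_pCore (N := (autQuot (frattini _)).ker.comap (MulAut.conjNormal (H := pCore 2 X)))
    inferInstance ((isPGroup_ker_autQuot_frattini hQ2).comap_of_ker_isPGroup _ (hQ2.to_le fun x hx =>
      hC (mem_centralizer_iff.2 fun y hy => ?_))) ((autQuot_eq_one_iff _).2 fun y => ?_), rfl⟩
  · have := congrArg (fun a : MulAut (pCore 2 X) => ((a ⟨y, hy⟩ : pCore 2 X) : X)) (MonoidHom.mem_ker.1 hx)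
    simp only [MulAut.conjNormal_apply, MulAut.one_apply] at this
    exact (mul_inv_eq_iff_eq_mul.1 this).symm
  · refine (mem_map_iff_mem (pCore 2 X).subtype_injective).1 (QuotientGroup.eq.1 ?_)
    exact (mul_inv_eq_iff_eq_mul.2 (hx _ ⟨y, y.2, rfl⟩).symm).symm

/-- Let X be a finite nonsolvable 2-constrained group with no nontrivial normal subgroup of odd order such that O₂(X) has sectional 2-rank at most 4, and write Q for X/O₂(X). Then Q is isomorphic to the projective special linear group of dimension 3 over the field with 2 elements, to an alternating group of degree n with 5 ≤ n ≤ 8, to a symmetric group of degree n with 5 ≤ n ≤ 7, or else O₃(Q) has order 3 and Q/O₃(Q) is isomorphic to the alternating or the symmetric group of degree 5 (so Q is the direct product of a group of order 3 with the alternating group of degree 5, or an extension of that direct product by a group of order 2). If moreover X itself has sectional 2-rank at most 4, then Q is not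 isomorphic to the symmetric group of degree 6 or 7 nor to the alternating group of degree 8. -/
theorem result {X : Type*} [Group X] [Finite X] (hns : ¬ Group.IsSolvable X) (hc : Cfsg.IsPConstrained 2 X) (hO : Cfsg.oddCore X = ⊥)
    (h4 : Cfsg.SectionalPRankLE 2 4 ↥(Cfsg.pCore 2 X)) :
    ((∃ (F : Type) (_ : Field F) (_ : Fintype F), Fintype.card F = 2 ∧
          Nonempty (X ⧸ Cfsg.pCore 2 X ≃* Matrix.ProjectiveSpecialLinearGroup (Fin 3) F)) ∨
        (∃ n : ℕ, 5 ≤ n ∧ n ≤ 8 ∧ Nonempty (X ⧸ Cfsg.pCore 2 X ≃* ↥(alternatingGroup (Fin n)))) ∨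
        (∃ n : ℕ, 5 ≤ n ∧ n ≤ 7 ∧ Nonempty (X ⧸ Cfsg.pCore 2 X ≃* Equiv.Perm (Fin n))) ∨
        (Nat.card ↥(Cfsg.pCore 3 (X ⧸ Cfsg.pCore 2 X)) = 3 ∧
          (Nonempty ((X ⧸ Cfsg.pCore 2 X) ⧸ Cfsg.pCore 3 (X ⧸ Cfsg.pCore 2 X) ≃* ↥(alternatingGroup (Fin 5))) ∨
            Nonempty ((X ⧸ Cfsg.pCore 2 X) ⧸ Cfsg.pCore 3 (X ⧸ Cfsg.pCore 2 X) ≃* Equiv.Perm (Fin 5))))) ∧
      (Cfsg.SectionalPRankLE 2 4 X →
        ¬ (Nonempty (X ⧸ Cfsg.pCore 2 X ≃* Equiv.Perm (Fin 6)) ∨ Nonempty (X ⧸ Cfsg.pCore 2 X ≃* Equiv.Perm (Fin 7)) ∨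
            Nonempty (X ⧸ Cfsg.pCore 2 X ≃* ↥(alternatingGroup (Fin 8))))) := by
  refine ⟨?_, fun h => ?_⟩
  · obtain ⟨f, hf⟩ := S3103.result hc hO h4
    have hn : ¬ Group.IsSolvable (X ⧸ pCore 2 X) := fun e => hns
      ((Group.isSolvable_iff_subgroup_quotient _).2 ⟨haveI := (pCore_isPGroup (G := X) 2).isNilpotent; inferInstance, e⟩)
    by_cases h3 : pCore 3 (X ⧸ pCore 2 X) = ⊥
    swap
    · exact Or.inr (Or.inr (Or.inr (part1 f hf hn h3)))
    haveI : Nontrivial (X ⧸ pCore 2 X) := not_subsingleton_iff_nontrivial.1 fun _ => hn inferInstance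
    rcases classify_A8 f hf (fun N _ hN => by_contra fun e => by
      obtain ⟨P, p, _, a1, -, a2, a3⟩ := exists_normal_pGroup_le N (Group.isSolvable_of_comm hN.1.1) e
      by_cases e2 : p = 2
      · subst e2
        exact a1 (le_bot_iff.1 ((le_pCore ‹_› a3).trans (pCore_quotient_pCore 2).le))
      · obtain ⟨rfl, -⟩ := odd_core f hf hn a2 e2 a3 a1
        exact a1 (le_bot_iff.1 ((le_pCore ‹_› a3).trans h3.le))) with e | e | e | ⟨e1, e2⟩
    · exact Or.inr (Or.inl e)
    · exact Or.inr (Or.inr (Or.inl ⟨5, le_rfl, by omega, e⟩))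
    · exact Or.inr (Or.inr (Or.inl ⟨6, by omega, by omega, e⟩))
    · haveI : Fact (Nat.Prime 7) := ⟨by norm_num⟩
      haveI := Mix26.ru_gl
      obtain ⟨a⟩ := S0495.result e2 (ZMod.card 7)
      obtain ⟨b⟩ := S0495.result Mix26.ru_c3 (ZMod.card 7)
      obtain ⟨c⟩ := gl_equiv_psl (ι := Fin 3) (F := ZMod 2) (Nat.card_zmod 2)
      exact Or.inl ⟨ZMod 2, inferInstance, inferInstance, rfl, ⟨a.trans (b.symm.trans c)⟩⟩
  · rintro (⟨⟨e⟩⟩ | ⟨⟨e⟩⟩ | ⟨⟨e⟩⟩)
    · exact part2 hc hO h e.symm.toMonoidHom e.symm.injective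
    · exact part2 hc hO h (e.symm.toMonoidHom.comp (Perm.viaEmbeddingHom Fin.castSuccEmb))
        (e.symm.injective.comp (Perm.viaEmbeddingHom_injective _))
    · obtain ⟨ψ, hψ⟩ := s6_a8
      exact part2 hc hO h (e.symm.toMonoidHom.comp ψ) (e.symm.injective.comp hψ)

end Cfsg.Agent.S3104
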