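import Mathlib
import Cfsg.Statements.S3105
import Cfsg.Agent.GH4.H
import Cfsg.Agent.S3106
import Cfsg.Agent.FGS.A8
import Cfsg.Agent.S0249

set_option autoImplicit false
open Cfsg

namespace Cfsg.Agent.S3105

open Subgroup Cfsg.Agent.Core Cfsg.Agent.PGrp Cfsg.Agent.GH4

theorem aux {X : Type*} [Group X] [Finite X] {Q : Subgroup X} [Q.Normal] (hp : IsPGroup 2 Q)
    (hC : centralizer (Q : Set X) ≤ Q) (h : Sect 2 4 X) (hs : IsSimpleGroup (X ⧸ Q)) (hi : Q.index = 168) :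
    (IsElementaryAbelian 2 Q ∧ (Nat.card Q = 8 ∨ Nat.card Q = 16)) ∨
      Nonempty (Q ≃* Multiplicative (ZMod 4) × (Fin 3 → Multiplicative (ZMod 2))) := by
  haveI : Fact (Nat.Prime 7) := ⟨by norm_num⟩
  obtain ⟨r0, h0⟩ := exists_prime_orderOf_dvd_card' (G := X ⧸ Q) 7 (by rw [← index_eq_card, hi]; decide)
  obtain ⟨r, r1, r7⟩ := lift_odd hp (by decide : Odd 7) r0 (h0 ▸ pow_orderOf_eq_one r0)
  have r2 : r ∉ Q := fun e => by rw [← r1, (QuotientGroup.eq_one_iff r).2 e] at h0; simp at h0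
  obtain ⟨K, c, t, c4⟩ := main7 _ X rfl Q r ⟨hp, fun C hC hQ => ((hC.map _ (QuotientGroup.mk'_surjective
    Q)).eq_bot_or_eq_top).imp (fun e x hx => (QuotientGroup.eq_one_iff x).1 (e.le ⟨x, hx, rfl⟩))
      fun e => eq_top_iff.2 fun x _ => (mem_mq hQ).1 (e.ge (mem_top _)), hi, h, r7, r2⟩
    fun e => r2 (hC fun x hx => mem_centralizer_singleton_iff.1 (e hx))
  haveI ab : IsMulCommutative Q := ⟨⟨fun a b => Subtype.ext (t.ab a a.2 b b.2)⟩⟩
  by_cases c2 : c ^ 2 = 1
  · have q2 : ∀ a ∈ Q, a ^ 2 = 1 := fun a ha => by_contra fun e => e ((t.two c4 ha e).trans c2)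
    have e1 := sect2 h (N := ⊥) (K := Q) bot_le (by simpa using q2)
    have e2 := card_dvd_of_le t.le
    have e3 := Nat.card_pos (α := Q)
    rw [relIndex_bot_left] at e1
    rw [t.card] at e2
    exact Or.inl ⟨⟨ab, q2⟩, by omega⟩
  have zQ := zpowers_le.2 t.mem
  haveI : IsMulCommutative K := ⟨⟨fun a b => Subtype.ext (vcomm t.sq a a.2 b b.2)⟩⟩
  obtain ⟨n, ⟨e⟩⟩ := BG.RepGlue.exists_mulEquiv (p := 2) (V := K) fun w => Subtype.ext (t.sq w w.2)
  obtain rfl : n = 3 := (Nat.pow_right_injective (le_refl 2)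
    (show 2 ^ 3 = 2 ^ n from t.card.symm.trans (BG.RepGlue.card_of_mulEquiv e))).symm
  obtain ⟨f⟩ := nonempty_equiv_prod ((zpowers c).subgroupOf Q) (K.subgroupOf Q)
    (disjoint_iff_inf_le.2 fun x hx => hx.1.elim fun n hn => Subtype.ext (t.fpf x hx.2 (by
      rw [show (x : X) = c ^ n from hn.symm, ← conj_zpow, t.fix]))) (eq_top_iff.2 fun x _ => by
      obtain ⟨k, hk, n, e⟩ := t.gen x x.2
      rw [show x = ⟨k, t.le hk⟩ * ⟨c ^ n, Q.zpow_mem t.mem n⟩ from Subtype.ext e]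
      exact mul_mem (mem_sup_right hk) (mem_sup_left ⟨n, rfl⟩))
  have o4 : Nat.card (zpowers c) = Nat.card (Multiplicative (ZMod 4)) := by
    rw [Nat.card_zpowers, orderOf_eq_prime_pow (p := 2) (n := 1) (by simpa using c2) c4]; simp
  exact Or.inr ⟨f.trans (((subgroupOfEquivOfLe zQ).trans (mulEquivOfCyclicCardEq o4)).prodCongr
    (((subgroupOfEquivOfLe t.le).trans e).trans (MulEquiv.piMultiplicative _)))⟩

/-- Let X be a finite nonsolvable 2-constrained group with no nontrivial normal subgroup of odd order and of sectional 2-rank at most 4, and suppose X/O₂(X) is isomorphic to the projective special linear group of dimension 3 over the field with 2 elements. Then O₂(X) is elementary abelian of order 8 or 16, or is isomorphic to the direct product of a cyclic group of order 4 and an elementary abelian group of order 8. -/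
theorem result {X : Type*} [Group X] [Finite X] (hns : ¬ Group.IsSolvable X) (hc : Cfsg.IsPConstrained 2 X) (hO : Cfsg.oddCore X = ⊥)
    (h4 : Cfsg.SectionalPRankLE 2 4 X) {F : Type*} [Field F] [Fintype F] (hF : Fintype.card F = 2)
    (hQ : Nonempty (X ⧸ Cfsg.pCore 2 X ≃* Matrix.ProjectiveSpecialLinearGroup (Fin 3) F)) :
    (Cfsg.IsElementaryAbelian 2 (Cfsg.pCore 2 X) ∧ (Nat.card ↥(Cfsg.pCore 2 X) = 8 ∨ Nat.card ↥(Cfsg.pCore 2 X) = 16)) ∨
      Nonempty (↥(Cfsg.pCore 2 X) ≃* Multiplicative (ZMod 4) × (Fin 3 → Multiplicative (ZMod 2))) := by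
  obtain ⟨e⟩ := hQ
  obtain ⟨f⟩ := FGS.gl_equiv_psl (ι := Fin 3) (F := F) (Nat.card_eq_fintype_card.trans hF)
  haveI := S0249.result (F := F) 3 le_rfl
  refine aux (pCore_isPGroup 2) ((isPConstrained_iff_of_eq_bot hO).1 hc) (sect_of_sectional h4)
    e.isSimpleGroup ?_
  rw [index_eq_card, Nat.card_congr (e.trans f.symm).toEquiv, Matrix.card_GL_field, hF]
  simp [Fin.prod_univ_succ]

end Cfsg.Agent.S3105
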