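import Mathlib
import Cfsg.Statements.S3110
import Cfsg.Agent.Comp2.Wcore2

set_option autoImplicit false
open Cfsg

namespace Cfsg.Agent.S3110

open Cfsg.Agent.Comp2

open Cfsg.Agent.BG Subgroup
open Cfsg.Agent.BG.Rank hiding elem_comm elem_le_centralizer centralizer_zpowers
open scoped Pointwise

/-- Let G be a finite group in which every 2-local subgroup is 2-constrained and some Sylow 2-subgroup has a self-centralizing abelian normal subgroup of 2-rank at least 3, and let S be any Sylow 2-subgroup of G. Then there is a subgroup W of G of odd order such that, for every subgroup B of S of 2-rank at least 2, W is generated by the largest normal odd-order subgroups O(C_G(b)) of the centralizers of the non-identity elements b of B, and W is normalized by the normalizer of every such B. -/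
theorem result {G : Type*} [Group G] [Finite G]
    (h2c : ∀ T : Subgroup G, IsPGroup 2 T → T ≠ ⊥ → Cfsg.IsPConstrained 2 ↥(Subgroup.normalizer (T : Set G)))
    (S : Sylow 2 G) (A : Subgroup ↥(S : Subgroup G)) (hAn : A.Normal) (hAab : IsMulCommutative ↥A)
    (hAC : Subgroup.centralizer (A : Set ↥(S : Subgroup G)) = A) (hA3 : ¬ Cfsg.PRankLE 2 2 ↥A) (S' : Sylow 2 G) :
    ∃ W : Subgroup G, Odd (Nat.card ↥W) ∧
      ∀ B : Subgroup G, B ≤ (S' : Subgroup G) → ¬ Cfsg.PRankLE 2 1 ↥B →
        W = (⨆ b : {b : G // b ∈ B ∧ b ≠ 1}, Cfsg.centralizerPPrimeCore 2 (b : G)) ∧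
        Subgroup.normalizer (B : Set G) ≤ Subgroup.normalizer (W : Set G) := by
  obtain ⟨E, hE, h8, hES, hn⟩ := exists_normal_eight_sylow S A hAn hAab hA3 S'
  have h := eqF_core_two (G := G) fun a ha => constrained_of_locals h2c ha.1
  have key := fun B hB h4 hBS => h.clo_of_normal_eight (B := B) S'.isPGroup' hE h8 hES hn hB h4 hBS
  refine ⟨signalizerClosure E (centralizerPPrimeCore 2), Nat.not_even_iff_odd.1 fun he =>
    (h.clo_spec (vert_self hE h8)).1 (even_iff_two_dvd.1 he), fun B hBS hB => ?_⟩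
  obtain ⟨B₀, hB₀, he, hc⟩ := not_pRankLE_iff.1 hB
  obtain ⟨hV, hW⟩ := key B₀ he hc.ge (hB₀.trans hBS)
  refine ⟨le_antisymm ?_ (iSup_le fun b => ?_), fun g hg => ?_⟩
  · rw [← hW]
    exact clo_le fun a ha ha1 => le_clo (E := B) (hB₀ ha) ha1
  · obtain ⟨t, ht, ht2⟩ := exists_orderOf_eq_of_isPGroup (T := zpowers (b : G))
      (S'.isPGroup'.to_le ((zpowers_le.2 b.2.1).trans hBS)) (by rw [Ne, zpowers_eq_bot]; exact b.2.2)
    have ht1 : t ≠ 1 := by rintro rfl; simp at ht2
    obtain ⟨k, hk⟩ := (IsPGroup.iff_orderOf.1 S'.isPGroup') ⟨b, hBS b.2.1⟩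
    rw [← orderOf_coe] at hk
    have h1 := centralizerPPrimeCore_inf_le_of_constrained (a := (b : G)) (b := t) hk
      (Amb.commute_of_mem_zpowers (mem_zpowers _) ht).eq (constrained_of_locals h2c ht2)
    have h2 : centralizerPPrimeCore 2 (b : G) ≤ centralizerPPrimeCore 2 t :=
      (le_inf le_rfl ((centralizerPPrimeCore_le _).trans
        (Amb.centralizer_le_centralizer_of_mem_zpowers ht))).trans h1
    obtain ⟨B₁, hB₁, htB⟩ := exists_pnElem_two_ge (p := 2) (X := zpowers t) (H := S')
      (by rw [Nat.card_zpowers, ht2]) (((zpowers_le.2 ht).trans (zpowers_le.2 b.2.1)).trans hBS)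
      (not_pRankLE_mono hB hBS)
    rw [← (key B₁ hB₁.2.1 hB₁.2.2.ge hB₁.1).2]
    exact h2.trans (le_clo (htB (mem_zpowers t)) ht1)
  · rw [Amb.mem_normalizer_iff_conj]
    conv_lhs => rw [← hW, ← h.clo_conj hV]
    exact (key _ (elem_conj he g) (by rw [Amb.card_conj]; exact hc.ge)
      ((Amb.conj_le_of_mem_normalizer hg hB₀).trans hBS)).2

end Cfsg.Agent.S3110
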