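import Cfsg.Statements.S3121
import Cfsg.Agent.Asc.Cons2
import Cfsg.Agent.Comp2.GenFitting

set_option autoImplicit false
open Cfsg

namespace Cfsg.Agent.S3121

open Subgroup MulAction Cfsg.Agent.Ben Cfsg.Agent.Core Cfsg.Agent.Asc
open scoped Pointwise commutatorElement

/-- Let G be a finite group whose generalized Fitting subgroup F*(G) is a non-abelian simple group, let H be a tightly embedded subgroup of G and N its normalizer. If H^g ∩ N has odd order for every element g of G outside N, then either H is normal in G or F*(G) has a strongly embedded subgroup. -/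
theorem result {G : Type*} [Group G] [Finite G]
    (hF : IsSimpleGroup ↥(Cfsg.generalizedFittingSubgroup G)) (hF' : ¬ IsMulCommutative ↥(Cfsg.generalizedFittingSubgroup G))
    (H : Subgroup G) (hH : Cfsg.IsTightlyEmbedded H)
    (hodd : ∀ g : G, g ∉ Subgroup.normalizer (H : Set G) →
      Odd (Nat.card ↥(H.map (MulAut.conj g).toMonoidHom ⊓ Subgroup.normalizer (H : Set G)))) :
    H.Normal ∨ ∃ M : Subgroup ↥(Cfsg.generalizedFittingSubgroup G), Cfsg.IsStronglyEmbedded M := by
  refine or_iff_not_imp_left.2 fun hn => ?_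
  have hG := zs_tight hH.1 hn hodd
  have hC := Comp2.centralizer_genFitting_le (G := G)
  have hN := Comp2.genFitting_normal (G := G)
  have he := even_of_simple hF'
  generalize generalizedFittingSubgroup G = F at *
  have key : ∀ N : Subgroup G, N.Normal → N = ⊥ ∨ F ≤ N := fun N h => by
    rcases (inferInstance : (N.subgroupOf F).Normal).eq_bot_or_eq_top with e | e
    · rw [subgroupOf_eq_bot, disjoint_iff] at e
      refine Or.inl (eq_bot_iff.2 (e ▸ le_inf le_rfl (le_trans ?_ hC)))
      rw [← commutator_eq_bot_iff_le_centralizer, eq_bot_iff, ← e]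
      exact commutator_le_inf N F
    · exact Or.inr (subgroupOf_eq_top.1 e)
  obtain ⟨a, b, hab⟩ := hG.nontriv
  obtain ⟨z, hz⟩ := hG.nonempty
  have hker : ∀ x ∈ (toPermHom G (G ⧸ normalizer (H : Set G))).ker, x ∉ ZR H := fun x hx h =>
    hab (hG.uniq x h a b (congrArg (fun e : Equiv.Perm _ => e a) (MonoidHom.mem_ker.1 hx))
      (congrArg (fun e : Equiv.Perm _ => e b) (MonoidHom.mem_ker.1 hx)))
  have hnn : ∀ g : G, g ∈ normalizer ((toPermHom G (G ⧸ normalizer (H : Set G))).ker : Set G) := fun g => by
    rw [normalizer_eq_top_iff.2 inferInstance]; trivial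
  have hf : ¬ F ≤ (toPermHom G (G ⧸ normalizer (H : Set G))).ker := fun h => by
    rcases key _ (normal_of_le_normalizer fun g _ => norm_le_norm_Op 2 _ (hnn g)) with e | e
    · refine hker z (h (hC fun x hx => ?_)) hz
      have := hG.zstar hker hz (hnn z) (h hx)
      rw [e, mem_bot] at this
      exact (commutatorElement_eq_one_iff_mul_comm.1 this).symm
    · exact Nat.not_even_iff_odd.2 ((odd_Op _).of_dvd_nat (card_dvd_of_le e)) he
  obtain ⟨s, hs, s1, s2⟩ := RankOne.exists_involution_mem he
  obtain ⟨c, hc⟩ := hG.exists_fix_of_sq s2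
  refine ⟨_, hG.toZW.isSE_of ((key _ hG.toZW.normal_closure).resolve_left fun e =>
    hG.ne_one z hz (mem_bot.1 (e ▸ subset_closure hz))) (fun h => hf fun x hx => ?_) hs hc s1 s2
    fun u _ _ h => ?_⟩
  · refine MonoidHom.mem_ker.2 (Equiv.ext fun d => ?_)
    obtain ⟨g, rfl⟩ := hG.trans c d
    have : (g⁻¹ * x * g) • c = c := h (by simpa using hN.conj_mem x hx g⁻¹)
    rwa [mul_smul, mul_smul, inv_smul_eq_iff] at this
  · exact mem_bot.1 (((key _ inferInstance).resolve_right hf) ▸
      (MonoidHom.mem_ker.2 (Equiv.ext h) : u ∈ (toPermHom G (G ⧸ normalizer (H : Set G))).ker))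

end Cfsg.Agent.S3121
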