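import Mathlib
import Cfsg.Statements.S3156
import Cfsg.Agent.Inv.U34

set_option autoImplicit false
open Cfsg

namespace Cfsg.Agent.S3156

theorem tri_map {A B : Type*} [Group A] [Group B] (e : A ≃* B) {α : MulAut A} {w : A} (h : Inv.Tri α w) :
    Inv.Tri (MulAut.congr e α) (e w) := by
  refine ⟨h.pg.of_equiv e, by simpa using h.ne_one, by rw [← map_mul, h.sq, map_one], by simpa using h.ne,
    fun x hx => ?_⟩
  obtain ⟨y, rfl⟩ := e.surjective x
  have := h.inv y (e.injective (by rw [map_mul, hx, map_one]))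
  simpa using this

theorem eq_one_of_cube {T : Type*} [Group T] [Finite T] {α : MulAut T} {w : T} (h : Inv.Tri α w)
    (hna : ∃ x y : T, ¬ Commute x y) {β : MulAut T} (h3 : β ^ 3 = 1) (hW : ∀ u, u * u = 1 → β u = u) :
    β = 1 := by
  ext y
  have h4 := h.exp_four' hna
  have e3 : β (β (β y)) = y := by
    have := congrArg (fun γ : MulAut T => γ y) h3
    simpa [pow_succ] using this
  have e1 : (y⁻¹ * β y) * β (y⁻¹ * β y) = (β (β (y⁻¹ * β y)))⁻¹ := by
    simp only [map_mul, map_inv, e3]; group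
  have hv := h.noQ hna (x := y⁻¹ * β y) (y := β (y⁻¹ * β y)) (by rw [← map_mul, hW _ (h4 _)])
    (by rw [e1, ← mul_inv_rev, ← map_mul, ← map_mul, hW _ (h4 _), hW _ (h4 _), Inv.Tri.inv_eq_of_sq (h4 _)])
  exact Inv.Tri.odd_fix h.pg (by decide : Odd 3) h3 (hW _ hv)

/-- If a finite group T is isomorphic to a Sylow 2-subgroup of the projective special unitary group of dimension 3 with parameter 4 (realised over the field with 16 elements), then no subgroup of the automorphism group of T is isomorphic to the symmetric group of degree 3. -/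
theorem result {T : Type*} [Group T] [Finite T] (hT : (∃ (F : Type) (_ : Field F) (_ : Fintype F), Fintype.card F = 16 ∧ ∃ S : Sylow 2 (Cfsg.PSU 3 F 4), Nonempty (T ≃* ↥(S : Subgroup (Cfsg.PSU 3 F 4))))) (H : Subgroup (MulAut T)) : ¬ Nonempty (↥H ≃* Equiv.Perm (Fin 3)) := by
  obtain ⟨F, _, _, hF, S, ⟨e⟩⟩ := hT
  obtain ⟨hfin, ⟨x, y, hxy⟩, φ, w, h⟩ := Inv.psu34_tri hF S
  have h := tri_map e.symm h
  have hna : ∃ x y : T, ¬ Commute x y := ⟨e.symm x, e.symm y, fun hc => hxy (by simpa using hc.map e)⟩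
  rintro ⟨f⟩
  have hfix : ∀ τ : H, τ * τ = 1 → ∀ u : T, u * u = 1 → (τ : MulAut T) u = u := by
    intro τ hτ u hu
    refine h.no_swap hna (fun x => ?_) hu
    rw [← MulAut.mul_apply, ← Subgroup.coe_mul, hτ]; rfl
  have h1 := hfix (f.symm (Equiv.swap 0 1)) (by rw [← map_mul]; simp)
  have h2 := hfix (f.symm (Equiv.swap 1 2)) (by rw [← map_mul]; simp)
  have h3 := eq_one_of_cube h hna (β := (f.symm (Equiv.swap 0 1 * Equiv.swap 1 2) : H))
    (by rw [← Subgroup.coe_pow, ← map_pow, show (Equiv.swap (0 : Fin 3) 1 * Equiv.swap 1 2) ^ 3 = 1 by decide,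
      map_one]; rfl)
    (fun u hu => by rw [map_mul, Subgroup.coe_mul, MulAut.mul_apply, h2 u hu, h1 u hu])
  have h4 : f.symm (Equiv.swap 0 1 * Equiv.swap 1 2) = 1 := Subtype.ext h3
  rw [map_eq_one_iff _ f.symm.injective] at h4
  exact absurd h4 (by decide)

end Cfsg.Agent.S3156
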