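import Mathlib
import Cfsg.Agent.GC.NC
import Cfsg.Agent.GC.U5
import Cfsg.Statements.S3170
-- import your own Cfsg.Agent.* helpers here

set_option autoImplicit false
open Cfsg

namespace Cfsg.Agent.S3170

open Subgroup Cfsg.Agent.GC Cfsg.Agent.LocalEven Cfsg.Agent.BG
open scoped commutatorElement

theorem le_central {G : Type*} [Group G] [Finite G] {p : ℕ} [Fact p.Prime] (h0 : pPrimeCore p G = ⊥) {K V : Subgroup G}
    [K.Normal] (hV : IsSylowIn p V K) (hc : K ≤ 𝐂(V)) : K ≤ V := by
  have hP : 𝐍((hV.toSylow : Subgroup K)) ≤ 𝐂((hV.toSylow : Subgroup K)) :=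
    fun g _ x hx => Subtype.ext (hc g.2 x hx)
  have c := MonoidHom.ker_transferSylow_isComplement' hV.toSylow hP
  have h1 : (MonoidHom.transferSylow hV.toSylow hP).ker ≤ pPrimeCore p K :=
    Core.le_pPrimeCore inferInstance (by
      rw [← c.index_eq_card]
      exact ((Nat.Prime.coprime_iff_not_dvd Fact.out).2 hV.toSylow.not_dvd_index).symm)
  have h2 : (pPrimeCore p K).map K.subtype ≤ ⊥ := h0 ▸ Core.map_pPrimeCore_subtype_le p K
  intro k hk
  obtain ⟨⟨n, x⟩, e⟩ := c.2 (⟨k, hk⟩ : K)
  rw [show k = (n : K) * (x : K) from (congrArg Subtype.val e).symm,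
    mem_bot.1 (h2 ⟨n, h1 n.2, rfl⟩ : ((n : K) : G) ∈ ⊥), one_mul]
  exact x.2

/-- Let H be a finite group with no nontrivial normal subgroup of odd order whose Sylow 2-subgroup T is isomorphic to a Sylow 2-subgroup of the Mathieu group of degree 24, and suppose that the centre of T lies in the centre of H. If E is a subgroup of T that is normal in T and extraspecial of order 2^7, and E is the only such subgroup of T, then E is normal in H. -/
theorem result {H : Type*} [Group H] [Finite H]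
    (hO : Cfsg.oddCore H = ⊥) (T : Sylow 2 H) (P : Sylow 2 ↥Cfsg.M24)
    (hT : Nonempty (↥(T : Subgroup H) ≃* ↥(P : Subgroup ↥Cfsg.M24)))
    (hZ : ∀ z ∈ (T : Subgroup H), (∀ t ∈ (T : Subgroup H), z * t = t * z) → z ∈ Subgroup.center H)
    (E : Subgroup H) (hE : E ≤ (T : Subgroup H)) (hEn : (E.subgroupOf (T : Subgroup H)).Normal)
    (hEx : Cfsg.IsExtraspecial 2 ↥E) (hE7 : Nat.card ↥E = 2 ^ 7)
    (huniq : ∀ E' : Subgroup H, E' ≤ (T : Subgroup H) → (E'.subgroupOf (T : Subgroup H)).Normal →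
      Cfsg.IsExtraspecial 2 ↥E' → Nat.card ↥E' = 2 ^ 7 → E' = E) :
    E.Normal := by
  obtain ⟨e1⟩ := hT
  obtain ⟨e2⟩ := U5.equiv_M24 P
  obtain ⟨e3⟩ := quot_equiv (e1.trans e2)
  set Z := (center (T : Subgroup H)).map (T : Subgroup H).subtype with hZd
  have hZc : Z ≤ center H := by
    rintro _ ⟨z, hz, rfl⟩
    exact hZ z z.2 fun t ht => congrArg Subtype.val (mem_center_iff.1 hz ⟨t, ht⟩).symm
  haveI : Z.Normal := ⟨fun z hz g => by rwa [mem_center_iff.1 (hZc hz) g, mul_inv_cancel_right]⟩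
  have hZ2 : Nat.card Z = 2 := by
    rw [card_map_subtype]
    exact (Nat.card_congr (Subgroup.centerCongr (e1.trans e2)).toEquiv).trans U5.card_center
  have hZp : IsPGroup 2 Z := .of_card (n := 1) hZ2
  let π := QuotientGroup.mk' Z
  have hri : ∀ K : Subgroup H, Z.relIndex K = Nat.card (K.map π) := fun K =>
    (congrArg (fun X : Subgroup H => X.relIndex K) (QuotientGroup.ker_mk' Z).symm).trans (relIndex_ker _ _)
  let f := π.comp (T : Subgroup H).subtype
  have hk : f.ker = center (T : Subgroup H) := by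
    ext x
    rw [MonoidHom.mem_ker, MonoidHom.comp_apply, QuotientGroup.mk'_apply, QuotientGroup.eq_one_iff]
    exact mem_map_subtype
  have hr : (T : Subgroup H).map π = f.range := by rw [MonoidHom.range_comp, range_subtype]
  have hS : IsSylowIn 2 ((T : Subgroup H).map π) ⊤ :=
    map_top_of_surjective π (QuotientGroup.mk'_surjective Z) ▸ (isSylowIn_top T).map π
  obtain ⟨B, j, h⟩ := tz_of hS ((((MulEquiv.subgroupCongr hr).trans (QuotientGroup.quotientKerEquivRange f).symm).trans
    (QuotientGroup.quotientMulEquivOfEq hk)).trans e3)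
  have h0 : oddCore (H ⧸ Z) = ⊥ := by
    have hle : Z ≤ (oddCore (H ⧸ Z)).comap π := fun z hz => by
      rw [mem_comap, (QuotientGroup.eq_one_iff z).2 hz |> (QuotientGroup.mk'_apply Z z).trans]; exact one_mem _
    have := le_central hO (K := (oddCore (H ⧸ Z)).comap π) (isSylowIn_of_not_dvd hle hZp (by
      rw [hri, map_comap_eq_self_of_surjective (QuotientGroup.mk'_surjective Z)]
      exact Core.not_dvd_card_pPrimeCore Nat.prime_two)) fun g _ z hz => (mem_center_iff.1 (hZc hz) g).symm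
    refine eq_bot_iff.2 fun y hy => ?_
    obtain ⟨y, rfl⟩ := QuotientGroup.mk'_surjective _ y
    exact (QuotientGroup.eq_one_iff y).2 (this hy)
  have hn := h.normal
  rw [h0, sup_bot_eq] at hn
  have hc : Nat.card ((center E).map E.subtype) = 2 := by rw [card_map_subtype, hEx.2]
  obtain ⟨z, hz1, hz2, ho⟩ := exists_mem_inf_centralizer (P := (T : Subgroup H)) (N := (center E).map E.subtype) T.isPGroup'
    (.of_card (n := 1) hc) ((le_normalizer_of_normal_subgroupOf hE).trans (normalizer_le_normalizer_map_subtype _))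
    (Gs.ne_bot_of_card hc.ge)
  have z1 : z ≠ 1 := fun e => by rw [e, orderOf_one] at ho; omega
  have zZ : z ∈ Z := ⟨⟨z, hE (map_subtype_le _ hz1)⟩, mem_center_iff.2 fun g => Subtype.ext (hz2 g g.2), rfl⟩
  have key : ∀ K : Subgroup H, Nat.card K = 2 → z ∈ K → zpowers z = K := fun K h1 h2 =>
    eq_of_le_of_card_ge (zpowers_le.2 h2) (by
      rw [h1]; exact (one_lt_card_iff_ne_bot _).2 (zpowers_ne_bot.2 z1))
  have eZ : (center E).map E.subtype = Z := (key _ hc hz1).symm.trans (key _ hZ2 zZ)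
  have hle : Z ≤ E := eZ ▸ map_subtype_le _
  have eB : E.map π = B := h.uniq (map_mono hE) (by
    rintro _ ⟨x, hx, rfl⟩ _ ⟨y, hy, rfl⟩
    rw [← commutatorElement_eq_one_iff_mul_comm, ← map_commutatorElement, QuotientGroup.mk'_apply,
      QuotientGroup.eq_one_iff, ← eZ, ← hEx.1.2.2]
    exact ⟨⁅⟨y, hy⟩, ⟨x, hx⟩⁆, commutator_mem_commutator (mem_top _) (mem_top _), rfl⟩) (by
    have := card_mul_relIndex hle
    rw [hZ2, hE7, hri] at this
    omega)
  rw [← comap_map_eq_self (f := π) (H := E) (by rwa [QuotientGroup.ker_mk']), eB]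
  infer_instance

end Cfsg.Agent.S3170
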