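import Mathlib
import Cfsg.Agent.GC.U5
import Cfsg.Agent.PGrp.Basic
import Cfsg.Statements.S3171
-- import your own Cfsg.Agent.* helpers here

set_option autoImplicit false
open Cfsg

namespace Cfsg.Agent.S3171

open Subgroup Cfsg.Agent.GC Cfsg.Agent.GC.M9

/-- The commuting condition. -/
def cm (g z : M9) : Bool := g * z = z * g

theorem key : ∀ a b c d : Bool, (Finset.univ.filter fun z : M9 =>
    ([gQ, gV, gR, gU, ga * gb * ga⁻¹ * gb⁻¹].all fun g => cm g z) &&
    [(gP, a), (gW, b), (ga, c), (gb, d)].all fun g => (!g.2 || cm g.1 z) &&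
      [(gP, a), (gW, b), (ga, c), (gb, d)].all fun h => g.2 || h.2 || cm (g.1 * h.1) z).card ≤ 8 := by
  decide +kernel

theorem cen {M : Subgroup M9} (hM : IsCoatom M) : Nat.card (center M) ≤ 8 := by
  have h2 : M.index = 2 := PGrp.index_eq_of_isCoatom (p := 2) (.of_card (n := 9) card_M9) hM
  have hc : ∀ x y : M9, x * y * x⁻¹ * y⁻¹ ∈ M := fun x y => by
    simp only [mul_mem_iff_of_index_two h2, inv_mem_iff]; tauto
  have := Classical.decPred (· ∈ M)
  refine le_trans ?_ (key (gP ∈ M) (gW ∈ M) (ga ∈ M) (gb ∈ M))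
  rw [← Fintype.card_coe, ← Nat.card_eq_fintype_card]
  have hz : ∀ z : center M, ∀ g ∈ M, cm g z = true := fun z g hg =>
    decide_eq_true (congrArg Subtype.val (mem_center_iff.1 z.2 ⟨g, hg⟩))
  refine Nat.card_le_card_of_injective (fun z => ⟨z.1.1, Finset.mem_filter.2 ⟨Finset.mem_univ _, ?_⟩⟩)
    fun x y h => Subtype.ext (Subtype.ext (Subtype.mk.inj h))
  rw [Bool.and_eq_true, List.all_eq_true, List.all_eq_true]
  refine ⟨fun g hg => hz z g ?_, ?_⟩
  · simp only [List.mem_cons, List.not_mem_nil, or_false] at hg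
    rcases hg with rfl | rfl | rfl | rfl | rfl
    exacts [hc gP ga, hc gb gW, hc gQ gb, hc ga gV, hc ga gb]
  · generalize hl : [(gP, decide (gP ∈ M)), (gW, decide (gW ∈ M)), (ga, decide (ga ∈ M)), (gb, decide (gb ∈ M))] = l
    have e : ∀ g ∈ l, g.2 = decide (g.1 ∈ M) := by simp [← hl]
    intro g hg
    rw [Bool.and_eq_true, List.all_eq_true, e g hg]
    refine ⟨?_, fun h hh => ?_⟩
    · by_cases h : g.1 ∈ M <;> simp [h, hz]
    · rw [e h hh]
      by_cases h1 : g.1 ∈ M
      · simp [h1]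
      by_cases h3 : h.1 ∈ M
      · simp [h3]
      rw [hz z _ ((mul_mem_iff_of_index_two h2).2 (by tauto)), Bool.or_true]

/-- Let P be a Sylow 2-subgroup of the Mathieu group of degree 24 and S the quotient of P by its centre. Then the centre of every maximal subgroup of S has order at most 8; S has an elementary abelian subgroup of order 64; and S has only one abelian subgroup of order 64. -/
theorem result (P : Sylow 2 ↥Cfsg.M24) :
    (∀ M : Subgroup (↥(P : Subgroup ↥Cfsg.M24) ⧸ Subgroup.center ↥(P : Subgroup ↥Cfsg.M24)), IsCoatom M →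
        Nat.card ↥(Subgroup.center ↥M) ≤ 8) ∧
      (∃ A : Subgroup (↥(P : Subgroup ↥Cfsg.M24) ⧸ Subgroup.center ↥(P : Subgroup ↥Cfsg.M24)),
        Cfsg.IsElementaryAbelian 2 A ∧ Nat.card ↥A = 64) ∧
      ∀ A B : Subgroup (↥(P : Subgroup ↥Cfsg.M24) ⧸ Subgroup.center ↥(P : Subgroup ↥Cfsg.M24)),
        IsMulCommutative ↥A → Nat.card ↥A = 64 → IsMulCommutative ↥B → Nat.card ↥B = 64 → A = B := by
  obtain ⟨e1⟩ := U5.equiv_M24 P
  obtain ⟨e⟩ := quot_equiv e1
  have hu : ∀ A : Subgroup (↥(P : Subgroup ↥Cfsg.M24) ⧸ Subgroup.center ↥(P : Subgroup ↥Cfsg.M24)),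
      IsMulCommutative A → Nat.card A = 64 → A.map e.toMonoidHom = A0 := fun A h1 h2 => uniq (by
    rintro _ ⟨x, hx, rfl⟩ _ ⟨y, hy, rfl⟩
    rw [← map_mul, ← map_mul, setLike_mul_comm hx hy]) (by
      rw [← h2]; exact (Nat.card_congr (A.equivMapOfInjective _ e.injective).toEquiv).symm)
  refine ⟨fun M hM => ?_, ⟨A0.comap e.toMonoidHom, ⟨⟨⟨fun x y => Subtype.ext (e.injective ?_)⟩⟩,
    fun a ha => e.injective ?_⟩, ?_⟩, fun A B h1 h2 h3 h4 => map_injective e.injective ((hu A h1 h2).trans (hu B h3 h4).symm)⟩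
  · rw [Nat.card_congr (centerCongr (M.equivMapOfInjective e.toMonoidHom e.injective)).toEquiv]
    exact cen ((OrderIso.isCoatom_iff e.mapSubgroup M).2 hM)
  · rw [coe_mul, coe_mul, map_mul, map_mul]
    obtain ⟨k1, k2, k3⟩ : e y ∈ A0 := y.2
    exact (comm_iff x.2 _).2 (by rw [k1, k2, k3]; simp [cf, one_def])
  · rw [map_pow, map_one, sq]; exact sq_A0 ha
  · rw [← card_A0, comap_equiv_eq_map_symm']
    exact (Nat.card_congr (A0.equivMapOfInjective _ e.symm.injective).toEquiv).symm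

end Cfsg.Agent.S3171
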