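import Mathlib
import Cfsg.Statements.S3177
import Cfsg.Agent.GsC.Alm
import Cfsg.Agent.Lyons.Main
import Cfsg.Agent.Push.PSL

set_option autoImplicit false
open Cfsg

namespace Cfsg.Agent.S3177

open Subgroup Cfsg.Agent.GW Cfsg.Agent.LocalEven Cfsg.Agent.BG Cfsg.Agent.Gs Cfsg.Agent.GsC
open scoped commutatorElement

universe u

variable {G : Type u} [Group G] [Finite G] {S A L D : Subgroup G}

/-- The Sylow 2-subgroup `S` is semi-extraspecial with `A = Ω₁(S) = Z(S)` and `|S| = |A|³`. -/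
structure SX (S A : Subgroup G) : Prop where
  syl : IsSylowIn 2 S ⊤
  mem : ∀ {a}, a ∈ A ↔ a ∈ S ∧ a * a = 1
  central : S ≤ 𝐂(A)
  sq : ∀ s ∈ S, s * s ∈ A
  comm : ∀ s ∈ S, ∀ t ∈ S, s * t * s⁻¹ * t⁻¹ ∈ A
  semi : ∀ t ∈ S, t ∉ A → ∀ a ∈ A, ∃ s ∈ S, s * t * s⁻¹ * t⁻¹ = a
  card : Nat.card S = Nat.card A ^ 3
  four : 4 ≤ Nat.card A

namespace SX
variable (h : SX S A)
include h

theorem le : A ≤ S := fun _ ha => (h.mem.1 ha).1

theorem sc : SC A := by
  obtain ⟨T, rfl⟩ := h.syl.exists_sylow_top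
  exact sc_of_closed T ⟨h.le, fun x hx g hg => h.mem.2 ⟨hg, conj_sq (h.mem.1 hx).2 g⟩⟩
    fun _ ha => (h.mem.1 ha).2

theorem ctx : Ctx A ⊤ := ⟨h.sc, le_top, good_all _⟩

theorem not_le : ¬ S ≤ A := fun k => by
  have h1 := h.card
  have h2 := h.four
  rw [le_antisymm k h.le] at h1
  generalize Nat.card A = q at *
  have : q * 16 ≤ q * (q * q) := Nat.mul_le_mul_left _ (by nlinarith)
  nlinarith

theorem le_or (hD : D ≤ S) (hn : S ≤ 𝐍(D)) : D ≤ A ∨ A ≤ D := by
  refine (em _).imp id fun k a ha => ?_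
  obtain ⟨t, ht, htA⟩ := SetLike.not_le_iff_exists.1 k
  obtain ⟨s, hs, rfl⟩ := h.semi t (hD ht) htA a ha
  exact mul_mem (conj_mem_of_mem_normalizer (hn hs) ht) (inv_mem ht)

theorem mem_of_cent {d : G} (hd : d ∈ S) (hc : ∀ s ∈ S, s * d = d * s) : d ∈ A := by
  by_contra k
  obtain ⟨a, ha, a1, -⟩ := exists_ne_two (T := A) (by have := h.four; omega) 1
  obtain ⟨s, hs, rfl⟩ := h.semi d hd k a ha
  exact a1 (by rw [hc s hs]; group)

theorem sqmul {s a : G} (hs : s ∈ S) (ha : a ∈ A) : s * a * (s * a) = s * s := by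
  rw [mul_assoc, ← mul_assoc a, h.central hs a ha, mul_assoc, (h.mem.1 ha).2, mul_one]

theorem syl_pc (hL : PC ⊤ L) : IsSylowIn 2 (S ⊓ L) L := sylow_inf_sn h.syl hL.sn

theorem not_le_Cent (hL : PC ⊤ L) : ¬ S ⊓ L ≤ Cent L := fun k => by
  have h1 := sylow_im le_normalizer (h.syl_pc hL)
  rw [(im_eq_bot (inf_le_right.trans le_normalizer)).2 k] at h1
  exact h1.ne_bot (even_iff_two_dvd.1 (Nat.not_odd_iff_even.1 hL.as.not_odd)) rfl

omit h in
theorem cent_eq (hO : oOf (⊤ : Subgroup G) = ⊥) (hL : PC ⊤ L) {x l : G} (hx : x ∈ Cent L) (hl : l ∈ L) :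
    x * l = l * x := by
  have := hL.oOf_le (hx.2 l hl)
  rw [hO, mem_bot, mul_inv_eq_one, mul_inv_eq_iff_eq_mul] at this
  exact this

theorem cp (hO : oOf (⊤ : Subgroup G) = ⊥) (hL : PC ⊤ L) : Cp A ⊤ L := by
  refine ⟨hL, fun hA => ?_⟩
  obtain ⟨t, ht, htC⟩ := SetLike.not_le_iff_exists.1 (h.not_le_Cent hL)
  have tN : (⊤ : Subgroup G) ≤ 𝐍(⊤) := le_normalizer
  have hn : S ≤ 𝐍(L) := fun s hs => by_contra fun k => htC (by
    have h1 := hL.le_Cent_of_ne (hL.cj_of_norm (tN (mem_top s))) (fun e => k (cj_eq_self_iff.1 e.symm))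
      (conj_mem_cj ht.2)
    convert mul_mem (inv_mem (hA (h.comm s hs t ht.1))) h1 using 1; group)
  have hTn : S ⊓ L ≤ 𝐍(L) := inf_le_left.trans hn
  have hT := sylow_im le_normalizer (h.syl_pc hL)
  have hsq : ∀ s ∈ S, pr L s * pr L s = 1 := fun s hs => by
    rw [← pr_mul (hn hs) (hn hs), pr_eq_one (mul_mem (hn hs) (hn hs))]; exact hA (h.sq s hs)
  have hsq' : ∀ s ∈ im L S, s * s = 1 := fun z hz => by
    obtain ⟨s, hs, rfl⟩ := (mem_im' hn).1 hz; exact hsq s hs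
  have hle : im L (S ⊓ L) ≤ im L S := im_mono inf_le_left
  have dec : ∀ s ∈ S, ∃ u ∈ S ⊓ L, s * u⁻¹ ∈ Cent L := fun s hs => by
    obtain ⟨u, hu, e⟩ := (mem_im' hTn).1 (hL.as.two_inner hT (le_cent_of_sq fun e he => hsq' e (hle he))
      (k := 1) (by simpa [pow_two] using hsq s hs)
      (cent_anti hle (le_cent_of_sq hsq' (pr_mem_im hs (hn hs)))))
    exact ⟨u, hu, (pr_eq_iff (hn hs) (hTn hu)).1 e.symm⟩
  have inA : ∀ d ∈ S ⊓ L, d ∈ Cent L → d ∈ A := fun d hd hc => h.mem_of_cent hd.1 fun s hs => by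
    obtain ⟨u, hu, e⟩ := dec s hs
    calc s * d = s * u⁻¹ * (u * d) := by group
      _ = _ := by rw [← cent_eq hO hL hc hu.2, ← mul_assoc, cent_eq hO hL e hd.2]; group
  have hG := AS_gp hL.as (V := im L (S ⊓ L)) ⟨fun e he => hsq' e (hle he), fun P hP hTP a ha g hg =>
    (hT.max _ inf_le_right (hP.to_le inf_le_left) (le_inf hTP hT.le)).le ⟨hg, hL.as.conj (hT.le ha) g⟩⟩
    fun e => h.not_le_Cent hL ((im_eq_bot hTn).1 e)
  obtain ⟨X, hX, -, -, tr⟩ := hG.exists_trans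
  rw [← im_norm_sylow le_normalizer (h.syl_pc hL)] at hX
  have same : ∀ u ∈ S ⊓ L, u ∉ A → u * u = t * t := fun u hu huA => by
    obtain ⟨x, hx, e⟩ := tr _ (pr_mem_im hu (hTn hu)) _ (pr_mem_im ht (hTn ht))
      (fun e => huA (inA u hu ((pr_eq_one (hTn hu)).1 e))) fun e => htC ((pr_eq_one (hTn ht)).1 e)
    obtain ⟨g, hg, rfl⟩ := (mem_im' (inf_le_left.trans le_normalizer)).1 (hX hx)
    have h1 := conj_mem_of_mem_normalizer hg.2 hu
    rw [← pr_conj (le_normalizer hg.1) (hTn hu), eq_comm, pr_eq_iff (hTn ht) (hTn h1)] at e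
    have h2 := inA _ (mul_mem ht (inv_mem h1)) e
    have h3 := h.sqmul (inv_mem ht.1) h2
    rw [inv_mul_cancel_left, ← mul_inv_rev, ← mul_inv_rev, inv_inj] at h3
    rw [← h3, show g * u * g⁻¹ * (g * u * g⁻¹) = g * (u * u) * g⁻¹ by group,
      ← cent_eq hO hL (hA (h.sq u hu.1)) hg.1, mul_inv_cancel_right]
  obtain ⟨a, ha, a1, a2⟩ := exists_ne_two (T := A) (by have := h.four; omega) (t * t)
  obtain ⟨s, hs, rfl⟩ := h.semi t ht.1 (fun k => htC (hA k)) a ha
  obtain ⟨u, hu, e⟩ := dec s hs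
  have h1 : s * t * s⁻¹ * t⁻¹ = u * t * u⁻¹ * t⁻¹ := by
    calc _ = s * u⁻¹ * (u * t * u⁻¹) * (s * u⁻¹)⁻¹ * t⁻¹ := by group
      _ = _ := by
        rw [cent_eq hO hL e (mul_mem (mul_mem hu.2 ht.2) (inv_mem hu.2)), mul_inv_cancel_right]
  rw [h1] at a1 a2 ha
  by_cases h2 : u ∈ A
  · exact a1 (by rw [h.central ht.1 u h2]; group)
  by_cases h3 : u * t ∈ A
  · exact a1 (by rw [h.central (inv_mem hu.1) _ h3]; group)
  have h4 := same _ (mul_mem hu ht) h3
  have h5 := same u hu h2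
  have h6 := (h.mem.1 (h.sq t ht.1)).2
  refine a2 ?_
  calc _ = u * t * (u * t) * (t⁻¹ * (u * u)⁻¹ * t⁻¹) := by group
    _ = _ := by rw [h4, h5, show t⁻¹ * (t * t)⁻¹ * t⁻¹ = (t * t * (t * t))⁻¹ by group, h6]; group

theorem normal (hO : oOf (⊤ : Subgroup G) = ⊥) (hL : ∀ L : Subgroup G, ¬ PC ⊤ L) : S.Normal := by
  obtain ⟨P, -, -, h1, h2, h3⟩ := exists_P (⊤ : Subgroup G)
  rw [hO] at h2 h3
  replace h3 : ∀ x, P ≤ cz x → x ∈ P := fun x hx => h3 x (mem_top x) (fun L k => absurd k (hL L))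
    (commutator_eq_bot_iff_le_centralizer.2 (by rwa [cent_zpowers])).le
  haveI : P.Normal := normalizer_eq_top_iff.1 (top_le_iff.1 h1)
  replace h2 : IsPGroup 2 P := by
    obtain ⟨k, hk⟩ := h2.exists_card_eq
    exact .of_card (n := k) (by
      rw [← hk, QuoApi.card_quo_of_disjoint le_normalizer_of_normal (inf_bot_eq _)])
  have h4 : P ≤ S := h.syl.le_of_le_normalizer le_top h2 le_normalizer_of_normal
  have h5 : A ≤ P := fun a ha => h3 a (h4.trans (h.central.trans (cent_le_cz ha)))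
  haveI : A.Normal := ⟨fun a ha g => h.mem.2 ⟨h4 (Normal.conj_mem inferInstance _ (h5 ha) g),
    conj_sq (h.mem.1 ha).2 g⟩⟩
  let W := 𝐂(A) ⊓ 𝐂(P.map (QuotientGroup.mk' A)).comap (QuotientGroup.mk' A)
  have hW : ∀ {x}, x ∈ 𝐂(P.map (QuotientGroup.mk' A)).comap (QuotientGroup.mk' A) ↔
      ∀ p ∈ P, p * x * p⁻¹ * x⁻¹ ∈ A := fun {x} => by
    simp only [← QuotientGroup.eq_one_iff (N := A), QuotientGroup.mk_mul, QuotientGroup.mk_inv,
      mul_inv_eq_iff_eq_mul, one_mul]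
    exact ⟨fun k p hp => k _ ⟨p, hp, rfl⟩, by rintro k _ ⟨p, hp, rfl⟩; exact k p hp⟩
  have h6 : IsPGroup 2 W := isPGroup_iff_mem.2 fun x hx => by
    obtain ⟨s, -, o, ho, ⟨k, hk⟩, h7, rfl⟩ := exists_two_odd x
    have h8 := zpowers_le.2 hx ho
    have h9 := Core.le_centralizer_of_commutator_commutator_eq_bot (zpowers o) P
      le_normalizer_of_normal (Core.coprime_of_isPGroup h2 (by
        rw [Nat.card_zpowers]; exact Nat.coprime_two_right.2 h7))
      (commutator_eq_bot_iff_le_centralizer.2 ((commutator_le.2 fun p hp z hz =>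
        hW.1 (zpowers_le.2 h8.2 hz) p hp).trans (le_cent_comm.1 (zpowers_le.2 h8.1))))
    rw [eq_one_of_odd_of_two h2 (h3 o (le_cz_iff.2 (h9 (mem_zpowers o)))) h7, mul_one]
    exact ⟨k, hk⟩
  rw [← h.syl.max W le_top h6 fun s hs => ⟨h.central hs, hW.2 fun p hp => h.comm p (h4 hp) s hs⟩]
  infer_instance

theorem main (hO : oOf (⊤ : Subgroup G) = ⊥) (hL : Cp A ⊤ L) :
    L.Normal ∧ S ≤ L ∧ IsSimpleGroup L ∧ SE L := by
  have tN : (⊤ : Subgroup G) ≤ 𝐍(⊤) := le_normalizer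
  have hn : S ≤ 𝐍(L) := fun s hs => h.ctx.cent_le_norm hL ⟨tN (mem_top s), h.central hs⟩
  have hD : S ⊓ Cent L ≤ A := (h.le_or inf_le_left (le_normalizer_inf le_normalizer
    (hn.trans (norm_le_norm_Cent L)))).resolve_right fun k => hL.nc (k.trans inf_le_right)
  have hG := h.ctx.gp hL
  have hT := sylow_im le_normalizer (h.syl_pc hL.pc)
  have hTn : S ⊓ L ≤ 𝐍(L) := inf_le_left.trans hn
  have hAn := h.le.trans hn
  have hE : SE (im L L) := by_contra fun k => h.not_le fun s hs => by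
    obtain ⟨j, hj⟩ := isPGroup_iff_mem.1 h.syl.pgrp s hs
    obtain ⟨r, hr, e⟩ := h.ctx.exists_inner hL (hG.syl k) hj (hn hs) (h.central hs)
    exact (A.mul_mem_cancel_right hr.1).1 (hD ⟨mul_mem hs (h.le hr.1), e⟩)
  obtain ⟨H, hB⟩ := hG.exists_BD hE hT (h.ctx.im_inf hL ▸ im_mono (inf_le_inf_right L h.le))
  have h1 : im L (S ⊓ L) = im L S := le_antisymm (im_mono inf_le_left) ((im_le_iff hn).2 fun s hs =>
    hB.stab _ ⟨pr_mem_norm hTn (hn hs) (le_normalizer_inf le_normalizer hn hs),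
      pr_mem_cent (hn hs) (h.central hs)⟩ fun z hz => by
        obtain ⟨t, ht, rfl⟩ := (mem_im' hTn).1 hz
        have := h.comm s hs t ht.1
        exact pr_comm (hn hs) (hTn ht) ▸ pr_mem_im this (hAn this))
  have h2 : Nat.card (im L S) * Nat.card (S ⊓ Cent L : Subgroup G) = Nat.card S := by
    rw [card_im hn, mul_comm, LocalEven.card_mul_relIndex inf_le_left]
  have h3 : Nat.card (im L A) * Nat.card (S ⊓ Cent L : Subgroup G) = Nat.card A := by
    rw [card_im hAn, show A ⊓ Cent L = S ⊓ Cent L from le_antisymm (inf_le_inf_right _ h.le)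
      (le_inf hD inf_le_right), mul_comm, LocalEven.card_mul_relIndex hD]
  have h4 := hB.four
  have h5 : 0 < Nat.card (S ⊓ Cent L : Subgroup G) := Nat.card_pos
  rw [h.card, ← h3, ← h1] at h2
  have h6 : S ⊓ Cent L = ⊥ := card_eq_one.1 (by
    rcases hB.cases with e | ⟨-, ⟨e, -⟩ | ⟨e, -⟩⟩ <;> rw [e] at h2 <;>
      generalize Nat.card (S ⊓ Cent L : Subgroup G) = d at * <;>
      generalize Nat.card (im L A) = v at *
    · have := Nat.eq_of_mul_eq_mul_left (show 0 < v * d by positivity)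
        (show v * d * 1 = v * d * (v * d) ^ 2 by linear_combination h2)
      have := Nat.eq_one_of_mul_eq_one_right ((Nat.pow_eq_one.1 this.symm).resolve_right two_ne_zero)
      omega
    · have := Nat.eq_of_mul_eq_mul_left (show 0 < v ^ 2 * d by positivity)
        (show v ^ 2 * d * 1 = v ^ 2 * d * (v * d ^ 2) by linear_combination h2)
      have := Nat.eq_one_of_mul_eq_one_right this.symm
      omega
    · have := Nat.eq_of_mul_eq_mul_left (show 0 < v ^ 3 * d by positivity)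
        (show v ^ 3 * d * 1 = v ^ 3 * d * d ^ 2 by linear_combination h2)
      exact (Nat.pow_eq_one.1 this.symm).resolve_right two_ne_zero)
  have hN : L.Normal := normalizer_eq_top_iff.1 (eq_top_iff.2 fun g _ => by_contra fun k => by
    have h7 := hL.pc.cj_of_norm (tN (mem_top g))
    exact h.not_le_Cent h7 (((inf_le_inf_left S (hL.pc.le_Cent_of_ne h7
      fun e => k (cj_eq_self_iff.1 e.symm))).trans h6.le).trans bot_le))
  have h7 : (⊤ : Subgroup G) ≤ 𝐍(Cent L) := le_normalizer_of_normal.trans (norm_le_norm_Cent L)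
  have h8 : Cent L = ⊥ := le_bot_iff.1 (hO ▸ le_oOf le_top h7 (Nat.not_even_iff_odd.1 fun e =>
    (h.syl.inf_of_le_normalizer le_top h7).ne_bot (even_iff_two_dvd.1 e) h6))
  have e : L ≃* im L L := MulEquiv.ofBijective (imHom le_normalizer) ⟨by
    rw [← MonoidHom.ker_eq_bot_iff, imHom_ker, h8, bot_subgroupOf], imHom_surj _⟩
  haveI := hG.simple
  refine ⟨hN, ?_, e.isSimpleGroup, hE.of_equiv e.symm⟩
  have := (im_le_im hn hTn).1 h1.ge
  rw [h8, sup_bot_eq] at this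
  exact this.trans inf_le_right

theorem ident [IsSimpleGroup G] (hE : SE G) {n : ℕ} (hA : Nat.card A = 2 ^ n) {F : Type*} [Field F]
    [Fintype F] (hF : Fintype.card F = 4 ^ n) : Nonempty (G ≃* PSU 3 F (2 ^ n)) := by
  obtain ⟨T, rfl⟩ := h.syl.exists_sylow_top
  rcases se_cases hE with ⟨K, _, _, m, hm, hK, ⟨f⟩⟩ | ⟨K, _, _, m, hm, hK, ⟨f⟩⟩ |
    ⟨m, K, _, _, hm, hK, ⟨f⟩⟩
  · haveI := Push.charP_of_card hK
    obtain ⟨P⟩ : Nonempty (Sylow 2 (Matrix.ProjectiveSpecialLinearGroup (Fin 2) K)) := inferInstance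
    obtain ⟨g⟩ := Lyons.sylow_equiv f T P
    refine absurd (fun d hd => h.mem_of_cent hd fun s hs => congrArg Subtype.val
      (g.injective (a₁ := ⟨s, hs⟩ * ⟨d, hd⟩) (a₂ := ⟨d, hd⟩ * ⟨s, hs⟩) ?_)) h.not_le
    rw [map_mul, map_mul]
    exact Subtype.ext (commutator_eq_bot_iff_le_centralizer.1
      (Push.psl_facts K (isSylowIn_top P)).1 (g _).2 _ (g _).2)
  · obtain ⟨_, ⟨Z⟩⟩ := RankOne.Sz.exists_model_of_equiv_lie hK hm f
    obtain ⟨Y, hY⟩ := Z.exists_model_sylow T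
    have h1 := Y.card_center_Q
    have h2 := Y.card_Q
    rw [hY] at h1 h2
    rw [← h1, h.card, show center (T : Subgroup G) = A.subgroupOf T from Subgroup.ext fun x =>
      ⟨fun k => h.mem_of_cent x.2 fun s hs => congrArg Subtype.val (mem_center_iff.1 k ⟨s, hs⟩),
        fun k => mem_center_iff.2 fun s => Subtype.ext (h.central s.2 _ k).symm⟩,
      card_subgroupOf h.le] at h2
    have := Nat.pow_right_injective (show 2 ≤ Nat.card A by have := h.four; omega) h2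
    omega
  · obtain ⟨P⟩ : Nonempty (Sylow 2 (PSU 3 K (2 ^ m))) := inferInstance
    obtain ⟨g⟩ := Lyons.sylow_equiv f T P
    have h1 := (S1141.result hm (hK.trans (four_pow m).symm) P).1
    rw [← Nat.card_congr g.toEquiv, h.card, hA] at h1
    obtain rfl := Nat.pow_right_injective le_rfl (Nat.pow_left_injective three_ne_zero h1)
    obtain ⟨r⟩ := Classical.Congr.nonempty_ringEquiv (K := K) (F := F) (by
      rw [Nat.card_eq_fintype_card, Nat.card_eq_fintype_card, hK, hF])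
    exact ⟨f.trans (Lyons.psuCongr r 3 _)⟩

theorem sub (hL : S ≤ L) : SX (S.subgroupOf L) (A.subgroupOf L) where
  syl := subgroupOf_self L ▸ (h.syl.mono hL le_top).subgroupOf le_rfl
  mem := h.mem.trans (and_congr_right' ⟨fun k => Subtype.ext k, fun k => congrArg Subtype.val k⟩)
  central := fun s hs a ha => Subtype.ext (h.central hs a ha)
  sq := fun s hs => h.sq s hs
  comm := fun s hs t ht => h.comm s hs t ht
  semi := fun t ht k a ha => let ⟨s, hs, e⟩ := h.semi t ht k a ha; ⟨⟨s, hL hs⟩, hs, Subtype.ext e⟩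
  card := by rw [card_subgroupOf hL, card_subgroupOf (h.le.trans hL), h.card]
  four := by rw [card_subgroupOf (h.le.trans hL)]; exact h.four

end SX

open Herm in
theorem sx_of {F : Type*} [Field F] [Finite F] [CharP F 2] {σ : F →+* F} (hσ : Inv σ) {q : ℕ}
    (hF : Nat.card F = q ^ 2) (hq : 4 ≤ q) (hS : IsSylowIn 2 S ⊤) (e : S ≃* Heis hσ) :
    ∃ A, SX S A ∧ Nat.card A = q := by
  have k : ∀ x : S, (x : G) ∈ (center S).map S.subtype ↔ (e x).a = 0 := fun x => by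
    rw [mem_map_subtype, ← Heis.mem_center_iff, mem_center_iff, mem_center_iff]
    exact ⟨fun k y => by rw [← e.apply_symm_apply y, ← map_mul, k, map_mul],
      fun k y => e.injective (by rw [map_mul, k, map_mul])⟩
  have c : Nat.card ((center S).map S.subtype) = q := by
    rw [card_map_subtype, Nat.card_congr (Orth.centerEquiv e).toEquiv, Heis.card_center hF]
  refine ⟨_, ⟨hS, fun {a} => ⟨?_, fun ⟨h1, h2⟩ => (k ⟨a, h1⟩).2 ((Heis.mul_self_eq_one_iff _).1 (by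
    rw [← map_mul, show (⟨a, h1⟩ * ⟨a, h1⟩ : S) = 1 from Subtype.ext h2, map_one]))⟩, ?_,
    fun s hs => (k (⟨s, hs⟩ * ⟨s, hs⟩)).2 (by rw [map_mul, Heis.sq_a]),
    fun s hs t ht => (k ⁅(⟨s, hs⟩ : S), ⟨t, ht⟩⁆).2 (by rw [map_commutatorElement, Heis.commutator_a]), ?_,
    by rw [c, Nat.card_congr e.toEquiv, Heis.card hF], c ▸ hq⟩, c⟩
  · rintro ⟨x, hx, rfl⟩
    exact ⟨x.2, congrArg Subtype.val (e.map_eq_one_iff.1 (by
      rw [map_mul]; exact (Heis.mul_self_eq_one_iff _).2 ((k x).1 ⟨x, hx, rfl⟩)) : x * x = 1)⟩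
  · rintro s hs _ ⟨x, hx, rfl⟩
    exact congrArg Subtype.val (mem_center_iff.1 hx ⟨s, hs⟩).symm
  · rintro t ht h0 _ ⟨x, hx, rfl⟩
    replace h0 := mt (k ⟨t, ht⟩).2 h0
    have h1 := (k x).1 ⟨x, hx, rfl⟩
    obtain ⟨b, hb⟩ := hσ.exists_sub (c := (e x).l) (by simpa [h1] using (e x).prop)
    obtain ⟨y, hy⟩ := Heis.exists_a hσ (σ (b / (e ⟨t, ht⟩).a))
    refine ⟨e.symm y, (e.symm y).2, congrArg Subtype.val (e.injective (a₁ := ⁅e.symm y, ⟨t, ht⟩⁆) ?_)⟩
    rw [map_commutatorElement, e.apply_symm_apply]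
    refine Heis.ext (by rw [Heis.commutator_a, h1]) ?_
    rw [Heis.commutator_l, hy, hσ.invol, ← map_mul, div_mul_cancel₀ _ h0, mul_div_cancel₀ _ h0, hb]


/-- Let n ≥ 3 and let G be a finite group whose Sylow 2-subgroups are isomorphic to those of PSU(3, 2^n), realised over the field with 4^n elements. Then either G is solvable of 2-length at most one, or the quotient of G by its largest normal subgroup of odd order has a normal subgroup of odd index isomorphic to PSU(3, 2^n). -/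
theorem result {G : Type*} [Group G] [Finite G]
    (n : ℕ) (hn : 3 ≤ n) {F : Type*} [Field F] [Fintype F] (hF : Fintype.card F = 4 ^ n)
    (S : Sylow 2 G) (P : Sylow 2 (Cfsg.PSU 3 F (2 ^ n)))
    (hS : Nonempty (↥(S : Subgroup G) ≃* ↥(P : Subgroup (Cfsg.PSU 3 F (2 ^ n))))) :
    (Group.IsSolvable G ∧ Cfsg.PLengthLE 2 1 G) ∨
      ∃ N : Subgroup (G ⧸ Cfsg.oddCore G), N.Normal ∧ Odd N.index ∧ Nonempty (↥N ≃* Cfsg.PSU 3 F (2 ^ n)) := by
  obtain ⟨e⟩ := hS
  have hF' := Herm.natCard_of_card (hF.trans (four_pow n).symm)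
  haveI : CharP F 2 := Classical.Congr.charP_of_card (k := n * 2) (by rw [hF', pow_mul])
  obtain ⟨e'⟩ := Herm.sylow_PSU_three hF' rfl P
  have hs := QuotientGroup.mk'_surjective (oddCore G)
  have ho : Odd (Nat.card (oddCore G)) := Nat.coprime_two_right.1 (Comp2.pPrimeCore_coprime 2)
  have h1 := (isSylowIn_top S).map (QuotientGroup.mk' (oddCore G))
  rw [map_top_of_surjective _ hs] at h1
  have e1 : (S : Subgroup G) ≃* (S : Subgroup G).map (QuotientGroup.mk' (oddCore G)) :=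
    MulEquiv.ofBijective (MonoidHom.subgroupMap _ _) ⟨(injective_iff_map_eq_one _).2 fun x hx =>
      Subtype.ext (eq_one_of_odd_of_two S.isPGroup' x.2 (odd_orderOf ho
        ((QuotientGroup.eq_one_iff _).1 (congrArg Subtype.val hx)))), MonoidHom.subgroupMap_surjective _ _⟩
  obtain ⟨A, hA, hc⟩ := sx_of _ hF' (le_trans (by norm_num) (Nat.pow_le_pow_right two_pos hn)) h1
    (e1.symm.trans (e.trans e'))
  have hO : oOf (⊤ : Subgroup (G ⧸ oddCore G)) = ⊥ := le_bot_iff.1 (by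
    haveI := normalizer_eq_top_iff.1 (top_le_iff.1 (le_normalizer_oOf (⊤ : Subgroup (G ⧸ oddCore G))))
    exact Core.pPrimeCore_quotient_pPrimeCore (G := G) 2 ▸
      Comp2.le_pPrimeCore (Nat.coprime_two_right.2 (odd_oOf _)))
  generalize (S : Subgroup G).map (QuotientGroup.mk' (oddCore G)) = T at hA h1
  by_cases hL : ∃ L : Subgroup (G ⧸ oddCore G), PC ⊤ L
  · obtain ⟨L, hL⟩ := hL
    obtain ⟨h2, h3, _, h4⟩ := hA.main hO (hA.cp hO hL)
    exact .inr ⟨L, h2, Nat.not_even_iff_odd.1 fun k => h1.not_dvd_of_le h3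
      (by rw [relIndex_top_right]; exact even_iff_two_dvd.1 k),
      (hA.sub h3).ident h4 (by rw [card_subgroupOf (hA.le.trans h3), hc]) hF⟩
  haveI := hA.normal hO (not_exists.1 hL)
  have h2 : ¬ 2 ∣ T.index := relIndex_top_right T ▸ h1.not_dvd
  refine .inl ⟨?_, Core.PLengthLE.of_quotient_pPrime _ (Comp2.pPrimeCore_coprime 2)
    (Core.PLengthLE.of_normal_index T h2 (Core.pLengthLE_one_of_isPGroup h1.pgrp))⟩
  haveI := solv_of_odd ho
  haveI := Core.solvable_of_isPGroup h1.pgrp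
  haveI : Group.IsSolvable ((G ⧸ oddCore G) ⧸ T) := S0205.result (Nat.not_even_iff_odd.1
    fun e => h2 (even_iff_two_dvd.1 e))
  haveI := Group.isSolvable_of_ker_le_range T.subtype (QuotientGroup.mk' T) (by simp)
  exact Group.isSolvable_of_ker_le_range (oddCore G).subtype (QuotientGroup.mk' (oddCore G)) (by simp)

end Cfsg.Agent.S3177
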