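import Mathlib
import Cfsg.Statements.S3179
import Cfsg.Agent.CIT.F4
import Cfsg.Agent.CIT.F1
import Cfsg.Agent.S0280
-- import your own Cfsg.Agent.* helpers here

set_option autoImplicit false
open Cfsg

namespace Cfsg.Agent.S3179

open Subgroup in
theorem no9 (g : GL (Fin 5) (ZMod 2)) : orderOf g ≠ 9 := by
  intro hg
  haveI : Fact (Nat.Prime 3) := ⟨Nat.prime_three⟩
  have hc : Nat.card (GL (Fin 5) (ZMod 2)) = 9999360 := by
    rw [Matrix.card_GL_field, ZMod.card]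
    decide
  let a : GL (Fin 5) (ZMod 2) :=
    ⟨!![0,1,0,0,0; 1,1,0,0,0; 0,0,1,0,0; 0,0,0,1,0; 0,0,0,0,1],
      !![1,1,0,0,0; 1,0,0,0,0; 0,0,1,0,0; 0,0,0,1,0; 0,0,0,0,1], by decide, by decide⟩
  let b : GL (Fin 5) (ZMod 2) :=
    ⟨!![1,0,0,0,0; 0,1,0,0,0; 0,0,0,1,0; 0,0,1,1,0; 0,0,0,0,1],
      !![1,0,0,0,0; 0,1,0,0,0; 0,0,1,1,0; 0,0,1,0,0; 0,0,0,0,1], by decide, by decide⟩
  have a3 : a ^ 3 = 1 := by rw [pow_three]; exact Units.ext (by decide)
  have b3 : b ^ 3 = 1 := by rw [pow_three]; exact Units.ext (by decide)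
  have c : Commute a b := Units.ext (by decide)
  have z : ∀ s : GL (Fin 5) (ZMod 2), s ^ 3 = 1 → IsPGroup 3 (zpowers s) := fun s hs =>
    IsPGroup.of_card_dvd_pow (n := 1) (by
      rw [Nat.card_zpowers, pow_one, orderOf_dvd_iff_pow_eq_one, hs])
  obtain ⟨Q, hQ⟩ := ((z a a3).to_sup_of_normal_left' (z b b3)
    (zpowers_le.2 (centralizer_le_normalizer _ (mem_centralizer_iff.2 (by
      rintro _ ⟨n, rfl⟩
      exact (c.zpow_left n).eq))))).exists_le_sylow
  obtain ⟨P, hP⟩ := (IsPGroup.of_card (p := 3) (G := zpowers g) (n := 2)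
    (by rw [Nat.card_zpowers, hg]; rfl)).exists_le_sylow
  have h9 : Nat.card P = 9 := by
    rw [P.card_eq_multiplicity, hc, show 9999360 = 3 ^ 2 * 1111040 by norm_num,
      Nat.factorization_mul (by norm_num) (by norm_num), Nat.Prime.factorization_pow Nat.prime_three]
    simp [Nat.factorization_eq_zero_of_not_dvd (show ¬ 3 ∣ 1111040 by norm_num)]
  have hP' : zpowers g = P := eq_of_le_of_card_ge hP (by rw [h9, Nat.card_zpowers, hg])
  haveI : IsCyclic P := by rw [← hP']; infer_instance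
  haveI : IsCyclic Q := isCyclic_of_surjective (P.equiv Q).toMonoidHom (P.equiv Q).surjective
  classical
  have := Fintype.ofFinite Q
  have h := IsCyclic.card_pow_eq_one_le (α := Q) (n := 3) (by norm_num)
  have ha : a ∈ (Q : Subgroup _) := hQ (mem_sup_left (mem_zpowers a))
  have hb : b ∈ (Q : Subgroup _) := hQ (mem_sup_right (mem_zpowers b))
  have hab : (a * b) ^ 3 = 1 := by rw [c.mul_pow, a3, b3, one_mul]
  have k : ({1, ⟨a, ha⟩, ⟨b, hb⟩, ⟨a * b, mul_mem ha hb⟩} : Finset Q) ⊆ Finset.univ.filter fun x : Q => x ^ 3 = 1 := by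
    intro x hx
    simp only [Finset.mem_insert, Finset.mem_singleton] at hx
    rcases hx with rfl | rfl | rfl | rfl <;> simp only [Finset.mem_filter, Finset.mem_univ, true_and]
    exacts [one_pow 3, Subtype.ext a3, Subtype.ext b3, Subtype.ext hab]
  have k2 := (Finset.card_le_card k).trans h
  have ne : ∀ {x y : Q}, x.1.1 ≠ y.1.1 → x ≠ y := fun h e => h (e ▸ rfl)
  have d : (1 : GL (Fin 5) (ZMod 2)).1 ≠ a.1 ∧ (1 : GL (Fin 5) (ZMod 2)).1 ≠ b.1 ∧
      (1 : GL (Fin 5) (ZMod 2)).1 ≠ (a * b).1 ∧ a.1 ≠ b.1 ∧ a.1 ≠ (a * b).1 ∧ b.1 ≠ (a * b).1 := by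
    decide
  rw [Finset.card_eq_four.2 ⟨_, _, _, _, ne d.1, ne d.2.1, ne d.2.2.1, ne d.2.2.2.1, ne d.2.2.2.2.1,
    ne d.2.2.2.2.2, rfl⟩] at k2
  omega

/-- Let X be a section of the general linear group GL(5, 2), that is, a quotient of a subgroup of it. If X is isomorphic to PSL(2, 2^n) for some n ≥ 2, to a Suzuki group over the field with 2^(2m+1) elements for some m ≥ 1, or to PSU(3, 2^n) for some n ≥ 2, then X is isomorphic to PSL(2, 4). -/
theorem result {H : Subgroup (GL (Fin 5) (ZMod 2))}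
    {K : Subgroup ↥H} [K.Normal]
    (hX : (∃ (n : ℕ) (F : Type) (_ : Field F) (_ : Fintype F), 2 ≤ n ∧ Fintype.card F = 2 ^ n ∧
        Nonempty (↥H ⧸ K ≃* Matrix.ProjectiveSpecialLinearGroup (Fin 2) F)) ∨
      (∃ (m : ℕ) (F : Type) (_ : Field F) (_ : Fintype F), 1 ≤ m ∧ Fintype.card F = 2 ^ (2 * m + 1) ∧
        Nonempty (↥H ⧸ K ≃* ↥(Cfsg.Lie.Sz F (2 ^ (m + 1))))) ∨
      (∃ (n : ℕ) (F : Type) (_ : Field F) (_ : Fintype F), 2 ≤ n ∧ Fintype.card F = 4 ^ n ∧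
        Nonempty (↥H ⧸ K ≃* Cfsg.PSU 3 F (2 ^ n)))) :
    ∃ (F : Type) (_ : Field F) (_ : Fintype F), Fintype.card F = 4 ∧
      Nonempty (↥H ⧸ K ≃* Matrix.ProjectiveSpecialLinearGroup (Fin 2) F) := by
  have hc : Nat.card (GL (Fin 5) (ZMod 2)) = 9999360 := by
    rw [Matrix.card_GL_field, ZMod.card]
    decide
  have hd : Nat.card (↥H ⧸ K) ∣ 9999360 :=
    hc ▸ (Subgroup.card_quotient_dvd_card K).trans H.card_subgroup_dvd_card
  have b : ∀ {k : ℕ}, 2 ^ k ∣ 9999360 → k ≤ 10 := fun h => by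
    by_contra hk
    exact absurd ((pow_dvd_pow 2 (show 11 ≤ _ by omega)).trans h) (by norm_num)
  rcases hX with ⟨n, F, _, _, hn, hF, ⟨e⟩⟩ | ⟨m, F, _, _, hm, hF, ⟨e⟩⟩ | ⟨n, F, _, _, hn, hF, ⟨e⟩⟩
  · rw [Nat.card_congr e.toEquiv, CIT.F.card_psl2_even (by omega) hF] at hd
    have h1 := b ((dvd_mul_right _ _).trans hd)
    by_cases h2 : n = 2
    · exact ⟨F, _, _, by rw [hF, h2]; rfl, ⟨e⟩⟩
    by_cases h3 : n = 3
    · subst h3
      obtain ⟨y, hy⟩ := CIT.F.exists_order_psl2 (F := F) (by omega) (m := 9)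
        (.inr (.inr (by rw [hF]; norm_num)))
      obtain ⟨x, hx⟩ := QuotientGroup.mk'_surjective K (e.symm y)
      have h4 : 9 ∣ orderOf x := by
        rw [← hy, ← e.symm.orderOf_eq, ← hx]; exact orderOf_map_dvd _ x
      exact (no9 (x ^ (orderOf x / 9) : H) (by
        rw [Subgroup.orderOf_coe, orderOf_pow_orderOf_div (orderOf_pos x).ne' h4])).elim
    interval_cases n <;> first | omega | exact absurd hd (by norm_num)
  · rw [Nat.card_congr e.toEquiv, CIT.F.card_sz hm hF] at hd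
    have h1 := b (k := (2 * m + 1) * 2) (by rw [pow_mul]; exact (dvd_mul_right _ _).trans hd)
    have : m ≤ 2 := by omega
    interval_cases m <;> exact absurd hd (by norm_num)
  · have h := S0280.result (F := F) (q := 2 ^ n) (by rw [hF, ← pow_mul, mul_comm, pow_mul]; rfl) 3
      (by norm_num)
    rw [← Nat.card_congr e.toEquiv] at h
    obtain ⟨c, hc⟩ := hd
    generalize Nat.card (↥H ⧸ K) = N at h hc
    have h0 : (2 ^ n) ^ 3 * ((2 ^ n + 1) * ((2 ^ n) ^ 2 - 1) * ((2 ^ n) ^ 3 + 1)) ∣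
        3 * ((2 ^ n + 1) * 9999360) := by
      have e1 : (2 ^ n) ^ 3 * ((2 ^ n + 1) * ((2 ^ n) ^ 2 - 1) * ((2 ^ n) ^ 3 + 1)) =
          Nat.gcd 3 (2 ^ n + 1) * ((2 ^ n + 1) * N) := by
        rw [h]; simp [Finset.prod_range_succ]
      rw [e1, hc]
      exact mul_dvd_mul (Nat.gcd_dvd_left _ _) (mul_dvd_mul_left _ (dvd_mul_right _ _))
    have h1 := b (k := n * 3) (by
      have h2 : 2 ^ (n * 3) ∣ 3 * (2 ^ n + 1) * 9999360 := by
        rw [pow_mul, mul_assoc]; exact (dvd_mul_right _ _).trans h0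
      refine (Nat.Coprime.pow_left _ ?_).dvd_of_dvd_mul_left h2
      rw [Nat.coprime_two_left]
      exact (by decide : Odd 3).mul ((Nat.even_pow.2 ⟨even_two, by omega⟩).add_one))
    have : n ≤ 3 := by omega
    interval_cases n <;> exact absurd h0 (by norm_num)

end Cfsg.Agent.S3179
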