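import Mathlib
import Cfsg.Statements.S3181
import Cfsg.Agent.Fil.H
import Cfsg.Agent.S2117
import Cfsg.Agent.S2111
import Cfsg.Agent.Mult.SU6
import Cfsg.Agent.GW.Quat

set_option autoImplicit false
open Cfsg

namespace Cfsg.Agent.S3181

open Subgroup Cfsg.Agent.GW Cfsg.Agent.LocalEven Cfsg.Agent.BG Cfsg.Agent.Gs Cfsg.Agent.GsC
  Cfsg.Agent.Fil Cfsg.Agent.H2.Schur
open scoped commutatorElement

variable {G Q : Type*} [Group G] [Finite G] [Group Q] [Finite Q] {S : Subgroup G} {P L : Subgroup Q}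
  {f : G →* Q}

theorem cent_of_map (hO : Odd (Nat.card f.ker)) (hS : IsPGroup 2 S) {x s : G} (hx : x ∈ S)
    (hs : s ∈ S) (h : f s * f x = f x * f s) : s * x = x * s :=
  mul_inv_eq_one.1 (eq_one_of hS hO (mul_mem (mul_mem hs hx) (inv_mem (mul_mem hx hs)))
    (by rw [MonoidHom.mem_ker, map_mul, map_inv, map_mul, map_mul, h, mul_inv_cancel]))

theorem cent_ker (hC : CI G) (hf : Function.Surjective f) (hO : Odd (Nat.card f.ker))
    (hS : IsSylowIn 2 S ⊤) (h : St (S.map f) P L) (hab : ¬ PLocal.AbelianTwo (im L L)) :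
    f.ker ≤ 𝐂(S) := by
  refine cent_of hS.pgrp hO le_normalizer_of_normal (fun x hx => (em _).imp id fun h1 => ?_)
    fun a ha b hb e => h.gen hab (mem_map_of_mem f ha) (mem_map_of_mem f hb) ((map_mono e).trans ?_)
  · obtain ⟨o, ho, ho'⟩ := SetLike.not_le_iff_exists.1 h1
    obtain ⟨U, u1, u2, u3⟩ := hC.two hS (zpowers_le.2 hx) (g := o) (zpowers_le.2 (mem_cj.2 (by
      rw [mul_assoc, ← mem_cz.1 ho.2, inv_mul_cancel_left]; exact hx))) fun hn => ho' fun s hs => by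
        have := eq_one_of hS.pgrp hO (mul_mem (conj_mem_of_mem_normalizer hn hs) (inv_mem hs)) (by
          simpa only [mul_assoc] using f.ker.mul_mem ho.1
            (f.normal_ker.conj_mem _ (f.ker.inv_mem ho.1) s))
        rw [mul_inv_eq_one, mul_inv_eq_iff_eq_mul] at this
        exact this.symm
    have := h.cent (map_top_of_surjective _ hf ▸ u1.map f) (mem_map_of_mem f hx)
      (mem_map_of_mem f (u2 (mem_zpowers x))) (by
        rintro _ ⟨u, hu, rfl⟩
        rw [mem_cz, ← map_mul, ← map_mul, u3 hu x (mem_zpowers x)])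
    exact fun s hs => cent_of_map hO hS.pgrp hx hs (this _ (mem_map_of_mem f hs))
  · rw [Subgroup.map_sup, Subgroup.map_sup, MonoidHom.map_zpowers, MonoidHom.map_zpowers]
    refine sup_le_sup_left (le_inf (map_mono inf_le_left) ?_) _
    rintro _ ⟨z, hz, rfl⟩ _ ⟨s, hs, rfl⟩
    rw [← map_mul, ← map_mul, hz.2 s hs]

theorem lift (hf : Function.Surjective f) (hO : Odd (Nat.card f.ker)) (hQ : oOf (⊤ : Subgroup Q) = ⊥)
    (hS : IsSylowIn 2 S ⊤) (h : St (S.map f) P L) (hc : f.ker ≤ 𝐂(S)) :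
    ∃ (A K : Subgroup G) (ξ : K →* im L L), (A ⊔ K).Normal ∧ Odd (A ⊔ K).index ∧
      IsMulCommutative A ∧ IsPGroup 2 A ∧ (∀ a ∈ A, ∀ l ∈ K, a * l = l * a) ∧ Group.IsPerfect K ∧
      CExt ξ ∧ ξ.ker = center K ∧ (Odd (Nat.card ξ.ker) → A ⊓ K = ⊥) := by
  haveI := h.nL
  haveI := h.nP
  haveI := h.perf
  haveI := h.pc.as.simple
  replace hc := le_cent_comm.1 hc
  haveI := Normal.map (inferInstance : 𝐂(f.ker).Normal) f hf
  have h1 : L ≤ 𝐂(f.ker).map f := h.pc.le_of_norm le_normalizer_of_normal fun k =>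
    not_le_Cent h.syl h.pc ((inf_le_inf_right L (map_mono hc)).trans k)
  set W := L.comap f ⊓ 𝐂(f.ker) with hW
  have k : ∀ K : Subgroup G, (hK : K ≤ W) → L ≤ K.map f →
      CExt ((f.comp K.subtype).codRestrict L fun x => (hK x.2).1) := fun K hK h2 =>
    ⟨fun l => let ⟨x, hx, e⟩ := h2 l.2; ⟨⟨x, hx⟩, Subtype.ext e⟩, fun x hx => mem_center_iff.2
      fun y => Subtype.ext ((hK y.2).2 x (congrArg Subtype.val hx)).symm⟩
  have h2 : L ≤ W.map f := fun l hl => by
    obtain ⟨c, hc, rfl⟩ := h1 hl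
    exact ⟨c, ⟨hl, hc⟩, rfl⟩
  have h3 : L ≤ ⁅W, W⁆.map f := by
    rw [Subgroup.map_commutator]
    exact h.pc.perf.ge.trans (commutator_mono h2 h2)
  have h4 : ⁅W, W⁆ ≤ W := commutator_le_left W W
  haveI hp : Group.IsPerfect (⁅W, W⁆ : Subgroup G) := by
    haveI := perfect_commutator (k W le_rfl h2)
    rw [← map_subtype_commutator]
    exact .ofSurjective (MonoidHom.subgroupMap_surjective _ _)
  have hξ := cext_comp (k _ h4 h3) (h.cext hQ)
  have hN : (⁅W, W⁆ : Subgroup G).Normal := inferInstance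
  generalize ⁅W, W⁆ = K at *
  have hA : IsPGroup 2 (P.comap f ⊓ S : Subgroup G) := hS.pgrp.to_inf_right
  haveI nA : (P.comap f ⊓ S).Normal := ⟨fun a ha g => ⟨Normal.conj_mem inferInstance a ha.1 g, by
    obtain ⟨s, hs, e⟩ := h.PS (Normal.conj_mem inferInstance a ha.1 g)
    obtain ⟨j, hj⟩ := isPGroup_iff_mem.1 hS.pgrp a ha.2
    refine mem_of_two_of_sup hO ((le_cent_comm.1 hc).trans (cent_le_norm' S)) (k := j) ?_
      (by rw [conj_pow, hj, mul_one, mul_inv_cancel])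
    simpa using mul_mem (mem_sup_left (T := S) (show g * a * g⁻¹ * s⁻¹ ∈ f.ker by
      rw [MonoidHom.mem_ker, map_mul, map_inv, e, mul_inv_cancel])) (mem_sup_right hs)⟩⟩
  have h5 : ∀ a ∈ P.comap f ⊓ S, ∀ l ∈ K, a * l = l * a := fun a ha l hl => by
    have := eq_one_of hA hO (mul_mem ha (nA.conj_mem _ (inv_mem ha) l)) (by
      rw [MonoidHom.mem_ker]
      simp only [map_mul, map_inv, ← mul_assoc]
      rw [h.LP (h4 hl).1 _ ha.1]
      group)
    rwa [← mul_assoc, ← mul_assoc, mul_inv_eq_one, mul_inv_eq_iff_eq_mul] at this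
  have h6 : S ≤ (P.comap f ⊓ S) ⊔ K := fun s hs => by
    obtain ⟨_, ⟨⟨u, hu, rfl⟩, h6⟩, e⟩ := h.dec _ (mem_map_of_mem f hs)
    obtain ⟨l, hl, e'⟩ := h3 h6
    obtain ⟨j, hj⟩ := isPGroup_iff_mem.1 hS.pgrp u hu
    have h7 : u ∈ K := mem_of_two_of_sup hO le_normalizer_of_normal (k := j) (by
      simpa using mul_mem (mem_sup_left (T := K) (show u * l⁻¹ ∈ f.ker by
        rw [MonoidHom.mem_ker, map_mul, map_inv, e', mul_inv_cancel])) (mem_sup_right hl)) hj
    simpa using mul_mem (mem_sup_left (T := K) (show s * u⁻¹ ∈ P.comap f ⊓ S from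
      ⟨by simpa using e, S.mul_mem hs (S.inv_mem hu)⟩)) (mem_sup_right h7)
  have h7 := le_antisymm hξ.cent fun z hz => mem_bot.1 (center_bot h.pc.as.nab ▸
    mem_center_iff.2 fun y => by
      obtain ⟨y, rfl⟩ := hξ.surj y
      rw [← map_mul, ← map_mul, mem_center_iff.1 hz])
  refine ⟨P.comap f ⊓ S, K, _, inferInstance, Nat.not_even_iff_odd.1 fun e => hS.not_dvd_of_le h6
    (by rw [relIndex_top_right]; exact even_iff_two_dvd.1 e), ⟨⟨fun a b => Subtype.ext
      (cent_of_map hO hS.pgrp b.2.2 a.2.2 (h.cP (mem_map_of_mem f b.2.2) _ a.2.1))⟩⟩, hA, h5, hp, hξ,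
    h7, fun ho => eq_bot_iff.2 fun x hx => mem_bot.2 (eq_one_of_odd_of_two hA hx.1 ?_)⟩
  rw [h7] at ho
  exact orderOf_coe (⟨x, hx.2⟩ : K) ▸ odd_orderOf ho
    (mem_center_iff.2 fun y => Subtype.ext (h5 x hx.1 y y.2).symm)

theorem sl25 (hQ : oOf (⊤ : Subgroup Q) = ⊥) {T : Subgroup Q} (h : St T P L)
    (hE : CIT.F.L2E (im L L)) : Nonempty (L ≃* Matrix.SpecialLinearGroup (Fin 2) (ZMod 5)) := by
  obtain ⟨F, _, _, h5, hq, ⟨e⟩⟩ := L2E_mod hE
  haveI := h.perf
  haveI := perfect_SL2 (F := F) (by omega)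
  have h0 := h.cext hQ
  have hk : (e.toMonoidHom.comp (imHom (L := L) (K := L) le_normalizer)).ker =
      (imHom (L := L) (K := L) le_normalizer).ker := Subgroup.ext fun x => by simp
  obtain ⟨h1, h2⟩ := cover (S2117.result (F := F) (by omega) (by omega))
    (ξ := e.toMonoidHom.comp (imHom le_normalizer)) ⟨e.surjective.comp h0.surj, hk ▸ h0.cent⟩
  have h3 := h.ker_ne (l2e_ab hE)
  rw [hk, Classical.SLBasic.card_center_SL, Nat.card_eq_fintype_card (α := F), Fintype.card_fin]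
    at h1 h2
  rcases hq with hq | hq
  · rw [show Nat.gcd 2 (Fintype.card F - 1) = 1 from Nat.coprime_two_left.2 (Nat.odd_iff.2 (by omega)),
      Nat.dvd_one, card_eq_one] at h1
    exact absurd h1 h3
  · obtain ⟨e'⟩ := (h2 (by rw [hq]; norm_num)).resolve_left h3
    haveI : Fact (Nat.Prime 5) := ⟨by norm_num⟩
    obtain ⟨r⟩ := Classical.Congr.nonempty_ringEquiv (K := F) (F := ZMod 5) (by
      rw [Nat.card_eq_fintype_card, hq, Nat.card_zmod])
    exact ⟨e'.trans (Classical.Congr.slCongr r)⟩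


/-- Structure of finite groups with central Sylow 2-intersections. Let G be a finite group in which the intersection of any two distinct Sylow 2-subgroups is contained in the centre of some Sylow 2-subgroup. Then one of the following holds: G is solvable of 2-length at most one; the Sylow 2-subgroups of G are abelian; G has normal subgroups N < M with N of odd order and M of odd index such that M/N is a central product of an abelian 2-group and a group isomorphic to SL(2, 5); or G has a normal subgroup M of odd index which is either the direct product of an abelian 2-group with a group isomorphic to a Suzuki group Sz(2^(2m+1)) for some m ≥ 1, or to PSU(3, q) or SU(3, q) for some q = 2^n ≥ 4, or a central product of an abelian 2-group with a perfect group L with nontrivial centre whose central quotient is isomorphic to the Suzuki group Sz(8). -/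
theorem result {G : Type*} [Group G] [Finite G]
    (hCI : ∀ S T : Sylow 2 G, S ≠ T → ∃ U : Sylow 2 G,
      (S : Subgroup G) ⊓ (T : Subgroup G) ≤ (Subgroup.center ↥(U : Subgroup G)).map (U : Subgroup G).subtype) :
    (Group.IsSolvable G ∧ Cfsg.PLengthLE 2 1 G) ∨
    (∀ S : Sylow 2 G, IsMulCommutative ↥(S : Subgroup G)) ∨
    (∃ (N M : Subgroup G) (_ : N.Normal) (_ : M.Normal) (_ : (N.subgroupOf M).Normal), N < M ∧ Odd (Nat.card ↥N) ∧ Odd M.index ∧
      ∃ A L : Subgroup (↥M ⧸ N.subgroupOf M), IsMulCommutative ↥A ∧ IsPGroup 2 ↥A ∧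
        Nonempty (↥L ≃* Matrix.SpecialLinearGroup (Fin 2) (ZMod 5)) ∧ (∀ a ∈ A, ∀ l ∈ L, a * l = l * a) ∧ A ⊔ L = ⊤) ∨
    (∃ (M : Subgroup G), M.Normal ∧ Odd M.index ∧ ∃ A L : Subgroup G, IsMulCommutative ↥A ∧ IsPGroup 2 ↥A ∧
      ((Cfsg.IsInternalDirectProduct A L M ∧
          ((∃ (m : ℕ) (F : Type) (_ : Field F) (_ : Fintype F), 1 ≤ m ∧ Fintype.card F = 2 ^ (2 * m + 1) ∧
              Nonempty (↥L ≃* ↥(Cfsg.Lie.Sz F (2 ^ (m + 1))))) ∨
            (∃ (n : ℕ) (F : Type) (_ : Field F) (_ : Fintype F), 2 ≤ n ∧ Fintype.card F = 4 ^ n ∧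
              (Nonempty (↥L ≃* Cfsg.PSU 3 F (2 ^ n)) ∨ Nonempty (↥L ≃* ↥(Cfsg.SU 3 F (2 ^ n))))))) ∨
        (A ≤ M ∧ L ≤ M ∧ (∀ a ∈ A, ∀ l ∈ L, a * l = l * a) ∧ A ⊔ L = M ∧ Group.IsPerfect ↥L ∧
          Subgroup.center ↥L ≠ ⊥ ∧
          ∃ (F : Type) (_ : Field F) (_ : Fintype F), Fintype.card F = 8 ∧
            Nonempty (↥L ⧸ Subgroup.center ↥L ≃* ↥(Cfsg.Lie.Sz F 4))))) := by
  have hC : CI G := fun S T hS hT h => by
    obtain ⟨S, rfl⟩ := hS.exists_sylow_top
    obtain ⟨T, rfl⟩ := hT.exists_sylow_top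
    obtain ⟨U, hU⟩ := hCI S T fun e => h (e ▸ rfl)
    refine ⟨U, isSylowIn_top U, hU.trans (map_subtype_le _), fun u hu d hd => ?_⟩
    obtain ⟨z, hz, rfl⟩ := hU hd
    exact (congrArg Subtype.val (mem_center_iff.1 hz ⟨u, hu⟩)).symm
  obtain ⟨S, hS⟩ := exists_isSylowIn 2 (⊤ : Subgroup G)
  have hs := QuotientGroup.mk'_surjective (oddCore G)
  have ho : Odd (Nat.card (oddCore G)) := Nat.coprime_two_right.1 (Comp2.pPrimeCore_coprime 2)
  have ho' : Odd (Nat.card (QuotientGroup.mk' (oddCore G)).ker) := by rwa [QuotientGroup.ker_mk']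
  have h1 := hS.map (QuotientGroup.mk' (oddCore G))
  rw [map_top_of_surjective _ hs] at h1
  have hO : oOf (⊤ : Subgroup (G ⧸ oddCore G)) = ⊥ := le_bot_iff.1 (by
    haveI := normalizer_eq_top_iff.1 (top_le_iff.1 (le_normalizer_oOf (⊤ : Subgroup (G ⧸ oddCore G))))
    exact Core.pPrimeCore_quotient_pPrimeCore (G := G) 2 ▸
      Comp2.le_pPrimeCore (Nat.coprime_two_right.2 (odd_oOf _)))
  by_cases hab : S.map (QuotientGroup.mk' (oddCore G)) ≤ 𝐂(S.map (QuotientGroup.mk' (oddCore G)))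
  · refine .inr (.inl fun T => PLocal.AbelianTwo.of_sylow hS.toSylowTop ⟨⟨fun a b => Subtype.ext
      (cent_of_map ho' hS.pgrp b.2 a.2 (hab (mem_map_of_mem _ b.2) _ (mem_map_of_mem _ a.2)))⟩⟩
        T T.isPGroup')
  rcases (hC.quot _ hs).st hO h1 hab with hN | ⟨P, L, h⟩
  · generalize S.map (QuotientGroup.mk' (oddCore G)) = T at hN h1
    have h2 : ¬ 2 ∣ T.index := relIndex_top_right T ▸ h1.not_dvd
    refine .inl ⟨?_, Core.PLengthLE.of_quotient_pPrime _ (Comp2.pPrimeCore_coprime 2)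
      (Core.PLengthLE.of_normal_index T h2 (Core.pLengthLE_one_of_isPGroup h1.pgrp))⟩
    haveI := solv_of_odd ho
    haveI := solv_of_norm h1 le_normalizer_of_normal
    haveI : Group.IsSolvable (G ⧸ oddCore G) := Group.isSolvable_of_surjective
      (f := (⊤ : Subgroup (G ⧸ oddCore G)).subtype) fun x => ⟨⟨x, mem_top x⟩, rfl⟩
    exact Group.isSolvable_of_ker_le_range (oddCore G).subtype (QuotientGroup.mk' (oddCore G)) (by simp)
  haveI := h.pc.as.simple
  haveI := h.nL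
  haveI := h.nP
  have key := fun hab => lift hs ho' hO hS h (cent_ker hC hs ho' hS h hab)
  refine .inr (.inr ?_)
  rcases se_cases h.se with hE | hE | hE
  · obtain ⟨e₀⟩ := sl25 hO h hE
    have e : ((P ⊔ L).comap (QuotientGroup.mk' (oddCore G)) ⧸ (oddCore G).subgroupOf
        ((P ⊔ L).comap (QuotientGroup.mk' (oddCore G)))) ≃* (P ⊔ L : Subgroup _) :=
      (QuotientGroup.quotientMulEquivOfEq (Subgroup.ext fun x =>
        (QuotientGroup.eq_one_iff (N := oddCore G) x.1).symm.trans ⟨fun h => Subtype.ext h,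
          fun h => congrArg Subtype.val h⟩)).trans (QuotientGroup.quotientKerEquivOfSurjective _
            ((QuotientGroup.mk' _).subgroupComap_surjective_of_surjective (P ⊔ L) hs))
    refine .inl ⟨oddCore G, (P ⊔ L).comap (QuotientGroup.mk' (oddCore G)), inferInstance,
      inferInstance, inferInstance, lt_of_le_of_ne
        ((QuotientGroup.ker_mk' _).ge.trans (ker_le_comap _ _)) fun k => h.pc.not_le_Cent ?_, ho, ?_,
      (P.subgroupOf (P ⊔ L)).comap e.toMonoidHom, (L.subgroupOf (P ⊔ L)).comap e.toMonoidHom,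
      ⟨⟨fun a b => Subtype.ext (e.injective ?_)⟩⟩,
      (isPGroup_subgroupOf (h1.pgrp.to_le h.PS)).comap_of_injective _ e.injective,
      ⟨(comapEquiv e _).trans ((subgroupOfEquivOfLe le_sup_right).trans e₀)⟩,
      fun a ha l hl => e.injective ?_, ?_⟩
    · intro l hl
      obtain ⟨g, rfl⟩ := hs l
      rw [QuotientGroup.mk'_apply, (QuotientGroup.eq_one_iff g).2 (k.ge (mem_sup_right hl))]
      exact one_mem _
    · rw [index_comap_of_surjective _ hs]
      exact Nat.not_even_iff_odd.1 fun e => h1.not_dvd_of_le h.le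
        (by rw [relIndex_top_right]; exact even_iff_two_dvd.1 e)
    · rw [coe_mul, coe_mul, map_mul, map_mul]
      exact Subtype.ext (h.cP (h.PS b.2) _ a.2)
    · rw [map_mul, map_mul]
      exact Subtype.ext (h.LP hl _ ha)
    · rw [comap_sup_eq _ _ _ e.surjective, ← QuoApi.subgroupOf_sup' le_sup_left le_sup_right,
        subgroupOf_self, comap_top]
  · obtain ⟨A, K, ξ, k1, k2, k3, k4, k5, k6, k7, k8, k9⟩ := key (FGS.not_abelianTwo_sz hE)
    obtain ⟨F, _, _, m, hm, hF, ⟨e⟩⟩ := hE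
    refine .inr ⟨A ⊔ K, k1, k2, A, K, k3, k4, (em (ξ.ker = ⊥)).imp (fun h0 =>
      ⟨⟨le_sup_left, le_sup_right, k5, k9 (by rw [h0, card_bot]; exact odd_one), rfl⟩,
        .inl ⟨m, F, _, _, hm, hF, ⟨(MulEquiv.ofBijective ξ ⟨ξ.ker_eq_bot_iff.1 h0, k7.surj⟩).trans e⟩⟩⟩)
      fun h0 => ?_⟩
    obtain rfl : m = 1 := by_contra fun hm' => h0 (ker_eq_bot (has_congr
      (S2111.result (by omega) hF) e.symm (.refl _)) (stem_of_perfect k7))
    exact ⟨le_sup_left, le_sup_right, k5, rfl, k6, k8 ▸ h0, F, _, _, hF,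
      ⟨(QuotientGroup.quotientMulEquivOfEq k8.symm).trans
        ((QuotientGroup.quotientKerEquivOfSurjective ξ k7.surj).trans e)⟩⟩
  · obtain ⟨A, K, ξ, k1, k2, k3, k4, k5, k6, k7, k8, k9⟩ := key (FGS.not_abelianTwo_u3 hE)
    obtain ⟨n, F, _, _, hn, hF, ⟨e⟩⟩ := hE
    have hF2 := hF.trans (four_pow n).symm
    have hF' := Herm.natCard_of_card hF2
    have hB := Herm.hf_sB hF' 3
    have h4 : 4 ≤ 2 ^ n := Nat.pow_le_pow_right two_pos hn
    haveI : Group.IsPerfect (Herm.SUG (Herm.sB hF' 3)) :=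
      ⟨hB.SUG_perfect hF' (by simp) (by simp; omega)⟩
    have hc := hB.card_center_SUG hF' (by simp)
    rw [Module.finrank_fin_fun] at hc
    have e' := e.trans (Classical.Congr.centerQuotCongr (Herm.toSUG hF' 3))
    have hk : (e'.toMonoidHom.comp ξ).ker = ξ.ker := Subgroup.ext fun x => by simp
    obtain ⟨c1, c2⟩ := cover (Mult.SU.has_SU hF2 le_rfl (by omega) (by omega))
      (ξ := e'.toMonoidHom.comp ξ) ⟨e'.surjective.comp k7.surj, hk ▸ k7.cent⟩
    rw [hk, hc] at c1 c2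
    have c3 := Nat.gcd_dvd_left 3 (2 ^ n + 1)
    refine .inr ⟨A ⊔ K, k1, k2, A, K, k3, k4, .inl ⟨⟨le_sup_left, le_sup_right, k5,
      k9 (Odd.of_dvd_nat (by norm_num) (c1.trans c3)), rfl⟩, .inr ⟨n, F, inferInstance, inferInstance, hn, hF, ?_⟩⟩⟩
    have c4 : ξ.ker = ⊥ ∨ Nonempty (K ≃* Herm.SUG (Herm.sB hF' 3)) :=
      ((Nat.dvd_prime Nat.prime_three).1 c3).elim
        (fun c => .inl (card_eq_one.1 (Nat.dvd_one.1 (c ▸ c1)))) fun c => c2 (c.symm ▸ Nat.prime_three)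
    exact c4.imp (fun h0 => ⟨(MulEquiv.ofBijective ξ ⟨ξ.ker_eq_bot_iff.1 h0, k7.surj⟩).trans e⟩)
      fun ⟨c⟩ => ⟨c.trans (Herm.toSUG hF' 3).symm⟩

end Cfsg.Agent.S3181
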