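import Mathlib
import Cfsg.Statements.S3186
import Cfsg.Agent.Fil.N

set_option autoImplicit false
open Cfsg

namespace Cfsg.Agent.S3186

open Subgroup Cfsg.Agent.GW Cfsg.Agent.LocalEven Cfsg.Agent.BG Cfsg.Agent.Gs Cfsg.Agent.GsC
  Cfsg.Agent.GsD Cfsg.Agent.Fil

theorem c2_of_sq {G : Type*} [Group G] {S : Subgroup G} (h : ∀ s ∈ S, s * s ∈ 𝐂(S)) : C2 S :=
  fun a ha b hb => by
    convert mul_mem (mul_mem (h a ha) (h _ (mul_mem (inv_mem ha) hb))) (h _ (inv_mem hb)) using 1
    group


/-- Let G be a non-abelian finite simple group in which the intersection of any two distinct Sylow 2-subgroups is abelian. Then a Sylow 2-subgroup of G is either dihedral (of order at least 4) or of nilpotency class at most two (its derived subgroup is central). -/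
theorem result {G : Type*} [Group G] [Finite G] [IsSimpleGroup G]
    (hG : ¬ IsMulCommutative G)
    (hA : ∀ S T : Sylow 2 G, S ≠ T → IsMulCommutative ↥((S : Subgroup G) ⊓ (T : Subgroup G))) (S : Sylow 2 G) :
    (∃ m : ℕ, 2 ≤ m ∧ Nonempty (↥(S : Subgroup G) ≃* DihedralGroup m)) ∨
      commutator ↥(S : Subgroup G) ≤ Subgroup.center ↥(S : Subgroup G) := by
  by_cases nc : C2 (S : Subgroup G)
  · exact Or.inr (commutator_le.2 fun a _ b _ => mem_center_iff.2 fun c =>
      Subtype.ext (nc a a.2 b b.2 c c.2))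
  have H : AH (S : Subgroup G) := ⟨isSylowIn_top S, fun g a b ha hb h1 h2 h => by
      by_contra k
      refine h (Core.comm_of_isMulCommutative (hA S (g⁻¹ • S) fun e => k (inv_mem_iff.1
        (Sylow.smul_eq_iff_mem_normalizer.1 e.symm))) ⟨ha, ?_⟩ ⟨hb, ?_⟩) <;>
        exact Inv.mem_sylow_smul.2 (by rwa [inv_inv]),
    fun W h sq => by_contra fun h0 => nc (c2_of_sq fun s hs => by
      have := gold hG (sc_of_closed S h sq) h0
      by_cases e : SE G
      · obtain ⟨V, H, hB⟩ := (as_top hG).exists_BD (e.of_equiv topEquiv.symm) (isSylowIn_top S)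
        exact le_centralizer_iff.1 hB.central (hB.sq_mem s hs)
      · rw [elem_of_gold hG this e S s hs]
        exact one_mem _),
    fun M h => (le_inf le_rfl (le_top.trans (as_top hG).perfect.ge)).trans
      (Glaub.focal_le (isSylowIn_top S) fun x hx g _ => h x hx g), nc⟩
  obtain ⟨D, c, u, C⟩ := H.gc
  exact Or.inl C.dihedral

end Cfsg.Agent.S3186
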