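import Mathlib
import Cfsg.Agent.Ab2.Main
import Cfsg.Statements.S3188
-- import your own Cfsg.Agent.* helpers here

set_option autoImplicit false
open Cfsg

namespace Cfsg.Agent.S3188

/-- Let G be a finite group with abelian Sylow 2-subgroups in which the centralizer of every involution is solvable. Then either G is solvable, or G modulo its largest normal subgroup of odd order has a normal subgroup isomorphic to PSL(2, q) with trivial centralizer (so that the quotient embeds in the automorphism group of PSL(2, q)), where q ≡ 3 or 5 mod 8 with q ≥ 5, or q = 2^n with n ≥ 2. -/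
theorem result {G : Type*} [Group G] [Finite G]
    (S : Sylow 2 G) (hS : IsMulCommutative ↥(S : Subgroup G))
    (hC : ∀ t : G, orderOf t = 2 → Group.IsSolvable ↥(Subgroup.centralizer ({t} : Set G))) :
    Group.IsSolvable G ∨
      ∃ (F : Type) (_ : Field F) (_ : Fintype F),
        (((Fintype.card F % 8 = 3 ∨ Fintype.card F % 8 = 5) ∧ 5 ≤ Fintype.card F) ∨
          (∃ n : ℕ, 2 ≤ n ∧ Fintype.card F = 2 ^ n)) ∧
        ∃ N : Subgroup (G ⧸ Cfsg.oddCore G), N.Normal ∧
          Nonempty (↥N ≃* Matrix.ProjectiveSpecialLinearGroup (Fin 2) F) ∧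
          Subgroup.centralizer (N : Set (G ⧸ Cfsg.oddCore G)) = ⊥ := by
  haveI : Fact (Nat.Prime 2) := ⟨Nat.prime_two⟩
  refine or_iff_not_imp_left.2 fun hs => ?_
  have ho := Inv.odd_card_oddCore (G := G)
  haveI hO := S0205.result ho
  let π := QuotientGroup.mk' (Cfsg.oddCore G)
  have hπ : Function.Surjective π := QuotientGroup.mk'_surjective _
  have hk : π.ker = Cfsg.oddCore G := QuotientGroup.ker_mk' _
  have hS' : IsMulCommutative (S.mapSurjective hπ : Subgroup (G ⧸ Cfsg.oddCore G)) :=
    Core.isMulCommutative_of_forall (by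
      rintro _ ⟨a, ha, rfl⟩ _ ⟨b, hb, rfl⟩
      rw [← map_mul, Core.comm_of_isMulCommutative hS ha hb, map_mul])
  have hC' : ∀ t : G ⧸ Cfsg.oddCore G, orderOf t = 2 →
      Group.IsSolvable (Subgroup.centralizer ({t} : Set (G ⧸ Cfsg.oddCore G))) := fun u hu => by
    obtain ⟨x, rfl⟩ := hπ u
    obtain ⟨k, hk'⟩ := ho
    have h1 : π (x ^ (2 * k + 1)) = π x := by
      rw [map_pow, pow_succ, pow_mul, Inv.sq_of_two hu, one_pow, one_mul]
    have h2 : orderOf (x ^ (2 * k + 1)) = 2 := by
      refine orderOf_eq_prime ?_ fun e => Inv.ne_one_of_two hu (by rw [← h1, e, map_one])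
      have h3 : x ^ 2 ∈ Cfsg.oddCore G := by
        rw [← hk, MonoidHom.mem_ker, map_pow]; exact Inv.sq_of_two hu
      rw [← pow_mul, mul_comm, pow_mul, ← hk']
      exact congrArg Subtype.val (pow_card_eq_one' (x := (⟨_, h3⟩ : Cfsg.oddCore G)))
    have h4 := Core.centralizer_map_of_coprime_ker hπ (Subgroup.zpowers (x ^ (2 * k + 1)))
      (by rw [Nat.card_zpowers, h2, hk, hk']; simp) (.inr (by rw [hk]; exact hO))
    rw [MonoidHom.map_zpowers, h1, Subgroup.zpowers_eq_closure, Subgroup.zpowers_eq_closure,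
      Subgroup.centralizer_closure, Subgroup.centralizer_closure] at h4
    rw [h4]
    haveI := hC _ h2
    exact Group.isSolvable_of_surjective (π.subgroupMap_surjective _)
  obtain ⟨N, hN, hsim, hna, hc⟩ := Ab2.exists_simple (fun _ => hs
    (Group.isSolvable_of_ker_le_range (Cfsg.oddCore G).subtype π (by simp [hk])))
    (Core.pPrimeCore_quotient_pPrimeCore 2) _ hS' hC'
  obtain ⟨T⟩ : Nonempty (Sylow 2 N) := inferInstance
  obtain ⟨F, _, _, h1, h2⟩ := Ab2.simple_case hna T (Core.isMulCommutative_of_forall fun a ha b hb =>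
    Subtype.ext (Core.comm_of_isMulCommutative (Ab2.two_comm _ hS' (T.isPGroup'.map N.subtype))
      ⟨a, ha, rfl⟩ ⟨b, hb, rfl⟩)) fun t ht => by
    haveI := hC' t (by rw [Subgroup.orderOf_coe, ht])
    exact Group.isSolvable_of_isSolvable_injective (f := (N.subtype.comp (Subgroup.centralizer {t}).subtype).codRestrict
      (Subgroup.centralizer {(t : G ⧸ Cfsg.oddCore G)}) fun a => Subgroup.mem_centralizer_singleton_iff.2
        (congrArg Subtype.val (Subgroup.mem_centralizer_singleton_iff.1 a.2)))
      fun a b e => by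
        have := congrArg Subtype.val e
        exact Subtype.ext (Subtype.ext this)
  exact ⟨F, inferInstance, inferInstance, h1, N, hN, h2, hc⟩

end Cfsg.Agent.S3188
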