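import Mathlib
import Cfsg.Agent.Ab2.Main
import Cfsg.Statements.S3189
-- import your own Cfsg.Agent.* helpers here

set_option autoImplicit false
open Cfsg

namespace Cfsg.Agent.S3189

/-- Let G be a non-abelian finite simple group whose Sylow 2-subgroup S is elementary abelian of order 8, and suppose the centralizer of every involution of G is solvable. Then the normalizer of S modulo the centralizer of S has order 7. -/
theorem result {G : Type*} [Group G] [Finite G]
    [IsSimpleGroup G] (hG : ¬ IsMulCommutative G) (S : Sylow 2 G)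
    (hS : Cfsg.IsElementaryAbelian 2 (S : Subgroup G)) (hS8 : Nat.card ↥(S : Subgroup G) = 8)
    (hC : ∀ t : G, orderOf t = 2 → Group.IsSolvable ↥(Subgroup.centralizer ({t} : Set G))) :
    (Subgroup.centralizer ((S : Subgroup G) : Set G)).relIndex (Subgroup.normalizer ((S : Subgroup G) : Set G)) = 7 := by
  have h3 : ¬ Cfsg.PRankLE 2 2 G := fun h => by
    have := h _ hS.1 hS.2
    rw [hS8] at this; norm_num at this
  have hH := Ab2.se_of_rank hG S hS.1 hC h3
  obtain ⟨F, _, _, n, -, -, h1, h2, -⟩ := Ab2.simple_se hG hH S hS.1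
  rw [← h1, hS8] at h2
  exact (Ab2.card_norm_56 h2 S hS hS8 hH).2

end Cfsg.Agent.S3189
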