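import Mathlib
import Cfsg.Statements.S3192
import Cfsg.Agent.Part.R4e
import Cfsg.Agent.S2507

set_option autoImplicit false
open Cfsg

namespace Cfsg.Agent.S3192


/-- Simple groups of conjugate type rank three. For a finite group G consider the set of indices of the centralizers of the non-central elements of G. Then G is a non-abelian simple group for which this set has exactly three members if and only if G is isomorphic to PSL(2, 2^m) for some m ≥ 2. -/
theorem result (G : Type*) [Group G] [Finite G] :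
    (IsSimpleGroup G ∧ ¬ IsMulCommutative G ∧
        Set.ncard {m : ℕ | ∃ x : G, x ∉ Subgroup.center G ∧ m = (Subgroup.centralizer ({x} : Set G)).index} = 3) ↔
      ∃ (m : ℕ) (F : Type) (_ : Field F) (_ : Fintype F), 2 ≤ m ∧ Fintype.card F = 2 ^ m ∧
        Nonempty (G ≃* Matrix.ProjectiveSpecialLinearGroup (Fin 2) F) := by
  constructor
  · rintro ⟨h1, h2, h3⟩
    have hZ := Part.center_eq_bot_of_simple h2
    obtain ⟨F, _, _, ⟨a, ha, hF⟩, e⟩ := Part.rank3 hZ (Part.not_solv_of_simple h2)
      (Set.finite_of_ncard_ne_zero (by omega)) h3.le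
      fun x hx => ⟨x, by rwa [hZ, Subgroup.mem_bot], rfl⟩
    exact ⟨a, F, inferInstance, inferInstance, ha, hF, e⟩
  · rintro ⟨m, F, _, _, hm, hF, ⟨e⟩⟩
    have h4 : 4 ≤ Fintype.card F := hF ▸ Nat.pow_le_pow_right two_pos hm
    have := Matrix.ProjectiveSpecialLinearGroup.rank_two_simple (F := F)
      (by rwa [Nat.card_eq_fintype_card])
    have h1 := (Part.range_equiv e).trans (S2507.result (hF ▸ dvd_pow_self 2 (by omega)) h4)
    have h2 : Set.ncard {m : ℕ | ∃ x : G, x ∉ Subgroup.center G ∧
        m = (Subgroup.centralizer ({x} : Set G)).index} = 3 := by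
      rw [Part.sizes_eq, h1]
      obtain ⟨q, hq⟩ : ∃ q, Fintype.card F = q + 1 := ⟨_, (Nat.sub_add_cancel (by omega)).symm⟩
      have e1 : (q + 1) ^ 2 - 1 = q * (q + 2) := by
        rw [Nat.sub_eq_iff_eq_add (Nat.one_le_pow _ _ (by omega))]; ring
      rw [hq] at h4
      rw [hq, e1, Nat.add_sub_cancel, Set.insert_diff_self_of_notMem (by
        simp only [Set.mem_insert_iff, Set.mem_singleton_iff]
        rintro (h | h | h) <;> nlinarith)]
      exact Set.ncard_eq_three.2 ⟨_, _, _, by nlinarith, by nlinarith, by nlinarith, rfl⟩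
    refine ⟨e.isSimpleGroup, fun h => ?_, h2⟩
    obtain ⟨_, x, hx, -⟩ := Set.nonempty_of_ncard_ne_zero (h2 ▸ three_ne_zero)
    exact hx (Subgroup.mem_center_iff.2 fun g => h.1.1 g x)

end Cfsg.Agent.S3192
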