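import Mathlib
import Cfsg.Statements.S3196
import Cfsg.Agent.BG.Rank3
import Cfsg.Agent.Perm.Small
import Cfsg.Agent.LocalEven.SylowIn

set_option autoImplicit false
open Cfsg

namespace Cfsg.Agent.S3196

open Subgroup Cfsg.Agent.LocalEven Cfsg.Agent.BG.Rank

/-- Let p be a prime and K a set of subgroups of order p of a finite group G, closed under conjugation, such that at least two distinct members of K commute elementwise, and whenever two distinct members X, Y of K commute: every subgroup of order p of the group XY they generate belongs to K, and every member W of K has centralizer meeting XY nontrivially. Then some member V of K commutes elementwise with every member of K and lies in O_p(G); in particular G is not simple. -/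
theorem result {G : Type*} [Group G] [Finite G]
    {p : ℕ} (hp : p.Prime) (K : Set (Subgroup G)) (hK : ∀ X ∈ K, Nat.card ↥X = p)
    (hKc : ∀ X ∈ K, ∀ g : G, X.map (MulAut.conj g).toMonoidHom ∈ K)
    (hex : ∃ X ∈ K, ∃ Y ∈ K, X ≠ Y ∧ ∀ x ∈ X, ∀ y ∈ Y, x * y = y * x)
    (ha : ∀ X ∈ K, ∀ Y ∈ K, X ≠ Y → (∀ x ∈ X, ∀ y ∈ Y, x * y = y * x) →
      ∀ Z : Subgroup G, Z ≤ X ⊔ Y → Nat.card ↥Z = p → Z ∈ K)
    (hb : ∀ X ∈ K, ∀ Y ∈ K, X ≠ Y → (∀ x ∈ X, ∀ y ∈ Y, x * y = y * x) →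
      ∀ W ∈ K, (X ⊔ Y) ⊓ Subgroup.centralizer (W : Set G) ≠ ⊥) :
    (∃ V ∈ K, (∀ W ∈ K, ∀ v ∈ V, ∀ w ∈ W, v * w = w * v) ∧ V ≤ Cfsg.pCore p G) ∧ ¬ IsSimpleGroup G := by
  haveI : Fact p.Prime := ⟨hp⟩
  let c : Subgroup G → Subgroup G → Prop := fun A B => A ≤ centralizer (B : Set G)
  have cs : ∀ {A B}, c A B → c B A := fun h => le_centralizer_iff.1 h
  have cr : ∀ A ∈ K, c A A := fun A hA => BG.B10.card_prime_le_cent (hK A hA)
  have cc : ∀ {A B}, c A B → ∀ x ∈ A, ∀ y ∈ B, x * y = y * x := fun h x hx y hy => (h hx y hy).symm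
  have hE : ∀ {A B}, A ∈ K → B ∈ K → A ≠ B → c A B → _ := fun hA hB h1 h2 =>
    pnElem_two_sup (H := ⊤) (hK _ hA) (hK _ hB) le_top le_top (cs h2) h1
  have hZ : ∀ {A B}, A ∈ K → B ∈ K → A ≠ B → c A B → ∀ x ∈ A ⊔ B, x ≠ 1 → zpowers x ∈ K := fun hA hB h1 h2 x hx x1 =>
    ha _ hA _ hB h1 (cc h2) _ (zpowers_le.2 hx) (by
      rw [Nat.card_zpowers]; exact orderOf_eq_prime ((hE hA hB h1 h2).2.1.2 x hx) x1)
  have L1 : ∀ {A B W}, A ∈ K → B ∈ K → A ≠ B → c A B → W ∈ K → ∃ Z ∈ K, Z ≤ A ⊔ B ∧ c Z W :=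
    fun hA hB h1 h2 hW => by
      obtain ⟨⟨x, hx⟩, x1⟩ := ne_bot_iff_exists_ne_one.1 (hb _ hA _ hB h1 (cc h2) _ hW)
      exact ⟨_, hZ hA hB h1 h2 x hx.1 (by simpa using x1), zpowers_le.2 hx.1, zpowers_le.2 hx.2⟩
  have L0 : ∀ {A B C D}, A ∈ K → B ∈ K → A ≠ B → c A B → C ∈ K → D ∈ K → C ≠ D → C ≤ A ⊔ B → D ≤ A ⊔ B →
      C ⊔ D = A ⊔ B := fun hA hB h1 h2 hC hD h3 h4 h5 =>
    sup_eq_of_ne (hE hA hB h1 h2).2.2 (hK _ hC) (hK _ hD) h4 h5 h3
  have L2 : ∀ {A B C D W}, A ∈ K → B ∈ K → A ≠ B → c A B → C ∈ K → D ∈ K → C ≠ D → C ≤ A ⊔ B → D ≤ A ⊔ B →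
      c C W → c D W → c (A ⊔ B) W := fun hA hB h1 h2 hC hD h3 h4 h5 h6 h7 =>
    (L0 hA hB h1 h2 hC hD h3 h4 h5).ge.trans (sup_le h6 h7)
  have ex : ∀ A ∈ K, ∃ a ∈ A, a ≠ 1 := fun A hA => by
    obtain ⟨a, h1, h2⟩ := exists_mem_orderOf_eq (hK A hA).symm.dvd
    exact ⟨a, h1, ne_one_of_orderOf_eq h2⟩
  have L3 : ∀ {A B}, A ∈ K → B ∈ K → A ≠ B → c A B → ∃ Q ∈ K, Q ≤ A ⊔ B ∧ Q ≠ A ∧ Q ≠ B := fun hA hB h1 h2 => by
    obtain ⟨a, a1, a2⟩ := ex _ hA
    obtain ⟨b, b1, b2⟩ := ex _ hB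
    have k1 : a * b ∉ _ := fun h => h1 (Perm.eq_of_mem_of_card_prime (hK _ hA) (hK _ hB)
      ((mul_mem_cancel_left a1).1 h) b1 b2)
    have k2 : a * b ∉ _ := fun h => h1 (Perm.eq_of_mem_of_card_prime (hK _ hA) (hK _ hB) a1
      ((mul_mem_cancel_right b1).1 h) a2)
    exact ⟨_, hZ hA hB h1 h2 _ (mul_mem_sup a1 b1) fun e => k1 (e ▸ one_mem _), zpowers_le.2 (mul_mem_sup a1 b1),
      fun e => k1 (e ▸ mem_zpowers _), fun e => k2 (e ▸ mem_zpowers _)⟩
  obtain ⟨X, hX, Y, hY, hXY, hc⟩ := hex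
  obtain ⟨V, hV, hVc⟩ : ∃ V ∈ K, ∀ W ∈ K, c V W := by
    by_contra nd
    push Not at nd
    have BS : ∀ a ∈ K, ∀ b ∈ K, (∀ s ∈ K, c s a → c s b) → a = b := fun a ha b hb h => by
      by_contra hab
      have h1 := h a ha (cr a ha)
      obtain ⟨e, he, h2⟩ := nd b hb
      obtain ⟨d, hd, h3, h4⟩ := L1 ha hb hab h1 he
      have hdb : c d b := h3.trans (sup_le h1 (cr b hb))
      have hde : d ≠ e := fun h => h2 (cs (h ▸ hdb))
      obtain ⟨f, hf, h5⟩ := nd d hd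
      obtain ⟨g, hg, h6, h7⟩ := L1 hd he hde h4 hf
      have hgd : c g d := h6.trans (sup_le (cr d hd) (cs h4))
      have hgf : g ≠ f := fun h => h5 (cs (h ▸ hgd))
      obtain ⟨k, hk, h8, h9⟩ := L1 hg hf hgf h7 ha
      have hkd : c k d := cs (h3.trans (sup_le (cs h9) (cs (h k hk h9))))
      by_cases e1 : k = g
      · subst e1
        exact h2 (cs (le_sup_right.trans (L2 hd he hde h4 hd hk (fun e => h5 (e ▸ h7)) le_sup_left h6 hdb
          (h k hk h9))))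
      · exact h5 (cs (le_sup_right.trans (L2 hg hf hgf h7 hk hg e1 h8 le_sup_left hkd hgd)))
    obtain ⟨U, hU, h1⟩ := nd X hX
    have hXY' : c X Y := fun x hx y hy => (hc x hx y hy).symm
    obtain ⟨Z, hZ, h2, h3⟩ := L1 hX hY hXY hXY' hU
    have hXZ : c Z X := h2.trans (sup_le (cr X hX) (cs hXY'))
    have hne : Z ≠ X := fun e => h1 (e ▸ h3)
    obtain ⟨T, hT, h4, h5⟩ : ∃ T ∈ K, c T U ∧ ¬ c T Z := by
      by_contra h
      push Not at h
      exact h1 (cs (BS U hU Z hZ h ▸ hXZ))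
    refine h1 (cs (le_centralizer_of_card_prime (IsPGroup.of_card ((hK X hX).trans (pow_one p).symm))
      (fun x hx => cj_eq_self_iff.1 (BS U hU _ (hKc U hU x) ?_).symm) (hK U hU)))
    have hU' : cj x U ∈ K := hKc U hU x
    have fix : ∀ {A B}, c A B → ∀ a ∈ A, cj a B = B := fun h a ha =>
      cj_eq_self_iff.2 (centralizer_le_normalizer _ (h ha))
    have cjc : ∀ {A B} g, c A B → c (cj g A) (cj g B) := fun g h => (cj_mono g h).trans (cj_centralizer g _).le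
    have s1 : ∀ S ∈ K, c S U → ¬ c S Z → c S (cj x U) := fun S hS h6 h7 => by
      obtain ⟨R, hR, h8, h9⟩ := L1 hZ hX hne hXZ hS
      have hRZ : R ≠ Z := fun e => h7 (cs (e ▸ h9))
      have : x ∈ R ⊔ Z := (L0 hZ hX hne hXZ hR hZ hRZ h8 le_sup_left).ge (mem_sup_right hx)
      obtain ⟨r, hr, z, hz, rfl⟩ := (Core.mem_sup_of_le_normalizer ((cs
        (h8.trans (sup_le (cr Z hZ) (cs hXZ)))).trans (centralizer_le_normalizer _))).1 this
      rw [cj_mul, fix h3 z hz, ← fix h9 r hr]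
      exact cjc r h6
    have s2 : ∀ S ∈ K, c S U → c S Z → ∀ T ∈ K, c T U → ¬ c T Z → c S T → c S (cj x U) :=
      fun S hS h6 h7 T hT h8 h9 h10 => by
        have hST : S ≠ T := fun e => h9 (e ▸ h7)
        obtain ⟨Q, hQ, q1, q2, q3⟩ := L3 hS hT hST h10
        exact le_sup_left.trans (L2 hS hT hST h10 hQ hT q3 q1 le_sup_right (s1 Q hQ (q1.trans (sup_le h6 h8))
          fun h => h9 (le_sup_right.trans (L2 hS hT hST h10 hQ hS q2 q1 le_sup_left h h7))) (s1 T hT h8 h9))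
    have hUU := s2 U hU (cr U hU) (cs h3) T hT h4 h5 (cs h4)
    have hUZ : c (cj x U) Z := fix (cs hXZ) x hx ▸ cjc x (cs h3)
    intro S hS h6
    by_contra h7
    have h8 : c S Z := by_contra fun h => h7 (s1 S hS h6 h)
    have hT' : T ≠ cj x U := fun e => h5 (e ▸ hUZ)
    obtain ⟨R, hR, r1, r2⟩ := L1 hT hU' hT' (s1 T hT h4 h5) hS
    exact h7 (s2 S hS h6 h8 R hR (r1.trans (sup_le h4 (cs hUU))) (fun h => h5 (le_sup_left.trans
      (L2 hT hU' hT' (s1 T hT h4 h5) hR hU' (fun e : R = cj x U => h7 (cs (show c (cj x U) S from e ▸ r2))) r1 le_sup_right h hUZ))) (cs r2))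
  have hVp : IsPGroup p V := IsPGroup.of_card ((hK V hV).trans (pow_one p).symm)
  have hO : V ≤ pCore p G := Core.le_pCore_of_isSubnormal (by
    have h1 : normalClosure (V : Set G) ≤ centralizer (V : Set G) := (closure_le _).2 fun x hx => by
      obtain ⟨v, hv, h⟩ := Group.mem_conjugatesOfSet_iff.1 hx
      obtain ⟨g, rfl⟩ := isConj_iff.1 h
      exact cs (hVc _ (hKc V hV g)) (conj_mem_cj hv)
    exact IsSubnormal.step _ _ le_normalClosure normalClosure_normal.isSubnormal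
      ((normal_subgroupOf_iff_le_normalizer le_normalClosure).2 (h1.trans (centralizer_le_normalizer _)))) hVp
  refine ⟨⟨V, hV, fun W hW => cc (hVc W hW), hO⟩, fun hs => ?_⟩
  obtain ⟨v, v1, v2⟩ := ex V hV
  have h1 := Core.pCore_eq_top_iff.1 ((inferInstance : (pCore p G).Normal).eq_bot_or_eq_top.resolve_left
    fun e => v2 (mem_bot.1 (e ▸ hO v1)))
  by_cases hG : IsMulCommutative G
  · have : ∀ A ∈ K, A = ⊤ := fun A hA => (normal_of_isMulCommutative A).eq_bot_or_eq_top.resolve_left fun e => by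
      obtain ⟨a, a1, a2⟩ := ex A hA
      exact a2 (mem_bot.1 (e ▸ a1))
    exact hXY ((this X hX).trans (this Y hY).symm)
  · exact Perm.not_isPGroup_of_simple hG h1

end Cfsg.Agent.S3196
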