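import Mathlib
import Cfsg.Agent.GC.A8
import Cfsg.Statements.S3197
-- import your own Cfsg.Agent.* helpers here

set_option autoImplicit false
open Cfsg

namespace Cfsg.Agent.S3197

open Subgroup Cfsg.Agent.GC Cfsg.Agent.GW Cfsg.Agent.LocalEven Cfsg.Agent.BG Cfsg.Agent.Gs

/-- Let G be a finite group whose Sylow 2-subgroups are isomorphic to those of the alternating group of degree 8, with exactly three conjugacy classes of involutions, and containing an elementary abelian subgroup A of order 16 whose normalizer N satisfies: A·O(N) is normal in N with quotient N/(A·O(N)) isomorphic to the alternating group of degree 5, O(N) being the largest normal subgroup of odd order of N. Then A·O(G) is a normal subgroup of G. -/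
theorem result {G : Type*} [Group G] [Finite G]
    (S : Sylow 2 G) (P : Sylow 2 ↥(alternatingGroup (Fin 8)))
    (hS : Nonempty (↥(S : Subgroup G) ≃* ↥(P : Subgroup ↥(alternatingGroup (Fin 8)))))
    (h3 : Nat.card {c : ConjClasses G // ∃ x ∈ c.carrier, orderOf x = 2} = 3)
    (A : Subgroup G) (hA : Cfsg.IsElementaryAbelian 2 A) (hA16 : Nat.card ↥A = 16)
    (N : Subgroup G) (hN : N = Subgroup.normalizer (A : Set G))
    (hNA : ∃ (_ : (A.subgroupOf N ⊔ Cfsg.oddCore ↥N).Normal),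
      Nonempty (↥N ⧸ (A.subgroupOf N ⊔ Cfsg.oddCore ↥N) ≃* ↥(alternatingGroup (Fin 5)))) :
    (A ⊔ Cfsg.oddCore G).Normal := by
  subst hN
  obtain ⟨hn, ⟨e⟩⟩ := hNA
  have hs : ∀ a ∈ A, a * a = 1 := fun a ha => by simpa [sq] using hA.2 a ha
  let f : 𝐍(A) →* alternatingGroup (Fin 5) := e.toMonoidHom.comp (QuotientGroup.mk' _)
  have hf : Function.Surjective f := e.surjective.comp (QuotientGroup.mk'_surjective _)
  have hk : f.ker = A.subgroupOf 𝐍(A) ⊔ oddCore 𝐍(A) := by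
    ext x
    rw [MonoidHom.mem_ker, ← QuotientGroup.eq_one_iff]
    exact map_eq_one_iff e e.injective
  have hs' : ∀ a ∈ A.subgroupOf 𝐍(A), a * a = 1 := fun a ha => Subtype.ext (hs a ha)
  have hc' : Nat.card (A.subgroupOf 𝐍(A)) = 16 := by rw [card_subgroupOf le_normalizer, hA16]
  obtain ⟨T, hT, hle⟩ := exists_isSylowIn_le (pgroup_of_sq hs') (le_top (a := A.subgroupOf 𝐍(A)))
  obtain ⟨e1⟩ := hS
  obtain ⟨e2⟩ := U4.equiv_A8 P
  have hT' : IsSylowIn 2 (T.map (𝐍(A)).subtype) ⊤ := (isSylowIn_top S).of_card_le le_top (hT.pgrp.map _) (by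
    rw [card_map_subtype, card_T hk hT hle hc' hf, Nat.card_congr (e1.trans e2).toEquiv, U4.card_U4])
  obtain ⟨S', hS'⟩ := hT'.exists_sylow_top
  obtain ⟨z, d⟩ := exists_dat hs' hk hT hle hc' hf ((((T.equivMapOfInjective _ (𝐍(A)).subtype_injective).trans
    (MulEquiv.subgroupCongr hS'.symm)).trans (Sylow.equiv S' S)).trans (e1.trans e2))
  have cj' : ∀ {x y : 𝐍(A)}, IsConj x y → IsConj (x : G) y := fun h => (𝐍(A)).subtype.map_isConj h
  have inT : ∀ x : G, orderOf x = 2 → ∃ y ∈ T, y * y = 1 ∧ y ≠ 1 ∧ IsConj x y := fun x hx => by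
    obtain ⟨g, -, y, hy, e⟩ := hT'.exists_conj_mem (mem_top x) (k := 1) (by rw [pow_one, ← hx, pow_orderOf_eq_one])
    replace e : (y : G) = g * x * g⁻¹ := e
    refine ⟨y, hy, Subtype.ext ?_, fun e1 => ?_, isConj_iff.2 ⟨g, e.symm⟩⟩
    · rw [coe_mul, e]; exact conj_sq (sq_of_two hx) g
    · rw [e1] at e
      exact conj_ne_one (fun e2 => by simp [e2] at hx) g e.symm
  have hsc : SC A := sc_of_closed S' ⟨fun a ha => hS' ▸ ⟨⟨a, le_normalizer ha⟩, hle ha, rfl⟩, fun a ha g hg => by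
    by_contra hn
    rw [hS'] at hg
    obtain ⟨b, hb, e⟩ := hg
    replace e : (b : G) = g * a * g⁻¹ := e
    obtain ⟨v, hv⟩ := d.inner hs'
    have a1 : (⟨a, le_normalizer ha⟩ : 𝐍(A)) ≠ 1 := fun e1 => hn (by
      rw [show a = 1 from congrArg Subtype.val e1, mul_one, mul_inv_cancel]; exact one_mem _)
    have := card_cls_le (u := (z : G)) (v := v) fun x hx => by
      obtain ⟨y, hy, y2, y1, e1⟩ := inT x hx
      by_cases hyA : y ∈ A.subgroupOf 𝐍(A)
      · exact (hv y hyA y1).imp (fun e2 => e1.trans (cj' e2)) fun e2 => e1.trans (cj' e2)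
      · have e3 : IsConj x a := (e1.trans (cj' (d.outer hy y2 hyA hb
          (Subtype.ext (by rw [coe_mul, e]; exact conj_sq (hs a ha) g)) fun e4 => hn (e ▸ e4)))).trans
          (isConj_iff.2 ⟨g, e.symm⟩).symm
        exact (hv _ ha a1).imp (fun e2 => e3.trans (cj' e2)) fun e2 => e3.trans (cj' e2)
    omega⟩ hs
  refine normal_of hsc fun D B X c => ?_
  have hB : B.subgroupOf 𝐍(A) = ⊥ := d.bot_of c.sn.isSubnormal_subgroupOf (subgroupOf_mono _ c.le)
    (fun x hx y hy => Subtype.ext (c.cent hx y hy)) fun e => c.not_cent fun x hx y hy =>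
      congrArg Subtype.val (e (x := ⟨x, c.sn.le (c.Xle hx)⟩) (c.Xle hx) ⟨y, le_normalizer hy⟩ hy)
  have hB' : ∀ b ∈ B, b = 1 := fun b hb =>
    congrArg Subtype.val (mem_bot.1 (hB.le (x := ⟨b, le_normalizer (c.le hb)⟩) hb))
  obtain ⟨a, ha, a1⟩ : ∃ a ∈ A, a ≠ 1 := (A.bot_or_exists_ne_one).resolve_left (ne_bot_of_card (by omega))
  obtain ⟨u, hu⟩ : ∃ u : 𝐍(A), ∀ y ∈ T, y * y = 1 → y ∉ A.subgroupOf 𝐍(A) → IsConj y u := by
    by_cases h : ∃ u ∈ T, u * u = 1 ∧ u ∉ A.subgroupOf 𝐍(A)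
    · obtain ⟨u, h1, h2, h3⟩ := h
      exact ⟨u, fun y hy y2 yA => d.outer hy y2 yA h1 h2 h3⟩
    · exact ⟨1, fun y hy y2 yA => (h ⟨y, hy, y2, yA⟩).elim⟩
  have := card_cls_le (u := a) (v := u) fun x hx => by
    obtain ⟨y, hy, y2, y1, e1⟩ := inT x hx
    by_cases hyA : y ∈ A.subgroupOf 𝐍(A)
    · obtain ⟨g, -, e2⟩ := c.tr y hyA a ha (fun e => y1 (Subtype.ext (hB' _ e))) fun e => a1 (hB' _ e)
      exact .inl (e1.trans (isConj_iff.2 ⟨g, mul_inv_eq_one.1 (hB' _ e2)⟩))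
    · exact .inr (e1.trans (cj' (hu y hy y2 hyA)))
  omega

end Cfsg.Agent.S3197
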