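import Mathlib
import Cfsg.Statements.S3201
import Cfsg.Agent.Inv.QuatQ

set_option autoImplicit false
open Cfsg

namespace Cfsg.Agent.S3201

open Subgroup Cfsg.Agent.Inv

/-- Let S be a finite 2-group whose centre Z(S) has n ≥ 2 distinct maximal subgroups C₁, …, Cₙ with trivial intersection such that each quotient S/Cᵢ is a non-abelian group with exactly one involution (a generalized quaternion group). Then S is the internal direct product of an elementary abelian subgroup and a non-abelian subgroup with exactly one involution. -/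
theorem result {S : Type*} [Group S] [Finite S]
    (hS : IsPGroup 2 S) (n : ℕ) (hn : 2 ≤ n) (C : Fin n → Subgroup ↥(Subgroup.center S))
    (hCmax : ∀ i, IsCoatom (C i)) (hCinj : Function.Injective C) (hCint : ⨅ i, C i = ⊥)
    (hCq : ∀ i, ∃ (_ : ((C i).map (Subgroup.center S).subtype).Normal),
      ¬ IsMulCommutative (S ⧸ (C i).map (Subgroup.center S).subtype) ∧
      ∃! x : S ⧸ (C i).map (Subgroup.center S).subtype, orderOf x = 2) :
    ∃ E Q : Subgroup S, Cfsg.IsInternalDirectProduct E Q ⊤ ∧ Cfsg.IsElementaryAbelian 2 E ∧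
      ¬ IsMulCommutative ↥Q ∧ ∃! x : ↥Q, orderOf x = 2 := by
  haveI : Fact (Nat.Prime 2) := ⟨Nat.prime_two⟩
  have hi : ∀ i, (C i).index = 2 := fun i => PGrp.index_eq_of_isCoatom (hS.to_subgroup _) (hCmax i)
  have h0 : ∀ z : center S, (∀ i, z ∈ C i) → z = 1 := fun z h => mem_bot.1 (hCint.le (mem_iInf.2 h))
  have hZ : ∀ z ∈ center S, z * z = 1 := fun z hz =>
    congrArg Subtype.val (h0 (⟨z, hz⟩ * ⟨z, hz⟩) fun i => mul_self_mem_of_index_two (hi i) _)
  have h1 : ∀ s, s ∉ center S → ∀ h : s * s ∈ center S, ∀ i, ⟨s * s, h⟩ ∉ C i := fun s hs h i h2 => by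
    obtain ⟨_, -, w, -, hw⟩ := hCq i
    obtain ⟨z, hz⟩ := SetLike.exists_of_lt (hCmax i).lt_top
    have key : ∀ x : S, x ∉ (C i).map (center S).subtype → x * x ∈ (C i).map (center S).subtype →
        (x : S ⧸ (C i).map (center S).subtype) = w := fun x h1 h2 =>
      hw _ (orderOf_eq_prime (by rw [pow_two, ← QuotientGroup.mk_mul]; exact (QuotientGroup.eq_one_iff _).2 h2)
        (mt (QuotientGroup.eq_one_iff _).1 h1))
    have := QuotientGroup.eq.1 ((key z (fun ⟨y, hy, e⟩ => hz.2 (Subtype.ext e ▸ hy))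
      (hZ z z.2 ▸ one_mem _)).trans (key s (fun h => hs (map_subtype_le _ h)) ⟨_, h2, rfl⟩).symm)
    exact hs ((mul_mem_cancel_left (inv_mem z.2)).1 (map_subtype_le _ this))
  have h2 : ∀ s t, s ∉ center S → s * s ∈ center S → t ∉ center S → t * t ∈ center S → s * s = t * t :=
    fun s t a1 a2 b1 b2 => by
      have := congrArg Subtype.val (h0 (⟨_, a2⟩ * ⟨_, b2⟩) fun i =>
        (mul_mem_iff_of_index_two (hi i)).2 (iff_of_false (h1 s a1 a2 i) (h1 t b1 b2 i)))
      exact mul_right_cancel (this.trans (hZ _ b2).symm)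
  obtain ⟨_, hn', hu⟩ := hCq ⟨0, by omega⟩
  set N := (C ⟨0, by omega⟩).map (center S).subtype
  have hN : N ≤ center S := map_subtype_le _
  obtain ⟨a, b, m, h, htop⟩ := exists_gq_lift hS hn' hu
  set f := QuotientGroup.mk' N
  have hc : ∀ s, f s ∈ center _ ↔ s ∈ center S := fun s => ⟨fun hs => by
    by_contra h3
    have hz := h.mem_of_commute (mem_top (f s)) (mem_center_iff.1 hs _).symm
    have h4 : f (s * s) = 1 := by
      rw [map_mul]
      rcases hz with e | e | e | e
      · rw [e, mul_one]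
      · rw [e, h.zz]
      all_goals
        have := mem_center_iff.1 hs (f a)
        rw [e] at this
        have h5 : Commute (f a) (f b) := by
          first | exact this | exact (by simpa using
            ((Commute.refl (f a)).pow_right (2 ^ (m + 1))).inv_right.mul_right this)
        rcases h.eq_of_commute (mem_zpowers _) h5 with e | e
        · have := h.ord
          rw [e, orderOf_one] at this
          exact absurd this.symm (by simp)
        · have := h.z_two
          rw [← e, h.ord] at this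
          exact absurd this (by rw [pow_succ]; simp)
    obtain ⟨y, hy, e⟩ := (QuotientGroup.eq_one_iff _).1 h4
    exact h1 s h3 (e ▸ y.2) ⟨0, by omega⟩ (by rwa [show (⟨s * s, e ▸ y.2⟩ : center S) = y from Subtype.ext e.symm]),
    fun hs => mem_center_iff.2 fun g => by
      obtain ⟨g, rfl⟩ := QuotientGroup.mk'_surjective N g
      rw [← map_mul, mem_center_iff.1 hs, map_mul]⟩
  have hzc : f a ^ 2 ^ (m + 1) ∈ center _ := mem_center_iff.2 fun g => h.commute_z (mem_top g)
  have h3 : ∀ s, f s * f s = f a ^ 2 ^ (m + 1) → s ∉ center S ∧ s * s ∈ center S := fun s hs =>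
    ⟨fun h4 => LocalEven.ne_one_of_orderOf_eq h.z_two (by rw [← hs, ← map_mul, hZ s h4, map_one]),
      (hc _).1 (by rw [map_mul, hs]; exact hzc)⟩
  have b1 := h3 b h.bb
  have b2 := h3 (a * b) (by rw [map_mul]; exact h.change_ab.bb)
  have b3 := h3 (a ^ 2 ^ m) (by rw [map_pow, ← pow_add, ← two_mul, ← pow_succ'])
  have e1 := h2 _ _ b2.1 b2.2 b1.1 b1.2
  have e2 := h2 _ _ b1.1 b1.2 b3.1 b3.2
  have e3 : b * a * b⁻¹ = a⁻¹ := by
    calc b * a * b⁻¹ = a⁻¹ * (a * b * (a * b)) * (b * b)⁻¹ := by group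
      _ = a⁻¹ := by rw [e1]; group
  have e4 : a ^ 2 ^ (m + 1 + 1) = 1 := by
    rw [pow_succ, pow_mul, pow_succ 2, pow_mul, pow_two, pow_two, hZ _ b3.2]
  have hd : (zpowers a ⊔ zpowers b) ⊓ N = ⊥ := by
    refine (eq_bot_iff_forall _).2 fun x ⟨hx, hx'⟩ => ?_
    have h4 : f x = 1 := (QuotientGroup.eq_one_iff _).2 hx'
    rcases (mem_sup_zpowers_iff (by
      rintro _ ⟨i, rfl⟩
      rw [← conj_zpow, e3]; exact zpow_mem (inv_mem (mem_zpowers _)) _)
      (e2 ▸ mul_mem (pow_mem (mem_zpowers _) _) (pow_mem (mem_zpowers _) _))).1 hx with ⟨i, rfl⟩ | ⟨i, e⟩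
    · obtain ⟨k, hk⟩ := h.zpow_eq_one.1 ((map_zpow f a i).symm.trans h4)
      change a ^ i = 1
      rw [hk, zpow_mul, show (2 : ℤ) ^ (m + 1 + 1) = ((2 ^ (m + 1 + 1) : ℕ) : ℤ) by push_cast; rfl, zpow_natCast, e4,
        one_zpow]
    · refine absurd (inv_mem_iff.1 (mem_zpowers_iff.2 ⟨i, ?_⟩)) h.ny
      rw [← map_zpow, show a ^ i = _ from e, map_mul, h4, one_mul, map_inv]
  let e : (zpowers a ⊔ zpowers b : Subgroup S) ≃* S ⧸ N := MulEquiv.ofBijective (f.comp (Subgroup.subtype _))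
    ⟨(injective_iff_map_eq_one _).2 fun x hx => Subtype.ext (mem_bot.1 (hd.le
      ⟨x.2, (QuotientGroup.eq_one_iff _).1 hx⟩)), fun y => by
      obtain ⟨y, rfl⟩ := QuotientGroup.mk'_surjective N y
      obtain ⟨x, hx, d, hd, rfl⟩ := (Core.mem_sup_of_le_normalizer' le_normalizer_of_normal).1 (htop.ge (mem_top y))
      exact ⟨⟨x, hx⟩, by rw [map_mul, show f d = 1 from (QuotientGroup.eq_one_iff _).2 hd, mul_one]; rfl⟩⟩
  refine ⟨N, zpowers a ⊔ zpowers b, ⟨le_top, le_top, fun x hx y _ => (mem_center_iff.1 (hN hx) y).symm,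
    (inf_comm _ _).trans hd, (sup_comm _ _).trans htop⟩, ⟨⟨⟨fun x y => Subtype.ext (mem_center_iff.1 (hN y.2) _)⟩⟩,
    fun x hx => by rw [pow_two, hZ x (hN hx)]⟩, fun hc => hn' ⟨⟨fun x y => e.symm.injective (by
      rw [map_mul, map_mul, hc.is_comm.comm])⟩⟩, ?_⟩
  obtain ⟨w, hw, hw'⟩ := hu
  exact ⟨e.symm w, (e.symm.orderOf_eq w).trans hw, fun y hy => e.injective (by
    rw [e.apply_symm_apply]; exact hw' _ ((e.orderOf_eq y).trans hy))⟩

end Cfsg.Agent.S3201
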