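import Cfsg.Statements.S3206
import Cfsg.Agent.Hv.AbAut
import Cfsg.Agent.Inv.PSL2Syl
import Cfsg.Agent.S0088
import Cfsg.Agent.Core.SylowOf

set_option autoImplicit false
open Cfsg

namespace Cfsg.Agent.S3206

open Subgroup Cfsg.Agent.Core
open scoped commutatorElement MatrixGroups

theorem core_eq_bot {G : Type*} [Group G] [Finite G] [IsSimpleGroup G] (h : 2 ∣ Nat.card G) :
    pPrimeCore 2 G = ⊥ := by
  refine (inferInstance : (oddCore G).Normal).eq_bot_or_eq_top.resolve_right fun e => ?_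
  have := Inv.odd_card_oddCore (G := G)
  rw [e, card_top] at this
  exact this.not_two_dvd_nat h

theorem comm_of_two {G : Type*} [Group G] [Finite G]
    (hab : ∀ S : Sylow 2 G, IsMulCommutative ↥(S : Subgroup G)) {H : Type*} [Group H] (f : H →* G)
    (hf : Function.Injective f) {P : Subgroup H} (hP : IsPGroup 2 P) : IsMulCommutative P := by
  obtain ⟨S, hS⟩ := (hP.map f).exists_le_sylow
  exact ⟨⟨fun a b => Subtype.ext (hf (by
    simpa using congrArg Subtype.val ((hab S).is_comm.comm ⟨f a, hS ⟨a, a.2, rfl⟩⟩ ⟨f b, hS ⟨b, b.2, rfl⟩⟩)))⟩⟩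

theorem mem_of_two {E : Type*} [Group E] [Finite E] (hab : ∀ S : Sylow 2 E, IsMulCommutative ↥(S : Subgroup E))
    (N : Subgroup E) [N.Normal] (hO : pPrimeCore 2 N = ⊥) (hNc : centralizer (N : Set E) = ⊥) {x : E} {j : ℕ}
    (hx : x ^ 2 ^ j = 1) : x ∈ N := by
  have : Fact (Nat.Prime 2) := ⟨Nat.prime_two⟩
  obtain ⟨S, hS⟩ := (Inv.isPGroup_zpowers_of_pow hx).exists_le_sylow
  obtain ⟨P, hP⟩ := (isSylowOf_sylow_inf_normal S N).exists_sylow
  have hc : ∀ y ∈ (P : Subgroup N), x * y = y * x := fun y hy =>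
    congrArg Subtype.val ((hab S).is_comm.comm ⟨x, hS (mem_zpowers x)⟩
      ⟨y, (hP.le (mem_map_of_mem N.subtype hy)).1⟩)
  obtain ⟨g, -, hg⟩ := Hv.inner_of_fix_abelian_sylow hO P
    (comm_of_two hab N.subtype N.subtype_injective P.2)
    (MulAut.conjNormal x) (j := j) (by rw [← map_pow, hx, map_one])
    fun y hy => Subtype.ext (by rw [MulAut.conjNormal_apply, hc y hy, mul_inv_cancel_right])
  have h1 : (g : E)⁻¹ * x ∈ centralizer (N : Set E) := fun y hy => by
    have := congrArg Subtype.val (hg ⟨y, hy⟩)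
    rw [MulAut.conjNormal_apply] at this
    calc y * ((g : E)⁻¹ * x) = (g : E)⁻¹ * (g * y * (g : E)⁻¹) * x := by group
      _ = (g : E)⁻¹ * (x * y * x⁻¹) * x := by rw [this]; rfl
      _ = _ := by group
  rw [hNc, mem_bot, inv_mul_eq_one] at h1
  exact h1 ▸ g.2

/-- Let G be a non-abelian finite simple group with abelian Sylow 2-subgroups, and let t be an involution of G whose centralizer is a maximal subgroup of G and is the direct product of the subgroup generated by t with a subgroup E having a normal subgroup isomorphic to PSL(2, q), q odd and greater than 3, with trivial centralizer in E. Then every finite perfect group having a central 2-subgroup with quotient isomorphic to G has that central subgroup trivial (G has no nontrivial perfect central extension by a 2-group), and every automorphism of G of 2-power order that fixes every element of some Sylow 2-subgroup of G is inner. -/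
theorem result {G : Type*} [Group G] [Finite G] [IsSimpleGroup G]
    (hG : ¬ IsMulCommutative G) (hab : ∀ S : Sylow 2 G, IsMulCommutative ↥(S : Subgroup G))
    (t : G) (ht : orderOf t = 2) (hmax : IsCoatom (Subgroup.centralizer ({t} : Set G)))
    (E : Subgroup G) (hE : Cfsg.IsInternalDirectProduct (Subgroup.zpowers t) E (Subgroup.centralizer ({t} : Set G)))
    {F : Type*} [Field F] [Fintype F] (hFo : Odd (Fintype.card F)) (hF3 : 3 < Fintype.card F)
    (N : Subgroup ↥E) [N.Normal] (hN : Nonempty (↥N ≃* Matrix.ProjectiveSpecialLinearGroup (Fin 2) F))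
    (hNc : Subgroup.centralizer (N : Set ↥E) = ⊥) :
    (∀ (L : Type) (_ : Group L) (_ : Finite L) (Z : Subgroup L) (_ : Z.Normal), commutator L = ⊤ → Z ≤ Subgroup.center L →
        IsPGroup 2 ↥Z → Nonempty (L ⧸ Z ≃* G) → Z = ⊥) ∧
    (∀ (φ : G ≃* G) (k : ℕ), φ ^ (2 ^ k) = 1 → (∃ S : Sylow 2 G, ∀ s ∈ (S : Subgroup G), φ s = s) →
        ∃ g : G, ∀ x : G, φ x = g * x * g⁻¹) := by
  have : Fact (Nat.Prime 2) := ⟨Nat.prime_two⟩
  have hO : pPrimeCore 2 G = ⊥ := core_eq_bot (ht ▸ orderOf_dvd_natCard t)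
  refine ⟨fun L _ _ Z _ hL hZ hZ2 ⟨e⟩ => ?_, fun φ k hφ ⟨S, hS⟩ => ?_⟩
  swap
  · obtain ⟨g, -, hg⟩ := Hv.inner_of_fix_abelian_sylow hO S (hab S) φ hφ hS
    exact ⟨g, hg⟩
  obtain ⟨f⟩ := hN
  obtain ⟨-, hEC, htE, -, hsup⟩ := hE
  have t2 := Inv.mul_self_of_two ht
  have h4 : 4 ≤ Nat.card F := by rw [Nat.card_eq_fintype_card]; omega
  have := Matrix.ProjectiveSpecialLinearGroup.rank_two_simple h4
  have : IsSimpleGroup N := f.isSimpleGroup
  have hsyl : ∀ S : Sylow 2 PSL(2, F), Nat.card (S : Subgroup PSL(2, F)) = 4 := fun S => by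
    obtain ⟨m, hm, ⟨d⟩⟩ := Inv.sylow_two_psl2_dihedral (Nat.odd_iff.1 hFo) (by omega) S
    have hc := comm_of_two hab (E.subtype.comp (N.subtype.comp f.symm.toMonoidHom))
      (E.subtype_injective.comp (N.subtype_injective.comp f.symm.injective)) S.2
    have h1 : m = 2 := by
      by_contra hne
      refine DihedralGroup.not_commutative (n := m) (by omega) hne ⟨⟨fun a b => d.symm.injective ?_⟩⟩
      rw [map_mul, map_mul, hc.is_comm.comm]
    rw [Nat.card_congr d.toEquiv, DihedralGroup.nat_card, h1]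
  have hcard : ∀ P : Subgroup N, IsPGroup 2 P → Nat.card P ≤ 4 := fun P hP => by
    obtain ⟨S, hS⟩ := (hP.map f.toMonoidHom).exists_le_sylow
    rw [← card_map_of_injective (f := f.toMonoidHom) f.injective, ← hsyl S]
    exact card_le_of_le hS
  have hNp : commutator N = ⊤ := by
    refine (inferInstance : (commutator N).Normal).eq_bot_or_eq_top.resolve_left fun h => Inv.psl2_not_comm h4
      ⟨⟨fun a b => f.symm.injective ?_⟩⟩
    rw [map_mul, map_mul, ← commutatorElement_eq_one_iff_mul_comm, ← mem_bot, ← h]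
    exact commutator_mem_commutator trivial trivial
  have hN2 : 2 ∣ Nat.card N := by
    obtain ⟨S⟩ : Nonempty (Sylow 2 PSL(2, F)) := inferInstance
    rw [Nat.card_congr f.toEquiv]
    exact (show 2 ∣ 4 by decide).trans (hsyl S ▸ card_subgroup_dvd_card _)
  have hmem : ∀ x ∈ centralizer {t}, ∀ j : ℕ, x ^ 2 ^ j = 1 → ∃ y ∈ zpowers t, ∃ n ∈ N.map E.subtype, x = y * n := by
    intro x hx j hj
    rw [← hsup] at hx
    obtain ⟨y, hy, n, hn, rfl⟩ := (mem_sup_of_le_normalizer fun c hc =>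
      centralizer_le_normalizer _ fun y hy => htE y hy c hc).1 hx
    refine ⟨y, hy, n, ⟨⟨n, hn⟩, mem_of_two (fun P => comm_of_two hab E.subtype E.subtype_injective P.2) N
      (core_eq_bot hN2) hNc (j := j + 1) (Subtype.ext ?_), rfl⟩, rfl⟩
    have h1 : y ^ 2 = 1 := by
      obtain ⟨i, rfl⟩ := hy
      rw [← zpow_natCast, ← zpow_mul, mul_comm, zpow_mul, zpow_natCast, pow_two, t2, one_zpow]
    have h2 := congrArg (· ^ 2) hj
    simp only [← pow_mul, one_pow] at h2
    rw [(show Commute y n from htE y hy n hn).mul_pow, mul_comm (2 ^ j), pow_mul y, h1, one_pow, one_mul] at h2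
    rw [coe_pow, pow_succ']
    exact h2
  let π : L →* G := e.toMonoidHom.comp (QuotientGroup.mk' Z)
  have hπ : Function.Surjective π := e.surjective.comp (QuotientGroup.mk'_surjective Z)
  have hker : ∀ x, π x = 1 ↔ x ∈ Z := fun x => by simp [π]
  have hcen : ∀ x y : L, π x = π y → ∀ a : L, a * y = y * a → a * x = x * a := fun x y h a ha => by
    have h1 := mem_center_iff.1 (hZ ((hker (x * y⁻¹)).1 (by rw [map_mul, h, map_inv, mul_inv_cancel])))
    calc a * x = a * (x * y⁻¹) * y := by group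
      _ = x * y⁻¹ * (a * y) := by rw [h1 a]; group
      _ = x * a := by rw [ha]; group
  have key : ∀ a b : L, π a = t → π b ∈ N.map E.subtype → a * b = b * a := by
    intro a b ha hb
    have h1 : N.map E.subtype ≤ (centralizer {a}).map π := by
      have h2 : N.map E.subtype = ⁅N.map E.subtype, N.map E.subtype⁆ := by
        rw [← map_commutator]
        exact congrArg _ (by rw [← map_subtype_commutator, hNp, ← MonoidHom.range_eq_map, range_subtype])
      rw [h2, commutator_le]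
      intro x hx y hy
      obtain ⟨x, rfl⟩ := hπ x
      obtain ⟨y, rfl⟩ := hπ y
      have h3 : ∀ x : L, π x ∈ N.map E.subtype → ∀ w : L, w * (a⁻¹ * x * a * x⁻¹) = a⁻¹ * x * a * x⁻¹ * w :=
        fun x hx => mem_center_iff.1 (hZ ((hker _).1 (by
          rw [map_mul, map_mul, map_mul, map_inv, map_inv, ha, mul_assoc t⁻¹,
            ← htE t (mem_zpowers t) _ (map_subtype_le _ hx)]
          group)))
      refine ⟨⁅x, y⁆, mem_centralizer_singleton_iff.2 ?_, by simp [commutatorElement_def]⟩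
      have hx' : x * a = a * (a⁻¹ * x * a * x⁻¹) * x := by group
      have hy' : y * a = a * (a⁻¹ * y * a * y⁻¹) * y := by group
      have k1 := h3 x hx
      have k2 := h3 y hy
      generalize a⁻¹ * x * a * x⁻¹ = c at *
      generalize a⁻¹ * y * a * y⁻¹ = d at *
      have e1 : x * y * a = a * (c * d) * (x * y) := by
        rw [mul_assoc x, hy', ← mul_assoc, ← mul_assoc, hx', mul_assoc _ x d, k2 x]; group
      have e2 : y * x * a = a * (c * d) * (y * x) := by
        rw [mul_assoc y, hx', ← mul_assoc, ← mul_assoc, hy', mul_assoc _ y c, k1 y, k2 c]; group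
      have k3 : ∀ w, w * (c * d) = c * d * w := fun w => by rw [← mul_assoc, k1, mul_assoc, k2, mul_assoc]
      calc ⁅x, y⁆ * a = x * y * (y * x)⁻¹ * (a * (c * d) * (y * x)) * (y * x)⁻¹ * (c * d)⁻¹ := by
            rw [commutatorElement_def]; group
        _ = x * y * a * (y * x)⁻¹ * (c * d)⁻¹ := by rw [← e2]; group
        _ = a * (c * d * ⁅x, y⁆) * (c * d)⁻¹ := by rw [e1, commutatorElement_def]; group
        _ = a * ⁅x, y⁆ := by rw [← k3]; group
    obtain ⟨c, hc, e1⟩ := h1 hb
    exact hcen b c e1.symm a (mem_centralizer_singleton_iff.1 hc).symm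
  have key2 : ∀ (g : G) (a b : L) (j : ℕ), π a = g * t * g⁻¹ → π b * π a = π a * π b → π b ^ 2 ^ j = 1 →
      a * b = b * a := by
    intro g a b j ha hb hj
    obtain ⟨g, rfl⟩ := hπ g
    have ha' : π (g⁻¹ * a * g) = t := by rw [map_mul, map_mul, ha, map_inv]; group
    obtain ⟨y, ⟨i, rfl⟩, n, hn, h1⟩ := hmem (π (g⁻¹ * b * g)) (mem_centralizer_singleton_iff.2 (by
      rw [← ha']
      simpa [mul_assoc] using congrArg (fun x => (π g)⁻¹ * x * π g) hb)) j (by
      rw [map_mul, map_mul, map_inv, ← inv_inv (π g), inv_inv (π g)⁻¹, conj_pow, hj]; group)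
    obtain ⟨n, rfl⟩ := hπ n
    have h2 := hcen (g⁻¹ * b * g) ((g⁻¹ * a * g) ^ i * n) (by rw [h1, map_mul, map_zpow, ha']) _
      (((Commute.refl _).zpow_right i).mul_right (key _ n ha' hn)).eq
    simpa [mul_assoc] using congrArg (fun x => g * x * g⁻¹) h2
  obtain ⟨g, hg, hne⟩ : ∃ g : G, Commute t (g * t * g⁻¹) ∧ g * t * g⁻¹ ≠ t := by
    by_contra! h
    have h1 : t ∈ center G := mem_center_iff.2 fun g => by
      have := Inv.zstar ⟨ht, h⟩ g
      rw [oddCore, hO, mem_bot, mul_inv_eq_one, mul_inv_eq_iff_eq_mul] at this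
      exact this.symm
    rcases (inferInstance : (center G).Normal).eq_bot_or_eq_top with h | h
    · exact Inv.ne_one_of_two ht (mem_bot.1 (h ▸ h1))
    · exact hG ⟨⟨fun a b => mem_center_iff.1 (h ▸ mem_top b) a⟩⟩
  obtain ⟨S, hS⟩ := (Inv.isPGroup_sup_of_commute (Inv.isPGroup_zpowers_of_mul_self t2)
    (Inv.isPGroup_zpowers_of_pow (k := 1) (t := g * t * g⁻¹) (by rw [conj_pow, pow_one, pow_two, t2]; group)) (by
      rintro _ ⟨i, rfl⟩ _ ⟨k, rfl⟩
      exact (hg.zpow_zpow i k).eq)).exists_le_sylow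
  have htS : t ∈ (S : Subgroup G) := hS (mem_sup_left (mem_zpowers _))
  have hgS : g * t * g⁻¹ ∈ (S : Subgroup G) := hS (mem_sup_right (mem_zpowers _))
  have hc : ∀ x ∈ (S : Subgroup G), ∀ y ∈ (S : Subgroup G), x * y = y * x := fun x hx y hy =>
    congrArg Subtype.val ((hab S).is_comm.comm ⟨x, hx⟩ ⟨y, hy⟩)
  have h2 : ∀ x ∈ (S : Subgroup G), ∃ j : ℕ, x ^ 2 ^ j = 1 := fun x hx =>
    (S.2 ⟨x, hx⟩).imp fun _ h => congrArg Subtype.val h
  have h8 : Nat.card (S : Subgroup G) ≤ 8 := by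
    have h1 : (S : Subgroup G) ≤ zpowers t ⊔ (((S : Subgroup G).subgroupOf E).subgroupOf N).map
        (E.subtype.comp N.subtype) := fun x hx => by
      obtain ⟨j, hj⟩ := h2 x hx
      obtain ⟨y, hy, _, ⟨n, hn, rfl⟩, rfl⟩ := hmem x (mem_centralizer_singleton_iff.2 (hc x hx t htS)) j hj
      exact mul_mem (mem_sup_left hy) (mem_sup_right ⟨⟨n, hn⟩,
        (mul_mem_cancel_left (zpowers_le.2 htS hy)).1 hx, rfl⟩)
    refine (card_le_of_le h1).trans ((Nat.le_of_dvd (Nat.mul_pos Nat.card_pos Nat.card_pos) (card_sup_dvd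
      fun c hc' => centralizer_le_normalizer _ fun y hy => htE y hy c ?_)).trans ?_)
    · obtain ⟨n, -, rfl⟩ := hc'
      exact n.1.2
    · rw [Nat.card_zpowers, ht, card_map_of_injective (f := E.subtype.comp N.subtype)
        (E.subtype_injective.comp N.subtype_injective)]
      exact Nat.mul_le_mul_left 2 (hcard _ ((S.2.comap_subtype (K := E)).comap_subtype (K := N)))
  obtain ⟨T, hT⟩ : ∃ T : Subgroup L, T = (S : Subgroup G).comap π := ⟨_, rfl⟩
  obtain ⟨R, hR⟩ : ∃ R : Subgroup G, R = (T ⊓ centralizer (T : Set L)).map π := ⟨_, rfl⟩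
  have hRS : R ≤ S := by rw [hR, map_le_iff_le_comap, ← hT]; exact inf_le_left
  have hR' : ∀ k : G, k * t * k⁻¹ ∈ (S : Subgroup G) → k * t * k⁻¹ ∈ R := fun k hk => by
    obtain ⟨a, ha⟩ := hπ (k * t * k⁻¹)
    rw [hR]
    refine ⟨a, ⟨hT ▸ (show π a ∈ (S : Subgroup G) from ha ▸ hk), fun b hb => ?_⟩, ha⟩
    rw [hT] at hb
    obtain ⟨j, hj⟩ := h2 _ hb
    exact (key2 k a b j ha (hc _ hb _ (ha ▸ hk)) hj).symm
  have hR4 : 4 ≤ Nat.card R := by
    obtain ⟨k, hk⟩ := (S.2.to_le hRS).exists_card_eq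
    have h3 : 2 < Nat.card R := by
      have := Fintype.ofFinite R
      rw [Nat.card_eq_fintype_card, Fintype.two_lt_card_iff]
      refine ⟨1, ⟨t, by simpa using hR' 1 (by simpa using htS)⟩, ⟨_, hR' g hgS⟩, fun e => ?_, fun e => ?_,
        fun e => hne (congrArg Subtype.val e).symm⟩
      · exact Inv.ne_one_of_two ht (congrArg Subtype.val e).symm
      · exact Inv.ne_one_of_two ht (by simpa [mul_assoc] using congrArg (fun x : R => g⁻¹ * x * g) e.symm)
    rw [hk] at h3 ⊢
    rcases k with _ | _ | k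
    · omega
    · omega
    · rw [pow_succ, pow_succ]; have := Nat.one_le_two_pow (n := k); omega
  have hcT : ∀ x ∈ T, π x ∈ R → ∀ y ∈ T, y * x = x * y := fun x hx h y hy => by
    rw [hR] at h
    obtain ⟨c, hc', e1⟩ := h
    exact hcen x c e1.symm y (hc'.2 y hy)
  have hTc : IsMulCommutative T := ⟨⟨fun x y => Subtype.ext (by
    by_cases hx : π x ∈ R
    · exact (hcT x x.2 hx y y.2).symm
    by_cases hy : π y ∈ R
    · exact hcT y y.2 hy x x.2
    have hx' : π x ∈ (S : Subgroup G) := hT.le x.2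
    have hy' : π y ∈ (S : Subgroup G) := hT.le y.2
    have h1 : (R.subgroupOf S).index = 2 := by
      have h3 := (R.subgroupOf S).card_mul_index
      rw [Nat.card_congr (subgroupOfEquivOfLe hRS).toEquiv] at h3
      have h5 : (R.subgroupOf S).index ≠ 1 := fun e => hx (subgroupOf_eq_top.1 (index_eq_one.1 e) hx')
      have h6 : (R.subgroupOf S).index ≠ 0 := FiniteIndex.index_ne_zero
      by_contra h7
      have : 3 ≤ (R.subgroupOf S).index := by omega
      nlinarith
    have h3 := hcT (x * y) (mul_mem x.2 y.2) (by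
      rw [map_mul]
      exact ((mul_mem_iff_of_index_two h1 (a := ⟨_, hx'⟩) (b := ⟨_, hy'⟩)).2 (iff_of_false hx hy) :)) x x.2
    rw [mul_assoc] at h3
    exact mul_left_cancel h3)⟩⟩
  have hT2 : IsPGroup 2 T := hT ▸ S.2.comap_of_ker_isPGroup π (hZ2.to_le fun x hx => (hker x).1 hx)
  obtain ⟨k, hk⟩ := hT2.exists_card_eq
  have h9 := S0088.result T hTc (by
    rw [hk, hT, index_comap_of_surjective _ hπ]
    exact Nat.Coprime.pow_left _ ((Nat.Prime.coprime_iff_not_dvd Nat.prime_two).2 S.not_dvd_index))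
  rw [eq_bot_iff, ← h9, hL]
  exact fun x hx => ⟨⟨hT ▸ (show π x ∈ (S : Subgroup G) by rw [(hker x).2 hx]; exact one_mem _), trivial⟩, hZ hx⟩

end Cfsg.Agent.S3206
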