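import Mathlib
import Cfsg.Agent.Ab2.S4
import Cfsg.Statements.S3222
-- import your own Cfsg.Agent.* helpers here

set_option autoImplicit false
open Cfsg

namespace Cfsg.Agent.S3222

/-- Let G be a finite group of even order such that (1) some involution t lying in the centre of a Sylow 2-subgroup of G has C_G(t) ≅ Z₂ × S₄, and (2) every Sylow 2-subgroup S of G satisfies C_G(S′) = S, where S′ is the derived subgroup of S. Then G = C_G(t) if G is solvable, and G ≅ S₆ otherwise. -/
theorem result {G : Type*} [Group G] [Finite G] (hev : Even (Nat.card G))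
    (t : G) (ht : orderOf t = 2) (T : Sylow 2 G) (htT : t ∈ (T : Subgroup G)) (htc : ∀ s ∈ (T : Subgroup G), s * t = t * s)
    (e : ↥(Subgroup.centralizer ({t} : Set G)) ≃* (Multiplicative (ZMod 2) × Equiv.Perm (Fin 4)))
    (h2 : ∀ S : Sylow 2 G, Subgroup.centralizer ((⁅(S : Subgroup G), (S : Subgroup G)⁆ : Subgroup G) : Set G) = (S : Subgroup G)) :
    (Group.IsSolvable G → Subgroup.centralizer ({t} : Set G) = ⊤) ∧
      (¬ Group.IsSolvable G → Nonempty (G ≃* Equiv.Perm (Fin 6))) := by
  haveI : Fact (Nat.Prime 2) := ⟨Nat.prime_two⟩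
  let ι : Ab2.W →* G := (Subgroup.centralizer ({t} : Set G)).subtype.comp e.symm.toMonoidHom
  have inj : Function.Injective ι := Subtype.val_injective.comp e.symm.injective
  have hr : ∀ g, g * t = t * g ↔ ∃ m, ι m = g := fun g =>
    ⟨fun h => ⟨e ⟨g, Subgroup.mem_centralizer_singleton_iff.2 h⟩, by simp [ι]⟩,
      fun ⟨m, hm⟩ => hm ▸ Subgroup.mem_centralizer_singleton_iff.1 (e.symm m).2⟩
  have e1 : ι Ab2.W.t = t := by
    obtain ⟨m, hm⟩ := (hr t).1 rfl
    have k : ∀ n, m * n = n * m := fun n => inj (by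
      rw [map_mul, map_mul, hm]; exact ((hr _).2 ⟨n, rfl⟩).symm)
    rcases Ab2.W.central m (k _) (k _) with rfl | rfl
    · rw [← hm, map_one] at ht; simp at ht
    · exact hm
  have hTC : (T : Subgroup G) ≤ Subgroup.centralizer ({t} : Set G) := fun s hs =>
    Subgroup.mem_centralizer_singleton_iff.2 (htc s hs)
  have c48 : Nat.card (Subgroup.centralizer ({t} : Set G)) = 48 := by
    rw [Nat.card_congr e.toEquiv, Nat.card_prod, Nat.card_perm]
    simp [Nat.factorial]
  let P : Subgroup G := (Subgroup.centralizer ({Ab2.W.z} : Set Ab2.W)).map ι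
  have c16 : Nat.card P = 16 := by
    rw [Subgroup.card_map_of_injective inj, Nat.card_congr (Equiv.subtypeEquivRight
      (q := fun m => m * Ab2.W.z = Ab2.W.z * m) fun m => Subgroup.mem_centralizer_singleton_iff),
      Nat.card_eq_fintype_card, Fintype.card_subtype]
    exact Ab2.W.card_cz
  obtain ⟨S, hS⟩ := (IsPGroup.of_card (p := 2) (n := 4) c16).exists_le_sylow
  have hSP : P = S := Subgroup.eq_of_le_of_card_ge hS (by
    obtain ⟨k, hk⟩ := IsPGroup.iff_card.mp T.isPGroup'
    have h1 := Subgroup.card_dvd_of_le hTC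
    rw [c48, hk] at h1
    rw [c16, Nat.card_congr (S.equiv T).toEquiv, hk]
    exact Nat.le_of_dvd (by norm_num)
      ((Nat.Coprime.pow_left k (by norm_num : Nat.Coprime 2 3)).dvd_of_dvd_mul_right (m := 16) h1))
  have h : Ab2.C4 ι := by
    refine ⟨inj, e1 ▸ hr, fun g hg => ?_, ?_⟩
    · have h1 : ⁅P, P⁆ ≤ Subgroup.centralizer ({g} : Set G) := by
        rw [Subgroup.commutator_le]
        rintro _ ⟨a, ha, rfl⟩ _ ⟨b, hb, rfl⟩
        rw [← map_commutatorElement, Subgroup.mem_centralizer_singleton_iff]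
        rcases Ab2.W.comm_cz a b (Subgroup.mem_centralizer_singleton_iff.1 ha)
          (Subgroup.mem_centralizer_singleton_iff.1 hb) with k | k <;>
          rw [commutatorElement_def, k]
        · simp
        · exact hg.symm
      have h3 : g ∈ P := by
        rw [hSP, ← h2 S, ← hSP]
        exact fun a ha => Subgroup.mem_centralizer_singleton_iff.1 (h1 ha)
      obtain ⟨m, -, rfl⟩ := h3
      rw [e1]; exact (hr _).2 ⟨m, rfl⟩
    · rw [e1, ← Nat.not_even_iff_odd, even_iff_two_dvd]
      exact fun k => T.not_dvd_index (k.trans (Subgroup.index_dvd_of_le hTC))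
  rcases h.main with k | ⟨⟨f⟩⟩
  · rw [e1] at k
    refine ⟨fun _ => k, fun hs => absurd ?_ hs⟩
    haveI : Group.IsSolvable (Equiv.Perm (Fin 4)) := Ab2.solv_S4
    exact solvable_of_surjective (f := ι) fun g =>
      (hr g).1 (Subgroup.mem_centralizer_singleton_iff.1 (k ▸ Subgroup.mem_top g))
  · refine ⟨fun hs => absurd (solvable_of_surjective (f := f.toMonoidHom) f.surjective) ?_, fun _ => ⟨f⟩⟩
    exact Equiv.Perm.not_solvable _ (by simp; norm_num)

end Cfsg.Agent.S3222
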