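import Mathlib
import Cfsg.Statements.S3239
import Cfsg.Agent.GsC.Eight
import Cfsg.Agent.Gs.Main
import Cfsg.Agent.Perm.Bin

set_option autoImplicit false
open Cfsg

namespace Cfsg.Agent.S3239

open Subgroup Cfsg.Agent.GW Cfsg.Agent.LocalEven Cfsg.Agent.BG Cfsg.Agent.Gs Cfsg.Agent.GsC
open scoped MatrixGroups

universe u

variable {G : Type u} [Group G] [Finite G] {t : G} {L V A : Subgroup G}

/-- the weak closure of `t` in its centraliser -/
def WW (t : G) : Subgroup G := closure {x : G | ∃ g : G, x = g * t * g⁻¹ ∧ x * t = t * x}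

theorem WW_le (t : G) : WW t ≤ cz t := (closure_le _).2 fun _ ⟨_, _, h⟩ => mem_cz.2 h

theorem mem_WW {x : G} (h : IsConj t x) (hc : x ∈ cz t) : x ∈ WW t := by
  obtain ⟨g, rfl⟩ := isConj_iff.1 h
  exact subset_closure ⟨g, rfl, mem_cz.1 hc⟩

theorem cj_WW_le (g t : G) : cj g (WW t) ≤ WW (g * t * g⁻¹) := by
  rw [cj_le_iff]
  refine (closure_le _).2 ?_
  rintro _ ⟨x, rfl, h⟩
  refine mem_cj_inv.2 (mem_WW (isConj_iff.2 ⟨g * x * g⁻¹, by group⟩) ?_)
  rw [← cj_cz]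
  exact conj_mem_cj (mem_cz.2 h)

theorem cj_WW (g t : G) : cj g (WW t) = WW (g * t * g⁻¹) :=
  le_antisymm (cj_WW_le g t) (le_cj_iff.2 ((cj_WW_le _ _).trans_eq (by congr 1; group)))

theorem le_norm_WW (t : G) : cz t ≤ 𝐍(WW t) := fun g hg =>
  cj_eq_self_iff.1 (by rw [cj_WW, conj_eq_of_mem_cz hg])

structure HY (t : G) (L : Subgroup G) : Prop where
  two : orderOf t = 2
  simple : IsSimpleGroup L
  nab : ¬ IsMulCommutative L
  card : Nat.card L = 60
  cardW : Nat.card (WW t) = 120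
  le : L ≤ WW t
  dec : ∀ w ∈ WW t, w ∈ L ∨ t * w ∈ L
  nm : t ∉ L

theorem exists_HY (ht : orderOf t = 2)
    (e : WW t ≃* Multiplicative (ZMod 2) × alternatingGroup (Fin 5)) : ∃ L, HY t L := by
  let f : alternatingGroup (Fin 5) →* G :=
    ((WW t).subtype.comp e.symm.toMonoidHom).comp (MonoidHom.inr _ _)
  have hf : Function.Injective f :=
    (Subtype.val_injective.comp e.symm.injective).comp (Prod.mk_right_injective 1)
  have e1 := MonoidHom.ofInjective hf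
  have nab : ¬ IsMulCommutative (alternatingGroup (Fin 5)) := fun h => by
    letI : CommGroup (alternatingGroup (Fin 5)) := { mul_comm := h.is_comm.comm }
    exact absurd (Perm.card_a5 ▸ IsSimpleGroup.prime_card (α := alternatingGroup (Fin 5)))
      (by norm_num)
  have k : ∀ w : WW t, (w : G) ∈ f.range ↔ (e w).1 = 1 := fun w => by
    refine ⟨?_, fun h => ⟨(e w).2, ?_⟩⟩
    · rintro ⟨a, ha⟩
      rw [← show e.symm (1, a) = w from Subtype.ext ha, e.apply_symm_apply]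
    · change (e.symm (1, (e w).2) : G) = w
      rw [← h, Prod.mk.eta, e.symm_apply_apply]
  let τ : WW t := ⟨t, mem_WW (IsConj.refl t) (self_mem_cz t)⟩
  have h1 : (e τ).2 = 1 := mem_bot.1 (center_bot nab ▸ mem_center_iff.2 fun a => by
    have : e.symm (1, a) * τ = τ * e.symm (1, a) := Subtype.ext (mem_cz.1 (WW_le t (e.symm _).2))
    simpa using congrArg (fun x => (e x).2) this)
  have h2 : (e τ).1 ≠ 1 := fun h => ne_one_of_orderOf_eq ht
    (congrArg Subtype.val (e.map_eq_one_iff.1 (Prod.ext h h1)))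
  refine ⟨f.range, ht, e1.symm.isSimpleGroup, nab_of_equiv e1.symm nab,
    (Nat.card_congr e1.toEquiv).symm.trans Perm.card_a5, ?_, ?_, fun w hw => ?_,
    fun h => h2 ((k τ).1 h)⟩
  · rw [Nat.card_congr e.toEquiv, Nat.card_prod, Perm.card_a5]; simp
  · rintro _ ⟨a, rfl⟩; exact (e.symm _).2
  · refine (em ((e ⟨w, hw⟩).1 = 1)).imp (k ⟨w, hw⟩).2 fun h => (k (τ * ⟨w, hw⟩)).2 ?_
    rw [map_mul, Prod.fst_mul, (JT.z2_cases _).resolve_left h, (JT.z2_cases _).resolve_left h2,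
      JT.z2_sq]

theorem four_facts [IsSimpleGroup L] (hn : ¬ IsMulCommutative L) (hV : IsSylowIn 2 V L)
    (h4 : Nat.card V = 4) : (∀ v ∈ V, v * v = 1) ∧
      ∀ a ∈ V, ∀ b ∈ V, a ≠ 1 → b ≠ 1 → ∃ y ∈ L, y * a * y⁻¹ = b := by
  have h := fd_top hn hV.toSylow ((card_subgroupOf hV.le).trans h4)
  refine ⟨fun v hv => congrArg Subtype.val (h.sq ⟨v, hV.le hv⟩ hv), fun a ha b hb a1 b1 => ?_⟩
  obtain ⟨x, -, -, hx⟩ := h.exists_three
  obtain ⟨y, -, hy⟩ := hx ⟨a, hV.le ha⟩ ha ⟨b, hV.le hb⟩ hb (fun e => a1 (congrArg Subtype.val e))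
    fun e => b1 (congrArg Subtype.val e)
  exact ⟨y, y.2, congrArg Subtype.val hy⟩

namespace HY
variable (h : HY t L)
include h

theorem tt : t * t = 1 := sq_of_two h.two

theorem mem : t ∈ WW t := mem_WW (IsConj.refl t) (self_mem_cz t)

theorem norm : WW t ≤ 𝐍(L) := le_normalizer_of_cj_le fun w hw => cj_le_iff'.2 fun l hl => by
  rcases h.dec w hw with k | k
  · exact mul_mem (mul_mem k hl) (inv_mem k)
  · have := mul_mem (mul_mem k hl) (inv_mem k)
    rwa [show t * w * l * (t * w)⁻¹ = t * (w * l * w⁻¹) * t⁻¹ by group, conj_eq_of_mem_cz'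
      (WW_le t (mul_mem (mul_mem hw (h.le hl)) (inv_mem hw)))] at this

theorem odd_bot {O : Subgroup G} [O.Normal] (ho : Odd (Nat.card O)) : O ⊓ WW t = ⊥ := by
  have h1 : O ⊓ WW t ≤ L := fun w hw => (h.dec w hw.2).elim id fun k =>
    mem_of_sq_mem (odd_orderOf ho hw.1) (by
      have := mul_mem k k
      rwa [mul_assoc, ← mul_assoc w, mem_cz.1 (WW_le t hw.2), mul_assoc, ← mul_assoc, h.tt,
        one_mul] at this)
  haveI := h.simple
  rcases (inferInstance : (O.subgroupOf L).Normal).eq_bot_or_eq_top with k | k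
  · refine eq_bot_iff.2 fun w hw => ?_
    have h2 : (⟨w, h1 hw⟩ : L) ∈ O.subgroupOf L := hw.1
    rw [k, mem_bot] at h2
    exact congrArg Subtype.val h2
  · have := odd_of_le ho (subgroupOf_eq_top.1 k)
    rw [h.card] at this
    exact absurd this (by decide)

theorem main (S : Sylow 2 G) (htS : t ∈ (S : Subgroup G)) (hS : (S : Subgroup G) ≤ cz t) :
    ∃ A : Subgroup G, SC A ∧ Nat.card A = 8 ∧ t ∈ A ∧ A ≤ WW t ∧ A ⊓ L ≠ ⊥ ∧
      ∀ a ∈ A, a ≠ 1 → ∃ n ∈ 𝐍(A), n * t * n⁻¹ = a := by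
  haveI := h.simple
  have tt := h.tt
  have t1 := ne_one_of_orderOf_eq h.two
  obtain ⟨A, hA0⟩ : ∃ A, A = (S : Subgroup G) ⊓ WW t := ⟨_, rfl⟩
  have hA : IsSylowIn 2 A (WW t) :=
    hA0 ▸ (isSylowIn_of_sylow_le S hS).inf_of_le_normalizer (WW_le t) (le_norm_WW t)
  have hV : IsSylowIn 2 (A ⊓ L) L := hA.inf_of_le_normalizer h.le h.norm
  have c8 : Nat.card A = 8 := by
    rw [hA.card_eq, h.cardW, show (120 : ℕ) = 2 ^ 3 * 15 from rfl,
      Nat.factorization_mul (by norm_num) (by norm_num), Nat.prime_two.factorization_pow]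
    simp [Nat.factorization_eq_zero_of_not_dvd]
  have c4 : Nat.card (A ⊓ L : Subgroup G) = 4 := by
    rw [hV.card_eq, h.card, show (60 : ℕ) = 2 ^ 2 * 15 from rfl,
      Nat.factorization_mul (by norm_num) (by norm_num), Nat.prime_two.factorization_pow]
    simp [Nat.factorization_eq_zero_of_not_dvd]
  obtain ⟨sq, cn⟩ := four_facts h.nab hV c4
  have tA : t ∈ A := hA0 ▸ ⟨htS, h.mem⟩
  have dec : ∀ a ∈ A, a ∈ A ⊓ L ∨ t * a ∈ A ⊓ L := fun a ha =>
    (h.dec a (hA.le ha)).imp (fun k => ⟨ha, k⟩) fun k => ⟨mul_mem tA ha, k⟩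
  have cz' : ∀ a ∈ A, a * t = t * a := fun a ha => mem_cz.1 (WW_le t (hA.le ha))
  have sqA : ∀ a ∈ A, a * a = 1 := fun a ha => (dec a ha).elim (sq a) fun k => by
    have := sq _ k
    rwa [mul_assoc, ← mul_assoc a, cz' a ha, mul_assoc, ← mul_assoc, tt, one_mul] at this
  have tta : ∀ a, t * (t * a) = a := fun a => by rw [← mul_assoc, tt, one_mul]
  have α : ∀ a ∈ A ⊓ L, ∀ b ∈ A ⊓ L, a ≠ 1 → b ≠ 1 → IsConj a b ∧ IsConj (t * a) (t * b) :=
    fun a ha b hb a1 b1 => by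
      obtain ⟨y, hy, rfl⟩ := cn a ha b hb a1 b1
      refine ⟨isConj_iff.2 ⟨y, rfl⟩, isConj_iff.2 ⟨y, ?_⟩⟩
      rw [← mul_assoc, mem_cz.1 (WW_le t (h.le hy))]; group
  obtain ⟨v, hv, v1, hc⟩ : ∃ v ∈ A ⊓ L, v ≠ 1 ∧ (IsConj t v ∨ IsConj t (t * v)) := by
    by_contra k
    push Not at k
    have : WW t ≤ zpowers t := (closure_le _).2 (by
      rintro _ ⟨g, rfl, hg⟩
      have h1 : IsConj t (g * t * g⁻¹) := isConj_iff.2 ⟨g, rfl⟩
      obtain ⟨w, hw, h2⟩ := hA.exists_conj_mem (mem_WW h1 (mem_cz.2 hg)) (k := 1)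
        (by rw [pow_one, pow_two, conj_sq tt])
      have h3 := h1.trans (isConj_iff.2 ⟨w, rfl⟩)
      rcases dec _ h2 with k1 | k1
      · exact absurd h3 (k _ k1 (conj_ne_one (conj_ne_one t1 g) w)).1
      · by_contra k2
        refine (k _ k1 fun e => k2 ?_).2 (by rwa [tta])
        rw [mul_eq_one_iff_inv_eq, inv_of_sq tt] at e
        rw [← mul_left_cancel (mul_right_cancel ((conj_eq_of_mem_cz (WW_le t hw)).trans e))]
        exact mem_zpowers t)
    have := card_le_of_le this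
    rw [h.cardW, Nat.card_zpowers, h.two] at this
    omega
  have gen : ∀ M : Subgroup G, (∀ u ∈ A, IsConj t u → u ∈ M) → A ≤ M := fun M hM => by
    have h1 : A ⊓ L ≤ M := fun a ha => by
      by_cases a1 : a = 1
      · rw [a1]; exact one_mem _
      rcases hc with hc | hc
      · exact hM a ha.1 (hc.trans (α v hv a ha v1 a1).1)
      · rw [← tta a]
        exact mul_mem (hM t tA (IsConj.refl t))
          (hM _ (mul_mem tA ha.1) (hc.trans (α v hv a ha v1 a1).2))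
    intro a ha
    rcases dec a ha with k | k
    · exact h1 k
    · rw [← tta a]; exact mul_mem (hM t tA (IsConj.refl t)) (h1 k)
  have ctl : ∀ u ∈ A, IsConj t u → ∃ n ∈ 𝐍(A), n * t * n⁻¹ = u := fun u hu hc => by
    obtain ⟨g, rfl⟩ := isConj_iff.1 hc
    have h1 := hA.cj g
    rw [cj_WW] at h1
    obtain ⟨w, hw, e⟩ := h1.conj (h1.of_card_le (gen _ fun a ha k => mem_WW (hc.symm.trans k)
      (mem_cz.2 (Gs.comm_of_sq sqA ha hu))) hA.pgrp (card_cj g A).le)
    refine ⟨w * g, cj_eq_self_iff.1 (by rw [cj_mul, e]), ?_⟩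
    rw [← conj_eq_of_mem_cz (WW_le _ hw)]; group
  have odd : {u | u ∈ A ∧ IsConj t u}.ncard ≠ 4 := fun k => by
    have h1 : {u | u ∈ A ∧ IsConj t u} = {w : G | ∃ c ∈ 𝐍(A), c * t * c⁻¹ = w} := by
      ext u
      refine ⟨fun k => ctl u k.1 k.2, ?_⟩
      rintro ⟨c, hc, rfl⟩
      exact ⟨conj_mem_of_mem_normalizer hc tA, isConj_iff.2 ⟨c, rfl⟩⟩
    rw [h1, Ben.ncard_conj_eq] at k
    exact (isSylowIn_of_sylow_le S (K := 𝐍(A)) (hA0 ▸ le_normalizer_inf le_normalizer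
      (hS.trans (le_norm_WW t)))).not_dvd_of_le hS (by rw [k]; norm_num)
  have cV : (((A ⊓ L : Subgroup G) : Set G)).ncard = 4 := c4
  have all : ∀ a ∈ A, a ≠ 1 → IsConj t a := by
    by_contra k
    apply odd
    by_cases h1 : IsConj t v
    · have h2 : ¬ IsConj t (t * v) := fun h2 => k fun a ha a1 => (dec a ha).elim
        (fun k1 => h1.trans (α v hv a k1 v1 a1).1) fun k1 => by
          by_cases e : t * a = 1
          · rw [← tta a, e, mul_one]
          · exact tta a ▸ h2.trans (α v hv _ k1 v1 e).2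
      have : {u | u ∈ A ∧ IsConj t u} = insert t (((A ⊓ L : Subgroup G) : Set G) \ {1}) := by
        ext u
        refine ⟨fun ⟨hu, hc⟩ => (dec u hu).symm.imp (fun k1 => by_contra fun e => h2 ?_)
          fun k1 => ⟨k1, fun e => t1 (isConj_one_left.1 (e ▸ hc))⟩, ?_⟩
        · refine hc.trans (tta u ▸ (α _ k1 v hv (fun e' => e ?_) v1).2)
          rw [← tta u, e', mul_one]
        · rintro (rfl | ⟨k1, k2⟩)
          exacts [⟨tA, IsConj.refl _⟩, ⟨k1.1, h1.trans (α v hv u k1 v1 k2).1⟩]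
      rw [this, Set.ncard_insert_of_notMem (fun e => h.nm e.1.2), Set.ncard_diff_singleton_of_mem
        (one_mem _), cV]
    · have h2 := hc.resolve_left h1
      have : {u | u ∈ A ∧ IsConj t u} = (t * ·) '' ((A ⊓ L : Subgroup G) : Set G) := by
        ext u
        refine ⟨fun ⟨hu, hc⟩ => ⟨t * u, (dec u hu).resolve_left fun k1 => h1 (hc.trans
          (α u k1 v hv (fun e => t1 (isConj_one_left.1 (e ▸ hc))) v1).1), tta u⟩, ?_⟩
        rintro ⟨a, ha, rfl⟩
        refine ⟨mul_mem tA ha.1, ?_⟩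
        by_cases e : a = 1
        · rw [e]; exact isConj_iff.2 ⟨1, by simp⟩
        · exact h2.trans (α v hv a ha v1 e).2
      rw [this, Set.ncard_image_of_injective _ (mul_right_injective t), cV]
  refine ⟨A, sc_of_closed S ⟨hA0 ▸ inf_le_left, fun x hx g hg => ?_⟩ sqA, c8, tA, hA.le,
    ne_bot_of_card (by omega), fun a ha a1 => ctl a ha (all a ha a1)⟩
  by_cases e : x = 1
  · simp [e]
  · exact hA0 ▸ ⟨hg, mem_WW ((all x hx e).trans (isConj_iff.2 ⟨g, rfl⟩)) (hS hg)⟩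

end HY

theorem eq_one_of_ab {p : ℕ} [Fact p.Prime] {T : Subgroup G} (hp : ⁅L, L⁆ = L)
    (hT : IsSylowIn p T L) (hab : ∀ a ∈ T, ∀ b ∈ T, a * b = b * a) {z : G} (hz : z ∈ T)
    (hc : z ∈ 𝐂(L)) : z = 1 := by
  haveI : IsMulCommutative (hT.toSylow : Subgroup L) :=
    ⟨⟨fun u v => Subtype.ext (Subtype.ext (hab _ u.2 _ v.2))⟩⟩
  have h2 : _root_.commutator L = ⊤ := map_injective L.subtype_injective (by
    rw [map_subtype_commutator, hp, ← MonoidHom.range_eq_map, range_subtype])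
  have h3 : (⟨z, hT.le hz⟩ : L) ∈ (hT.toSylow : Subgroup L) ⊓ _root_.commutator L ⊓ center L :=
    ⟨⟨hz, h2 ▸ mem_top _⟩, mem_center_iff.2 fun l => Subtype.ext (hc l l.2)⟩
  rw [Transfer.inf_commutator_inf_center_eq_bot hT.toSylow.card_coprime_index, mem_bot] at h3
  exact congrArg Subtype.val h3

theorem JR_conj (hJ : JR G) {a b : G} (ha : orderOf a = 2) (hb : orderOf b = 2) : IsConj a b := by
  obtain ⟨S⟩ : Nonempty (Sylow 2 G) := inferInstance
  obtain ⟨x, -, hx⟩ := (isSylowIn_top S).exists_conj_mem (mem_top a) (k := 1)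
    (by rw [pow_one, ← ha, pow_orderOf_eq_one])
  obtain ⟨y, -, hy⟩ := (isSylowIn_top S).exists_conj_mem (mem_top b) (k := 1)
    (by rw [pow_one, ← hb, pow_orderOf_eq_one])
  obtain ⟨g, -, hg⟩ := hJ.conj S _ hx _ hy (conj_ne_one (ne_one_of_orderOf_eq ha) x)
    (conj_ne_one (ne_one_of_orderOf_eq hb) y)
  exact (isConj_iff.2 ⟨x, rfl⟩).trans ((isConj_iff.2 ⟨g, hg⟩).trans (isConj_iff.2 ⟨y, rfl⟩).symm)

theorem exists_new {A : Subgroup G} (h : 4 ≤ Nat.card A) (a r : G) :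
    ∃ b ∈ A, b ≠ 1 ∧ b ≠ a ∧ b ≠ r := by
  by_contra k
  push Not at k
  have h1 : (A : Set G) ⊆ {1, a, r} := fun b hb => by
    by_contra e
    simp only [Set.mem_insert_iff, Set.mem_singleton_iff, not_or] at e
    exact e.2.2 (k b hb e.1 e.2.1)
  have := (Set.ncard_le_ncard h1).trans (Set.ncard_insert_le _ _)
  have := Set.ncard_insert_le a {r}
  rw [Set.ncard_singleton] at this
  change 4 ≤ (A : Set G).ncard at h
  omega

theorem HY.comp {L₀ : Subgroup G} (h : HY t L₀) (hA : SC A) (c8 : Nat.card A = 8) (tA : t ∈ A)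
    (hW : A ≤ WW t) (tr : ∀ a ∈ A, a ≠ 1 → ∃ n ∈ 𝐍(A), n * t * n⁻¹ = a) :
    ∃ L, Cp A ⊤ L ∧ L.Normal ∧ normalClosure ({t} : Set G) = L ∧ WW t ≤ L ∧
      (∀ a ∈ A, a ∈ Cent L → a = 1) ∧ oOf ⊤ ≤ 𝐂(L) := by
  have t1 := ne_one_of_orderOf_eq h.two
  have hC : Ctx A ⊤ := ⟨hA, le_top, good_all ⊤⟩
  haveI := h.simple
  haveI hO : (oOf (⊤ : Subgroup G)).Normal := normalizer_eq_top_iff.1 (top_le_iff.1
    (le_normalizer_oOf ⊤))
  have oO := odd_oOf (⊤ : Subgroup G)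
  have h1 : oOf ⊤ ⊓ cz t ≤ 𝐂(A) := fun x hx a ha => by
    have h2 : x * a * x⁻¹ * a⁻¹ ∈ oOf ⊤ ⊓ WW t := mem_inf.2 ⟨by
      simpa only [mul_assoc] using mul_mem (mem_inf.1 hx).1 (hO.conj_mem _ (inv_mem (mem_inf.1 hx).1) a),
        mul_mem (conj_mem_of_mem_normalizer (le_norm_WW t hx.2) (hW ha)) (inv_mem (hW ha))⟩
    rw [h.odd_bot oO, mem_bot, mul_inv_eq_one, mul_inv_eq_iff_eq_mul] at h2
    exact h2.symm
  have h2 : oOf ⊤ ≤ 𝐂(A) := le_of_invol hA.sq oO le_normalizer_of_normal (by omega)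
    fun e he e1 => by
      obtain ⟨n, hn, rfl⟩ := tr e he e1
      have := cj_mono n h1
      rwa [cj_inf, cj_cz, cj_eq_of_normal, cj_centralizer, cj_eq_of_mem_normalizer hn] at this
  have h3 : KK A ⊤ ≤ 𝐂(oOf (⊤ : Subgroup G)) :=
    KK_le_of_norm (le_cent_comm.1 h2) le_normalizer_of_normal
  have WK : WW t ≤ KK A ⊤ := (closure_le _).2 (by
    rintro _ ⟨g, rfl, -⟩; exact conj_mem_KK tA (mem_top g))
  have pf : ⁅L₀, L₀⁆ = L₀ := by
    have := congrArg (map L₀.subtype) (as_top h.nab).perfect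
    rwa [map_commutator, ← MonoidHom.range_eq_map, range_subtype] at this
  obtain ⟨L, hL⟩ : ∃ L, Cp A ⊤ L := by
    by_contra k
    haveI : IsEmpty {L // Cp A ⊤ L} := ⟨fun L => k ⟨_, L.2⟩⟩
    have h4 := (h.le.trans WK).trans hC.KK_le_sup
    rw [iSup_of_empty, sup_bot_eq] at h4
    have := odd_of_le oO (le_of_perf_of_solv pf le_normalizer_of_normal le_normalizer_of_normal
      (Group.isSolvable_of_comm fun a b => Subtype.ext (hA.comm a.2 b.2)) h4)
    rw [h.card] at this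
    exact absurd this (by decide)
  have small : ∀ L, Cp A ⊤ L → ∀ b ∈ A ⊓ Cent L, ∀ r ∈ A ⊓ Cent L, b ≠ 1 → r = 1 ∨ r = b :=
    fun L hL b hb r hr b1 => by
      have h4 := hC.four_le hL
      have h5 := card_mul_relIndex (inf_le_left : A ⊓ Cent L ≤ A)
      have h6 := eq_of_le_of_card_le (zpowers_le.2 hb) (by
        rw [Nat.card_zpowers, hA.two hb.1 b1]
        have := Nat.mul_le_mul_left (Nat.card (A ⊓ Cent L : Subgroup G)) h4
        omega)
      exact (mem_zpowers_two (hA.sq b hb.1)).1 (h6.ge hr)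
  have faith : ∀ L, Cp A ⊤ L → ∀ a ∈ A, a ∈ Cent L → a = 1 := fun L hL a ha hc => by
    by_contra a1
    obtain ⟨r, hr, hr'⟩ := hC.exists_not_cent hL
    obtain ⟨b, hb, b1, ba, br⟩ := exists_new (A := A) (by omega) a r
    obtain ⟨n, hn, e1⟩ := tr a ha a1
    obtain ⟨m, hm, e2⟩ := tr b hb b1
    have h4 := hL.cj_of_norm (mul_mem hm (inv_mem hn)) (le_normalizer (mem_top _))
    have h5 : b ∈ Cent (cj (m * n⁻¹) L) := by
      rw [← cj_Cent, ← e2, show m * t * m⁻¹ = m * n⁻¹ * (n * t * n⁻¹) * (m * n⁻¹)⁻¹ by group, e1]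
      exact conj_mem_cj hc
    by_cases h6 : A ⊓ L ≤ Cent (cj (m * n⁻¹) L)
    · rcases small _ h4 b ⟨hb, h5⟩ r ⟨hr.1, h6 hr⟩ b1 with e | e
      exacts [hr' (e ▸ one_mem _), br e.symm]
    · rcases small _ hL a ⟨ha, hc⟩ b ⟨hb, hC.uniq hL h4 h6 ▸ h5⟩ a1 with e | e
      exacts [b1 e, ba e]
  have AL : A ≤ L := fun a ha => by
    obtain ⟨r, hr, h4⟩ := hC.exists_decomp hL ha
    rw [eq_inv_of_mul_eq_one_left (faith L hL _ (mul_mem ha hr.1) h4)]
    exact inv_mem hr.2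
  haveI : L.Normal := normal_iff_cj.2 fun g => by
    obtain ⟨k, hk, n, hn, rfl⟩ := hA.frattini le_top (mem_top g)
    have h4 := hL.cj_of_norm hn.2 (le_normalizer (mem_top _))
    rw [cj_mul, ← hC.uniq hL h4 fun e => t1 (faith _ h4 t tA (e ⟨tA, AL tA⟩)),
      cj_eq_of_mem_normalizer (hC.KK_le_norm hL.pc hk)]
  have LK := hC.cp_le_KK hL
  have KL : KK A ⊤ ≤ L := KK_le_of_norm AL le_normalizer_of_normal
  have eq : normalClosure ({t} : Set G) = L := le_antisymm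
    (normalClosure_le_normal (Set.singleton_subset_iff.2 (AL tA))) (LK.trans (KK_le_of_norm
      (fun a ha => by
        by_cases a1 : a = 1
        · rw [a1]; exact one_mem _
        obtain ⟨n, -, rfl⟩ := tr a ha a1
        exact (normalClosure_normal (s := {t})).conj_mem t
          (subset_normalClosure (Set.mem_singleton t)) n)
      le_normalizer_of_normal))
  exact ⟨L, hL, inferInstance, eq, WK.trans KL, faith L hL, le_cent_comm.1 (LK.trans h3)⟩

theorem HY.jr {L₀ : Subgroup G} (h : HY t L₀) (hA : SC A) (c8 : Nat.card A = 8) (tA : t ∈ A)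
    (h0 : A ⊓ L₀ ≠ ⊥) (hL : Cp A ⊤ L) [L.Normal] (WL : WW t ≤ L)
    (faith : ∀ a ∈ A, a ∈ Cent L → a = 1) : JR (im L L) := by
  have t1 := ne_one_of_orderOf_eq h.two
  have hC : Ctx A ⊤ := ⟨hA, le_top, good_all ⊤⟩
  haveI := h.simple
  have nn : ∀ K : Subgroup G, K ≤ 𝐍(L) := fun K => le_normalizer_of_normal
  have hG := hC.gp hL
  have cV : Nat.card (im L A) = 8 := (hC.card_im_of_faith hL le_rfl faith).trans c8
  have τ1 := hC.pr_ne hL tA fun e => t1 (faith t tA e)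
  rcases hG.gold with hS | ⟨-, h4⟩ | hJ
  · obtain ⟨T, hT, hVT⟩ := exists_isSylowIn_le hG.sc.pgroup hG.le
    obtain ⟨H, hB⟩ := hG.exists_BD hS hT hVT
    haveI := hB.solvable_norm
    have h4 : im L L₀ ≤ im L L ⊓ 𝐍(T) := le_inf (im_mono (h.le.trans WL))
      ((im_le_cz (nn ⊤ (mem_top t)) (h.le.trans (WW_le t))).trans (hB.cz_le (hC.pr_mem hL tA) τ1))
    rcases (inferInstance : (imHom (nn L₀)).ker.Normal).eq_bot_or_eq_top with k | k
    · exact absurd (Group.isSolvable_of_isSolvable_injective (f := (inclusion h4).comp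
        (imHom (nn L₀))) ((inclusion_injective h4).comp ((MonoidHom.ker_eq_bot_iff _).1 k)))
        (not_solv_of_simple h.simple h.nab)
    · rw [imHom_ker, subgroupOf_eq_top] at k
      exact absurd (eq_bot_iff.2 fun a ha => faith a ha.1 (k ha.2)) h0
  · have := hG.card_of_four h4
    omega
  · exact hJ

theorem HY.j1 {L₀ : Subgroup G} (h : HY t L₀) (hA : SC A) (tA : t ∈ A)
    (hL : Cp A ⊤ L) [L.Normal] (WL : WW t ≤ L) (faith : ∀ a ∈ A, a ∈ Cent L → a = 1)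
    (hJ : JR (im L L)) (rad : L ⊓ Cent L ≤ oOf ⊤) (cen : L ⊓ Cent L ≤ 𝐂(L)) :
    Spor.IsoJ1 (im L L) := by
  have t1 := ne_one_of_orderOf_eq h.two
  have hC : Ctx A ⊤ := ⟨hA, le_top, good_all ⊤⟩
  have nn : ∀ K : Subgroup G, K ≤ 𝐍(L) := fun K => le_normalizer_of_normal
  have hG := hC.gp hL
  have τ1 := hC.pr_ne hL tA fun e => t1 (faith t tA e)
  have oO := odd_oOf (⊤ : Subgroup G)
  have tL := WL h.mem
  haveI := hG.simple
  let τ : im L L := ⟨pr L t, hG.le (hC.pr_mem hL tA)⟩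
  have τ2 : orderOf τ = 2 := by
    rw [← orderOf_coe]; exact hG.sc.two (hC.pr_mem hL tA) τ1
  obtain ⟨E, E₀, hE⟩ := hJ.shape τ τ2
  obtain ⟨F, _, _, f1, f2, ⟨e⟩⟩ := JRC_known hE
  have h4 : E₀ ≤ (im L (WW t)).subgroupOf (im L L) := by
    haveI := hE.simple
    obtain ⟨a, ha⟩ := exists_inv hE.nab
    refine subgroupOf_eq_top.1 (top_of_conj (ne_one_of_orderOf_eq ha) fun g => ?_)
    obtain ⟨⟨y, hy⟩, h5⟩ := isConj_iff.1 (JR_conj hJ τ2 (b := (g * a * g⁻¹ : E₀))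
      (by rw [orderOf_coe, ← ha]; exact (MulAut.conj g).orderOf_eq a))
    obtain ⟨l, hl, rfl⟩ := (mem_im' (nn L)).1 hy
    have h6 : pr L (l * t * l⁻¹) = ((g * a * g⁻¹ : E₀) : im L L) :=
      (pr_conj (nn L hl) (nn ⊤ (mem_top t))).trans (congrArg Subtype.val h5)
    have h7 : l * t * l⁻¹ * t * (l * t * l⁻¹)⁻¹ * t⁻¹ ∈ L ⊓ Cent L := by
      have u : l * t * l⁻¹ ∈ L := mul_mem (mul_mem hl tL) (inv_mem hl)
      refine mem_inf.2 ⟨mul_mem (mul_mem (mul_mem u tL) (inv_mem u)) (inv_mem tL),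
        (pr_mem_cz_iff (nn ⊤ (mem_top _)) (nn ⊤ (mem_top _))).1 (mem_cz.2 ?_)⟩
      rw [h6]
      exact congrArg Subtype.val (mem_cz.1 (JRC_le hE (g * a * g⁻¹).2))
    have h8 : l * t * l⁻¹ ∈ cz t := by
      refine mem_cz_of_conj (mul_inv_eq_one.1 (eq_one_of_sq (odd_orderOf oO (rad h7)) ?_))
      have h9 := cen h7 t tL
      generalize l * t * l⁻¹ = u at h9
      calc _ = u * t * u⁻¹ * t⁻¹ * (u * t * u⁻¹ * t⁻¹ * t) * t * (t * t)⁻¹ := by group
        _ = u * (t * t) * u⁻¹ * (t * t)⁻¹ := by rw [← h9]; group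
        _ = 1 := by rw [h.tt]; group
    change (((g * a * g⁻¹ : E₀) : im L L) : Gam L) ∈ im L (WW t)
    rw [← h6]
    exact pr_mem_im (mem_WW (isConj_iff.2 ⟨l, rfl⟩) h8) (nn ⊤ (mem_top _))
  have h5 : Fintype.card F = 5 := by
    have h6 := (card_le_of_le h4).trans ((card_subgroupOf (im_mono WL)).le.trans
      (Nat.le_of_dvd Nat.card_pos (card_im_dvd (nn _))))
    have h7 := Inv.card_psl2_odd (F := F) (by omega)
    rw [← Nat.card_congr e.toEquiv] at h7
    rw [h.cardW] at h6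
    by_contra k
    have k' : 11 ≤ Fintype.card F := by omega
    have := Nat.mul_le_mul k' (Nat.sub_le_sub_right (Nat.pow_le_pow_left k' 2) 1)
    omega
  exact JR_isoJ1 hJ τ2 hE h5 e

theorem lift_j1 (hL : PC ⊤ L) [L.Normal] (hI : Spor.IsoJ1 (im L L))
    (rad : L ⊓ Cent L ≤ oOf ⊤) (cen : L ⊓ Cent L ≤ 𝐂(L)) : Spor.IsoJ1 L := by
  have nn : ∀ K : Subgroup G, K ≤ 𝐍(L) := fun K => le_normalizer_of_normal
  have oO := odd_oOf (⊤ : Subgroup G)
  haveI := hL.as.simple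
  have hZ : L ⊓ Cent L = ⊥ := by
    by_contra k
    obtain ⟨p, hp, hd⟩ := Nat.exists_prime_and_dvd (mt card_eq_one.1 k)
    haveI := Fact.mk hp
    obtain ⟨z, hz, hzp⟩ := exists_mem_orderOf_eq hd
    obtain ⟨T, hT, hzT⟩ := exists_isSylowIn_le (isPGroup_zpowers_of_orderOf (k := 1)
      (hzp.trans (pow_one p).symm)) (zpowers_le.2 hz.1)
    have p2 : p ≠ 2 := fun e => not_mem_of_odd oO (e ▸ hzp) (rad hz)
    obtain ⟨n, hn⟩ := IsPGroup.iff_card.1 (pgroup_im (L := L) hT.pgrp)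
    have h6 := card_dvd_of_le (im_mono (L := L) hT.le)
    rw [hn, (isJ1_of_iso hI).2] at h6
    have h7 : n ≤ 1 := by
      by_contra k1
      have h8 : p * p ∣ 2 ^ 3 * 21945 := (show p * p ∣ p ^ n by
        rw [← sq]; exact pow_dvd_pow p (by omega)).trans h6
      have h9 := (Nat.Coprime.pow_right 3 (Nat.Coprime.mul_left
        ((Nat.coprime_primes hp Nat.prime_two).2 p2)
        ((Nat.coprime_primes hp Nat.prime_two).2 p2))).dvd_of_dvd_mul_left h8
      exact hp.ne_one (Nat.isUnit_iff.1 ((show Squarefree 21945 by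
        rw [Nat.squarefree_iff_nodup_primeFactorsList (by norm_num)]; simp) p h9))
    haveI : IsCyclic (im L T) := by
      interval_cases n
      · haveI := (Nat.card_eq_one_iff_unique.1 hn).1
        infer_instance
      · exact isCyclic_of_prime_card (hn.trans (pow_one p))
    refine ne_one_of_orderOf_eq hzp (eq_one_of_ab hL.perf hT (fun a ha b hb => congrArg
      Subtype.val (commutative_of_cyclic_center_quotient (imHom (nn T)) (fun x hx => ?_) ⟨a, ha⟩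
        ⟨b, hb⟩)) (hzT (mem_zpowers z)) (cen hz))
    rw [imHom_ker] at hx
    exact mem_center_iff.2 fun y => Subtype.ext (cen ⟨hT.le x.2, hx⟩ y (hT.le y.2))
  obtain ⟨f⟩ := hI
  refine ⟨(MulEquiv.ofBijective (imHom (nn L)) ⟨(MonoidHom.ker_eq_bot_iff _).1 ?_,
    imHom_surj _⟩).trans f⟩
  rw [imHom_ker, subgroupOf_eq_bot, disjoint_iff, inf_comm, hZ]


/-- Let t be an involution of a finite group G lying in the centre of a Sylow 2-subgroup of G, and suppose the weak closure of t in C_G(t) — the subgroup generated by all G-conjugates of t that commute with t — is isomorphic to Z₂ × A₅. Then the normal closure ⟨t^G⟩ of t in G is isomorphic to the first Janko group J₁. -/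
theorem result {G : Type*} [Group G] [Finite G]
    (t : G) (ht : orderOf t = 2) (S : Sylow 2 G) (htS : t ∈ (S : Subgroup G)) (htc : ∀ s ∈ (S : Subgroup G), s * t = t * s)
    (hW : Nonempty (↥(Subgroup.closure {x : G | ∃ g : G, x = g * t * g⁻¹ ∧ x * t = t * x}) ≃*
      (Multiplicative (ZMod 2) × ↥(alternatingGroup (Fin 5))))) :
    Cfsg.Spor.IsoJ1 ↥(Subgroup.normalClosure ({t} : Set G)) := by
  obtain ⟨e⟩ := hW
  obtain ⟨L, h⟩ := exists_HY ht e
  obtain ⟨A, h1, h2, h3, h4, h5, h6⟩ := h.main S htS fun s hs => mem_cz.2 (htc s hs)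
  obtain ⟨K, hK, _, e, h7, h8, h9⟩ := h.comp h1 h2 h3 h4 h6
  have hJ := h.jr h1 h2 h3 h5 hK h7 h8
  have hC : Ctx A ⊤ := ⟨h1, le_top, good_all ⊤⟩
  have rad : K ⊓ Cent K ≤ oOf ⊤ := (hC.rad_le hK ((hC.gp hK).jr_syl hJ).1).trans hK.pc.oOf_le
  rw [e]
  exact lift_j1 hK.pc (h.j1 h1 h3 hK h7 h8 hJ rad (rad.trans h9)) rad (rad.trans h9)

end Cfsg.Agent.S3239
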