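import Mathlib
import Cfsg.Statements.S3244
import Cfsg.Agent.S3109
import Cfsg.Agent.S0215
import Cfsg.Agent.Core.PConstrained
-- import your own Cfsg.Agent.* helpers here

set_option autoImplicit false
open Cfsg

namespace Cfsg.Agent.S3244

open Subgroup Cfsg.Agent
open scoped Pointwise

variable {G : Type*} [Group G] [Finite G]

theorem cyc_uniq [IsCyclic G] {a b : G} (ha : orderOf a = 2) (hb : orderOf b = 2) : a = b := by
  classical
  have := Fintype.ofFinite G
  have h := IsCyclic.card_orderOf_eq_totient (α := G) (d := 2) (by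
    rw [← ha, ← Nat.card_eq_fintype_card]; exact orderOf_dvd_natCard a)
  exact Finset.card_le_one.1 (h.trans Nat.totient_two).le a (by simpa) b (by simpa)

omit [Finite G] in
theorem ord_conj (g x : G) : orderOf (g * x * g⁻¹) = orderOf x :=
  (MulAut.conj g).orderOf_eq x

/-- the involution `w` is the only involution centralizing a normal `2`-subgroup of `C(w)` -/
def D (w : G) : Prop :=
  orderOf w = 2 ∧ ∃ Q : Subgroup G, IsPGroup 2 Q ∧ Q ≤ centralizer {w} ∧
    centralizer {w} ≤ normalizer (Q : Set G) ∧ w ∈ Q ∧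
      ∀ x : G, orderOf x = 2 → (∀ q ∈ Q, q * x = x * q) → x = w

theorem key (hO : ∀ t : G, orderOf t = 2 → centralizerPPrimeCore 2 t = ⊥)
    (hcon : ∀ T : Subgroup G, IsPGroup 2 T → T ≠ ⊥ → IsPConstrained 2 (normalizer (T : Set G)))
    (hcyc : ∀ M : Subgroup G, IsMaximalTwoLocal M → IsCyclic (center (pCore 2 M)))
    {T : Subgroup G} (hT : IsPGroup 2 T) (hT1 : T ≠ ⊥) :
    ∃ w : G, D w ∧ normalizer (T : Set G) ≤ centralizer {w} := by
  haveI : Fact (Nat.Prime 2) := ⟨Nat.prime_two⟩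
  obtain ⟨M, hle, hM⟩ := Finite.exists_le_maximal (p := fun M : Subgroup G => IsTwoLocal M)
    (a := normalizer (T : Set G)) ⟨_, hT, hT1, rfl⟩
  have hM' : IsMaximalTwoLocal M := ⟨hM.prop, fun N a b => le_antisymm (hM.le_of_ge a b) b⟩
  have hc := hcyc M hM'
  obtain ⟨U, hU, hU1, hMU⟩ := hM.prop
  have hUM : U ≤ M := hMU ▸ le_normalizer
  have hUn : (U.subgroupOf M).Normal := by
    rw [normal_subgroupOf_iff_le_normalizer hUM, hMU]
  have hUQ : U.subgroupOf M ≤ pCore 2 M := Core.le_pCore hUn (hU.comap_subtype)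
  have hQ1 : pCore 2 M ≠ ⊥ := by
    intro h
    rw [h, le_bot_iff, subgroupOf_eq_bot] at hUQ
    exact hU1 (by rwa [disjoint_iff, inf_of_le_left hUM] at hUQ)
  haveI : Nontrivial (pCore 2 M) := (nontrivial_iff_ne_bot _).2 hQ1
  have hQp : IsPGroup 2 (pCore 2 M) := Core.pCore_isPGroup 2
  haveI : Nontrivial (center (pCore 2 M)) := hQp.center_nontrivial
  have hZp : IsPGroup 2 (center (pCore 2 M)) := hQp.to_subgroup _
  obtain ⟨w0, hw0⟩ : ∃ w0 : center (pCore 2 M), orderOf w0 = 2 := by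
    refine exists_prime_orderOf_dvd_card' 2 ?_
    obtain ⟨k, hk⟩ := IsPGroup.iff_card.mp hZp
    rw [hk]
    refine dvd_pow_self 2 ?_
    rintro rfl
    exact absurd hk (by simpa using (Finite.one_lt_card (α := center (pCore 2 M))).ne')
  set w : G := (((w0 : pCore 2 M) : M) : G) with hw
  have hw2 : orderOf w = 2 := by rw [hw, orderOf_coe, orderOf_coe, orderOf_coe, hw0]
  -- uniqueness of the central involution
  have hun : ∀ x : M, x ∈ pCore 2 M → orderOf x = 2 → (∀ q ∈ pCore 2 M, q * x = x * q) → (x : G) = w := by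
    intro x hx h2 hcm
    have hz : (⟨x, hx⟩ : pCore 2 M) ∈ center (pCore 2 M) :=
      mem_center_iff.2 fun q => Subtype.ext (hcm q q.2)
    have := cyc_uniq (G := center (pCore 2 M)) (a := ⟨_, hz⟩) (b := w0)
      (by rw [← orderOf_coe, ← orderOf_coe]; exact h2) hw0
    rw [hw, ← this]
  have hwc : ∀ q ∈ pCore 2 M, q * ((w0 : pCore 2 M) : M) = ((w0 : pCore 2 M) : M) * q := fun q hq =>
    congrArg Subtype.val (mem_center_iff.1 w0.2 ⟨q, hq⟩)
  have hMw : M ≤ centralizer {w} := by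
    intro m hm
    rw [mem_centralizer_singleton_iff]
    have hn : (pCore 2 M).Normal := inferInstance
    have := hun (⟨m, hm⟩ * ((w0 : pCore 2 M) : M) * ⟨m, hm⟩⁻¹) (hn.conj_mem _ (w0 : pCore 2 M).2 _)
      (by rw [ord_conj, orderOf_coe, orderOf_coe, hw0]) (fun q hq => by
        have h1 := hwc (⟨m, hm⟩⁻¹ * q * ⟨m, hm⟩) (by simpa using hn.conj_mem _ hq ⟨m, hm⟩⁻¹)
        calc q * (⟨m, hm⟩ * ((w0 : pCore 2 M) : M) * ⟨m, hm⟩⁻¹)
            = ⟨m, hm⟩ * ((⟨m, hm⟩⁻¹ * q * ⟨m, hm⟩) * ((w0 : pCore 2 M) : M)) * ⟨m, hm⟩⁻¹ := by group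
          _ = _ := by rw [h1]; group)
    exact mul_inv_eq_iff_eq_mul.1 this
  have hzp : IsPGroup 2 (zpowers w) := IsPGroup.of_card (n := 1) (by rw [Nat.card_zpowers, hw2]; rfl)
  have hz1 : zpowers w ≠ ⊥ := by
    rw [Ne, zpowers_eq_bot]; intro h; rw [h] at hw2; simp at hw2
  have hMe : centralizer {w} = M := by
    refine hM'.2 _ ⟨zpowers w, hzp, hz1, (Comp2.norm_zpowers_of_two hw2).symm⟩ hMw
  have hOM : pPrimeCore 2 M = ⊥ := by
    have := hO w hw2
    rw [centralizerPPrimeCore, map_eq_bot_iff_of_injective _ (subtype_injective _)] at this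
    rw [← hMe]; exact this
  have hcM : IsPConstrained 2 M := by rw [hMU]; exact hcon U hU hU1
  have hCQ := (Core.isPConstrained_iff_of_eq_bot hOM).1 hcM
  refine ⟨w, ⟨hw2, (pCore 2 M).map M.subtype, hQp.map _, hMe ▸ map_subtype_le _, ?_,
    ⟨_, (w0 : pCore 2 M).2, rfl⟩, fun x hx hq => ?_⟩, hle.trans hMw⟩
  · rw [hMe]
    have hn : (pCore 2 M).Normal := inferInstance
    refine BG.Amb.le_norm_of_conj_mem ?_
    rintro m hm _ ⟨q, hq, rfl⟩
    exact ⟨_, hn.conj_mem _ hq ⟨m, hm⟩, rfl⟩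
  · have hxM : x ∈ M := by
      rw [← hMe, mem_centralizer_singleton_iff]
      exact (hq w ⟨_, (w0 : pCore 2 M).2, rfl⟩).symm
    have hcm : ∀ q ∈ pCore 2 M, q * ⟨x, hxM⟩ = ⟨x, hxM⟩ * q := fun q h =>
      Subtype.ext (hq q ⟨q, h, rfl⟩)
    exact hun ⟨x, hxM⟩ (hCQ fun q h => hcm q h) (by rw [← orderOf_coe]; exact hx) hcm

theorem uniq (hk : ∀ T : Subgroup G, IsPGroup 2 T → T ≠ ⊥ →
      ∃ w : G, D w ∧ normalizer (T : Set G) ≤ centralizer {w}) :
    ∀ n : ℕ, ∀ (z z' : G) (T : Subgroup G), T.index = n → IsPGroup 2 T → T ≠ ⊥ → D z → D z' →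
      T ≤ centralizer {z} → T ≤ centralizer {z'} → z = z' := by
  haveI : Fact (Nat.Prime 2) := ⟨Nat.prime_two⟩
  intro n
  induction n using Nat.strong_induction_on with
  | _ n ih =>
  intro z z' T hn hT hT1 hz hz' h1 h2
  obtain ⟨w, hw, hTw⟩ := hk T hT hT1
  have step : ∀ z : G, D z → T ≤ centralizer {z} → z = w := by
    intro z hz h1
    obtain ⟨P, hP, hTP⟩ := Core.exists_isSylowOf_ge hT h1
    by_cases hTP' : T = P
    · subst hTP'
      obtain ⟨-, Q, hQ, hQc, hQn, -, hu⟩ := hz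
      have hQT := hP.normal_le hQ hQc hQn
      exact (hu w hw.1 fun q hq => mem_centralizer_singleton_iff.1 (hTw (le_normalizer (hQT hq)))).symm
    · have hlt := Core.lt_inf_normalizer_of_nilpotent hP.isPGroup.isNilpotent (lt_of_le_of_ne hTP hTP')
      refine ih _ ?_ z w (P ⊓ normalizer (T : Set G)) rfl (hP.isPGroup.to_le inf_le_left)
        (ne_bot_of_gt hlt) hz hw (inf_le_left.trans hP.le) (inf_le_right.trans hTw)
      rw [← hn]
      exact index_strictAnti hlt
  rw [step z hz h1, step z' hz' h2]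

/-- Say that a finite group G is of characteristic 2 type in the early sense when a Sylow 2-subgroup S of G has a self-centralizing normal subgroup of rank at least 3, S normalizes no nontrivial subgroup of odd order, and every 2-local subgroup of G is 2-constrained. If G is a non-abelian simple group of characteristic 2 type in this sense, then for some maximal 2-local subgroup M of G the centre of O₂(M) is not cyclic. -/
theorem result {G : Type*} [Group G] [Finite G] [IsSimpleGroup G]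
    (hG : ¬ IsMulCommutative G) (S : Sylow 2 G) (A : Subgroup G) (hA : Cfsg.IsSCN (S : Subgroup G) A) (hA3 : ¬ Cfsg.PRankLE 2 2 ↥A)
    (hinv : ∀ X : Subgroup G, Odd (Nat.card ↥X) → (S : Subgroup G) ≤ Subgroup.normalizer (X : Set G) → X = ⊥)
    (hcon : ∀ T : Subgroup G, IsPGroup 2 ↥T → T ≠ ⊥ → Cfsg.IsPConstrained 2 ↥(Subgroup.normalizer (T : Set G))) :
    ∃ M : Subgroup G, Cfsg.IsMaximalTwoLocal M ∧ ¬ IsCyclic ↥(Subgroup.center ↥(Cfsg.pCore 2 ↥M)) := by
  haveI : Fact (Nat.Prime 2) := ⟨Nat.prime_two⟩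
  by_contra hcyc
  push Not at hcyc
  obtain ⟨hA1, hA2, hA4⟩ := hA
  have hAc : IsMulCommutative A := ⟨⟨fun a b => Subtype.ext ((hA4.ge b.2).2 a a.2)⟩⟩
  have hO := S3109.result hG hcon S (A.subgroupOf S) ((normal_subgroupOf_iff_le_normalizer hA1).2 hA2)
    inferInstance (by
      ext x
      rw [mem_subgroupOf]
      refine ⟨fun h => hA4.le ⟨x.2, fun a ha => congrArg Subtype.val (h ⟨a, hA1 ha⟩ ha)⟩,
        fun h a ha => Subtype.ext ((hA4.ge h).2 a ha)⟩) (by
      rw [← BG.Rank.pRankLE_map_subtype, subgroupOf_map_subtype, inf_of_le_left hA1]; exact hA3)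
  have hk := fun T hT hT1 => key hO hcon hcyc (T := T) hT hT1
  have hS1 : (S : Subgroup G) ≠ ⊥ := by
    intro h
    apply hA3
    intro B _ _
    have : Nat.card A = 1 := by rw [card_eq_one, ← le_bot_iff, ← h]; exact hA1
    have := card_le_card_group B
    omega
  obtain ⟨z, hz, hSz⟩ := hk S S.isPGroup' hS1
  have hSz' : (S : Subgroup G) ≤ centralizer {z} := le_normalizer.trans hSz
  obtain ⟨hz2, Q, hQ, hQc, hQn, hzQ, hu⟩ := id hz
  have hzS : z ∈ (S : Subgroup G) := (Core.isSylowOf_sylow_of_le S hSz').normal_le hQ hQc hQn hzQ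
  obtain ⟨N, hN, hodd, hzN⟩ := S0215.result S z hz2 hzS (fun g hg => by
    have hy2 : orderOf (g * z * g⁻¹) = 2 := by rw [ord_conj, hz2]
    have hzp : IsPGroup 2 (zpowers (g * z * g⁻¹)) :=
      IsPGroup.of_card (n := 1) (by rw [Nat.card_zpowers, hy2]; rfl)
    have hz1 : zpowers (g * z * g⁻¹) ≠ ⊥ := by
      rw [Ne, zpowers_eq_bot]; intro h; rw [h] at hy2; simp at hy2
    obtain ⟨w, hw, hyw⟩ := hk _ hzp hz1
    have e : z = w := uniq hk _ z w _ rfl hzp hz1 hz hw (by
      rw [zpowers_le]; exact hSz' hg) (le_normalizer.trans hyw)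
    subst e
    rw [Comp2.norm_zpowers_of_two hy2] at hyw
    have hgS : ((g • S : Sylow 2 G) : Subgroup G) ≤ centralizer {g * z * g⁻¹} := by
      intro x hx
      rw [Sylow.coe_subgroup_smul, mem_pointwise_smul_iff_inv_smul_mem] at hx
      have := mem_centralizer_singleton_iff.1 (hSz' hx)
      rw [← map_inv, MulAut.smul_def, MulAut.conj_apply, inv_inv] at this
      rw [mem_centralizer_singleton_iff]
      calc x * (g * z * g⁻¹) = g * (g⁻¹ * x * g * z) * g⁻¹ := by group
        _ = _ := by rw [this]; group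
    have hQS := (Core.isSylowOf_sylow_of_le (g • S) (hgS.trans hyw)).normal_le hQ hQc hQn
    exact hu _ hy2 fun q hq => mem_centralizer_singleton_iff.1 (hgS (hQS hq)))
  rcases hN.eq_bot_or_eq_top with h | h
  · have hc : z ∈ center G := mem_center_iff.2 fun g => by
      have := hzN g
      rw [h, mem_bot] at this
      calc g * z = (z * g * z⁻¹ * g⁻¹) * (g * z) := by rw [this, one_mul]
        _ = z * g := by group
    rcases (inferInstance : (center G).Normal).eq_bot_or_eq_top with h' | h'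
    · rw [h', mem_bot] at hc
      rw [hc] at hz2; simp at hz2
    · exact hG ⟨⟨fun a b => (mem_center_iff.1 (h' ▸ mem_top b) a)⟩⟩
  · rw [h, card_top] at hodd
    exact (Nat.not_even_iff_odd.2 hodd) (even_iff_two_dvd.2 (hz2 ▸ orderOf_dvd_natCard z))

end Cfsg.Agent.S3244
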