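import Cfsg.Statements.S3245
import Mathlib
import Cfsg.Agent.Ben.Cons2

set_option autoImplicit false
open Cfsg

namespace Cfsg.Agent.S3245

open Subgroup
open scoped Pointwise

/-- A finite non-abelian simple group in which all maximal 2-local subgroups are conjugate is isomorphic to L₂(2ⁿ), Sz(2ⁿ) or U₃(2ⁿ) for some n ≥ 2. -/
theorem result {G : Type*} [Group G] [Finite G] [IsSimpleGroup G] (hG : ¬ IsMulCommutative G)
    (h1 : ∀ M M' : Subgroup G, Cfsg.IsMaximalTwoLocal M → Cfsg.IsMaximalTwoLocal M' → ∃ g : G, M' = M.map (MulAut.conj g).toMonoidHom) :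
    (∃ (F : Type) (_ : Field F) (_ : Fintype F) (n : ℕ), 2 ≤ n ∧ Fintype.card F = 2 ^ n ∧
        Nonempty (G ≃* Matrix.ProjectiveSpecialLinearGroup (Fin 2) F)) ∨
      Cfsg.Lie.IsoSuzuki G ∨
      (∃ (F : Type) (_ : Field F) (_ : Fintype F) (n : ℕ), 2 ≤ n ∧ Fintype.card F = (2 ^ n) ^ 2 ∧ Nonempty (G ≃* Cfsg.PSU 3 F (2 ^ n))) := by
  have : Fact (Nat.Prime 2) := ⟨Nat.prime_two⟩
  have hmax : ∀ T : Subgroup G, IsPGroup 2 T → T ≠ ⊥ →
      ∃ M, Cfsg.IsMaximalTwoLocal M ∧ normalizer (T : Set G) ≤ M := by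
    intro T hT hT1
    obtain ⟨M, ⟨hM, hle⟩, hm⟩ := Set.exists_max_image
      {M : Subgroup G | Cfsg.IsTwoLocal M ∧ normalizer (T : Set G) ≤ M} (fun M => Nat.card M)
      (Set.toFinite _) ⟨_, ⟨T, hT, hT1, rfl⟩, le_rfl⟩
    exact ⟨M, ⟨hM, fun N hN hMN => (Core.eq_of_le_of_card_le hMN (hm N ⟨hN, hle.trans hMN⟩)).symm⟩, hle⟩
  obtain ⟨S, hS⟩ := Core.exists_isSylowOf 2 (⊤ : Subgroup G)
  have hS1 : S ≠ ⊥ := hS.ne_bot (by rw [card_top]; exact (Ben.even_of_simple hG).two_dvd)
  obtain ⟨M, hM, hSM⟩ := hmax S hS.isPGroup hS1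
  have hSM' : Core.IsSylowOf 2 S M := hS.of_le (le_normalizer.trans hSM) le_top
  -- every maximal 2-local contains the normaliser of each of its Sylow subgroups
  have hsyl : ∀ g : G, ∀ T : Subgroup G, Core.IsSylowOf 2 T (MulAut.conj g • M) →
      Core.IsSylowOf 2 T ⊤ ∧ normalizer (T : Set G) ≤ MulAut.conj g • M := by
    intro g T hT
    obtain ⟨k, hk, rfl⟩ := (hSM'.conj g).exists_conj_eq hT
    rw [← mul_smul, ← map_mul]
    refine ⟨hS.conj_of_mem_normalizer (by rw [normalizer_eq_top]; trivial), fun x hx => ?_⟩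
    have h2 : (k * g)⁻¹ * x * (k * g) ∈ normalizer (S : Set G) := by
      have := Ben.conj_mem_norm hx (k * g)⁻¹
      rwa [map_inv, inv_smul_smul, inv_inv] at this
    have h3 := smul_mem_pointwise_smul _ (MulAut.conj g) _ (hSM h2)
    have e : x = k * ((MulAut.conj g) • ((k * g)⁻¹ * x * (k * g))) * k⁻¹ := by
      rw [MulAut.smul_def, MulAut.conj_apply]; group
    rw [e]
    exact mul_mem (mul_mem hk h3) (inv_mem hk)
  have key : ∀ n : ℕ, ∀ (g h : G) (T : Subgroup G), T.index = n → IsPGroup 2 T → T ≠ ⊥ →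
      T ≤ MulAut.conj g • M → T ≤ MulAut.conj h • M → MulAut.conj g • M = MulAut.conj h • M := by
    intro n
    induction n using Nat.strong_induction_on with
    | _ n ih =>
    intro g h T hn hT hT1 hg hh
    obtain ⟨N, hN, hTN⟩ := hmax T hT hT1
    obtain ⟨k, rfl⟩ := h1 M N hM hN
    rw [← Core.conj_smul_eq_map] at hTN
    have step : ∀ g : G, T ≤ MulAut.conj g • M → MulAut.conj g • M = MulAut.conj k • M := by
      intro g hg
      obtain ⟨P, hP, hTP⟩ := Core.exists_isSylowOf_ge hT hg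
      by_cases hTP' : T = P
      · subst hTP'
        obtain ⟨h2, h3⟩ := hsyl g T hP
        have h4 : Core.IsSylowOf 2 T (MulAut.conj k • M) := h2.of_le (le_normalizer.trans hTN) le_top
        have h5 := h4.conj (g * k⁻¹)
        rw [← mul_smul, ← map_mul, inv_mul_cancel_right] at h5
        obtain ⟨m, hm, e⟩ := h5.exists_conj_eq hP
        rw [← mul_smul, ← map_mul, Core.conj_smul_eq_iff_mem_normalizer] at e
        have h6 : g * k⁻¹ ∈ MulAut.conj g • M := (mul_mem_cancel_left hm).mp (h3 e)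
        have h7 := Core.conj_smul_eq_iff_mem_normalizer.mpr (le_normalizer (inv_mem h6))
        rw [← h7, ← mul_smul, ← map_mul]
        congr 2
        group
      · have hlt := Core.lt_inf_normalizer_of_nilpotent hP.isPGroup.isNilpotent (lt_of_le_of_ne hTP hTP')
        refine ih _ ?_ g k (P ⊓ normalizer (T : Set G)) rfl (hP.isPGroup.to_le inf_le_left)
          (ne_bot_of_gt hlt) (inf_le_left.trans hP.le) (inf_le_right.trans hTN)
        rw [← hn]
        exact index_strictAnti hlt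
    rw [step g hg, step h hh]
  refine Ben.simple_known (H := M) ⟨?_, ?_, fun g hg => ?_⟩
  · obtain ⟨T, hT, hT1, rfl⟩ := hM.1
    intro h
    rcases (normalizer_eq_top_iff.mp h).eq_bot_or_eq_top with h2 | h2
    · exact hT1 h2
    · rw [h2] at hT
      have := (hT.of_equiv topEquiv).isNilpotent
      exact hG ⟨⟨IsSimpleGroup.comm_iff_isSolvable.mpr inferInstance⟩⟩
  · refine even_iff_two_dvd.mpr (dvd_trans ?_ (card_dvd_of_le hSM'.le))
    obtain ⟨k, hk⟩ := IsPGroup.iff_card.mp hS.isPGroup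
    rw [hk]
    refine dvd_pow_self 2 ?_
    rintro rfl
    exact hS1 (card_eq_one.mp hk)
  · by_contra ho
    obtain ⟨T, hT⟩ := Core.exists_isSylowOf 2 (M ⊓ M.map (MulAut.conj g).toMonoidHom)
    have h2 := key _ 1 g T rfl hT.isPGroup (hT.ne_bot (Nat.not_odd_iff_even.mp ho).two_dvd)
      (by rw [map_one, one_smul]; exact hT.le.trans inf_le_left) (hT.le.trans inf_le_right)
    rw [map_one, one_smul, eq_comm, Core.conj_smul_eq_iff_mem_normalizer] at h2
    obtain ⟨m, hm, h3⟩ := hSM'.exists_mul_normalizer h2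
    exact hg ((mul_mem_cancel_left (inv_mem hm)).mp (hSM h3))

end Cfsg.Agent.S3245
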