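import Mathlib
import Cfsg.Statements.S3246
import Cfsg.Agent.Inv.Constr

set_option autoImplicit false
open Cfsg

namespace Cfsg.Agent.S3246

/-- Let G be a finite group whose Sylow 2-subgroup S has a self-centralizing normal subgroup of rank at least 3. Suppose that either every maximal 2-local subgroup of G is 2-constrained with no nontrivial normal subgroup of odd order, or the centralizer of every involution of G is 2-constrained with no nontrivial normal subgroup of odd order. Then S normalizes no nontrivial subgroup of G of odd order and every 2-local subgroup of G is 2-constrained. -/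
theorem result {G : Type*} [Group G] [Finite G]
    (S : Sylow 2 G) (A : Subgroup G) (hA : Cfsg.IsSCN (S : Subgroup G) A) (hA3 : ¬ Cfsg.PRankLE 2 2 ↥A)
    (h : (∀ M : Subgroup G, Cfsg.IsMaximalTwoLocal M → Cfsg.IsPConstrained 2 ↥M ∧ Cfsg.oddCore ↥M = ⊥) ∨
      (∀ t : G, orderOf t = 2 → Cfsg.IsPConstrained 2 ↥(Subgroup.centralizer ({t} : Set G)) ∧
        Cfsg.oddCore ↥(Subgroup.centralizer ({t} : Set G)) = ⊥)) :
    (∀ X : Subgroup G, Odd (Nat.card ↥X) → (S : Subgroup G) ≤ Subgroup.normalizer (X : Set G) → X = ⊥) ∧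
      (∀ T : Subgroup G, IsPGroup 2 ↥T → T ≠ ⊥ → Cfsg.IsPConstrained 2 ↥(Subgroup.normalizer (T : Set G))) := by
  haveI : Fact (Nat.Prime 2) := ⟨Nat.prime_two⟩
  have hc : ∀ t : G, orderOf t = 2 → Subgroup.centralizer (pCore 2 (Subgroup.centralizer ({t} : Set G)) : Set (Subgroup.centralizer ({t} : Set G))) ≤ pCore 2 _ := by
    intro t ht
    rcases h with h | h
    · have htt : t * t = 1 := by rw [← pow_two, ← ht, pow_orderOf_eq_one]
      have hT := Inv.isPGroup_zpowers_of_mul_self htt
      have hT1 : Subgroup.zpowers t ≠ ⊥ := by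
        rw [Ne, Subgroup.zpowers_eq_bot]; rintro rfl; simp at ht
      obtain ⟨M, hle, hM⟩ := Finite.exists_le_maximal (p := fun M : Subgroup G => Cfsg.IsTwoLocal M)
        (a := Subgroup.normalizer (Subgroup.zpowers t : Set G)) ⟨_, hT, hT1, rfl⟩
      obtain ⟨h1, h2⟩ := h M ⟨hM.prop, fun N a b => le_antisymm (hM.le_of_ge a b) b⟩
      have e : Subgroup.centralizer ({t} : Set G) = Subgroup.centralizer (Subgroup.zpowers t : Set G) := by
        rw [Subgroup.zpowers_eq_closure, Subgroup.centralizer_closure]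
      rw [e]
      exact Inv.charP_local_of_le ((Core.isPConstrained_iff_of_eq_bot h2).mp h1) hT (Subgroup.le_normalizer.trans hle)
        ((Subgroup.centralizer_le_normalizer _).trans hle) inf_le_right (Or.inl le_rfl)
    · exact (Core.isPConstrained_iff_of_eq_bot (h t ht).2).mp (h t ht).1
  refine ⟨fun X hX hSX => ?_, fun T hT hT1 => Inv.isPConstrained_normalizer_of_centralizers
    (fun t ht => Core.isPConstrained_of_centralizer_le (hc t ht)) hT hT1⟩
  obtain ⟨hA1, hA2, hA4⟩ := hA
  have hAc : IsMulCommutative A := ⟨⟨fun a b => Subtype.ext ((hA4.ge b.2).2 a a.2)⟩⟩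
  have hnc : ¬ IsCyclic A := by
    intro hcyc
    apply hA3
    intro B _ hB
    have := Inv.card_le_two_of_cyclic_exp (A := B) inferInstance (fun x hx => by rw [← pow_two]; exact hB x hx)
    omega
  obtain ⟨V, hVA, hV, hn⟩ := Inv.exists_normal_four_of_comm S.isPGroup' hA1 hA2 hAc hnc
  refine Inv.eq_bot_of_four_fpf hV hX ((hVA.trans hA1).trans hSX) (fun v hv hv1 k hk hkv => ?_)
  refine Inv.eq_one_of_charTwo (hc v (Inv.four_two hV hv hv1)) S ?_ hX hSX hk (Inv.mem_centralizer_single.mpr hkv)
  have hle : Subgroup.centralizer (V : Set G) ≤ Subgroup.centralizer ({v} : Set G) := Subgroup.centralizer_le (by simpa using hv)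
  rcases Inv.four_relIndex_cases S.isPGroup' hV hn with h1 | h1
  · rw [Subgroup.relIndex_eq_one.mpr (h1.trans hle)]; norm_num
  · have := Subgroup.relIndex_dvd_of_le_left (S : Subgroup G) hle
    rw [h1] at this
    exact Nat.le_of_dvd (by norm_num) this

end Cfsg.Agent.S3246
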