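import Mathlib
import Cfsg.Statements.S4707
import Cfsg.Agent.Block.Dih
import Cfsg.Agent.Block.SCGrp
import Cfsg.Agent.Perm.PrimeDegree
import Cfsg.Agent.Classical.SmallRecog
-- import your own Cfsg.Agent.* helpers here

set_option autoImplicit false
open Cfsg

namespace Cfsg.Agent.S4707

open Cfsg.Agent.Block Subgroup in
theorem between {G : Type*} [Group G] [Finite G] {p : ℕ} (hp : p.Prime) {P K N : Subgroup G}
    (hP : Nat.card P = p) (hN : Nat.card N = 2 * p) (h1 : P ≤ K) (h2 : K ≤ N) : K = P ∨ K = N := by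
  obtain ⟨a, ha⟩ := card_dvd_of_le h1
  obtain ⟨b, hb⟩ := card_dvd_of_le h2
  rw [hN, ha, hP, mul_comm 2, mul_assoc] at hb
  have h3 := Nat.eq_of_mul_eq_mul_left hp.pos hb
  rcases (Nat.dvd_prime Nat.prime_two).1 ⟨b, h3⟩ with rfl | rfl
  · exact Or.inl (eq_of_le_of_card_ge h1 (by rw [ha, mul_one])).symm
  · exact Or.inr (eq_of_le_of_card_ge h2 (by rw [ha, hN, hP, mul_comm]))

open Cfsg.Agent.Block Cfsg.Agent.Char MulAction Subgroup in
theorem aux {G : Type*} [Group G] [Fintype G] (α : Type*) [MulAction G α] [IsPretransitive G α]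
    (a : α) {_ : Fintype (stabilizer G a)} {χ : IrrCharacter G} (h1 : χ ≠ oneIrr G)
    (h0 : classInner (fun g : G => (Nat.card (fixedBy α g) : ℂ) - 1) χ.1 = 1) :
    classInner (fun _ : stabilizer G a => (1 : ℂ)) (fun x : stabilizer G a => χ.1 x) = 1 := by
  have := classInner_sub_left (fun g : G => (Nat.card (fixedBy α g) : ℂ)) (fun _ => 1) χ.1
  have e0 : classInner (fun _ : G => (1 : ℂ)) χ.1 = 0 := classInner_irr_ne (χ := oneIrr G) h1.symm
  rw [e0, sub_zero] at this
  have e : (fun g : G => (Nat.card (fixedBy α g) : ℂ)) = indFun (stabilizer G a) (fun _ => 1) :=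
    funext fun g => IndTI.card_fixedBy_eq_indFun α a g
  rw [← Ind.inner_indFun_left _ _ (irr_classFun χ), ← e]
  exact this.symm.trans h0

open Cfsg.Agent.Block Cfsg.Agent.Char Cfsg.Agent.Perm MulAction Subgroup in

/-- Let p > 3 be a prime and G a primitive permutation group of degree 2p that is not doubly transitive. If a Sylow p-subgroup of G has normalizer of order 2p, then p = 5 and G is isomorphic to the alternating group of degree 5. -/
theorem result {α : Type*} [Fintype α] [DecidableEq α] {p : ℕ} [Fact p.Prime] (hp : 3 < p) (hα : Fintype.card α = 2 * p) (G : Subgroup (Equiv.Perm α)) (hprim : MulAction.IsPreprimitive G α) (hnot2 : ¬ MulAction.IsMultiplyPretransitive G α 2) (P : Sylow p G) (hN : Nat.card (Subgroup.normalizer ((P : Subgroup G) : Set G)) = 2 * p) : p = 5 ∧ Nonempty (G ≃* alternatingGroup (Fin 5)) := by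
  have := Fintype.ofFinite G
  have hp' : p.Prime := Fact.out
  rw [← Nat.card_eq_fintype_card] at hα
  have : Nontrivial α := Finite.one_lt_card_iff_nontrivial.1 (by omega)
  have htr : ∀ K : Subgroup G, K.Normal → K ≠ ⊥ → 2 * p ∣ Nat.card K := fun K _ hK => by
    have := transitive_of_normal (α := α) K hK
    exact hα ▸ dvd_card_of_transitive
  have hdvd : p ∣ Nat.card G := (Dvd.intro_left 2 hN.symm).trans (card_subgroup_dvd_card _)
  have hP : Nat.card P = p := by
    obtain ⟨k, hk⟩ := P.isPGroup'.exists_card_eq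
    have h1 : Nat.card P ∣ 2 * p := hN ▸ card_dvd_of_le (H := (P : Subgroup G)) le_normalizer
    have h2 : p ∣ Nat.card P := P.dvd_card_of_dvd_card hdvd
    refine Nat.dvd_antisymm (Nat.Coprime.dvd_of_dvd_mul_left ?_ h1) h2
    rw [hk]
    exact ((Nat.coprime_primes hp' Nat.prime_two).2 (by omega)).pow_left _
  have ho := ordP_sylow P hP
  have key : ∀ K : Subgroup G, K.Normal → K ≠ ⊥ →
      ¬ normalizer ((P : Subgroup G) : Set G) ⊓ K ≤ centralizer ((P : Subgroup G) : Set G) := by
    intro K hK hK0 hle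
    have hPK : (P : Subgroup G) ≤ K := ho.le_of_dvd ((Dvd.intro_left 2 rfl).trans (htr K hK hK0))
    have hb := @regular_mul_of_burnside p K _ _ _ (P.subtype hPK) (fun n hn y hy => by
      rw [Sylow.coe_subtype, ← subgroupOf_normalizer_eq hPK] at hn
      exact Subtype.ext (hle ⟨hn, n.2⟩ y hy))
    let L : Subgroup G :=
      { carrier := {g | g ∈ K ∧ ¬ p ∣ orderOf g}
        mul_mem' := fun {a b} ha hb' => ⟨mul_mem ha.1 hb'.1, by
          have := hb (y := ⟨a, ha.1⟩) (y' := ⟨b, hb'.1⟩) (by rw [← orderOf_coe]; exact ha.2)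
            (by rw [← orderOf_coe]; exact hb'.2)
          rwa [← orderOf_coe] at this⟩
        one_mem' := ⟨one_mem _, by simpa using hp'.one_lt.ne'⟩
        inv_mem' := fun ha => ⟨inv_mem ha.1, by rw [orderOf_inv]; exact ha.2⟩ }
    have hL : L.Normal := ⟨fun n hn g => ⟨hK.conj_mem n hn.1 g, by
      rw [show orderOf (g * n * g⁻¹) = orderOf n from (MulAut.conj g).orderOf_eq n]; exact hn.2⟩⟩
    have hL0 : L = ⊥ := by
      by_contra e
      obtain ⟨x, hx⟩ := exists_prime_orderOf_dvd_card' p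
        ((Dvd.intro_left 2 rfl).trans (htr L hL e))
      exact x.2.2 (by rw [orderOf_coe, hx])
    obtain ⟨x, hx⟩ := exists_prime_orderOf_dvd_card' 2 ((Dvd.intro p rfl).trans (htr K hK hK0))
    have h1 : (x : G) ∈ L := ⟨x.2, by
      rw [orderOf_coe, hx]
      exact fun e => absurd (Nat.le_of_dvd two_pos e) (by omega)⟩
    rw [hL0, mem_bot] at h1
    rw [← orderOf_coe, h1, orderOf_one] at hx
    omega
  have hnt : Nontrivial G := Finite.one_lt_card_iff_nontrivial.1
    (hp'.one_lt.trans_le (Nat.le_of_dvd Nat.card_pos hdvd))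
  have hs : SC p (P : Subgroup G) := ⟨ho, ((between hp' hP hN ho.ab.comm
    (centralizer_le_normalizer _)).resolve_right fun e =>
      key ⊤ inferInstance top_ne_bot (by rw [e]; exact inf_le_left)).le⟩
  have hsimp : IsSimpleGroup G := ⟨fun K hK => or_iff_not_imp_left.2 fun hK0 => by
    have hPK : (P : Subgroup G) ≤ K := ho.le_of_dvd ((Dvd.intro_left 2 rfl).trans (htr K hK hK0))
    have := (between hp' hP hN (le_inf le_normalizer hPK) inf_le_left).resolve_left fun e =>
      key K hK hK0 (e.le.trans ho.ab.comm)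
    rw [← ho.frattini hPK, sup_eq_right.2 (inf_eq_left.1 this)]⟩
  have hG : commutator G = ⊤ := (Normal.eq_bot_or_eq_top inferInstance).resolve_left fun e =>
    key ⊤ inferInstance top_ne_bot fun x _ y _ =>
      mem_center_iff.1 ((commutator_eq_bot_iff_center_eq_top G).1 e ▸ mem_top x) y
  obtain ⟨t, Y, χ, hd, h0, h1, -, h4⟩ := hs.exists_dih_perm hN hp hG α
    (hα ▸ Dvd.intro_left 2 rfl) hα.le
  have hte := hd.te
  have h5 := h1.resolve_right fun e =>
    hnot2 ((isIrr_perm_sub_one_iff α).1 (h4 (e.trans hα.symm) ▸ χ.2))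
  have hk := charKer_eq_bot_of_simple χ.2 fun e => hd.ne_one (Subtype.ext e)
  obtain ⟨a⟩ : Nonempty α := inferInstance
  have h6 : p = 5 := hd.five h5 hk (H := stabilizer G a)
    (by rw [index_stabilizer_of_transitive, hα]) (aux α a hd.ne_one h0)
  refine ⟨h6, Classical.SmallRecog.equiv_A5_of_simple ?_⟩
  rw [(hd.main h5 hk).1, h6, show t = 2 by omega]

end Cfsg.Agent.S4707
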