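import Mathlib
import Cfsg.Statements.S3254
import Cfsg.Agent.Gp.TP7
import Cfsg.Agent.S4706
import Cfsg.Agent.S4707
-- import your own Cfsg.Agent.* helpers here

set_option autoImplicit false
open Cfsg

namespace Cfsg.Agent.S3254

/-- Let p > 3 be a prime and G a finite non-abelian simple group acting faithfully and transitively on a set Ω of 3p points, such that the normalizer of a Sylow p-subgroup of G has order 2p. If the action is primitive then p = 5 and G ≅ A₆; if it is imprimitive then p = 2^m + 1 for some m and G ≅ PSL₂(2^m). -/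
theorem result {G : Type*} [Group G] [Finite G] [IsSimpleGroup G] (hG : ¬ IsMulCommutative G)
    (p : ℕ) (hp : p.Prime) (hp3 : 3 < p) {Ω : Type*} [Fintype Ω] [MulAction G Ω] [FaithfulSMul G Ω]
    (htr : MulAction.IsPretransitive G Ω) (hΩ : Fintype.card Ω = 3 * p)
    (P : Sylow p G) (hN : Nat.card ↥(Subgroup.normalizer ((P : Subgroup G) : Set G)) = 2 * p) :
    (MulAction.IsPreprimitive G Ω → p = 5 ∧ Nonempty (G ≃* ↥(alternatingGroup (Fin 6)))) ∧
      (¬ MulAction.IsPreprimitive G Ω → ∃ (F : Type) (_ : Field F) (_ : Fintype F) (m : ℕ), Fintype.card F = 2 ^ m ∧ p = 2 ^ m + 1 ∧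
        Nonempty (G ≃* Matrix.ProjectiveSpecialLinearGroup (Fin 2) F)) := by
  classical
  haveI := Fintype.ofFinite G
  haveI := Fact.mk hp
  rw [← Nat.card_eq_fintype_card] at hΩ
  have hdvd : p ∣ Nat.card G := (Dvd.intro_left 2 hN.symm).trans (Subgroup.card_subgroup_dvd_card _)
  have hP : Nat.card P = p := by
    obtain ⟨k, hk⟩ := P.isPGroup'.exists_card_eq
    have h1 : Nat.card P ∣ 2 * p :=
      hN ▸ Subgroup.card_dvd_of_le (H := (P : Subgroup G)) Subgroup.le_normalizer
    have h2 : p ∣ Nat.card P := P.dvd_card_of_dvd_card hdvd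
    refine Nat.dvd_antisymm (Nat.Coprime.dvd_of_dvd_mul_left ?_ h1) h2
    rw [hk]
    exact ((Nat.coprime_primes hp Nat.prime_two).2 (by omega)).pow_left _
  have ho := Block.ordP_sylow P hP
  have hc : commutator G = ⊤ := (Subgroup.Normal.eq_bot_or_eq_top inferInstance).resolve_left fun e =>
    hG ⟨⟨fun a b =>
      Subgroup.mem_center_iff.1 ((commutator_eq_bot_iff_center_eq_top G).1 e ▸ Subgroup.mem_top b) a⟩⟩
  have hs : Block.SC p (P : Subgroup G) := ⟨ho, ((S4707.between hp hP hN ho.ab.comm
    (Subgroup.centralizer_le_normalizer _)).resolve_right fun e => ho.not_le_of_perfect hc e.ge).le⟩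
  refine ⟨fun _ => ?_, fun hn => ?_⟩
  · obtain ⟨ε, t, Y, χ, h⟩ := Gp.TP.exists_DE hs hN hp3 hc
    exact h.prim hc hΩ
  haveI : Nontrivial Ω := Finite.one_lt_card_iff_nontrivial.1 (by omega)
  obtain ⟨α⟩ : Nonempty Ω := inferInstance
  have hi : (MulAction.stabilizer G α).index = 3 * p := by
    rw [MulAction.index_stabilizer_of_transitive, hΩ]
  obtain ⟨K, hK, hT⟩ : ∃ K, MulAction.stabilizer G α < K ∧ K ≠ ⊤ := by
    by_contra h
    push Not at h
    refine hn ((MulAction.isCoatom_stabilizer_iff_preprimitive G α).mp ⟨fun e => ?_, h⟩)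
    rw [e, Subgroup.index_top] at hi
    omega
  have hcore := Classical.SmallRecog.normalCore_eq_bot_of_simple K hT
  have hKp : K.index = p := by
    have h1 : K.index ∣ 3 * p := hi ▸ Subgroup.index_dvd_of_le hK.le
    have h2 : K.index ≠ 1 := fun e => hT (Subgroup.index_eq_one.mp e)
    have h3 : K.index < 3 * p := hi ▸ Subgroup.index_strictAnti hK
    have h4 : K.index ≠ 3 := fun e => by
      have := hdvd.trans (Classical.SmallRecog.card_dvd_factorial_of_core K hcore)
      rw [e] at this
      have := hp.dvd_factorial.mp this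
      omega
    obtain ⟨a, b, ha, hb, e⟩ := (Nat.dvd_mul).mp h1
    rcases (Nat.dvd_prime Nat.prime_three).mp ha with rfl | rfl <;>
      rcases (Nat.dvd_prime hp).mp hb with rfl | rfl <;> omega
  have hinj : Function.Injective (MulAction.toPermHom G (G ⧸ K)) := by
    rw [← MonoidHom.ker_eq_bot_iff, ← Subgroup.normalCore_eq_ker, hcore]
  let e := MonoidHom.ofInjective hinj
  haveI := Fintype.ofFinite (G ⧸ K)
  rcases S4706.result (p := p) (α := G ⧸ K) (by omega) (by rw [← Nat.card_eq_fintype_card]; exact hKp)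
    _ (P.mapSurjective (f := e.toMonoidHom) e.surjective) (by
      have := Subgroup.map_equiv_normalizer_eq (P : Subgroup G) e
      exact (congrArg (fun H : Subgroup _ => Nat.card H) this).symm.trans
        ((Subgroup.card_map_of_injective e.injective).trans hN)) with h | ⟨a, F, _, _, h1, h2, ⟨f⟩⟩
  · refine (ho.not_normal_of_perfect hc ?_).elim
    have : (((P : Subgroup G).map e.toMonoidHom).comap e.toMonoidHom).Normal := h.comap e.toMonoidHom
    rwa [Subgroup.comap_map_eq_self_of_injective (f := e.toMonoidHom) e.injective] at this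
  · exact ⟨F, inferInstance, inferInstance, a, h2, h1,
      ⟨(e.trans f).trans (Classical.PSL2Basic.slEquivPSL (Block.two_eq_zero_of_card h2))⟩⟩

end Cfsg.Agent.S3254
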