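import Mathlib
import Cfsg.Statements.S3258
import Cfsg.Agent.FGS.Homog2
import Cfsg.Agent.FGS.PSL2Real
import Cfsg.Agent.FGS.Basic2
import Cfsg.Agent.Gs.Main
import Cfsg.Agent.S1221
import Cfsg.Agent.S1224
import Cfsg.Agent.S1225
import Cfsg.Agent.S0071
import Cfsg.Agent.CIT.F9
import Cfsg.Agent.Ben.Cons2
import Cfsg.Agent.Transfer.SylowConj

set_option autoImplicit false
open Cfsg

namespace Cfsg.Agent.S3258

open Subgroup Cfsg.Agent.LocalEven Cfsg.Agent.FGS

universe u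

/-- All `π`-subgroups are 2-closed. -/
def TC (π : Set ℕ) (X : Type*) [Group X] : Prop :=
  ∀ H : Subgroup X, IsPiSubgroup π H → ∀ T, IsSylowIn 2 T H → H ≤ normalizer (T : Set X)

section
variable {G : Type*} [Group G] [Finite G] {π : Set ℕ}

theorem TC.sub (h : TC π G) (Y : Subgroup G) : TC π Y := by
  intro H hH T hT x hx
  have := h (H.map Y.subtype) (fun p hp hd => hH p hp (by rwa [card_map_subtype] at hd)) _
    (hT.map Y.subtype) (mem_map_of_mem _ hx)
  rw [mem_normalizer_iff] at this ⊢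
  intro y
  have := this y
  rw [mem_map_subtype] at this
  rw [this, ← mem_map_subtype]
  rfl

theorem TC.quot (h : TC π G) (h2 : 2 ∈ π) (N : Subgroup G) [N.Normal] : TC π (G ⧸ N) := by
  intro H hH T hT
  have hNH : N ≤ H.comap (QuotientGroup.mk' N) := fun x hx => by
    rw [mem_comap, QuotientGroup.mk'_apply, (QuotientGroup.eq_one_iff x).2 hx]; exact H.one_mem
  have hr : N.relIndex (H.comap (QuotientGroup.mk' N)) = Nat.card H := by
    have := card_mul_relIndex hNH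
    rw [FGS.card_comap_mk'] at this
    exact Nat.eq_of_mul_eq_mul_left Nat.card_pos this
  obtain ⟨L, -, hL, hs, -⟩ := exists_pi_supplement Nat.prime_two h2 hNH (by simp [normalizer_eq_top])
    (fun r hr' hrπ R hR hle => le_of_not_dvd_relIndex hr' hR hle (by simp [normalizer_eq_top])
      (fun hd => hrπ (hH r hr' (hr ▸ hd))))
  have hm : L.map (QuotientGroup.mk' N) = H := by
    have := congrArg (Subgroup.map (QuotientGroup.mk' N)) hs
    rwa [Subgroup.map_sup, map_comap_eq_self_of_surjective (QuotientGroup.mk'_surjective N),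
      QuotientGroup.map_mk'_self, bot_sup_eq] at this
  obtain ⟨T₀, hT₀⟩ := exists_isSylowIn 2 L
  have h1 := hT₀.map (QuotientGroup.mk' N)
  rw [hm] at h1
  have h3 : H ≤ normalizer (T₀.map (QuotientGroup.mk' N) : Set (G ⧸ N)) :=
    hm ▸ (map_mono (h L hL T₀ hT₀)).trans (le_normalizer_map _)
  obtain ⟨y, hy, e⟩ := h1.conj hT
  rw [cj_eq_of_mem_normalizer (h3 hy)] at e
  exact e ▸ h3

theorem TC.cent (h : TC π G) (h2 : 2 ∈ π) {Q R : Subgroup G} (hQ : IsPiSubgroup π Q)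
    (ho : ¬ 2 ∣ Nat.card Q) (hR : IsPGroup 2 R) (hn : R ≤ normalizer (Q : Set G)) :
    R ≤ centralizer (Q : Set G) := by
  obtain ⟨T, hT, hRT⟩ := exists_isSylowIn_le hR (le_sup_right : R ≤ Q ⊔ R)
  have h1 := h _ (IsPi.sup hQ (IsPi.of_pgroup Nat.prime_two h2 hR) hn) T hT
  have h0 : T ⊓ Q = ⊥ := eq_bot_of_not_dvd (hT.pgrp.to_le inf_le_left) inf_le_right ho
  intro s hs
  rw [mem_centralizer_iff]
  intro q hq
  have : q * s * q⁻¹ * s⁻¹ ∈ T ⊓ Q := ⟨T.mul_mem (conj_mem_of_mem_normalizer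
    (h1 (mem_sup_left hq)) (hRT hs)) (T.inv_mem (hRT hs)), by
      rw [mul_assoc, mul_assoc, ← mul_assoc s]
      exact Q.mul_mem hq (conj_mem_of_mem_normalizer (hn hs) (Q.inv_mem hq))⟩
  rw [h0, mem_bot] at this
  calc q * s = (q * s * q⁻¹ * s⁻¹) * (s * q) := by group
    _ = s * q := by rw [this, one_mul]

theorem TC.ni (h : TC π G) (h2 : 2 ∈ π) {r : ℕ} (hr : r.Prime) (hr2 : r ≠ 2) (hrπ : r ∈ π)
    {x t : G} (hx : orderOf x = r) (ht : t * t = 1) (e : t * x * t⁻¹ = x⁻¹) : False := by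
  have h2r : ¬ 2 ∣ r := fun hd => hr2 ((Nat.prime_dvd_prime_iff_eq Nat.prime_two hr).1 hd).symm
  have := h.cent h2 (Q := zpowers x) (R := zpowers t) (IsPi.of_pgroup hr hrπ
    (isPGroup_zpowers_of_orderOf (k := 1) (by simpa using hx))) (by rwa [Nat.card_zpowers, hx])
    (LocalEven.isPGroup_zpowers (k := 1) (by simpa [pow_two] using ht))
    (zpowers_le.2 (cj_eq_self_iff.1 (by rw [cj_zpowers, e, zpowers_inv]))) (mem_zpowers t)
  have hc := mem_centralizer_iff.1 this x (mem_zpowers x)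
  rw [← hc, mul_inv_cancel_right, eq_inv_iff_mul_eq_one, ← pow_two] at e
  have := orderOf_dvd_of_pow_eq_one e
  rw [hx] at this
  exact hr2 ((Nat.prime_dvd_prime_iff_eq hr Nat.prime_two).1 this)

theorem TC.zc (h : TC π G) (h2 : 2 ∈ π) (hh : Homog π G) (z : G) (D : Subgroup G) :
    ∀ S₀ S₁ : Subgroup G, IsSylowIn 2 S₀ ⊤ → IsSylowIn 2 S₁ ⊤ → S₀ ⊓ S₁ = D → z ∈ D →
      z ∈ centralizer (S₀ : Set G) → z ∈ centralizer (S₁ : Set G) := by
  induction D using (wellFounded_gt (α := Subgroup G)).induction with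
  | _ D ih =>
  intro S₀ S₁ h0 h1 hD hz hc
  by_cases he : S₀ = S₁
  · exact he ▸ hc
  have hD0 : D < S₀ := lt_of_le_of_ne (hD ▸ inf_le_left) fun e =>
    he (h0.eq_of_le h1 (e ▸ hD ▸ inf_le_right))
  have hD1 : D < S₁ := lt_of_le_of_ne (hD ▸ inf_le_right) fun e =>
    he (h1.eq_of_le h0 (e ▸ hD ▸ inf_le_left)).symm
  have hDp : IsPGroup 2 D := h0.pgrp.to_le hD0.le
  obtain ⟨L, hLN, hL, hs, hi⟩ := exists_pi_supplement Nat.prime_two h2 (centralizer_le_normalizer
    (D : Set G)) (normalizer_le_normalizer_centralizer D)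
    (fun r hr hrπ R hR hle => hh D (IsPi.of_pgroup Nat.prime_two h2 hDp) r hr hrπ R hR hle)
  obtain ⟨T, hT⟩ := exists_isSylowIn 2 L
  have hT' := hT.of_not_dvd_relIndex hLN hi
  obtain ⟨S, hS, hTS⟩ := exists_isSylowIn_le hT.pgrp (le_top : T ≤ ⊤)
  have key : ∀ S' : Subgroup G, IsSylowIn 2 S' ⊤ → D < S' →
      ∃ c ∈ centralizer (D : Set G), D < S' ⊓ cj c S := by
    intro S' hS' hlt
    obtain ⟨n, hn, hle⟩ := hT'.exists_le_cj (hS'.pgrp.to_le inf_le_left)
      (inf_le_right : S' ⊓ normalizer (D : Set G) ≤ _)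
    rw [← hs] at hn
    obtain ⟨c, hc, l, hl, rfl⟩ := (mem_sup_iff_of_le_normalizer'
      (hLN.trans (normalizer_le_normalizer_centralizer D))).1 hn
    rw [cj_mul, cj_eq_of_mem_normalizer (h L hL T hT hl)] at hle
    exact ⟨c, hc, (lt_inf_normalizer hS'.pgrp hlt).trans_le
      (le_inf inf_le_left (hle.trans (cj_mono _ hTS)))⟩
  obtain ⟨c₀, hc₀, l0⟩ := key S₀ h0 hD0
  obtain ⟨c₁, hc₁, l1⟩ := key S₁ h1 hD1
  have a0 := ih _ l0 S₀ _ h0 (hS.cj_of_mem (mem_top c₀)) rfl (l0.le hz) hc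
  have a1 : z ∈ centralizer (cj c₁ S : Set G) := by
    rw [← cj_centralizer, mem_cj] at a0 ⊢
    have e0 := mem_centralizer_iff.1 hc₀ z hz
    have e1 := mem_centralizer_iff.1 hc₁ z hz
    rw [mul_assoc, e0, inv_mul_cancel_left] at a0
    rwa [mul_assoc, e1, inv_mul_cancel_left]
  exact ih _ l1 _ S₁ (hS.cj_of_mem (mem_top c₁)) h1 (inf_comm _ _) (l1.le hz) a1

/-- The involutions of the centre, with the identity. -/
def om (S : Subgroup G) : Subgroup G where
  carrier := {z | z ∈ S ∧ z ∈ centralizer (S : Set G) ∧ z * z = 1}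
  mul_mem' := by
    rintro a b ⟨a1, a2, a3⟩ ⟨b1, b2, b3⟩
    refine ⟨S.mul_mem a1 b1, mul_mem a2 b2, ?_⟩
    have := mem_centralizer_iff.1 a2 b b1
    calc a * b * (a * b) = a * (b * a) * b := by group
      _ = (a * a) * (b * b) := by rw [this]; group
      _ = 1 := by rw [a3, b3, one_mul]
  one_mem' := ⟨S.one_mem, one_mem _, one_mul 1⟩
  inv_mem' := by
    rintro a ⟨a1, a2, a3⟩
    exact ⟨S.inv_mem a1, inv_mem a2, by rw [← mul_inv_rev, a3, inv_one]⟩

omit [Finite G] in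
theorem conj_mem_om {S : Subgroup G} {z : G} (hz : z ∈ om S) (g : G) :
    g * z * g⁻¹ ∈ om (cj g S) :=
  ⟨conj_mem_cj hz.1, by rw [← cj_centralizer]; exact conj_mem_cj hz.2.1, by
    calc _ = g * (z * z) * g⁻¹ := by group
      _ = 1 := by rw [hz.2.2]; group⟩

theorem TC.sc (h : TC π G) (h2 : 2 ∈ π) (hh : Homog π G) {S : Subgroup G}
    (hS : IsSylowIn 2 S ⊤) : Gs.SC (om S) := by
  refine ⟨fun a ha => ha.2.2, fun P hP hAP a ha g hg => ?_⟩
  obtain ⟨S', hS', hPS⟩ := exists_isSylowIn_le hP (le_top : P ≤ ⊤)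
  have h1 : om S ≤ om S' := fun z hz =>
    ⟨hPS (hAP hz), h.zc h2 hh z _ S S' hS hS' rfl ⟨hz.1, hPS (hAP hz)⟩ hz.2.1, hz.2.2⟩
  obtain ⟨k, -, hk⟩ := hS'.conj hS
  have h3 : cj k (om S') ≤ om S := cj_le_iff'.2 fun z hz => hk ▸ conj_mem_om hz k
  have e : om S = om S' := eq_of_le_of_card_le h1 (by rw [← card_cj k]; exact card_le_of_le h3)
  have h4 := conj_mem_om ha g
  rw [e]
  exact ⟨hPS hg, h.zc h2 hh _ _ _ S' (hS.cj_of_mem (mem_top g)) hS' rfl ⟨h4.1, hPS hg⟩ h4.2.1,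
    h4.2.2⟩

theorem om_ne_bot {S : Subgroup G} (hS : IsPGroup 2 S) (h0 : S ≠ ⊥) : om S ≠ ⊥ := by
  obtain ⟨x, hx, hc, ho⟩ := exists_mem_inf_centralizer hS hS le_normalizer h0
  intro e
  have : x ∈ om S := ⟨hx, hc, by rw [← pow_two, ← ho, pow_orderOf_eq_one]⟩
  rw [e, mem_bot] at this
  simp [this] at ho

theorem cz_le_of_se {M : Subgroup G} (hM : IsStronglyEmbedded M) {s : G} (hs : orderOf s = 2)
    (hsM : s ∈ M) {c : G} (hc : c * s = s * c) : c ∈ M := by
  by_contra h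
  have := hM.2.2 c h
  have h1 : s ∈ M ⊓ M.map (MulAut.conj c).toMonoidHom :=
    ⟨hsM, s, hsM, by simp [hc]⟩
  exact (Nat.not_even_iff_odd.2 this) (even_iff_two_dvd.2 (hs ▸ Subgroup.orderOf_dvd_natCard _ h1))

theorem not_se [IsSimpleGroup G] (hn : ¬ IsMulCommutative G) (h : TC π G) (h2 : 2 ∈ π)
    (hp : ∀ H : Subgroup G, H ≠ ⊤ → PiClosed π H) {A : Subgroup G} (hA : Gs.SC A) (hA0 : A ≠ ⊥) :
    ¬ Gs.SE G := by
  rintro ⟨M, hM⟩
  obtain ⟨K, hK, k1, k2, -⟩ := (hp M hM.1).exists_normal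
  have hK0 : K = ⊥ := by
    have h1 := Inv.le_oddCore hK (Nat.not_even_iff_odd.1 fun h =>
      k1 2 Nat.prime_two (even_iff_two_dvd.1 h) h2)
    have h3 := (map_mono h1).trans (S1221.result M hM)
    rwa [CIT.F.oddCore_simple hn, le_bot_iff, map_eq_bot_iff_of_injective _ M.subtype_injective] at h3
  have hMπ : IsPiSubgroup π M := fun p hp hd => k2 p hp (by rwa [hK0, index_bot])
  obtain ⟨g, hg⟩ : ∃ g, g ∉ M := by
    by_contra hc
    push Not at hc
    exact hM.1 (eq_top_iff.2 fun g _ => hc g)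
  have hne : ((1 : G) : G ⧸ M) ≠ (g : G ⧸ M) := (Ben.quot_ne_one hg).symm
  have hc := S1224.result M hM _ _ hne
  haveI : Fact (Nat.Prime 2) := ⟨Nat.prime_two⟩
  obtain ⟨s, hsM, hs⟩ := exists_mem_orderOf_eq (p := 2) (even_iff_two_dvd.1 hM.2.1)
  have h4 := hA.four_le hn hA0
  have o2 : ∀ {a : G}, a ≠ 1 → a * a = 1 → orderOf a = 2 := fun h1 h2 =>
    orderOf_eq_prime (by rw [pow_two, h2]) h1
  have hnt : Nontrivial {t : G // orderOf t = 2 ∧ t ∈ M} := by
    obtain ⟨a, ha, ha1, -⟩ := Gs.exists_ne_two (T := A) (h4.trans' (by norm_num)) 1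
    obtain ⟨b, hb, hb1, hba⟩ := Gs.exists_ne_two (T := A) (h4.trans' (by norm_num)) a
    obtain ⟨u, hu, huM⟩ : ∃ u : G, orderOf u = 2 ∧ u ∉ M := by
      by_contra hc
      push Not at hc
      exact hM.1 (Gs.top_of_conj (a := s) (by rintro rfl; simp at hs) fun g => hc _ (by
        rw [← MulAut.conj_apply, MulEquiv.orderOf_eq, hs]))
    obtain ⟨k, hk⟩ := isConj_iff.1 ((S1225.result M hM u hu huM s s hs hsM hs hsM).2 a s
      (o2 ha1 (hA.sq a ha)) hs)
    have hab : a * b = b * a := hA.comm ha hb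
    refine ⟨⟨⟨s, hs, hsM⟩, ⟨k * b * k⁻¹, by
      rw [← MulAut.conj_apply, MulEquiv.orderOf_eq, o2 hb1 (hA.sq b hb)],
      cz_le_of_se hM hs hsM ?_⟩, fun e => hba ?_⟩⟩
    · rw [← hk]
      calc _ = k * (b * a) * k⁻¹ := by group
        _ = _ := by rw [← hab]; group
    · have := congrArg Subtype.val e
      simp only [← hk] at this
      exact (mul_left_cancel (mul_right_cancel this)).symm
  have : Nontrivial {i : G // orderOf i = 2 ∧ i • ((1 : G) : G ⧸ M) = (g : G ⧸ M)} := by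
    rw [← Finite.one_lt_card_iff_nontrivial, hc, Finite.one_lt_card_iff_nontrivial]; exact hnt
  obtain ⟨⟨i, hi, hi'⟩, ⟨j, hj, hj'⟩, hij⟩ := this
  have hii : i * i = 1 := by rw [← pow_two, ← hi, pow_orderOf_eq_one]
  have hjj : j * j = 1 := by rw [← pow_two, ← hj, pow_orderOf_eq_one]
  have hk1 : i * j ∈ M := by
    rw [← Ben.quot_fix_one, mul_smul, hj', ← hi', ← mul_smul, hii, one_smul]
  have hk2 : i * j ∈ M.map (MulAut.conj g).toMonoidHom := by
    rw [← Ben.stab_coe, MulAction.mem_stabilizer_iff, mul_smul]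
    conv_lhs => rw [← hj', ← mul_smul j, hjj, one_smul, hi']
  have hodd := hM.2.2 g hg
  have hk0 : orderOf (i * j) ≠ 1 := fun e => hij (Subtype.ext (by
    rw [orderOf_eq_one_iff] at e
    simp only
    rw [eq_inv_of_mul_eq_one_left e, inv_eq_of_mul_eq_one_left hjj]))
  obtain ⟨r, hr, hd⟩ := Nat.exists_prime_and_dvd hk0
  obtain ⟨n, hn'⟩ := FGS.exists_pow_orderOf_eq hd
  refine h.ni h2 hr (fun e => ?_) (hMπ r hr (hd.trans (M.orderOf_dvd_natCard hk1))) hn' hii ?_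
  · exact (Nat.not_even_iff_odd.2 hodd) (even_iff_two_dvd.2 (e ▸ hd.trans
      (Subgroup.orderOf_dvd_natCard _ (⟨hk1, hk2⟩ : i * j ∈ M ⊓ _))))
  · rw [← conj_pow, ← inv_pow, mul_inv_rev, inv_eq_of_mul_eq_one_left hii,
      inv_eq_of_mul_eq_one_left hjj, ← mul_assoc, hii, one_mul]

theorem not_four [IsSimpleGroup G] (hn : ¬ IsMulCommutative G) (h : TC π G) (h2 : 2 ∈ π)
    (hh : Homog π G) : ¬ Gs.Four G := by
  rintro ⟨S, hS⟩
  have hF : Gs.FD ⊤ (S : Subgroup G) := ⟨⟨inferInstance, topEquiv.isSimpleGroup,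
    fun hc => hn ⟨⟨fun a b => congrArg Subtype.val
      (hc.is_comm.comm (⟨a, mem_top a⟩ : (⊤ : Subgroup G)) ⟨b, mem_top b⟩)⟩⟩, by
      rw [coe_top, centralizer_univ]
      exact (IsSimpleGroup.eq_bot_or_eq_top_of_normal _ inferInstance).resolve_right fun e =>
        hn ⟨⟨fun a b => (mem_center_iff.1 (e ▸ mem_top b) a)⟩⟩⟩, isSylowIn_top S, hS⟩
  obtain ⟨x, hx, hx3, htr⟩ := hF.exists_three
  obtain ⟨F, _, _, -, -, ⟨e⟩⟩ := hF.known
  have e' := topEquiv.symm.trans e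
  have h3 : 3 ∈ π := by
    by_contra h3
    have hc := hh S (IsPi.of_pgroup Nat.prime_two h2 S.isPGroup') 3 Nat.prime_three h3 (zpowers x)
      (isPGroup_zpowers_of_orderOf (k := 1) (by simpa using hx3)) (zpowers_le.2 hx.2)
    obtain ⟨a, ha, ha1, -⟩ := Gs.exists_ne_two (T := (S : Subgroup G)) (by rw [hS]; norm_num) 1
    obtain ⟨b, hb, hb1, hba⟩ := Gs.exists_ne_two (T := (S : Subgroup G)) (by rw [hS]; norm_num) a
    obtain ⟨y, hy, hy'⟩ := htr a ha b hb ha1 hb1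
    rw [← mem_centralizer_iff.1 (hc hy) a ha, mul_inv_cancel_right] at hy'
    exact hba hy'.symm
  have hreal : ∀ r : ℕ, r.Prime → r ≠ 2 → r ∈ π → ∀ y : G, orderOf y = r → r ∣ Nat.card F := by
    intro r hr hr2 hrπ y hy
    by_contra hd
    obtain ⟨t, ht, ht'⟩ := real_of_psl2 e' y (hy ▸ (Nat.Prime.coprime_iff_not_dvd hr).2 hd)
    exact h.ni h2 hr hr2 hrπ hy ht ht'
  have hchar : ∀ r : ℕ, r.Prime → r ∣ Nat.card F → r = 3 := by
    obtain ⟨p, hp⟩ := CharP.exists F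
    obtain ⟨n, hp', hn⟩ := FiniteField.card F p
    have : ∀ r : ℕ, r.Prime → r ∣ Nat.card F → r = p := fun r hr hd => by
      rw [Nat.card_eq_fintype_card, hn] at hd
      exact (Nat.prime_dvd_prime_iff_eq hr hp').1 (hr.dvd_of_dvd_pow hd)
    intro r hr hd
    rw [this r hr hd, this 3 Nat.prime_three (hreal 3 Nat.prime_three (by norm_num) h3 x hx3)]
  haveI : Fact (Nat.Prime 3) := ⟨Nat.prime_three⟩
  obtain ⟨P⟩ : Nonempty (Sylow 3 G) := inferInstance
  obtain ⟨N, hN, hc⟩ := (S0071.result P).2 (fun Q hQ g hg hco => by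
    have hQp : IsPGroup 3 Q := P.isPGroup'.to_le hQ
    refine Transfer.mem_of_forall_prime_pow_mem fun r hr hd y hy ⟨k, hk⟩ => ?_
    have hyN : zpowers y ≤ normalizer (Q : Set G) := zpowers_le.2 (zpowers_le.2 hg hy)
    have hyp := isPGroup_zpowers_of_orderOf hk
    by_cases hrπ : r ∈ π
    · by_cases hr2 : r = 2
      · subst hr2
        refine h.cent h2 (IsPi.of_pgroup Nat.prime_three h3 hQp) (fun hd => ?_) hyp hyN (mem_zpowers y)
        obtain ⟨j, hj⟩ := hQp.exists_card_eq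
        rw [hj] at hd
        have := Nat.prime_two.dvd_of_dvd_pow hd
        norm_num at this
      · exfalso
        obtain ⟨j, hj⟩ := FGS.exists_pow_orderOf_eq hd
        have := hchar r hr (hreal r hr hr2 hrπ _ hj)
        subst this
        exact (Nat.Prime.coprime_iff_not_dvd Nat.prime_three).1 hco.symm hd
    · exact hh Q (IsPi.of_pgroup Nat.prime_three h3 hQp) r hr hrπ _ hyp hyN (mem_zpowers y))
  rcases IsSimpleGroup.eq_bot_or_eq_top_of_normal N hN with rfl | rfl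
  · have : (P : Subgroup G) = ⊤ := isComplement'_bot_left.1 hc
    have h5 : IsPGroup 3 (S : Subgroup G) := P.isPGroup'.to_le (this ▸ le_top)
    obtain ⟨j, hj⟩ := h5.exists_card_eq
    have : 2 ∣ 3 ^ j := by rw [← hj, hS]; norm_num
    have := Nat.prime_two.dvd_of_dvd_pow this
    norm_num at this
  · have : (P : Subgroup G) = ⊥ := isComplement'_top_left.1 hc
    exact (isSylowIn_top P).ne_bot (dvd_card_of_mem (mem_top x) hx3) this

theorem not_jr (hev : 2 ∣ Nat.card G) (h : TC π G) (h2 : 2 ∈ π)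
    (hp : ∀ H : Subgroup G, H ≠ ⊤ → PiClosed π H) : ¬ Gs.JR G := by
  intro hJ
  haveI : Fact (Nat.Prime 2) := ⟨Nat.prime_two⟩
  obtain ⟨t, ht⟩ := exists_prime_orderOf_dvd_card' 2 hev
  obtain ⟨E, E₀, hE⟩ := hJ.shape t ht
  have hne : E₀ ≠ ⊤ := fun e => (hJ.max t ht).1 (eq_top_iff.2 (e ▸ hE.le.trans hE.prod.2.1))
  obtain ⟨K, hK, k1, k2, -⟩ := (hp E₀ hne).exists_normal
  haveI := hE.simple
  obtain ⟨V, hV⟩ := hE.four
  rcases IsSimpleGroup.eq_bot_or_eq_top_of_normal K hK with rfl | rfl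
  · have h1 := h.sub E₀ ⊤ (fun p hp hd => k2 p hp (by simpa using hd)) V (isSylowIn_top V)
    have hVn : (V : Subgroup E₀).Normal := normalizer_eq_top_iff.1 (top_le_iff.1 h1)
    rcases IsSimpleGroup.eq_bot_or_eq_top_of_normal _ hVn with e | e
    · rw [e] at hV; simp at hV
    · have : IsPGroup 2 E₀ := (V.isPGroup'.of_equiv (e ▸ topEquiv))
      haveI := Core.solvable_of_isPGroup this
      exact hE.nab ⟨⟨IsSimpleGroup.comm_iff_isSolvable.mpr this⟩⟩
  · refine k1 2 Nat.prime_two (Dvd.dvd.trans ?_ (card_dvd_of_le (le_top : (V : Subgroup E₀) ≤ ⊤))) h2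
    rw [hV]; norm_num

end

/-- Let π be a set of primes containing 2 and G a finite group all of whose π-subgroups (subgroups whose order is divisible only by primes in π) have a normal Sylow 2-subgroup. Then the π'-elements of G (elements whose order is divisible by no prime in π) form a subgroup if and only if N_G(H)/C_G(H) is a π-group for every nontrivial π-subgroup H of G. -/
theorem result {G : Type*} [Group G] [Finite G] (π : Set ℕ) (h2 : 2 ∈ π)
    (hcl : ∀ H : Subgroup G, (∀ p : ℕ, p.Prime → p ∣ Nat.card ↥H → p ∈ π) → ∀ P : Sylow 2 ↥H, (P : Subgroup ↥H).Normal) :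
    (∃ K : Subgroup G, ∀ x : G, x ∈ K ↔ ∀ p : ℕ, p.Prime → p ∣ orderOf x → p ∉ π) ↔
      (∀ H : Subgroup G, H ≠ ⊥ → (∀ p : ℕ, p.Prime → p ∣ Nat.card ↥H → p ∈ π) →
        ∀ p : ℕ, p.Prime → p ∣ (Subgroup.centralizer (H : Set G)).relIndex (Subgroup.normalizer (H : Set G)) → p ∈ π) := by
  constructor
  · intro hK H _ hH p hp hd
    by_contra hπ
    obtain ⟨K, hKn, k1, -, hK⟩ := FGS.PiClosed.exists_normal (π := π) hK
    haveI := Fact.mk hp
    obtain ⟨R, hR⟩ := exists_isSylowIn p (normalizer (H : Set G))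
    refine hR.not_dvd_of_le (K := centralizer (H : Set G)) (fun x hx => ?_) hd
    have hxK : x ∈ K := (hK x).2 fun r hr hr' => by
      obtain ⟨k, hk⟩ := orderOf_of_mem_isPGroup hR.pgrp hx
      rw [hk] at hr'
      rwa [(Nat.prime_dvd_prime_iff_eq hr hp).1 (hr.dvd_of_dvd_pow hr')]
    rw [mem_centralizer_iff]
    intro q hq
    have h1 : q * x * q⁻¹ * x⁻¹ ∈ K := K.mul_mem (hKn.conj_mem x hxK q) (K.inv_mem hxK)
    have h3 : q * x * q⁻¹ * x⁻¹ ∈ H := by
      rw [mul_assoc, mul_assoc, ← mul_assoc x]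
      exact H.mul_mem hq (conj_mem_of_mem_normalizer (hR.le hx) (H.inv_mem hq))
    have : q * x * q⁻¹ * x⁻¹ = 1 := by
      rw [← orderOf_eq_one_iff]
      by_contra hne
      obtain ⟨r, hr, hd⟩ := Nat.exists_prime_and_dvd hne
      exact (hK _).1 h1 r hr hd (hH r hr (hd.trans (H.orderOf_dvd_natCard h3)))
    calc q * x = (q * x * q⁻¹ * x⁻¹) * (x * q) := by group
      _ = x * q := by rw [this, one_mul]
  · intro hhom
    refine FGS.piClosed_induction (π := π) (fun X _ => TC π X) (fun X _ _ H h => h.sub H)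
      (fun X _ _ N _ h => h.quot h2 N) (fun X _ _ _ hn h hh hp => ?_) G ?_ (homog_of hhom)
    · exfalso
      have hev := even_iff_two_dvd.1 (Ben.even_of_simple hn)
      obtain ⟨S, hS⟩ := exists_isSylowIn 2 (⊤ : Subgroup X)
      have hA := h.sc h2 hh hS
      have hA0 := om_ne_bot hS.pgrp (hS.ne_bot (by simpa using hev))
      rcases Gs.gold hn hA hA0 with h1 | h1 | h1
      · exact not_se hn h h2 hp hA hA0 h1
      · exact not_four hn h h2 hh h1.2
      · exact not_jr hev h h2 hp h1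
    · intro H hH T hT
      haveI := hcl H hH hT.toSylow
      rw [← hT.map_toSylow]
      exact le_normalizer_map_subtype _

end Cfsg.Agent.S3258
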