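import Mathlib
import Cfsg.Statements.S3261
import Cfsg.Agent.Dih.D8
import Cfsg.Agent.Classical.DihRecog

set_option autoImplicit false
open Cfsg

namespace Cfsg.Agent.S3261

open Equiv Subgroup in
theorem cent_std (g : Perm (Fin 6)) (h : g * (swap 0 1 * swap 2 3) = (swap 0 1 * swap 2 3) * g) :
    ∃ i : Fin 4, ∃ j k : Fin 2, g = (swap 0 2 * swap 2 1 * swap 1 3 * swap 4 5) ^ (i : ℕ) *
      (swap 0 1 * swap 4 5) ^ (j : ℕ) * swap 4 5 ^ (k : ℕ) := by
  revert g
  decide +kernel

open Equiv Subgroup in
theorem cent_std_equiv (a : alternatingGroup (Fin 6)) (ha : (a : Perm (Fin 6)) = swap 0 1 * swap 2 3) :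
    Nonempty (centralizer ({a} : Set (alternatingGroup (Fin 6))) ≃* DihedralGroup 4) := by
  have hx : (swap 0 2 * swap 2 1 * swap 1 3 * swap 4 5 : Perm (Fin 6)) ∈ alternatingGroup (Fin 6) := by
    rw [Perm.mem_alternatingGroup]; decide
  have hy : (swap 0 1 * swap 4 5 : Perm (Fin 6)) ∈ alternatingGroup (Fin 6) := by
    rw [Perm.mem_alternatingGroup]; decide
  have e : centralizer ({a} : Set (alternatingGroup (Fin 6))) =
      Subgroup.closure {(⟨_, hx⟩ : alternatingGroup (Fin 6)), (⟨_, hy⟩ : alternatingGroup (Fin 6))} := by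
    apply le_antisymm
    · intro g hg
      have h1 := congrArg Subtype.val (mem_centralizer_singleton_iff.1 hg)
      simp only [coe_mul, ha] at h1
      obtain ⟨i, j, k, h2⟩ := cent_std g h1
      have h3 : (k : ℕ) = 0 := by
        have h4 := Perm.mem_alternatingGroup.1 g.2
        rw [h2, map_mul, map_mul, map_pow, map_pow, map_pow, Perm.mem_alternatingGroup.1 hx,
          Perm.mem_alternatingGroup.1 hy, Perm.sign_swap (by decide)] at h4
        fin_cases k
        · rfl
        · simp at h4
      rw [h3, pow_zero, mul_one] at h2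
      have h5 : g = ⟨_, hx⟩ ^ (i : ℕ) * ⟨_, hy⟩ ^ (j : ℕ) := Subtype.ext h2
      rw [h5]
      exact mul_mem (pow_mem (subset_closure (by simp)) _) (pow_mem (subset_closure (by simp)) _)
    · rw [closure_le, Set.pair_subset_iff]
      constructor <;>
      · refine mem_centralizer_singleton_iff.2 (Subtype.ext ?_)
        simp only [coe_mul, ha]
        decide
  have ho : orderOf (swap 0 2 * swap 2 1 * swap 1 3 * swap 4 5 : Perm (Fin 6)) = 2 ^ (1 + 1) :=
    orderOf_eq_prime_pow (p := 2) (n := 1) (by decide) (by decide)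
  rw [e]
  refine Classical.DihRecog.closure_equiv_dihedral ?_ (Subtype.ext (by
    simp only [coe_mul, coe_inv]; decide)) (Subtype.ext (by simp only [coe_mul, coe_one]; decide)) ?_
  · rw [← Subgroup.orderOf_coe]
    exact ho
  · intro h
    rw [mem_zpowers_iff_mem_range_orderOf, ← Subgroup.orderOf_coe, ho, Finset.mem_image] at h
    obtain ⟨i, hi, h⟩ := h
    have h1 := congrArg Subtype.val h
    simp only [Finset.mem_range] at hi
    simp only [coe_pow] at h1
    interval_cases i <;> revert h1 <;> decide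

open Equiv Subgroup Cfsg.Agent.Dih in

/-- Let α̃ be an involution of the alternating group A₆ that is a product of two disjoint transpositions (it lies in the centre of a Sylow 2-subgroup of A₆; its centralizer is dihedral of order 8). Let G be a finite group that has no subgroup of index 2 and contains an involution α, central in some Sylow 2-subgroup of G, with C_G(α) ≅ C_{A₆}(α̃). Then G is isomorphic to A₆ or to PSL₂(7). -/
theorem result {G : Type*} [Group G] [Finite G]
    (hG : ∀ H : Subgroup G, H.index ≠ 2)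
    (αt : ↥(alternatingGroup (Fin 6))) (hαt : orderOf αt = 2) (hsupp : (αt : Equiv.Perm (Fin 6)).support.card = 4)
    (α : G) (hα : orderOf α = 2) (S : Sylow 2 G) (hαS : α ∈ (S : Subgroup G)) (hαc : ∀ s ∈ (S : Subgroup G), s * α = α * s)
    (e : ↥(Subgroup.centralizer ({α} : Set G)) ≃* ↥(Subgroup.centralizer ({αt} : Set ↥(alternatingGroup (Fin 6))))) :
    Nonempty (G ≃* ↥(alternatingGroup (Fin 6))) ∨
      (∃ (F : Type) (_ : Field F) (_ : Fintype F), Fintype.card F = 7 ∧ Nonempty (G ≃* Matrix.ProjectiveSpecialLinearGroup (Fin 2) F)) := by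
  have h1 : orderOf (αt : Perm (Fin 6)) = 2 := by rw [Subgroup.orderOf_coe, hαt]
  obtain ⟨n, hn⟩ := Perm.cycleType_prime_order (σ := (αt : Perm (Fin 6))) (h1 ▸ Nat.prime_two)
  have h2 := Perm.sum_cycleType (αt : Perm (Fin 6))
  rw [hn, h1, hsupp, Multiset.sum_replicate, smul_eq_mul] at h2
  have h3 : IsConj (αt : Perm (Fin 6)) (swap 0 1 * swap 2 3) := by
    rw [Perm.isConj_iff_cycleType_eq, hn, h1, show n = 1 by omega]
    decide
  obtain ⟨c, hc⟩ := isConj_iff.1 h3
  obtain ⟨φ⟩ := cent_std_equiv (MulAut.conjNormal c αt) hc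
  have ψ : centralizer ({αt} : Set (alternatingGroup (Fin 6))) ≃*
      centralizer ({MulAut.conjNormal c αt} : Set (alternatingGroup (Fin 6))) :=
    ((MulAut.conjNormal c).subgroupMap _).trans (MulEquiv.subgroupCongr (by
      ext g
      obtain ⟨g, rfl⟩ := (MulAut.conjNormal c : MulAut (alternatingGroup (Fin 6))).surjective g
      refine (mem_map_iff_mem (MulAut.conjNormal c : MulAut (alternatingGroup (Fin 6))).injective).trans ?_
      rw [mem_centralizer_singleton_iff, mem_centralizer_singleton_iff, ← map_mul, ← map_mul,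
        MulEquiv.apply_eq_iff_eq]))
  exact d8_of_no_index_two hα (e.trans (ψ.trans φ)) hG

end Cfsg.Agent.S3261
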