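import Mathlib
import Cfsg.Statements.S3278
import Cfsg.Agent.Inv.FourC
import Cfsg.Agent.Core.SylowOf

set_option autoImplicit false
open Cfsg

namespace Cfsg.Agent.S3278

/-- Let G be a finite simple group with an involution x such that a Sylow 2-subgroup of C_G(x) is a Klein four-group which is normal in C_G(x). Then G is isomorphic to the alternating group of degree 5 (that is, to PSL(2, 5)). -/
theorem result {G : Type*} [Group G] [Finite G] [IsSimpleGroup G] (x : G) (hx : orderOf x = 2)
    (S₀ : Subgroup G) (hle : S₀ ≤ Subgroup.centralizer ({x} : Set G)) (hK : IsKleinFour ↥S₀)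
    (hodd : ¬ 2 ∣ S₀.relIndex (Subgroup.centralizer ({x} : Set G))) (hn : (S₀.subgroupOf (Subgroup.centralizer ({x} : Set G))).Normal) :
    Nonempty (G ≃* ↥(alternatingGroup (Fin 5))) := by
  haveI : Fact (Nat.Prime 2) := ⟨Nat.prime_two⟩
  have hsyl : Core.IsSylowOf 2 S₀ (Subgroup.centralizer ({x} : Set G)) := ⟨hle, Inv.four_isPGroup hK, hodd⟩
  have hA : ∀ P : Subgroup G, IsPGroup 2 P → P ≤ Subgroup.centralizer ({x} : Set G) → P ≤ S₀ := fun P hP hPC =>
    hsyl.le_of_le_normalizer' hP hPC (hPC.trans ((Subgroup.normal_subgroupOf_iff_le_normalizer hle).mp hn))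
  have hxx := Inv.mul_self_of_two hx
  have hA' : ∀ v : G, v * v = 1 → Commute v x → v ∈ S₀ := fun v hv hc =>
    hA _ (Inv.isPGroup_zpowers_of_mul_self hv) (Subgroup.zpowers_le.mpr (Inv.mem_centralizer_single.mpr hc))
      (Subgroup.mem_zpowers v)
  have hxV : x ∈ S₀ := hA' x hxx (Commute.refl x)
  obtain ⟨S, hS⟩ := (Inv.four_isPGroup hK).exists_le_sylow
  rcases hS.eq_or_lt with h | h
  · subst h
    exact Inv.equiv_A5_of_klein S hK hxV (by rintro rfl; simp at hx) hA'
  · exfalso
    obtain ⟨z, hz, hz1, -, hc⟩ := Inv.exists_commute_conj hx hK hxV hA S h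
    have h2 := Inv.normalClosure_sq (Inv.four_mul_self hK hz) hc
    rcases (Subgroup.normalClosure_normal (s := ({z} : Set G))).eq_bot_or_eq_top with h3 | h3
    · have := Subgroup.subset_normalClosure (s := ({z} : Set G)) rfl
      rw [h3] at this; exact hz1 this
    · rw [h3] at h2
      have : (S : Subgroup G) ≤ S₀ := fun s _ => hA' s (h2 s trivial)
        (Inv.commute_of_mul_self (h2 s trivial) hxx (h2 _ trivial))
      exact h.not_ge this

end Cfsg.Agent.S3278
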