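import Mathlib
import Cfsg.Statements.S3283
import Cfsg.Agent.Isaacs.Sm12
-- import your own Cfsg.Agent.* helpers here

set_option autoImplicit false
open Cfsg

namespace Cfsg.Agent.S3283

/-- Let G be a finite group with an involution z whose centralizer M has Q = O₂(M) extraspecial of order 2⁹ with C_M(Q) ≤ Q, and M/Q isomorphic to S₃ × A₆ or to S₃ × S₆. Then G is not simple. -/
theorem result {G : Type*} [Group G] [Finite G] (z : G) (hz : orderOf z = 2)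
    (hQ : Cfsg.IsExtraspecial 2 ↥(Cfsg.pCore 2 ↥(Subgroup.centralizer ({z} : Set G)))) (hQ9 : Nat.card ↥(Cfsg.pCore 2 ↥(Subgroup.centralizer ({z} : Set G))) = 2 ^ 9)
    (hCQ : Subgroup.centralizer ((Cfsg.pCore 2 ↥(Subgroup.centralizer ({z} : Set G))) : Set ↥(Subgroup.centralizer ({z} : Set G))) ≤ Cfsg.pCore 2 ↥(Subgroup.centralizer ({z} : Set G)))
    (hMQ : Nonempty (↥(Subgroup.centralizer ({z} : Set G)) ⧸ Cfsg.pCore 2 ↥(Subgroup.centralizer ({z} : Set G)) ≃* (Equiv.Perm (Fin 3) × ↥(alternatingGroup (Fin 6)))) ∨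
      Nonempty (↥(Subgroup.centralizer ({z} : Set G)) ⧸ Cfsg.pCore 2 ↥(Subgroup.centralizer ({z} : Set G)) ≃* (Equiv.Perm (Fin 3) × Equiv.Perm (Fin 6)))) :
    ¬ IsSimpleGroup G := by
  intro hs
  set H := Subgroup.centralizer ({z} : Set G) with hH
  have e := (Cfsg.pCore 2 H).equivMapOfInjective H.subtype H.subtype_injective
  have hE : Cfsg.IsExtraspecial 2 (Sm.EE z) := PGrp.isExtraspecial_of_equiv e hQ
  have hc : Nat.card (Sm.EE z) = 2 ^ 9 := (Nat.card_congr e.toEquiv).symm.trans hQ9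
  have hzH : z ∈ H := Inv.mem_centralizer_single.2 (Commute.refl z)
  have hC : Subgroup.centralizer (Sm.EE z : Set G) ≤ Sm.EE z := fun g hg => by
    have hzE : z ∈ Sm.EE z := ⟨⟨z, hzH⟩, hCQ fun x _ => Subtype.ext
      (Inv.mem_centralizer_single.1 x.2), rfl⟩
    have hgH : g ∈ H := Inv.mem_centralizer_single.2 (hg z hzE).symm
    exact ⟨⟨g, hgH⟩, hCQ fun x hx => Subtype.ext (hg x ⟨x, hx, rfl⟩), rfl⟩
  have key : ∀ {Y : Type} [Group Y] (φ : H ⧸ Cfsg.pCore 2 H ≃* Y)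
      (j : Y →* Equiv.Perm (Fin 3) × Equiv.Perm (Fin 6)), Function.Injective j →
      (∀ a ρ, Equiv.Perm.sign ρ = 1 → ∃ y, j y = (a, ρ)) → False := fun φ j hj hsurj => by
    have h1 : ∀ a ρ, Equiv.Perm.sign ρ = 1 → ∃ h : H,
        (j.comp (φ.toMonoidHom.comp (QuotientGroup.mk' _))) h = (a, ρ) := fun a ρ hρ => by
      obtain ⟨y, hy⟩ := hsurj a ρ hρ
      obtain ⟨h, hh⟩ := QuotientGroup.mk'_surjective (Cfsg.pCore 2 H) (φ.symm y)
      exact ⟨h, by simp only [MonoidHom.comp_apply, hh]; simpa using hy⟩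
    obtain ⟨τ, hτ⟩ := h1 (finRotate 3) 1 (map_one _)
    obtain ⟨s, hs'⟩ := h1 (Equiv.swap 0 1) 1 (map_one _)
    refine Sm.no_simple hz hE hC hc _ (fun h => ?_) τ hτ (h1 1) s (by rw [hs']; decide)
    rw [MonoidHom.comp_apply, MonoidHom.comp_apply, map_eq_one_iff j hj]
    rw [MulEquiv.coe_toMonoidHom, MulEquiv.map_eq_one_iff, QuotientGroup.mk'_apply,
      QuotientGroup.eq_one_iff, LocalEven.mem_pCoreOf]
  rcases hMQ with ⟨⟨φ⟩⟩ | ⟨⟨φ⟩⟩
  · exact key φ ((MonoidHom.id _).prodMap (alternatingGroup (Fin 6)).subtype)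
      (Function.injective_id.prodMap Subtype.val_injective) fun a ρ hρ => ⟨(a, ⟨ρ, hρ⟩), rfl⟩
  · exact key φ (MonoidHom.id _) Function.injective_id fun a ρ _ => ⟨(a, ρ), rfl⟩

end Cfsg.Agent.S3283
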