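import Mathlib
import Cfsg.Statements.S3284
import Cfsg.Agent.Isaacs.Sm12
import Cfsg.Agent.PLocal.LX2
-- import your own Cfsg.Agent.* helpers here

set_option autoImplicit false
open Cfsg

namespace Cfsg.Agent.S3284

/-- There is no non-abelian finite simple group with an involution z whose centralizer M has generalized Fitting subgroup Q = F*(M) extraspecial of order 2⁹ and M/Q isomorphic to the subgroup of S₃ × S₆ consisting of the pairs of permutations with equal sign (a group (3 × A₆)·2 in which an involution outside 3 × A₆ induces S₃ on the first factor and S₆ on the second). -/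
theorem result {G : Type*} [Group G] [Finite G] [IsSimpleGroup G] (hG : ¬ IsMulCommutative G) (z : G) (hz : orderOf z = 2)
    [hn : (Cfsg.generalizedFittingSubgroup ↥(Subgroup.centralizer ({z} : Set G))).Normal]
    (hQ : Cfsg.IsExtraspecial 2 ↥(Cfsg.generalizedFittingSubgroup ↥(Subgroup.centralizer ({z} : Set G)))) (hQ9 : Nat.card ↥(Cfsg.generalizedFittingSubgroup ↥(Subgroup.centralizer ({z} : Set G))) = 2 ^ 9)
    (e : (↥(Subgroup.centralizer ({z} : Set G)) ⧸ Cfsg.generalizedFittingSubgroup ↥(Subgroup.centralizer ({z} : Set G))) ≃*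
      ↥(MonoidHom.ker (Equiv.Perm.sign.comp (MonoidHom.fst (Equiv.Perm (Fin 3)) (Equiv.Perm (Fin 6))) *
          Equiv.Perm.sign.comp (MonoidHom.snd (Equiv.Perm (Fin 3)) (Equiv.Perm (Fin 6)))))) :
    False := by
  have e' := (Cfsg.generalizedFittingSubgroup ↥(Subgroup.centralizer ({z} : Set G))).equivMapOfInjective
    (Subgroup.centralizer ({z} : Set G)).subtype (Subgroup.subtype_injective _)
  obtain ⟨hL, hF⟩ := PLocal.ls_of_genFit hz rfl (PGrp.isExtraspecial_of_equiv e' hQ)
  have hE : Cfsg.IsExtraspecial 2 (Sm.EE z) := by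
    rw [Sm.EE, ← hF]; exact PGrp.isExtraspecial_of_equiv e' hQ
  have hc : Nat.card (Sm.EE z) = 2 ^ 9 := by
    rw [Sm.EE, ← hF]; exact (Nat.card_congr e'.toEquiv).symm.trans hQ9
  rw [hF] at hL
  have hC : Subgroup.centralizer (Sm.EE z : Set G) ≤ Sm.EE z := fun g hg =>
    hL.cmem g fun x hx => (hg x hx).symm
  have h1 : ∀ a ρ, Equiv.Perm.sign a = Equiv.Perm.sign ρ → ∃ h : Subgroup.centralizer ({z} : Set G),
      ((Subgroup.subtype _).comp (e.toMonoidHom.comp (QuotientGroup.mk' _))) h = (a, ρ) := fun a ρ hρ => by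
    obtain ⟨h, hh⟩ := QuotientGroup.mk'_surjective _ (e.symm ⟨(a, ρ), by
      simp [MonoidHom.mem_ker, hρ]⟩)
    exact ⟨h, by simp only [MonoidHom.comp_apply, hh]; simp⟩
  obtain ⟨τ, hτ⟩ := h1 (finRotate 3) 1 (by decide)
  obtain ⟨s, hs'⟩ := h1 (Equiv.swap 0 1) (Equiv.swap 0 1) (by decide)
  refine Sm.no_simple hz hE hC hc _ (fun h => ?_) τ hτ (fun ρ hρ => h1 1 ρ (by rw [hρ, map_one])) s
    (by rw [hs']; decide)
  rw [MonoidHom.comp_apply, MonoidHom.comp_apply, map_eq_one_iff _ (Subgroup.subtype_injective _)]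
  rw [MulEquiv.coe_toMonoidHom, MulEquiv.map_eq_one_iff, QuotientGroup.mk'_apply,
    QuotientGroup.eq_one_iff, Sm.EE, ← hF]
  exact (Subgroup.mem_map_iff_mem (Subgroup.subtype_injective _)).symm

end Cfsg.Agent.S3284
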