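import Mathlib
import Cfsg.Statements.S3287
import Cfsg.Agent.GW.Cor2
import Cfsg.Agent.S0495
import Cfsg.Agent.Comp2.GenFitting

set_option autoImplicit false
open Cfsg

namespace Cfsg.Agent.S3287

open Subgroup Cfsg.Agent.GW Cfsg.Agent.Max.L2 Cfsg.Agent.Classical.PSL2Basic Cfsg.Agent.Classical

/-- Let G be a finite simple group whose Sylow 2-subgroups are dihedral, and suppose the centralizer of some involution of G is properly contained in a subgroup whose generalized Fitting subgroup equals its Fitting subgroup (a subgroup without components). Then G is isomorphic to the alternating group of degree 5 or 7, to PSL(3, 2), or to PSL(2, 9). -/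
theorem result {G : Type*} [Group G] [Finite G] [IsSimpleGroup G] (S : Sylow 2 G) (m : ℕ) (eS : ↥(S : Subgroup G) ≃* DihedralGroup m)
    (t : G) (ht : orderOf t = 2) (K : Subgroup G) (hlt : Subgroup.centralizer ({t} : Set G) < K)
    (hK : Cfsg.generalizedFittingSubgroup ↥K = Cfsg.fittingSubgroup ↥K) :
    Nonempty (G ≃* ↥(alternatingGroup (Fin 5))) ∨ Nonempty (G ≃* ↥(alternatingGroup (Fin 7))) ∨
      (∃ (F : Type) (_ : Field F) (_ : Fintype F), Fintype.card F = 2 ∧ Nonempty (G ≃* Matrix.ProjectiveSpecialLinearGroup (Fin 3) F)) ∨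
      (∃ (F : Type) (_ : Field F) (_ : Fintype F), Fintype.card F = 9 ∧ Nonempty (G ≃* Matrix.ProjectiveSpecialLinearGroup (Fin 2) F)) := by
  have hn : ¬ IsMulCommutative G := fun h => hlt.not_ge fun x _ =>
    mem_centralizer_singleton_iff.2 (h.is_comm.comm x t)
  have hK' : K ≠ ⊤ := by
    rintro rfl
    have h1 := congrArg (map (topEquiv (G := G)).toMonoidHom) hK
    rw [Comp2.genFitting_map_equiv, Comp2.fitting_map_equiv] at h1
    rcases (Comp2.genFitting_normal (G := G)).eq_bot_or_eq_top with h | h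
    · exact Comp2.genFitting_ne_bot h
    · have h2 := Comp2.fitting_isNilpotent (G := G)
      rw [← h1, h] at h2
      have : Group.IsSolvable G := Group.isSolvable_of_surjective (f := (⊤ : Subgroup G).subtype)
        fun x => ⟨⟨x, trivial⟩, rfl⟩
      exact hn ⟨⟨IsSimpleGroup.comm_iff_isSolvable.2 this⟩⟩
  rcases known hn (dihSyl_of_simple hn S eS) with ⟨F, _, _, ho, h3, ⟨e⟩⟩ | h
  swap
  · exact Or.inr (Or.inl h)
  rw [← Nat.card_eq_fintype_card] at ho h3
  have h2 := odd_card_iff.1 ho
  have hd : dd F = 2 := gcd_eq_two h2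
  have o2 : orderOf (toP (e t)) = 2 := by rw [orderOf_injective _ toP_injective, e.orderOf_eq, ht]
  have h1 : toP (e t) ≠ 1 := fun h => by simp [h] at o2
  have tt : toP (e t) * toP (e t) = 1 := by simpa [o2, sq] using pow_orderOf_eq_one (toP (e t))
  obtain ⟨T, D, k, hT, hu, hk⟩ := inv_tor h2 ⟨_, rfl⟩ h1 tt
  have h6 : k / dd F < 6 := by
    by_contra h6
    have h4 := max_D hT (Or.inl (not_lt.1 h6))
    rw [← hT.centralizer_eq' hu h1 tt, ← map_centralizer, covBy_map_iff _ toP_injective] at h4
    refine hK' (map_injective (f := e.toMonoidHom) e.injective ?_)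
    rw [map_top_of_surjective _ e.surjective]
    refine h4.2 _ (lt_of_eq_of_lt ?_ ((map_lt_map_iff_of_injective e.injective).2 hlt))
    ext y
    obtain ⟨x, rfl⟩ := e.surjective y
    refine Iff.trans ?_ (mem_map_iff_mem e.injective).symm
    simp only [mem_centralizer_singleton_iff, ← map_mul, e.apply_eq_iff_eq]
  rw [hd] at h6
  obtain h | h | h : Nat.card F = 5 ∨ Nat.card F = 7 ∨ Nat.card F = 9 := by
    rcases hT.k_eq with h | h <;> omega
  · obtain ⟨f⟩ := psl_equiv_A5 (Or.inr h)
    exact Or.inl ⟨e.trans f⟩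
  · have := SLBasic.isSimpleGroup_PSL (ι := Fin 3) (F := ZMod 2) (by simp)
    have h4 := SLBasic.card_center_mul_card_PSL (ι := Fin 3) (R := ZMod 2)
    have h5 := SLBasic.card_SL (F := ZMod 2) 3 (by norm_num)
    rw [SLBasic.card_center_SL] at h4
    simp [Fin.prod_univ_three, -Nat.card_eq_fintype_card] at h4 h5
    obtain ⟨f⟩ := S0495.result (h4.trans h5) (Nat.card_eq_fintype_card.symm.trans h)
    exact Or.inr (Or.inr (Or.inl ⟨ZMod 2, inferInstance, inferInstance, rfl, ⟨e.trans f.symm⟩⟩))
  · exact Or.inr (Or.inr (Or.inr ⟨F, _, _, Nat.card_eq_fintype_card.symm.trans h, ⟨e⟩⟩))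

end Cfsg.Agent.S3287
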