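import Mathlib
import Cfsg.Statements.S3289
import Cfsg.Agent.Hq.E
-- Template for statement S3289 (row 3289; see /opt/grader/pristine/manifest.json for weights).
-- Copy to Cfsg/Agent/S3289.lean and replace the sorry. The statement below is byte-identical to the frozen
-- statement Cfsg.CfsgFrozen.S3289 (Cfsg/Statements/S3289.lean; the theorem Cfsg.chz2_strongly_closed_two_subgroup_local_overgroup_strongly_embedded);
-- the grader kernel-checks Cfsg.Agent.S3289.result against that frozen type. Keep the theorem IN THIS FILE
-- (a `result` declared elsewhere and merely imported here is not credited); helpers may live anywhere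
-- under Cfsg/Agent/.
-- import your own Cfsg.Agent.* helpers here

set_option autoImplicit false
open Cfsg

namespace Cfsg.Agent.S3289

/-- Let T be a Sylow 2-subgroup of a finite group G and S a nontrivial subgroup of T strongly closed in T with respect to G. Suppose a proper subgroup H of G contains the centralizer of every non-identity element of S and the normalizer of the subgroup generated by the involutions of S. Then, writing X for the normal closure of S, the subgroup H ∩ X is strongly embedded in X, and S equals T ∩ X or the subgroup generated by the involutions of T ∩ X; if moreover S has 2-rank 1, then S = T ∩ X. -/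
theorem result {G : Type*} [Group G] [Finite G] (T : Sylow 2 G) (S : Subgroup G) (hS : S ≠ ⊥)
    (hsc : Cfsg.IsStronglyClosed S (T : Subgroup G)) (H : Subgroup G) (hH : H ≠ ⊤)
    (hC : ∀ s ∈ S, s ≠ 1 → Subgroup.centralizer ({s} : Set G) ≤ H)
    (hN : Subgroup.normalizer ((Cfsg.omegaOne 2 S : Subgroup G) : Set G) ≤ H) :
    Cfsg.IsStronglyEmbedded ((H ⊓ Subgroup.normalClosure (S : Set G)).subgroupOf (Subgroup.normalClosure (S : Set G))) ∧
      (S = (T : Subgroup G) ⊓ Subgroup.normalClosure (S : Set G) ∨ S = Cfsg.omegaOne 2 ((T : Subgroup G) ⊓ Subgroup.normalClosure (S : Set G))) ∧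
      (Cfsg.PRankLE 2 1 ↥S → S = (T : Subgroup G) ⊓ Subgroup.normalClosure (S : Set G)) := by
  have h1 : Subgroup.normalizer (S : Set G) ≤ H := fun g hg => hN (Subgroup.normalizer_le_normalizer_closure _
    (Subgroup.mem_normalizer_fintype fun x hx =>
      ⟨LocalEven.conj_mem_of_mem_normalizer hg hx.1, by rw [conj_pow, hx.2]; simp⟩))
  obtain ⟨h2, h3⟩ := Hq.main hsc hS hH hC h1
  rw [Subgroup.inf_subgroupOf_right]
  exact ⟨Hq.se_of_inv hsc hS hH hC h1 Subgroup.le_normalClosure h2, h3⟩

end Cfsg.Agent.S3289
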