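import Mathlib
import Cfsg.Statements.S3306
import Cfsg.Agent.FGS.Cyc2
import Cfsg.Agent.Inv.ZStar
import Cfsg.Agent.Inv.Four
import Cfsg.Agent.Inv.Pairs
import Cfsg.Agent.Comp2.Hsub
import Cfsg.Agent.Comp2.GenFitting
import Cfsg.Agent.Core.Coprime

set_option autoImplicit false
open Cfsg

namespace Cfsg.Agent.S3306

open Subgroup Cfsg.Agent.FGS
open scoped Pointwise

theorem core {H : Type*} [Group H] [Finite H] (C : Subgroup H) [C.Normal] (hC : C ≠ ⊤)
    (hC2 : 2 ∣ Nat.card C) (hodd : ∀ x, Odd (orderOf x) → x ∈ C) (Bad : H → Prop)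
    (bc : ∀ z g, Bad z → Bad (g * z * g⁻¹)) (bC : ∀ z, Bad z → z ∈ C)
    (hU : ∀ t, orderOf t = 2 → ¬ Bad t → ∀ S T : Sylow 2 H, t ∈ S → t ∈ T → S = T)
    (hH : ∀ d ∈ C, ∀ z ∈ C, d * d = 1 → z * z = 1 → Commute z d → (Bad (z * d) ↔ ¬ (Bad z ↔ Bad d)))
    (hX : ∀ x ∉ C, ∀ z ∈ zpowers x, orderOf z = 2 → ¬ Bad z)
    (hO : oddCore H = ⊥) (h2 : pCore 2 H = ⊥) : False := by
  haveI : Fact (Nat.Prime 2) := ⟨Nat.prime_two⟩
  have oc : ∀ g t : H, orderOf (g * t * g⁻¹) = orderOf t := fun g t => (MulAut.conj g).orderOf_eq t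
  have bc' : ∀ z g, ¬ Bad z → ¬ Bad (g * z * g⁻¹) := fun z g h h' => h (by
    simpa [mul_assoc] using bc _ g⁻¹ h')
  have c0 : ∀ d ∈ C, ∀ e, orderOf d = 2 → orderOf e = 2 → ¬ Bad d → ¬ Bad e →
      Even (orderOf (d * e)) → ¬ Bad ((d * e) ^ (orderOf (d * e) / 2)) := by
    intro d hd e d2 e2 bd be hev bz
    have dd := mul_self_of_two d2
    have ee := mul_self_of_two e2
    obtain ⟨z2, zd, -⟩ := Inv.half_power dd ee hev
    have h3 := (hH d hd _ (bC _ bz) dd (mul_self_of_two z2) zd).2 (by tauto)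
    have di : d⁻¹ = d := inv_eq_of_mul_eq_one_right dd
    have ei : e⁻¹ = e := inv_eq_of_mul_eq_one_right ee
    rcases Nat.even_or_odd' (orderOf (d * e) / 2) with ⟨k, hk | hk⟩ <;> rw [hk] at h3
    · have := Inv.zpow_conj_of_inverts (t := d) (a := d * e) (by
        rw [mul_inv_rev, di, ei, ← mul_assoc, dd, one_mul]) k
      rw [show (2 * (k : ℤ)) = ((2 * k : ℕ) : ℤ) by push_cast; rfl, zpow_natCast _ (2 * k)] at this
      exact bc' d _ bd (this ▸ h3)
    · have := Inv.zpow_conj_of_inverts (t := d * e * d⁻¹) (a := d * e) (by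
        simp only [mul_inv_rev, di, ei, mul_assoc]
        rw [← mul_assoc d d, dd, one_mul, ← mul_assoc e e, ee, one_mul, ← mul_assoc d d, dd,
          one_mul]) k
      rw [show (2 * (k : ℤ)) = ((2 * k : ℕ) : ℤ) by push_cast; rfl, zpow_natCast _ (2 * k), di,
        ← mul_assoc ((d * e) ^ (2 * k)), ← pow_succ] at this
      exact bc' _ _ (di ▸ bc' e d be) (this ▸ h3)
  have c1 : ∀ d ∈ C, ∀ e, orderOf d = 2 → orderOf e = 2 → ¬ Bad d → ¬ Bad e → ∀ S T : Sylow 2 H,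
      d ∈ S → e ∈ T → S ≠ T → Odd (orderOf (d * e)) := by
    intro d hd e d2 e2 bd be S T hS hT hne
    by_contra h
    have hev := Nat.not_odd_iff_even.1 h
    obtain ⟨z2, zd, ze⟩ := Inv.half_power (mul_self_of_two d2) (mul_self_of_two e2) hev
    obtain ⟨P, hP⟩ := (Inv.isPGroup_closure_pair_of_commute (mul_self_of_two z2)
      (mul_self_of_two d2) zd).exists_le_sylow
    obtain ⟨Q, hQ⟩ := (Inv.isPGroup_closure_pair_of_commute (mul_self_of_two z2)
      (mul_self_of_two e2) ze).exists_le_sylow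
    exact hne ((hU d d2 bd S P hS (hP (mem_sup_right (mem_zpowers _)))).trans
      ((hU _ z2 (c0 d hd e d2 e2 bd be hev) P Q (hP (mem_sup_left (mem_zpowers _)))
        (hQ (mem_sup_left (mem_zpowers _)))).trans
          (hU e e2 be Q T (hQ (mem_sup_right (mem_zpowers _))) hT)))
  have c2 : ∀ d, orderOf d = 2 → ∀ S : Sylow 2 H, ∃ g, g * d * g⁻¹ ∉ S := fun d d2 S => by
    by_contra! h
    have h3 : normalClosure {d} ≤ (S : Subgroup H) := (closure_le _).2 fun x hx => by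
      obtain ⟨_, rfl, hx'⟩ := Group.mem_conjugatesOfSet_iff.1 hx
      obtain ⟨g, rfl⟩ := isConj_iff.1 hx'
      exact h g
    exact ne_one_of_two d2 (mem_bot.1 (h2 ▸ Core.le_pCore inferInstance (S.2.to_le h3)
      (subset_normalClosure rfl)))
  have c3 : ∀ d : H, orderOf d = 2 → ¬ IsIsolatedInvolution d := fun d d2 h => by
    obtain ⟨S, hS⟩ := exists_sylow_mem (p := 2) (k := 1) d2
    obtain ⟨g, hg⟩ := c2 d d2 S
    exact hg (by rwa [← (Inv.zstar_commute hO h g).eq, mul_inv_cancel_right])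
  obtain ⟨d, hd, d2, bd⟩ : ∃ d ∈ C, orderOf d = 2 ∧ ¬ Bad d := by
    by_contra! h
    obtain ⟨z, hz, z2⟩ := exists_prime_orderOf_mem Nat.prime_two hC2
    refine c3 z z2 ⟨z2, fun g hg => ?_⟩
    by_contra hne
    have hz' := Normal.conj_mem inferInstance _ hz g
    have z2' := (oc g z).trans z2
    have zz := mul_self_of_two z2
    have zz' := mul_self_of_two z2'
    refine (hH _ hz' z hz zz' zz hg).1 (h _ (mul_mem hz hz') (orderOf_two_of ?_ fun e => hne ?_))
      (iff_of_true (h z hz z2) (h _ hz' z2'))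
    · rw [← pow_two, hg.mul_pow, pow_two, pow_two, zz, zz', one_mul]
    · rw [eq_inv_of_mul_eq_one_right e, inv_eq_of_mul_eq_one_right zz]
  have c4 : ∀ i, orderOf i = 2 → i ∈ C := fun i i2 => by
    by_contra hi
    obtain ⟨T, hT⟩ := exists_sylow_mem (p := 2) (k := 1) i2
    obtain ⟨g, hg⟩ := c2 d d2 T
    have o := (oc g d).trans d2
    obtain ⟨S, hS⟩ := exists_sylow_mem (p := 2) (k := 1) o
    have hd' := Normal.conj_mem inferInstance _ hd g
    obtain ⟨c, rfl⟩ := isConj_iff.1 (Inv.isConj_of_odd (mul_self_of_two o) (mul_self_of_two i2)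
      (c1 _ hd' i o i2 (bc' _ _ bd) (fun h => hi (bC _ h)) S T hS hT fun e => hg (e ▸ hS)))
    exact hi (Normal.conj_mem inferInstance _ hd' c)
  obtain ⟨S, hS⟩ := exists_sylow_mem (p := 2) (k := 1) d2
  obtain ⟨g, hg, hne⟩ : ∃ g, g * d * g⁻¹ ∈ S ∧ g * d * g⁻¹ ≠ d := by
    by_contra! h
    exact c3 d d2 (Inv.isolated_of_sylow S d2 h)
  obtain ⟨e, e2, be, heS⟩ : ∃ e, orderOf e = 2 ∧ ¬ Bad e ∧ e ∉ S :=
    let ⟨g, hg⟩ := c2 d d2 S
    ⟨_, (oc g d).trans d2, bc' _ _ bd, hg⟩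
  have ee := mul_self_of_two e2
  have ei : e⁻¹ = e := inv_eq_of_mul_eq_one_right ee
  obtain ⟨T, hT⟩ := exists_sylow_mem (p := 2) (k := 1) e2
  have hST : S ≠ T := fun h => heS (h ▸ hT)
  have sm : ∀ k x : H, x ∈ S → k * x * k⁻¹ ∈ k • S := fun k x hx =>
    Inv.mem_sylow_smul.2 (by simpa [mul_assoc] using hx)
  have o1 := (oc e d).trans d2
  have o2 := (oc g d).trans d2
  have h3 := c1 _ (c4 _ o1) _ o1 o2 (bc' _ _ bd) (bc' _ _ bd) (e • S) S (sm e d hS) hg fun h =>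
    heS (mem_sylow_of_mem_normalizer (k := 1) S e2 (Sylow.smul_eq_iff_mem_normalizer.1 h))
  obtain ⟨b, hb, h4⟩ := Inv.exists_conj_of_odd (mul_self_of_two o1) (mul_self_of_two o2) h3
  obtain ⟨c, -, h5⟩ := Inv.exists_conj_mul_of_odd (Inv.inverts_of_mem_zpowers
    (Inv.inverts_mul_left (mul_self_of_two o1) (mul_self_of_two o2)) hb)
    (h3.of_dvd_nat (orderOf_dvd_of_mem_zpowers hb))
  set f := b * (e * d * e⁻¹) with hf
  have f2 : orderOf f = 2 := h5 ▸ (oc _ _).trans o1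
  have bf : ¬ Bad f := h5 ▸ bc' _ _ (bc' _ _ bd)
  have ff := mul_self_of_two f2
  have fi : f⁻¹ = f := inv_eq_of_mul_eq_one_right ff
  have h6 : f * e * d * (f * e)⁻¹ = g * d * g⁻¹ := by rw [← h4, hf]; group
  have hk : f * e ∈ normalizer ((S : Subgroup H) : Set H) := Sylow.smul_eq_iff_mem_normalizer.1
    (hU _ o2 (bc' _ _ bd) _ _ (h6 ▸ sm _ d hS) hg)
  have ho : Odd (orderOf (f * e)) := by
    obtain ⟨P, hP⟩ := exists_sylow_mem (p := 2) (k := 1) f2
    by_cases h : P = T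
    · by_contra h7
      have hev := Nat.not_odd_iff_even.1 h7
      have h8 : f * e ∈ (T : Subgroup H) := mul_mem (h ▸ hP) hT
      obtain ⟨j, hj⟩ := exists_orderOf_eq_of_mem T.2 h8
      exact hST (hU _ (Inv.half_power ff ee hev).1 (c0 f (c4 f f2) e f2 e2 bf be hev) S T
        (pow_mem (mem_sylow_of_mem_normalizer S hj hk) _) (pow_mem h8 _))
    · exact c1 f (c4 f f2) e f2 e2 bf be P T hP hT h
  obtain ⟨x, hx, hxC⟩ : ∃ x ∈ (S : Subgroup H) ⊓ centralizer (zpowers (f * e) : Set H), x ∉ C := by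
    by_contra! h
    have h7 : (S : Subgroup H) ≤ C := by
      rw [← Core.commutator_sup_centralizer (zpowers (f * e)) S (zpowers_le.2 hk)
        (Core.coprime_of_isPGroup S.2 (by rw [Nat.card_zpowers]; exact Nat.coprime_two_right.2 ho))
        (Or.inr (Core.solvable_of_isPGroup S.2))]
      exact sup_le ((commutator_mono le_rfl (zpowers_le.2 (hodd _ ho))).trans
        (commutator_le_right _ _)) h
    refine hC (eq_top_iff.2 fun y _ => ?_)
    obtain ⟨a, b, -, -, rfl, -, ⟨j, hj⟩, hb⟩ := exists_pPart 2 y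
    obtain ⟨u, hu⟩ := Inv.exists_conj_le_sylow S (isPGroup_zpowers hj)
    have := Normal.conj_mem (H := C) inferInstance _ (h7 (hu a (mem_zpowers a))) u⁻¹
    exact mul_mem (by simpa [mul_assoc] using this) (hodd b (Nat.coprime_two_right.1 hb))
  obtain ⟨j, hj⟩ := exists_orderOf_eq_of_mem S.2 hx.1
  obtain ⟨n, i2⟩ := exists_pow_orderOf_eq (x := x) (q := 2) (by
    rw [hj]
    refine dvd_pow_self 2 fun e => hxC ?_
    rw [e, pow_zero, orderOf_eq_one_iff] at hj
    exact hj ▸ one_mem C)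
  have h7 := c1 _ (c4 _ i2) e i2 e2 (hX x hxC _ (pow_mem (mem_zpowers x) n) i2) be S T
    (pow_mem hx.1 n) hT hST
  have h8 : ∀ y ∈ zpowers (f * e), x ^ n * e * y * (x ^ n * e)⁻¹ = y⁻¹ := fun y hy => by
    have h9 := Inv.inverts_of_mem_zpowers (show e * (f * e) * e⁻¹ = (f * e)⁻¹ by
      rw [mul_inv_rev, fi, ei, mul_assoc, mul_assoc, ee, mul_one]) hy
    have h10 := pow_mem hx.2 n _ (inv_mem hy)
    calc _ = x ^ n * (e * y * e⁻¹) * (x ^ n)⁻¹ := by group
      _ = _ := by rw [h9, ← h10, mul_inv_cancel_right]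
  have h9 := Inv.conj_eq_of_sq_of_odd (g := x ^ n * e) (x := f * e) (by
    rw [h8 _ (mem_zpowers _), h8 _ (inv_mem (mem_zpowers _)), inv_inv]) h7
  rw [h8 _ (mem_zpowers _), inv_eq_iff_mul_eq_one, ← pow_two, ← orderOf_dvd_iff_pow_eq_one] at h9
  have h10 : f * e = 1 := orderOf_eq_one_iff.1
    (Nat.eq_one_of_dvd_coprimes (Nat.coprime_two_right.2 ho) dvd_rfl h9)
  exact hne (by rw [← h6, h10]; simp)

theorem quot {G Q : Type*} [Group G] [Finite G] [Group Q] [Finite Q] (f : G →* Q)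
    (hf : Function.Surjective f) (hk : ¬ 2 ∣ Nat.card f.ker)
    (hC : ∀ S T : Sylow 2 G, S ≠ T → IsCyclic ↥((S : Subgroup G) ⊓ (T : Subgroup G)))
    (S T : Sylow 2 Q) (h : S ≠ T) : IsCyclic ↥((S : Subgroup Q) ⊓ (T : Subgroup Q)) := by
  haveI : Fact (Nat.Prime 2) := ⟨Nat.prime_two⟩
  obtain ⟨S, rfl⟩ := Sylow.mapSurjective_surjective hf 2 S
  obtain ⟨P, h1, h2⟩ := exists_sylow_le_of_not_dvd_index' (p := 2) (H := (T : Subgroup Q).comap f)
    (R := S ⊓ (T : Subgroup Q).comap f)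
    (by rw [index_comap_of_surjective _ hf]; exact T.not_dvd_index) (S.2.to_le inf_le_left)
    inf_le_right
  have h3 := isCyclic_of_le' (le_inf inf_le_left h1) (hC S P fun e => h (Sylow.ext
    ((S.mapSurjective hf).3 T.2 (map_le_iff_le_comap.2 (e ▸ h2))).symm))
  refine isCyclic_of_le' (K := ((S : Subgroup G) ⊓ (T : Subgroup Q).comap f).map f) ?_
    (isCyclic_of_surjective _ (f.subgroupMap_surjective _))
  rintro _ ⟨⟨x, hx, rfl⟩, hx'⟩
  exact ⟨x, ⟨hx, hx'⟩, rfl⟩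

theorem main {Q : Type*} [Group Q] [Finite Q] (hO : oddCore Q = ⊥) (hns : ¬ Group.IsSolvable Q)
    (hC : ∀ S T : Sylow 2 Q, S ≠ T → IsCyclic ↥((S : Subgroup Q) ⊓ (T : Subgroup Q))) :
    IsCyclic (pCore 2 Q) ∧ pCore 2 Q ≤ center Q ∧
      ∀ (N : Subgroup Q) [N.Normal], Group.IsSolvable N → N ≤ pCore 2 Q := by
  haveI : Fact (Nat.Prime 2) := ⟨Nat.prime_two⟩
  set V := pCore 2 Q with hV
  have hV2 : IsPGroup 2 V := Core.pCore_isPGroup 2
  haveI hVs : Group.IsSolvable V := Core.solvable_of_isPGroup hV2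
  haveI hc : IsCyclic V := by
    obtain ⟨S⟩ := (inferInstance : Nonempty (Sylow 2 Q))
    by_cases h : ∀ T : Sylow 2 Q, T = S
    · haveI : (S : Subgroup Q).Normal := normalizer_eq_top_iff.1 (eq_top_iff.2 fun g _ =>
        Sylow.smul_eq_iff_mem_normalizer.1 (h _))
      haveI := Core.solvable_of_isPGroup S.2
      haveI : Group.IsSolvable (Q ⧸ (S : Subgroup Q)) := S0205.result (Nat.not_even_iff_odd.1
        fun e => S.not_dvd_index (even_iff_two_dvd.1 e))
      exact absurd (solvable_of_ker_le_range (S : Subgroup Q).subtype (QuotientGroup.mk' (S : Subgroup Q))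
        (by simp)) hns
    · obtain ⟨T, hT⟩ := not_forall.1 h
      exact isCyclic_of_le' (le_inf (Core.pCore_le_sylow T) (Core.pCore_le_sylow S)) (hC T S hT)
  have h1 : ∀ x : Q, Odd (orderOf x) → x ∈ centralizer (V : Set Q) := fun x hx =>
    Comp2.Hsub.cent_of_cyclic hV2 (le_normalizer_of_normal (mem_top x)) (Nat.coprime_two_right.2 hx)
      (by simp)
  have h2 : ∀ (N : Subgroup Q) [N.Normal], Group.IsSolvable N → N ≤ V := fun N _ hN => by
    refine Core.le_pCore inferInstance (isPGroup_iff_forall_prime.2 fun q hq h => ?_)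
    by_contra hne
    obtain ⟨x, hx, rfl⟩ := exists_prime_orderOf_mem hq h
    have h3 : (fittingSubgroup N).map N.subtype ≤ V := (Core.map_fitting_subtype_le N).trans
      (Core.fitting_eq_pCore 2 hO).le
    have h4 := h3 ⟨⟨x, hx⟩, Comp2.centralizer_fitting_le_of_isSolvable hN fun y hy => Subtype.ext
      (h1 x (hq.odd_of_ne_two hne) y (h3 ⟨y, hy, rfl⟩)), rfl⟩
    obtain ⟨k, hk⟩ := exists_orderOf_eq_of_mem hV2 h4
    exact hne ((Nat.prime_dvd_prime_iff_eq hq Nat.prime_two).1 (hq.dvd_of_dvd_pow (dvd_of_eq hk)))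
  refine ⟨hc, ?_, h2⟩
  by_contra hZ
  obtain ⟨v, hv⟩ : ∃ v, zpowers v = V := (Subgroup.isCyclic_iff_exists_zpowers_eq_top V).1 hc
  have hvV : v ∈ V := hv ▸ mem_zpowers v
  let π := QuotientGroup.mk' V
  have hπ : ∀ {x}, π x = 1 ↔ x ∈ V := QuotientGroup.eq_one_iff _
  have hs := QuotientGroup.mk'_surjective V
  set C := centralizer (V : Set Q) with hCd
  have hVC : V ≤ C := le_centralizer V
  have hCv : ∀ {x}, x ∈ C ↔ v * x = x * v := ⟨fun h => h v hvV, fun h => by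
    rw [hCd, ← hv]; rintro _ ⟨k, rfl⟩; exact ((show Commute v _ from h).zpow_left k).eq⟩
  have mC : ∀ {x}, π x ∈ C.map π ↔ x ∈ C := by
    intro x; rw [← mem_comap, comap_map_eq, QuotientGroup.ker_mk', sup_eq_left.2 hVC]
  have hCt : C ≠ ⊤ := fun e => hZ fun x hx => mem_center_iff.2 fun g =>
    ((e ▸ mem_top g : g ∈ C) x hx).symm
  obtain ⟨j, hj⟩ := exists_orderOf_eq_of_mem hV2 hvV
  have hv2 : v * v ≠ 1 := fun e => hCt (eq_top_iff.2 fun g _ => by
    by_cases h : v = 1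
    · simp [hCv, h]
    · have o := orderOf_two_of e h
      rw [hCv, eq_comm, ← mul_inv_eq_iff_eq_mul]
      exact invol_eq_of_isCyclic hc (Normal.conj_mem inferInstance _ hvV g) hvV
        (((MulAut.conj g).orderOf_eq v).trans o) o)
  -- parity of powers of `v`
  have par : ∀ a b : ℤ, v ^ a = v ^ b → (Even a ↔ Even b) := fun a b e => by
    have h3 : ((2 : ℕ) : ℤ) ∣ orderOf v := Int.natCast_dvd_natCast.2 (by
      rw [hj]; refine dvd_pow_self 2 fun e => hv2 ?_
      rw [e, pow_zero, orderOf_eq_one_iff] at hj; simp [hj])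
    have := h3.trans (zpow_eq_zpow_iff_modEq.1 e).dvd
    exact (Int.even_sub.1 (even_iff_two_dvd.2 this)).symm
  have gen : ∀ a : ℤ, Odd a → v ∈ zpowers (v ^ a) := fun a ha => mem_zpowers_zpow_iff.2 (by
    rw [hj, Int.gcd_eq_natAbs, Int.natAbs_natCast]
    exact (Nat.coprime_two_right.2 (Int.natAbs_odd.2 ha)).pow_right j)
  have lift : ∀ w ∈ C, ∀ w', π w' = π w → ∀ a : ℤ, w * w = v ^ a →
      ∃ b, w' * w' = v ^ (a + 2 * b) := fun w hw w' e a ha => by
    obtain ⟨b, hb⟩ : w⁻¹ * w' ∈ zpowers v := hv ▸ hπ.1 (by rw [map_mul, map_inv, e, inv_mul_cancel])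
    have hb' : v ^ b = w⁻¹ * w' := hb
    refine ⟨b, ?_⟩
    rw [← mul_inv_cancel_left w w', ← hb', zpow_add, ← ha, two_mul, zpow_add, mul_assoc, mul_assoc,
      ← mul_assoc (v ^ b), ((show Commute v w from hCv.1 hw).zpow_left b).eq]; group
  have sq : ∀ w, π w * π w = 1 → ∃ a : ℤ, w * w = v ^ a := fun w h => by
    obtain ⟨a, ha⟩ : w * w ∈ zpowers v := hv ▸ hπ.1 (by rwa [map_mul])
    exact ⟨a, ha.symm⟩
  let Bad : Q ⧸ V → Prop := fun z => ∃ w ∈ C, π w = z ∧ ∃ a : ℤ, Odd a ∧ w * w = v ^ a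
  have bad : ∀ w ∈ C, ∀ a : ℤ, w * w = v ^ a → (Bad (π w) ↔ Odd a) := fun w hw a ha =>
    ⟨fun ⟨w', hw', e, b, hb, hb'⟩ => by
      obtain ⟨c, hc⟩ := lift w' hw' w e.symm b hb'
      rw [← Int.not_even_iff_odd, par _ _ (ha.symm.trans hc), Int.not_even_iff_odd]
      exact hb.add_even (even_two_mul c), fun h => ⟨w, hw, rfl, a, h, ha⟩⟩
  refine core (C.map π) (fun e => hCt (eq_top_iff.2 fun x _ => mC.1 (e ▸ mem_top _))) ?_ ?_ Bad
    ?_ ?_ ?_ ?_ ?_ ?_ (Core.pCore_quotient_pCore 2)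
  · by_contra h
    haveI : Group.IsSolvable (C.map π) := S0205.result (Nat.odd_iff.2 (by omega))
    have h3 := h2 C (solvable_of_ker_le_range (inclusion hVC) (π.subgroupMap C) fun x hx =>
      ⟨⟨x, hπ.1 (congrArg Subtype.val hx)⟩, rfl⟩)
    haveI : Group.IsSolvable (Q ⧸ V) := Core.solvable_of_isPGroup (p := 2)
      (isPGroup_iff_forall_prime.2 fun q hq h => by
        by_contra hne
        haveI := Fact.mk hq
        obtain ⟨x, hx⟩ := exists_prime_orderOf_dvd_card' q h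
        obtain ⟨x, rfl⟩ := hs x
        obtain ⟨y, -, e, hy⟩ := exists_pPrime_lift π (p := 2) x (by
          rw [hx]; exact (Nat.coprime_primes hq Nat.prime_two).2 hne)
        exact ne_one_of_orderOf_prime hq hx (e.symm.trans
          (hπ.2 (h3 (h1 y (Nat.coprime_two_right.1 hy))))))
    exact hns (solvable_of_ker_le_range V.subtype π (by simp [π]))
  · intro x hx
    obtain ⟨x, rfl⟩ := hs x
    obtain ⟨y, -, e, hy⟩ := exists_pPrime_lift π (p := 2) x (Nat.coprime_two_right.2 hx)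
    exact ⟨y, h1 y (Nat.coprime_two_right.1 hy), e⟩
  · rintro _ g ⟨w, hw, rfl, a, ha, e⟩
    obtain ⟨g, rfl⟩ := hs g
    obtain ⟨b, hb⟩ : g * v * g⁻¹ ∈ zpowers v := hv ▸ Normal.conj_mem inferInstance _ hvV g
    have hb' : v ^ b = g * v * g⁻¹ := hb
    refine ⟨g * w * g⁻¹, Normal.conj_mem inferInstance _ hw g, by simp [π], b * a,
      Odd.mul (Int.not_even_iff_odd.1 ?_) ha, by rw [zpow_mul, hb', conj_zpow, ← e]; group⟩
    rintro ⟨c, rfl⟩
    obtain ⟨d, hd⟩ : g⁻¹ * v * g ∈ zpowers v := hv ▸ Normal.conj_mem' inferInstance _ hvV g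
    have hd' : v ^ d = g⁻¹ * v * g := hd
    have := par ((c + c) * d) 1 (by rw [zpow_mul, hb', conj_zpow, hd']; group)
    exact Int.not_even_one (this.1 (Even.mul_right ⟨c, rfl⟩ d))
  · rintro _ ⟨w, hw, rfl, -⟩; exact mC.2 hw
  · intro t ht hb S T hS hT
    by_contra hne
    obtain ⟨w, rfl⟩ := hs t
    have hk : IsPGroup 2 π.ker := (QuotientGroup.ker_mk' V).symm ▸ hV2
    have h3 := hC (S.comapOfKerIsPGroup π hk (by rw [MonoidHom.range_eq_top.2 hs]; exact le_top))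
      (T.comapOfKerIsPGroup π hk (by rw [MonoidHom.range_eq_top.2 hs]; exact le_top)) fun e =>
        hne (Sylow.ext (comap_injective hs (congrArg Sylow.toSubgroup e)))
    have h4 : V ≤ (S : Subgroup _).comap π ⊓ (T : Subgroup _).comap π := fun x hx =>
      ⟨show π x ∈ (S : Subgroup _) from hπ.2 hx ▸ one_mem _,
        show π x ∈ (T : Subgroup _) from hπ.2 hx ▸ one_mem _⟩
    have h5 : w ∈ (S : Subgroup _).comap π ⊓ (T : Subgroup _).comap π := ⟨hS, hT⟩
    have hw : w ∈ C := hCv.2 (isMulCommutative_iff_forall.1 h3.isMulCommutative _ (h4 hvV) _ h5)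
    obtain ⟨a, ha⟩ := sq w (mul_self_of_two ht)
    obtain ⟨c, rfl⟩ := Int.not_odd_iff_even.1 fun h => hb ((bad w hw a ha).2 h)
    have h6 : w * v ^ (-c) ∉ V := fun h => ne_one_of_two ht (hπ.2 (by
      simpa using mul_mem h (zpow_mem hvV c)))
    obtain ⟨n, hn⟩ := exists_pow_orderOf_eq (x := v) (q := 2) (by
      rw [hj]; refine dvd_pow_self 2 fun e => hv2 ?_
      rw [e, pow_zero, orderOf_eq_one_iff] at hj; simp [hj])
    refine h6 ((invol_eq_of_isCyclic h3 (mul_mem h5 (h4 (zpow_mem hvV _))) (h4 (pow_mem hvV n))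
      (orderOf_two_of ?_ fun e => h6 (e ▸ one_mem V)) hn).symm ▸ pow_mem hvV n)
    rw [mul_assoc, ← mul_assoc _ w, ((show Commute v w from hCv.1 hw).zpow_left (-c)).eq,
      ← mul_assoc, ← mul_assoc, ha]; group
  · rintro _ ⟨d, hd, rfl⟩ _ ⟨z, hz, rfl⟩ dd zz hzd
    obtain ⟨a, ha⟩ := sq d dd
    obtain ⟨b, hb⟩ := sq z zz
    obtain ⟨c, hc⟩ : z⁻¹ * (d * z * d⁻¹) ∈ zpowers v := hv ▸ hπ.1 (by
      simp only [map_mul, map_inv, ← hzd.eq]; group)
    have hc' : d * z * d⁻¹ = z * v ^ c := by rw [show v ^ c = _ from hc]; group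
    have c1 := (show Commute v z from hCv.1 hz).zpow_left c
    have c2 : Even c := by
      by_contra h
      obtain ⟨k, hk⟩ := gen c (Int.not_even_iff_odd.1 h)
      have : v ^ c * v ^ c = 1 := by
        have h3 : d * (z * z) * d⁻¹ = z * z := by
          rw [hb, ← ((show Commute v d from hCv.1 hd).zpow_left b).eq, mul_inv_cancel_right]
        rw [show d * (z * z) * d⁻¹ = d * z * d⁻¹ * (d * z * d⁻¹) by group, hc', mul_assoc,
          ← mul_assoc _ z, c1.eq, mul_assoc, ← mul_assoc] at h3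
        exact mul_eq_left.1 h3
      exact hv2 (by rw [← show (v ^ c) ^ k = v from hk, ← (Commute.refl _).mul_zpow, this, one_zpow])
    rw [← map_mul, bad _ (mul_mem hz hd) (b + c + a) (by
      rw [zpow_add, zpow_add, ← ha, ← hb, mul_assoc z z, ← hc']; group), bad z hz b hb, bad d hd a ha]
    simp only [Int.odd_add, Int.even_add, ← Int.not_even_iff_odd]; tauto
  · rintro x hx _ ⟨k, rfl⟩ h2 hb
    obtain ⟨x, rfl⟩ := hs x
    have h3 : π x ^ k = π (x ^ k) := (map_zpow π x k).symm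
    obtain ⟨w, hw, e, a, ha, e'⟩ := hb
    obtain ⟨b, hb⟩ := lift w hw (x ^ k) (h3.symm.trans e.symm) a e'
    obtain ⟨m, hm⟩ := gen _ (ha.add_even (even_two_mul b))
    refine hx (mC.2 (hCv.2 ?_))
    rw [← show (v ^ (a + 2 * b)) ^ m = v from hm, ← hb]; group
  · rw [eq_bot_iff, ← map_comap_eq_self_of_surjective hs (oddCore _), map_le_iff_le_comap,
      MonoidHom.comap_bot, QuotientGroup.ker_mk']
    haveI : Group.IsSolvable (oddCore (Q ⧸ V)) := S0205.result Inv.odd_card_oddCore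
    exact h2 _ (solvable_of_ker_le_range (inclusion (QuotientGroup.le_comap_mk' V _))
      (π.subgroupComap _) fun x hx => ⟨⟨x, hπ.1 (congrArg Subtype.val hx)⟩, rfl⟩)

/-- Let G be a finite nonsolvable group in which any two distinct Sylow 2-subgroups intersect in a cyclic group, and let N be a solvable normal subgroup of G. Then the image of N in G/O(G) is a cyclic 2-group contained in the centre of G/O(G) (O(G) the largest normal subgroup of odd order). In other words the solvable radical of G is V·O(G) with V a cyclic 2-group central modulo O(G). -/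
theorem result {G : Type*} [Group G] [Finite G] (hns : ¬ Group.IsSolvable G)
    (hC : ∀ S T : Sylow 2 G, S ≠ T → IsCyclic ↥((S : Subgroup G) ⊓ (T : Subgroup G)))
    (N : Subgroup G) [N.Normal] (hN : Group.IsSolvable ↥N) :
    IsCyclic ↥(N.map (QuotientGroup.mk' (Cfsg.oddCore G))) ∧ IsPGroup 2 ↥(N.map (QuotientGroup.mk' (Cfsg.oddCore G))) ∧
      N.map (QuotientGroup.mk' (Cfsg.oddCore G)) ≤ Subgroup.center (G ⧸ Cfsg.oddCore G) := by
  haveI : Group.IsSolvable (oddCore G) := S0205.result Inv.odd_card_oddCore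
  have hs := QuotientGroup.mk'_surjective (oddCore G)
  obtain ⟨h1, h2, h3⟩ := main (Q := G ⧸ oddCore G) (Core.pPrimeCore_quotient_pPrimeCore 2)
    (fun _ => hns (solvable_of_ker_le_range (oddCore G).subtype (QuotientGroup.mk' (oddCore G))
      (by simp)))
    (quot _ hs (by rw [QuotientGroup.ker_mk']; exact Core.not_dvd_card_pPrimeCore Nat.prime_two) hC)
  haveI := (inferInstance : N.Normal).map _ hs
  have h4 := h3 _ (Comp2.isSolvable_map (QuotientGroup.mk' (oddCore G)) hN)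
  exact ⟨isCyclic_of_le' h4 h1, (Core.pCore_isPGroup 2).to_le h4, h4.trans h2⟩

end Cfsg.Agent.S3306
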