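import Mathlib
import Cfsg.Statements.S3307
import Cfsg.Agent.GW.Quat
import Cfsg.Agent.LocalEven.CentSyl

set_option autoImplicit false
open Cfsg

namespace Cfsg.Agent.S3307

open Subgroup Cfsg.Agent.Inv Cfsg.Agent.GW Cfsg.Agent.Perm in
theorem eight {G : Type*} [Group G] [Finite G] (hns : ¬ Group.IsSolvable G) {S : Sylow 2 G}
    {a b : G} {n : ℕ} (h : GQ (S : Subgroup G) a b n)
    (hC : ∀ S T : Sylow 2 G, S ≠ T → IsCyclic ↥((S : Subgroup G) ⊓ (T : Subgroup G))) :
    Nonempty (↥(S : Subgroup G) ≃* QuaternionGroup 2) := by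
  by_contra hne
  refine hns (LocalEven.isSolvable_of_npc_two (npc_of_no_essential S (h.no_essential
    (fun T hTS hT => ?_) fun Q hQ e g hg ho => ?_)))
  · obtain ⟨t, ht, ht', h1, -⟩ := h.exists_of_four hT hTS
    exact absurd ((h.sq t (hTS ht) ht').symm.trans h1) (ne_one_of_two h.z_two)
  by_contra hc
  have hg' : g • S = S := by
    by_contra h1
    have h2 := hC _ _ h1
    have h3 : Q ≤ ((g • S : Sylow 2 G) : Subgroup G) ⊓ S := le_inf (fun q hq => by
      refine ⟨g⁻¹ * q * g, hQ ?_, by simp [mul_assoc]⟩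
      simpa using (mem_normalizer_iff.1 (inv_mem hg) q).1 hq) hQ
    obtain ⟨u, hu, v, hv, huv⟩ := q8_exists e
    exact huv (congrArg Subtype.val
      ((IsCyclic.isMulCommutative (α := ↥(((g • S : Sylow 2 G) : Subgroup G) ⊓ S))).is_comm.comm
        ⟨u, h3 hu⟩ ⟨v, h3 hv⟩))
  rcases h.essential le_rfl h.z_mem (Sylow.smul_eq_iff_mem_normalizer.1 hg') ho
    fun h1 => hc (centralizer_le hQ h1) with ⟨t, ht, ht', h1, -⟩ | ⟨m, hm, t, ht, ht', h1, h2⟩
  · exact absurd ((h.sq t ht ht').symm.trans h1) (ne_one_of_two h.z_two)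
  · obtain rfl : n = m := by omega
    exact hne (h2 ▸ (h.change ht ht').toMC.q8 h1)

theorem mod_eight {q : ℕ} (ho : Odd q) (h : ¬ 16 ∣ q * (q ^ 2 - 1)) : q % 8 = 3 ∨ q % 8 = 5 := by
  obtain ⟨k, rfl⟩ := ho
  by_contra h1
  refine h (Dvd.dvd.mul_left ?_ _)
  have h2 : (2 * k + 1) ^ 2 - 1 = 4 * (k * (k + 1)) := by
    rw [Nat.sub_eq_iff_eq_add (Nat.one_le_pow _ _ (by omega))]; ring
  rw [h2]
  refine mul_dvd_mul_left 4 (?_ : 4 ∣ _)
  obtain h3 | h3 : 4 ∣ k ∨ 4 ∣ k + 1 := by omega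
  exacts [h3.mul_right _, h3.mul_left _]

/-- Let G be a finite nonsolvable group whose Sylow 2-subgroups are generalized quaternion and in which any two distinct Sylow 2-subgroups intersect in a cyclic group. Then the Sylow 2-subgroups are quaternion of order 8, and G has a normal subgroup G₁ of odd index containing O(G) (the largest normal subgroup of odd order) with G₁/O(G) isomorphic to SL(2,q) for some prime power q > 3 with q ≡ 3 or 5 mod 8. -/
theorem result {G : Type*} [Group G] [Finite G] (hns : ¬ Group.IsSolvable G)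
    (hQ : ∀ S : Sylow 2 G, ∃ n : ℕ, Nonempty (↥(S : Subgroup G) ≃* QuaternionGroup (2 ^ (n + 1))))
    (hC : ∀ S T : Sylow 2 G, S ≠ T → IsCyclic ↥((S : Subgroup G) ⊓ (T : Subgroup G))) :
    (∀ S : Sylow 2 G, Nonempty (↥(S : Subgroup G) ≃* QuaternionGroup 2)) ∧
    ∃ (G₁ : Subgroup G) (_ : G₁.Normal) (_ : ((Cfsg.oddCore G).subgroupOf G₁).Normal),
      Odd G₁.index ∧ Cfsg.oddCore G ≤ G₁ ∧
      ∃ (F : Type) (_ : Field F) (_ : Fintype F), (Fintype.card F % 8 = 3 ∨ Fintype.card F % 8 = 5) ∧ 3 < Fintype.card F ∧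
        Nonempty (↥G₁ ⧸ (Cfsg.oddCore G).subgroupOf G₁ ≃* Matrix.SpecialLinearGroup (Fin 2) F) := by
  obtain ⟨S⟩ : Nonempty (Sylow 2 G) := inferInstance
  obtain ⟨n, ⟨e⟩⟩ := hQ S
  obtain ⟨a, b, h⟩ := GW.exists_gq' e
  obtain ⟨e8⟩ := eight hns h hC
  refine ⟨fun T => ⟨(T.equiv S).trans e8⟩, ?_⟩
  have h16 : ¬ 2 ^ 4 ∣ Nat.card (G ⧸ oddCore G) := fun h1 => by
    have := S.pow_dvd_card_of_pow_dvd_card (h1.trans (Subgroup.card_quotient_dvd_card _))
    rw [Inv.q8_card e8] at this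
    omega
  have hns' : ¬ Group.IsSolvable (G ⧸ oddCore G) := fun _ => hns (by
    have := GW.solv_of_odd (Inv.odd_oddCore (G := G))
    exact Group.isSolvable_of_ker_le_range (oddCore G).subtype (QuotientGroup.mk' (oddCore G))
      (by simp))
  obtain ⟨L, hL, h0, hp⟩ := Perm.exists_perfect_normal hns'
  have := (Subgroup.nontrivial_iff_ne_bot L).2 h0
  have hQL : GW.QSyl L := ((GW.QSyl.quot ⟨S, a, b, n, h⟩ _ Inv.odd_oddCore).r1.sub L).qsyl_of_perfect hp
  have hO : oddCore L = ⊥ := by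
    refine (Core.pPrimeCore_eq_subgroupOf 2 L).trans ?_
    rw [Core.pPrimeCore_quotient_pPrimeCore, Subgroup.bot_subgroupOf]
  have h8 : 8 ∣ Nat.card L := by
    obtain ⟨T, c, d, m, hT⟩ := hQL
    exact (Dvd.intro_left (2 ^ m) (by rw [hT.card]; ring)).trans (Subgroup.card_subgroup_dvd_card _)
  have hL16 : ¬ 16 ∣ Nat.card L := fun h1 => h16 (h1.trans (Subgroup.card_subgroup_dvd_card _))
  have hs := QuotientGroup.mk'_surjective (oddCore G)
  refine ⟨L.comap (QuotientGroup.mk' _), inferInstance, inferInstance, ?_, fun g hg => ?_, ?_⟩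
  · rw [Subgroup.index_comap_of_surjective _ hs, ← Nat.not_even_iff_odd]
    intro h1
    refine h16 ?_
    rw [← L.card_mul_index]
    exact mul_dvd_mul h8 h1.two_dvd
  · rw [Subgroup.mem_comap, QuotientGroup.mk'_apply, (QuotientGroup.eq_one_iff g).2 hg]
    exact one_mem _
  obtain ⟨z, hz, -, -, ⟨F, _, _, ho, h3, ⟨e'⟩, -⟩ | ⟨ξ, h1, h2⟩⟩ := hQL.perfect hO hp
  · refine ⟨F, inferInstance, inferInstance, mod_eight ho ?_, h3, ?_⟩
    · rwa [Nat.card_congr e'.toEquiv, Classical.SLBasic.card_SL_two, Nat.card_eq_fintype_card] at hL16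
    · obtain ⟨e2⟩ := Perm.equiv_of_ker_eq (QuotientGroup.mk' ((oddCore G).subgroupOf _))
        ((QuotientGroup.mk' (oddCore G)).subgroupComap L) (QuotientGroup.mk'_surjective _)
        ((QuotientGroup.mk' (oddCore G)).subgroupComap_surjective_of_surjective L hs) (by
          ext g
          rw [QuotientGroup.ker_mk', Subgroup.mem_subgroupOf, MonoidHom.mem_ker, Subtype.ext_iff]
          exact (QuotientGroup.eq_one_iff _).symm)
      exact ⟨e2.trans e'⟩
  · rw [Perm.card_of_quot hz ξ h1 h2, nat_card_alternatingGroup, Nat.card_fin] at hL16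
    exact absurd (by decide) hL16

end Cfsg.Agent.S3307
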