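import Mathlib
import Cfsg.Statements.S3309
import Cfsg.Agent.Inv.ZStar
import Cfsg.Agent.CIT.F2
import Cfsg.Agent.Transfer.Abelian
import Cfsg.Agent.S0205

set_option autoImplicit false
open Cfsg

namespace Cfsg.Agent.S3309

open Subgroup

abbrev X := Multiplicative (ZMod 2) × DihedralGroup 4

def zz : X := (1, DihedralGroup.r 2)
def cc : X := (Multiplicative.ofAdd 1, 1)

def lamF (u : Multiplicative (ZMod 2)) : X → Multiplicative (ZMod 2)
  | (s, DihedralGroup.r _) => s
  | (s, DihedralGroup.sr _) => s * u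

theorem lam_mul : ∀ u x y, lamF u (x * y) = lamF u x * lamF u y := by decide +kernel

def lam (u : Multiplicative (ZMod 2)) : X →* Multiplicative (ZMod 2) := MonoidHom.mk' (lamF u) (lam_mul u)

theorem f1 : ∀ y : X, y * y ≠ 1 → y * y = zz := by decide +kernel

set_option synthInstance.maxSize 2000 in
set_option synthInstance.maxHeartbeats 200000 in
theorem f2 : ∀ v : X, v * v = 1 → v ≠ 1 → v ≠ zz → v ≠ cc → v ≠ cc * zz → ∃ u, ∀ x y : X,
    lamF u x = 1 → lamF u y = 1 → x * x = 1 → y * y = 1 → x ≠ 1 → y ≠ 1 →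
    x = zz ∨ y = zz ∨ (∃ g, g * v * g⁻¹ = x) ∨ (∃ g, g * v * g⁻¹ = y) ∨ ∃ g, g * x * g⁻¹ = y := by
  decide +kernel

theorem f3 : ∀ x : X, x * zz = zz * x ∧ x * cc = cc * x ∧ x * (cc * zz) = cc * zz * x := by
  decide +kernel

theorem f4 : ∀ u, lamF u cc ≠ 1 ∧ lamF u (cc * zz) ≠ 1 := by decide +kernel

/-- A finite group whose Sylow 2-subgroups are isomorphic to the direct product of a group of order 2 and the dihedral group of order 8 is not a non-abelian simple group. -/
theorem result {G : Type*} [Group G] [Finite G] (S : Sylow 2 G) (hS : Nonempty (↥(S : Subgroup G) ≃* Multiplicative (ZMod 2) × DihedralGroup 4))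
    [IsSimpleGroup G] (hG : ¬ IsMulCommutative G) : False := by
  obtain ⟨e⟩ := hS
  let ι : X →* G := (S : Subgroup G).subtype.comp e.symm.toMonoidHom
  have hι : Function.Injective ι := (S : Subgroup G).subtype_injective.comp e.symm.injective
  have hmem : ∀ x, ι x ∈ (S : Subgroup G) := fun x => (e.symm x).2
  have hsur : ∀ s ∈ (S : Subgroup G), ∃ x, ι x = s := fun s hs => ⟨e ⟨s, hs⟩, by simp [ι]⟩
  have hr : (⊤ : Subgroup X).map ι = S := le_antisymm (by rintro _ ⟨x, -, rfl⟩; exact hmem x)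
    fun s hs => by obtain ⟨x, rfl⟩ := hsur s hs; exact ⟨x, trivial, rfl⟩
  have hodd : Odd (S : Subgroup G).index := Nat.odd_iff.2 (Nat.two_dvd_ne_zero.1 S.not_dvd_index)
  have hcen : ∀ w : X, (∀ x, x * w = w * x) → ι w ∈ centralizer ((S : Subgroup G) : Set G) := by
    intro w hw s hs
    obtain ⟨x, rfl⟩ := hsur s hs
    rw [← map_mul, hw, map_mul]
  have hz := hcen zz fun x => (f3 x).1
  have hc := hcen cc fun x => (f3 x).2.1
  have hcz := hcen (cc * zz) fun x => (f3 x).2.2
  have fixz : ∀ n ∈ normalizer ((S : Subgroup G) : Set G), n⁻¹ * ι zz * n = ι zz := by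
    intro n hn
    obtain ⟨y, hy⟩ := hsur (n⁻¹ * ι (1, DihedralGroup.r 1) * n)
      ((mem_normalizer_iff''.1 hn _).1 (hmem _))
    have h1 : ι (y * y) = n⁻¹ * ι zz * n := by
      rw [map_mul, hy, show zz = (1, DihedralGroup.r 1) * (1, DihedralGroup.r 1) by decide, map_mul]
      group
    rw [← h1, f1 y]
    intro h
    rw [h, map_one, eq_comm, mul_eq_one_iff_eq_inv, inv_mul_eq_iff_eq_mul, mul_inv_cancel,
      map_eq_one_iff ι hι] at h1
    exact absurd h1 (by decide)
  have burn : ∀ v w : X, ι v ∈ centralizer ((S : Subgroup G) : Set G) →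
      ι w ∈ centralizer ((S : Subgroup G) : Set G) → IsConj (ι v) (ι w) →
      ∃ n ∈ normalizer ((S : Subgroup G) : Set G), ι w = n⁻¹ * ι v * n := by
    intro v w hv hw h
    obtain ⟨g, hg⟩ := isConj_iff.1 h
    have := S.conj_eq_normalizer_conj_of_mem_centralizer (ι v) g⁻¹ hv (by rwa [inv_inv, hg])
    rwa [inv_inv, hg] at this
  have n1 : ¬ IsConj (ι zz) (ι cc) := fun h => by
    obtain ⟨n, hn, h⟩ := burn _ _ hz hc h
    rw [fixz n hn] at h
    exact absurd (hι h) (by decide)
  have n2 : ¬ IsConj (ι zz) (ι (cc * zz)) := fun h => by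
    obtain ⟨n, hn, h⟩ := burn _ _ hz hcz h
    rw [fixz n hn] at h
    exact absurd (hι h) (by decide)
  have n3 : ¬ IsConj (ι cc) (ι (cc * zz)) := fun h => by
    obtain ⟨n, hn, h⟩ := burn _ _ hc hcz h
    have h2 : n ^ 2 ∈ centralizer ({ι cc} : Set G) := by
      rw [mem_centralizer_singleton_iff]
      have h3 : (n ^ 2)⁻¹ * ι cc * n ^ 2 = ι cc := by
        calc _ = n⁻¹ * (n⁻¹ * ι cc * n) * n := by rw [sq]; group
          _ = n⁻¹ * ι (cc * zz) * n := by rw [← h]
          _ = (n⁻¹ * ι cc * n) * (n⁻¹ * ι zz * n) := by rw [map_mul]; group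
          _ = _ := by rw [← h, fixz n hn, ← map_mul]; congr 1
      calc _ = n ^ 2 * ((n ^ 2)⁻¹ * ι cc * n ^ 2) := by rw [h3]
        _ = _ := by group
    obtain ⟨m, hm⟩ := hodd.of_dvd_nat (relIndex_dvd_index_of_le
      (le_normalizer (H := (S : Subgroup G))))
    have h4 : n ^ (2 * m + 1) ∈ (S : Subgroup G) := by
      rw [← hm]
      exact pow_index_mem ((S : Subgroup G).subgroupOf (normalizer ((S : Subgroup G) : Set G)))
        ⟨n, hn⟩
    have h5 : n ^ (2 * m + 1) ∈ centralizer ({ι cc} : Set G) :=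
      mem_centralizer_singleton_iff.2 (hc _ h4)
    rw [pow_succ, pow_mul, mul_mem_cancel_left (pow_mem h2 m), mem_centralizer_singleton_iff] at h5
    rw [mul_assoc, ← h5, inv_mul_cancel_left] at h
    exact absurd (hι h) (by decide)
  have th : ∀ u (w : X), w * w = 1 → lamF u w ≠ 1 →
      ∃ x, lamF u x = 1 ∧ x * x = 1 ∧ x ≠ 1 ∧ IsConj (ι w) (ι x) := by
    intro u w hw h1
    have hw1 : w ≠ 1 := fun h => h1 (h ▸ (lam u).map_one)
    have hi : ((lam u).ker.map ι).relIndex S = 2 := by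
      rw [← hr, relIndex_map_map_of_injective _ _ hι, relIndex_top_right, index_ker,
        MonoidHom.range_eq_top.2, card_top]
      · simp
      · exact fun s => ⟨(s, 1), rfl⟩
    by_contra hc
    obtain ⟨M, -, hM, -⟩ := Transfer.thompson_transfer hodd hi (u := ι w) (by
      rw [orderOf_injective ι hι]; exact orderOf_eq_prime (by rw [sq, hw]) hw1) (by
      rintro g ⟨x, hx, e⟩
      refine hc ⟨x, hx, hι ?_, fun h => hw1 (hι ?_), isConj_iff.2 ⟨g, e.symm⟩⟩
      · rw [map_mul, e, map_one]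
        calc _ = g * ι (w * w) * g⁻¹ := by rw [map_mul]; group
          _ = 1 := by simp [hw]
      · rw [h, map_one, eq_comm, conj_eq_one_iff] at e
        rw [e, map_one])
    exact CIT.F.no_index_two hG M hM
  have cj : ∀ {x y : X}, (∃ g, g * x * g⁻¹ = y) → IsConj (ι x) (ι y) := by
    rintro x _ ⟨g, rfl⟩
    exact isConj_iff.2 ⟨ι g, by simp⟩
  have hw : Inv.WkCl (S : Subgroup G) (ι zz) := by
    refine ⟨hmem _, fun g hg => ?_⟩
    obtain ⟨v, hv⟩ := hsur _ hg
    have hzv : IsConj (ι zz) (ι v) := isConj_iff.2 ⟨g, hv.symm⟩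
    by_contra hne
    obtain ⟨u, hu⟩ := f2 v (hι (by
        rw [map_mul, hv, map_one]
        calc _ = g * ι (zz * zz) * g⁻¹ := by rw [map_mul]; group
          _ = 1 := by rw [show zz * zz = 1 by decide]; simp))
      (fun h => by
        rw [h, map_one, isConj_one_left, map_eq_one_iff ι hι] at hzv
        exact absurd hzv (by decide))
      (fun h => hne (by rw [← hv, h])) (fun h => n1 (h ▸ hzv)) (fun h => n2 (h ▸ hzv))
    obtain ⟨x, x1, x2, x3, x4⟩ := th u cc (by decide) (f4 u).1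
    obtain ⟨y, y1, y2, y3, y4⟩ := th u (cc * zz) (by decide) (f4 u).2
    rcases hu x y x1 y1 x2 y2 x3 y3 with rfl | rfl | h | h | h
    · exact n1 x4.symm
    · exact n2 y4.symm
    · exact n1 ((hzv.trans (cj h)).trans x4.symm)
    · exact n2 ((hzv.trans (cj h)).trans y4.symm)
    · exact n3 ((x4.trans (cj h)).trans y4.symm)
  have hO : oddCore G = ⊥ := by
    refine (IsSimpleGroup.eq_bot_or_eq_top_of_normal _ inferInstance).resolve_right fun h => ?_
    have h1 := Inv.odd_card_oddCore (G := G)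
    rw [h, card_top] at h1
    have h2 := h1.of_dvd_nat (card_subgroup_dvd_card (S : Subgroup G))
    rw [Nat.card_congr e.toEquiv] at h2
    simp [Nat.card_prod, DihedralGroup.nat_card] at h2
    exact absurd h2 (by decide)
  have hZ : ι zz ∈ center G := mem_center_iff.2 fun g => by
    have := Inv.zstar_elem hw g
    rw [hO, mem_bot, mul_inv_eq_one, mul_inv_eq_iff_eq_mul] at this
    exact this.symm
  rcases IsSimpleGroup.eq_bot_or_eq_top_of_normal (center G) inferInstance with h | h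
  · rw [h, mem_bot, map_eq_one_iff ι hι] at hZ
    exact absurd hZ (by decide)
  · exact hG ⟨⟨fun a b => (mem_center_iff.1 (h ▸ mem_top b : b ∈ center G) a)⟩⟩

end Cfsg.Agent.S3309
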