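import Mathlib
import Cfsg.Statements.S3310
import Cfsg.Agent.Inv.LR3

set_option autoImplicit false
open Cfsg

namespace Cfsg.Agent.S3310

open Subgroup Cfsg.Agent.GW Cfsg.Agent.LocalEven Cfsg.Agent.BG Cfsg.Agent.Gs Cfsg.Agent.GsC
  Cfsg.Agent.LR

theorem eqv {G Q : Type*} [Group G] [Finite G] [Group Q] {f : G →* Q} (ho : Odd (Nat.card f.ker))
    {A : Subgroup G} (hA : IsPGroup 2 A) : Nonempty (A ≃* A.map f) :=
  ⟨MulEquiv.ofBijective (f.subgroupMap A) ⟨(injective_iff_map_eq_one _).2 fun a h =>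
    Subtype.ext (inj_of_odd ho hA a.2 (congrArg Subtype.val h)), f.subgroupMap_surjective A⟩⟩

theorem lift {G Q : Type*} [Group G] [Finite G] [Group Q] [Finite Q] {f : G →* Q} (hU : UI G)
    (ho : Odd (Nat.card f.ker)) (hO : oOf (⊤ : Subgroup Q) = ⊥) (hf : Function.Surjective f)
    {S : Subgroup G} (hS : IsSylowIn 2 S ⊤) {Y L : Subgroup Q} (h : One (S.map f) Y L) :
    (pCore 2 G).map f = Y := by
  haveI := h.nL
  haveI := h.nY
  have YS : Y ≤ S.map f := h.eq.le.trans inf_le_left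
  have k : ∀ K ≤ S.map f, (K.comap f ⊓ S).map f = K := fun K hK => le_antisymm
    (map_le_iff_le_comap.2 inf_le_left) fun y hy => by
      obtain ⟨s, hs, rfl⟩ := hK hy
      exact ⟨s, ⟨hy, hs⟩, rfl⟩
  obtain ⟨E, e1, e2, e3⟩ := h.e8
  have e4 : ∀ e ∈ E.comap f ⊓ S, e * e = 1 := fun e he =>
    inj_of_odd ho hS.pgrp (mul_mem he.2 he.2) (by rw [map_mul, e2 _ he.1])
  have e5 : 8 ≤ Nat.card (E.comap f ⊓ S : Subgroup G) :=
    e3.trans (Nat.le_of_dvd Nat.card_pos ((congrArg (fun K : Subgroup Q => Nat.card K)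
      (k E e1)).symm.dvd.trans (card_map_dvd _ f)))
  have hN : f.ker ≤ 𝐍(S) := le_of_hyp e4 ho le_normalizer_of_normal (ne_bot_of_card (by omega))
    fun B h1 h2 c hc => hU.norm hS (h1.trans inf_le_right) (fun x hx =>
      conj_eq_of_cent hc.2 hx ▸ conj_mem_cj (h1 hx).2) (not_u1_four (fun e he => e4 e (h1 he)) (by
        have := card_mul_relIndex h1
        rw [h2] at this
        omega))
  haveI nA : (Y.comap f ⊓ S).Normal := ⟨fun a ha g => ⟨Normal.conj_mem inferInstance a ha.1 g, by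
    obtain ⟨s, hs, e⟩ := YS (Normal.conj_mem inferInstance a ha.1 g)
    obtain ⟨j, hj⟩ := isPGroup_iff_mem.1 hS.pgrp a ha.2
    refine mem_of_two_of_sup ho hN (k := j) ?_ (by rw [conj_pow, hj, mul_one, mul_inv_cancel])
    simpa using mul_mem (mem_sup_left (T := S) (show g * a * g⁻¹ * s⁻¹ ∈ f.ker by
      rw [MonoidHom.mem_ker, map_mul, map_inv, e, mul_inv_cancel])) (mem_sup_right hs)⟩⟩
  have h2 := Comp2.pCore_isPGroup (G := G) 2
  haveI := Normal.map (inferInstance : (pCore 2 G).Normal) f hf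
  exact le_antisymm (h.eq ▸ le_inf (map_mono (le_syl h2 hS)) (two_le_Cent h.pc (h2.map f)))
    (k Y YS ▸ map_mono (Comp2.le_pCore hS.pgrp.to_inf_right))

/-- Let G be a finite nonsolvable group; write O(G) for its largest normal subgroup of odd order and O₂(G) for its largest normal 2-subgroup. Suppose that every intersection of two distinct Sylow 2-subgroups of G has 2-rank at most 1, that some two distinct Sylow 2-subgroups of G/O(G) have a non-cyclic intersection, and that no Sylow 2-subgroup of G is a quaternion group, ordinary or generalized (of order 2^k ≥ 8). Then either (a) O₂(G) is a quaternion group, ordinary or generalized (of order 2^k ≥ 8), and G has a normal subgroup G₁ of odd index containing O₂(G)O(G) with G₁/O₂(G)O(G) isomorphic to PSL(2,2ⁿ) (n ≥ 2), a Suzuki group over the field with 2^(2m+1) elements (m ≥ 1), or PSU(3,2ⁿ) (n ≥ 2); or (b) G has a normal subgroup G₁ containing O(G), of index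 odd or twice an odd number, with G₁/O(G) isomorphic to the central product of two copies of SL(2,5) with amalgamated centres. -/
theorem result {G : Type*} [Group G] [Finite G] (hns : ¬ Group.IsSolvable G)
    (hI : ∀ S T : Sylow 2 G, S ≠ T → Cfsg.PRankLE 2 1 ↥((S : Subgroup G) ⊓ (T : Subgroup G)))
    (hnC : ∃ S T : Sylow 2 (G ⧸ Cfsg.oddCore G), S ≠ T ∧
      ¬ IsCyclic ↥((S : Subgroup (G ⧸ Cfsg.oddCore G)) ⊓ (T : Subgroup (G ⧸ Cfsg.oddCore G))))
    (hnQ : ∀ S : Sylow 2 G, ∀ n : ℕ, IsEmpty (↥(S : Subgroup G) ≃* QuaternionGroup (2 ^ (n + 1)))) :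
    (∃ (G₁ : Subgroup G) (_ : G₁.Normal) (_ : ((Cfsg.pCore 2 G ⊔ Cfsg.oddCore G).subgroupOf G₁).Normal),
      Odd G₁.index ∧ Cfsg.pCore 2 G ⊔ Cfsg.oddCore G ≤ G₁ ∧
      (∃ n : ℕ, Nonempty (↥(Cfsg.pCore 2 G) ≃* QuaternionGroup (2 ^ (n + 1)))) ∧
      ((∃ (n : ℕ) (F : Type) (_ : Field F) (_ : Fintype F), 2 ≤ n ∧ Fintype.card F = 2 ^ n ∧
          Nonempty (↥G₁ ⧸ (Cfsg.pCore 2 G ⊔ Cfsg.oddCore G).subgroupOf G₁ ≃* Matrix.ProjectiveSpecialLinearGroup (Fin 2) F)) ∨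
       (∃ (m : ℕ) (F : Type) (_ : Field F) (_ : Fintype F), 1 ≤ m ∧ Fintype.card F = 2 ^ (2 * m + 1) ∧
          Nonempty (↥G₁ ⧸ (Cfsg.pCore 2 G ⊔ Cfsg.oddCore G).subgroupOf G₁ ≃* ↥(Cfsg.Lie.Sz F (2 ^ (m + 1))))) ∨
       (∃ (n : ℕ) (F : Type) (_ : Field F) (_ : Fintype F), 2 ≤ n ∧ Fintype.card F = 4 ^ n ∧
          Nonempty (↥G₁ ⧸ (Cfsg.pCore 2 G ⊔ Cfsg.oddCore G).subgroupOf G₁ ≃* Cfsg.PSU 3 F (2 ^ n))))) ∨
    (∃ (G₁ : Subgroup G) (_ : G₁.Normal) (_ : ((Cfsg.oddCore G).subgroupOf G₁).Normal),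
      (Odd G₁.index ∨ ∃ k : ℕ, Odd k ∧ G₁.index = 2 * k) ∧ Cfsg.oddCore G ≤ G₁ ∧
      ∃ (Z : Subgroup (Matrix.SpecialLinearGroup (Fin 2) (ZMod 5) × Matrix.SpecialLinearGroup (Fin 2) (ZMod 5))) (_ : Z.Normal),
        Z = Subgroup.zpowers ((-1 : Matrix.SpecialLinearGroup (Fin 2) (ZMod 5)), (-1 : Matrix.SpecialLinearGroup (Fin 2) (ZMod 5))) ∧
        Nonempty (↥G₁ ⧸ (Cfsg.oddCore G).subgroupOf G₁ ≃*
          (Matrix.SpecialLinearGroup (Fin 2) (ZMod 5) × Matrix.SpecialLinearGroup (Fin 2) (ZMod 5)) ⧸ Z)) := by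
  have hU : UI G := fun S T hS hT h => by
    obtain ⟨S, rfl⟩ := hS.exists_sylow_top
    obtain ⟨T, rfl⟩ := hT.exists_sylow_top
    exact u1_of_rank hS.pgrp.to_inf_left (hI S T fun e => h (e ▸ rfl))
  have hs := QuotientGroup.mk'_surjective (oddCore G)
  have ho : Odd (Nat.card (oddCore G)) := Nat.coprime_two_right.1 (Comp2.pPrimeCore_coprime 2)
  have ho' : Odd (Nat.card (QuotientGroup.mk' (oddCore G)).ker) := by rwa [QuotientGroup.ker_mk']
  have hO' : oddCore (G ⧸ oddCore G) = ⊥ := Core.pPrimeCore_quotient_pPrimeCore (G := G) 2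
  have hO : oOf (⊤ : Subgroup (G ⧸ oddCore G)) = ⊥ := le_bot_iff.1 (by
    haveI := normalizer_eq_top_iff.1 (top_le_iff.1 (le_normalizer_oOf (⊤ : Subgroup (G ⧸ oddCore G))))
    exact hO' ▸ Comp2.le_pPrimeCore (Nat.coprime_two_right.2 (odd_oOf _)))
  have hX := hU.quot _ hs ho'
  have hn : ¬ Group.IsSolvable (G ⧸ oddCore G) := fun _ => by
    haveI := solv_of_odd ho
    exact hns (Group.isSolvable_of_ker_le_range (oddCore G).subtype
      (QuotientGroup.mk' (oddCore G)) (by simp))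
  obtain ⟨U, T, hne, hc⟩ := hnC
  have hS := isSylowIn_top U
  obtain ⟨L, hL⟩ := exists_pc hX hO hn
  have hk : ∀ M : Subgroup (G ⧸ oddCore G), oddCore G ≤ M.comap (QuotientGroup.mk' (oddCore G)) :=
    fun M => (QuotientGroup.ker_mk' _).ge.trans (ker_le_comap _ _)
  by_cases uq : ∀ L', PC ⊤ L' → L' = L
  swap
  · push Not at uq
    obtain ⟨L', hL', hne⟩ := uq
    have h : Tw U L L' := ⟨hX, hO, hS, hL, hL', hne.symm⟩
    haveI := h.normal
    obtain ⟨Z, _, z1, ⟨e⟩⟩ := h.iso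
    refine .inr ⟨(L ⊔ L').comap (QuotientGroup.mk' (oddCore G)), inferInstance, inferInstance,
      by rw [index_comap_of_surjective _ hs]; exact h.index, hk _, Z, inferInstance, z1,
      ⟨((QuotientGroup.quotientMulEquivOfEq (Subgroup.ext fun x =>
        (QuotientGroup.eq_one_iff (N := oddCore G) x.1).symm.trans ⟨fun h => Subtype.ext h,
          fun h => congrArg Subtype.val h⟩)).trans (QuotientGroup.quotientKerEquivOfSurjective _
            ((QuotientGroup.mk' _).subgroupComap_surjective_of_surjective (L ⊔ L') hs))).trans e⟩⟩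
  obtain ⟨S, h1, -, h2⟩ := lift_syl _ hs hS (D := ⊥) .of_bot bot_le
  obtain ⟨S, rfl⟩ := h1.exists_sylow_top
  have h := one hX hO hO' hL uq hS (isSylowIn_top T) (fun e => hne (Sylow.ext e)) hc fun u => by
    obtain ⟨a, b, n, q⟩ := u.gq hS.pgrp (not_cyc hS (not_solv_top hn))
    obtain ⟨e⟩ := gq_equiv q
    obtain ⟨e'⟩ := eqv ho' h1.pgrp
    exact (hnQ S n).false (e'.trans ((MulEquiv.subgroupCongr h2).trans e))
  generalize (U : Subgroup (G ⧸ oddCore G)) ⊓ Cent L = Y at h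
  haveI := h.nL
  haveI := h.nY
  haveI := hL.as.simple
  have h3 := lift hU ho' hO hs h1 (h2.symm ▸ h)
  have h4 : pCore 2 G ⊔ oddCore G = Y.comap (QuotientGroup.mk' (oddCore G)) := by
    rw [← h3, comap_map_eq, QuotientGroup.ker_mk']
  have YC : Y ≤ Cent L := h.eq.le.trans inf_le_right
  let φ := ((ph L).comp ((QuotientGroup.mk' (oddCore G)).comp
    ((Y ⊔ L).comap (QuotientGroup.mk' (oddCore G))).subtype)).codRestrict (im L L) fun x =>
      (sup_le (fun y hy => mem_comap.2 (ph_one.2 (YC hy) ▸ one_mem _)) fun l hl =>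
        pr_mem_im hl (nm l) : Y ⊔ L ≤ (im L L).comap (ph L)) x.2
  have φs : Function.Surjective φ := fun v => by
    obtain ⟨l, hl, e⟩ := ex_ph v.2
    obtain ⟨g, rfl⟩ := hs l
    exact ⟨⟨g, mem_sup_right hl⟩, Subtype.ext e⟩
  have φk : (pCore 2 G ⊔ oddCore G).subgroupOf _ = φ.ker := Subgroup.ext fun x => by
    rw [h4]
    refine ⟨fun k => Subtype.ext (ph_one.2 (YC k)), fun k => ?_⟩
    obtain ⟨y, hy, l, hl, e⟩ := (mem_sup_iff_of_le_normalizer' le_normalizer_of_normal).1 x.2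
    have k1 : y * l ∈ Cent L := e ▸ ph_one.1 (congrArg Subtype.val k)
    have k2 : l ∈ Cent L := by simpa using mul_mem (inv_mem (YC hy)) k1
    exact (e ▸ mul_mem hy (h.eq.ge ⟨(ZL hO hL (sylow_inf_sn hS hL.sn) ⟨hl, k2⟩).1, k2⟩) :
      QuotientGroup.mk' (oddCore G) x ∈ Y)
  have e := (QuotientGroup.quotientMulEquivOfEq φk).trans
    (QuotientGroup.quotientKerEquivOfSurjective φ φs)
  obtain ⟨a, b, n, q⟩ := h.gq
  obtain ⟨e1⟩ := gq_equiv q
  obtain ⟨e2⟩ := eqv ho' (Comp2.pCore_isPGroup (G := G) 2)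
  refine .inl ⟨(Y ⊔ L).comap (QuotientGroup.mk' (oddCore G)), inferInstance, inferInstance, ?_,
    h4 ▸ comap_mono le_sup_left, ⟨n, ⟨e2.trans ((MulEquiv.subgroupCongr h3).trans e1)⟩⟩, ?_⟩
  · rw [index_comap_of_surjective _ hs]
    exact Nat.not_even_iff_odd.1 fun e => hS.not_dvd_of_le h.le
      (by rw [relIndex_top_right]; exact even_iff_two_dvd.1 e)
  rcases se_cases h.se with ⟨F, _, _, n, h5, h6, ⟨e'⟩⟩ | ⟨F, _, _, n, h5, h6, ⟨e'⟩⟩ |
    ⟨n, F, _, _, h5, h6, ⟨e'⟩⟩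
  · exact .inl ⟨n, F, _, _, h5, h6, ⟨e.trans e'⟩⟩
  · exact .inr (.inl ⟨n, F, _, _, h5, h6, ⟨e.trans e'⟩⟩)
  · exact .inr (.inr ⟨n, F, _, _, h5, h6, ⟨e.trans e'⟩⟩)

end Cfsg.Agent.S3310
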