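import Mathlib
import Cfsg.Statements.S3333
import Mathlib
import Cfsg.Agent.Inv.D9e
import Cfsg.Agent.Ab2.S6

set_option autoImplicit false
open Cfsg

namespace Cfsg.Agent.S3333

open Subgroup Cfsg.Agent.LocalEven Cfsg.Agent.FGS Cfsg.Agent.D9

/-- Let G be a finite group with a Sylow 3-subgroup S of order 9 that is its own centralizer, with N_G(S)/S dihedral of order 8, and such that C_G(x) ≤ N_G(S) for every non-identity x in S. Then S is normal in G or G is isomorphic to the symmetric group of degree 6. -/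
theorem result {G : Type*} [Group G] [Finite G]
    (P : Sylow 3 G) (S : Subgroup G) (hSP : S = P) (hcard : Nat.card S = 9)
    (hC : Subgroup.centralizer (S : Set G) = S)
    (eN : Subgroup.normalizer (S : Set G) ⧸ S.subgroupOf (Subgroup.normalizer (S : Set G)) ≃* DihedralGroup 4)
    (hcent : ∀ x ∈ S, x ≠ 1 → Subgroup.centralizer ({x} : Set G) ≤ Subgroup.normalizer (S : Set G)) :
    S.Normal ∨ Nonempty (G ≃* Equiv.Perm (Fin 6)) := by
  have tl : TL S := ⟨hSP ▸ isSylowIn_top P, hC.ge, hcent⟩
  clear hSP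
  have h8 : S.relIndex (normalizer (S : Set G)) = 8 := by
    rw [relIndex, index, Nat.card_congr eN.toEquiv, DihedralGroup.nat_card]
  have h72 : Nat.card (normalizer (S : Set G)) = 72 := by
    rw [← (S.subgroupOf (normalizer (S : Set G))).card_mul_index,
      Nat.card_congr (subgroupOfEquivOfLe le_normalizer).toEquiv, hcard, ← relIndex, h8]
  have hexp : ∀ x ∈ S, x ^ 3 = 1 := fun x hx => by
    have d : orderOf (⟨x, hx⟩ : S) ∣ 3 ^ 2 := (hcard ▸ orderOf_dvd_natCard _ : _ ∣ 9)
    obtain ⟨i, hi, e⟩ := (Nat.dvd_prime_pow Nat.prime_three).1 d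
    by_cases i2 : i = 2
    · haveI : IsCyclic S := isCyclic_of_orderOf_eq_card _ (by rw [e, i2, hcard]; rfl)
      have := relIndex_centralizer_normalizer_dvd S
      rw [hC, h8, IsCyclic.card_mulAut, hcard] at this
      exact absurd this (by decide)
    · rw [← orderOf_dvd_iff_pow_eq_one, ← orderOf_mk x hx, e]
      exact pow_dvd_pow 3 (show i ≤ 1 by omega)
  have h : SC9 S := ⟨tl, hcard, hexp, hC.le⟩
  obtain ⟨Q⟩ : Nonempty (Sylow 2 (normalizer (S : Set G))) := inferInstance
  have c8 := Perm.sylow_card_eq Q (a := 3) (m := 9) h72 (by norm_num)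
  let π := eN.toMonoidHom.comp ((QuotientGroup.mk' _).comp (Q : Subgroup _).subtype)
  have hπ : Function.Injective π := (injective_iff_map_eq_one _).2 fun x hx => by
    have h1 : (x : normalizer (S : Set G)) ∈ S.subgroupOf _ :=
      (QuotientGroup.eq_one_iff _).1 (eN.injective (hx.trans eN.map_one.symm))
    have h2 : orderOf x ∣ 3 := orderOf_dvd_of_pow_eq_one (Subtype.ext (Subtype.ext (hexp _ h1)))
    exact orderOf_eq_one_iff.1 (Nat.eq_one_of_dvd_coprimes (by norm_num : Nat.Coprime 3 (2 ^ 3))
      h2 (c8 ▸ orderOf_dvd_natCard x))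
  let e := MulEquiv.ofBijective π (hπ.bijective_of_nat_card_le (by
    rw [c8, DihedralGroup.nat_card]; rfl))
  obtain ⟨a, b, s, w, d⟩ := mkD8 tl hcard hexp hC.le h72
    ((normalizer (S : Set G)).subtype.comp ((Q : Subgroup _).subtype.comp
      e.symm.toMonoidHom)) (Subtype.val_injective.comp (Subtype.val_injective.comp e.symm.injective))
    fun x => (e.symm x).1.2
  obtain ⟨K, hK⟩ := d.index_two
  haveI := normal_of_index_eq_two hK
  have hT : S ≤ K := fun x hx => by
    have := pow_mem (sq_mem_of_index_two hK x) 2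
    rwa [← pow_mul, show 2 * 2 = 3 + 1 from rfl, pow_succ, hexp x hx, one_mul] at this
  have hs := h.sup (L := K) fun e => d.a1 (mem_bot.1 (e ▸ hT d.ha))
  have e1 := index_dvd hs
  have e2 := K.card_mul_index
  have e3 := (normalizer (S : Set G)).card_mul_index
  have e4 : Nat.card (normalizer (S.subgroupOf K : Set K)) = 36 := by
    rw [← subgroupOf_normalizer_eq hT, ← inf_subgroupOf_left,
      Nat.card_congr (subgroupOfEquivOfLe inf_le_left).toEquiv]
    rw [hK, ← e1, ← e3, h72] at e2
    refine Nat.eq_of_mul_eq_mul_left (Nat.pos_of_ne_zero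
      (index_ne_zero_of_finite (H := normalizer (S : Set G)))) ?_
    omega
  have n3 := d.nb d.sa
  rcases (h.sub hT).n36' e4 (a := ⟨a, hT d.ha⟩) (b := ⟨b, hT d.hb⟩) d.ha d.hb
    (fun e => d.a1 (congrArg Subtype.val e)) (fun e => d.b1 (congrArg Subtype.val e))
    (fun e => n3.1 (congrArg Subtype.val e)) (fun e => n3.2 (congrArg Subtype.val e))
    (fun y hy hc => by
      simp only [Subtype.ext_iff]
      refine d.cls hy ?_
      rcases hc with c | c
      · exact K.subtype.map_isConj c
      · exact (isConj_iff.2 ⟨_, d.wa⟩).trans (K.subtype.map_isConj c)) with k | ⟨⟨φ⟩⟩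
  · left
    rw [← subgroupOf_normalizer_eq hT, subgroupOf_eq_top] at k
    exact normalizer_eq_top_iff.1 (by rw [← hs, sup_eq_right.2 k])
  · refine Or.inr (Ab2.iso_S6 K hK φ (eq_bot_iff.2 fun x hx => ?_) (t := s) (fun m => ?_)
      (hT d.ha) (orderOf_eq_prime (hexp a d.ha) d.a1) d.as.symm.eq)
    · have xK : x ∈ K := hT (hC.le (centralizer_le (SetLike.coe_subset_coe.2 hT) hx))
      have : φ ⟨x, xK⟩ ∈ center (alternatingGroup (Fin 6)) := mem_center_iff.2 fun y => by
        obtain ⟨y, rfl⟩ := φ.surjective y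
        rw [← map_mul, ← map_mul]
        exact congrArg φ (Subtype.ext (hx y y.2))
      rw [alternatingGroup.center_eq_bot (by simp), mem_bot, MulEquiv.map_eq_one_iff] at this
      exact congrArg Subtype.val this
    · exact no6 φ ⟨a * s, mul_mem (hT d.ha) m⟩ (by rw [orderOf_mk, d.ord6])

end Cfsg.Agent.S3333
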