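import Mathlib
import Cfsg.Statements.S3376
import Cfsg.Agent.Perm.Small2
import Cfsg.Agent.Perm.PrimeDegree
import Cfsg.Agent.RankOne.Nilp

set_option autoImplicit false
open Cfsg

namespace Cfsg.Agent.S3376

open Subgroup MulAction Cfsg.Agent.Perm
open scoped Pointwise IsMulCommutative

theorem ct (c : Equiv.Perm (Fin 9)) (h : c ^ 3 = 1) (h2 : ∀ x, c x ≠ x) : c.cycleType = {3, 3, 3} := by
  haveI : Fact (Nat.Prime 3) := ⟨Nat.prime_three⟩
  have h1 := Equiv.Perm.cycleType_of_pow_prime_eq_one h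
  have h3 := c.sum_cycleType
  rw [Finset.eq_univ_iff_forall.2 fun x => Equiv.Perm.mem_support.2 (h2 x), h1] at h3
  simp only [Multiset.sum_replicate, smul_eq_mul, Finset.card_univ, Fintype.card_fin] at h3
  rw [h1, show c.cycleType.card = 3 by omega]; rfl


/-- Let G be a group of order 162 = 3⁴·2 with Sylow 3-subgroup S and Sylow 2-subgroup T, having an elementary abelian normal subgroup J of order 27, such that Z = Z(S) has order 3, Z centralizes T, and C_S(T) ≠ S. Then G is isomorphic to the centralizer in Sym(9) of a product of three disjoint 3-cycles. -/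
theorem result {G : Type*} [Group G] [Finite G] (hG : Nat.card G = 162)
    (S : Sylow 3 G) (T : Sylow 2 G) (J : Subgroup G) [hJn : J.Normal] (hJcomm : IsMulCommutative J)
    (hJexp : ∀ a ∈ J, a ^ 3 = 1) (hJcard : Nat.card J = 27)
    (Z : Subgroup G) (hZ : Z = (S : Subgroup G) ⊓ Subgroup.centralizer ((S : Subgroup G) : Set G)) (hZcard : Nat.card Z = 3)
    (hZT : Z ≤ Subgroup.centralizer ((T : Subgroup G) : Set G))
    (hST : (S : Subgroup G) ⊓ Subgroup.centralizer ((T : Subgroup G) : Set G) ≠ S) :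
    Nonempty (G ≃* Subgroup.centralizer ({Equiv.swap (0 : Fin 9) 1 * Equiv.swap 1 2 * Equiv.swap 3 4 * Equiv.swap 4 5 * Equiv.swap 6 7 * Equiv.swap 7 8} : Set (Equiv.Perm (Fin 9)))) := by
  classical
  haveI : Fact (Nat.Prime 3) := ⟨Nat.prime_three⟩
  haveI : Fact (Nat.Prime 2) := ⟨Nat.prime_two⟩
  have hS : Nat.card S = 81 := sylow_card_eq S (a := 4) (m := 2) (by rw [hG]; norm_num) (by norm_num)
  have hT : Nat.card T = 2 := sylow_card_eq T (a := 1) (m := 81) (by rw [hG]; norm_num) (by norm_num)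
  have hSi : (S : Subgroup G).index = 2 := by
    have := (S : Subgroup G).card_mul_index
    rw [hG, show Nat.card (S : Subgroup G) = 81 from hS] at this; omega
  haveI hSn := (S : Subgroup G).normal_of_index_eq_two hSi
  have hJS : J ≤ S := (IsPGroup.of_card (p := 3) (n := 3) hJcard).le_sylow_of_normal S
  obtain ⟨z, hzo, hZz⟩ := exists_zpowers_eq_of_card_prime Z hZcard
  have hzZ : z ∈ Z := hZz ▸ mem_zpowers z
  have hz1 : z ≠ 1 := fun e => by rw [e, orderOf_one] at hzo; omega
  have key : ∀ N : Subgroup G, N.Normal → N ⊓ S ≠ ⊥ → z ∈ N := fun N hN h => by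
    haveI := S.isPGroup'.isNilpotent
    obtain ⟨⟨w, hw1, hw2⟩, hw⟩ := ne_bot_iff_exists_ne_one.1 (RankOne.inf_center_ne_bot (hN.subgroupOf S)
      (fun e => h (by rw [← subgroupOf_map_subtype, e, Subgroup.map_bot])))
    have hwZ : w.1 ∈ Z := hZ ▸ ⟨w.2, fun s hs => congrArg Subtype.val (mem_center_iff.1 hw2 ⟨s, hs⟩)⟩
    have hw3 : w.1 ≠ 1 := fun e => hw (Subtype.ext (Subtype.ext e))
    have := eq_of_mem_of_card_prime (p := 3) hZcard (Q := zpowers w.1)
      (by rw [Nat.card_zpowers, orderOf_eq_of_mem_card_prime hZcard hwZ hw3]) hwZ (mem_zpowers _) hw3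
    exact zpowers_le.2 (show w.1 ∈ N from hw1) (this ▸ hzZ)
  have hzJ : z ∈ J := key J hJn (by
    rw [inf_eq_left.2 hJS]; intro e; rw [e] at hJcard; simp at hJcard)
  have hzc : ∀ g, g * z = z * g := by
    have h1 : (S : Subgroup G) ≤ centralizer {z} := fun s hs =>
      mem_centralizer_singleton_iff.2 ((hZ.le hzZ).2 s hs)
    have h2 : (T : Subgroup G) ≤ centralizer {z} := fun s hs => mem_centralizer_singleton_iff.2 (hZT hzZ s hs)
    have h3 := card_dvd_of_le h1
    have h4 := card_dvd_of_le h2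
    have h5 := (centralizer {z}).card_le_card_group
    have h6 : 0 < Nat.card (centralizer ({z} : Set G)) := Nat.card_pos
    rw [show Nat.card (S : Subgroup G) = 81 from hS] at h3
    rw [show Nat.card (T : Subgroup G) = 2 from hT] at h4
    have : centralizer {z} = ⊤ := eq_top_of_card_eq _ (by omega)
    exact fun g => mem_centralizer_singleton_iff.1 (this ▸ mem_top g)
  obtain ⟨t, hto, hTt⟩ := exists_zpowers_eq_of_card_prime (T : Subgroup G) hT

  have ht2 : t * t = 1 := by rw [← sq, ← hto, pow_orderOf_eq_one]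
  have hti : t⁻¹ = t := inv_eq_of_mul_eq_one_left ht2
  obtain ⟨φ, hφ⟩ := CommGroup.exists_apply_ne_one_of_hasEnoughRootsOfUnity J ℂ (a := ⟨z, hzJ⟩)
    (fun e => hz1 (congrArg Subtype.val e))
  let τ : J →* J := (MulAut.conjNormal t : MulAut J).toMonoidHom
  let ψ : J →* ℂˣ := φ * φ.comp τ
  have hψ3 : ∀ x : J, ∀ χ : J →* ℂˣ, χ x ^ 3 = 1 := fun x χ => by
    rw [← map_pow, show x ^ 3 = 1 from Subtype.ext (hJexp x x.2), map_one]
  have hψz : ψ ⟨z, hzJ⟩ ≠ 1 := fun e => hφ (by
    have h1 : τ ⟨z, hzJ⟩ = ⟨z, hzJ⟩ := Subtype.ext (by simp [τ, hzc t])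
    have h2 : φ ⟨z, hzJ⟩ * φ ⟨z, hzJ⟩ = 1 := by simpa [ψ, h1] using e
    have h3 := hψ3 ⟨z, hzJ⟩ φ
    rwa [pow_succ, sq, h2, one_mul] at h3)
  have hψi : ψ.ker.index = 3 := by
    have h1 : ψ.range ≤ rootsOfUnity 3 ℂ := by rintro _ ⟨x, rfl⟩; exact hψ3 x ψ
    have h2 := (card_le_of_le h1).trans (card_rootsOfUnity ℂ 3)
    have h3 := ψ.ker.index_dvd_card
    have h4 : ψ.ker.index ≠ 1 := fun e => hψz (show _ ∈ ψ.ker from index_eq_one.1 e ▸ mem_top _)
    rw [← index_ker] at h2
    rw [hJcard] at h3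
    have h5 : ψ.ker.index ≠ 0 := index_ne_zero_of_finite
    generalize ψ.ker.index = n at *
    interval_cases n <;> simp_all
  set K := ψ.ker.map J.subtype with hK
  have hKc : Nat.card K = 9 := by
    have := ψ.ker.card_mul_index
    rw [hψi, hJcard] at this
    rw [card_map_of_injective J.subtype_injective]; omega
  have hzK : z ∉ K := by
    rintro ⟨y, hy, e⟩
    exact hψz (by rw [← show y = ⟨z, hzJ⟩ from Subtype.ext e]; exact hy)
  have htK : ∀ k ∈ K, t * k * t⁻¹ ∈ K := by
    rintro _ ⟨y, hy, rfl⟩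
    refine ⟨τ y, ?_, rfl⟩
    have h1 : τ (τ y) = y := Subtype.ext (by
      show t * (t * y * t⁻¹) * t⁻¹ = y
      rw [hti, ← mul_assoc, ← mul_assoc, ht2, one_mul, mul_assoc, ht2, mul_one])
    have h2 : φ y * φ (τ y) = 1 := hy
    show φ (τ y) * φ (τ (τ y)) = 1
    rw [h1, mul_comm, h2]
  have hTK : (T : Subgroup G) ≤ normalizer (K : Set G) := by
    rw [hTt, zpowers_le]
    exact mem_normalizer_fintype htK
  set H := (T : Subgroup G) ⊔ K with hH
  have hTS : Disjoint (T : Subgroup G) S := IsPGroup.disjoint_of_ne 2 3 (by norm_num) _ _ T.isPGroup' S.isPGroup'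
  have hKS : K ≤ S := (map_subtype_le _).trans hJS
  have hHS : H ⊓ S ≤ K := by
    rintro x ⟨hx, hxS⟩
    have := coe_mul_of_left_le_normalizer_right _ _ hTK
    obtain ⟨a, ha, b, hb, rfl⟩ : x ∈ ((T : Subgroup G) : Set G) * (K : Set G) := this ▸ hx
    have : a = 1 := disjoint_def.1 hTS ha ((mul_mem_cancel_right (hKS hb)).1 hxS)
    simpa [this] using hb
  have hHi : H.index = 9 := by
    have h1 : K.relIndex H = 2 := by
      rw [← le_antisymm hHS (le_inf le_sup_right hKS), inf_relIndex_left]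
      have h2 := hSi ▸ (S : Subgroup G).relIndex_dvd_index_of_normal H
      refine ((Nat.dvd_prime Nat.prime_two).1 h2).resolve_left fun e => ?_
      have h3 : t = 1 := disjoint_def.1 hTS (hTt ▸ mem_zpowers t)
        (relIndex_eq_one.1 e (mem_sup_left (hTt ▸ mem_zpowers t)))
      rw [h3, orderOf_one] at hto; omega
    have h2 := relIndex_mul_index (show K ≤ H from le_sup_right)
    have h3 := K.card_mul_index
    rw [hKc, hG] at h3
    rw [h1] at h2; omega
  have hzH : z ∉ H := fun h => hzK (hHS ⟨h, hJS hzJ⟩)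
  have hcore : H.normalCore = ⊥ := by
    by_contra hc
    have h1 : H.normalCore ⊓ S = ⊥ := by
      by_contra h
      exact hzH (H.normalCore_le (key _ inferInstance h))
    have h2 : Nat.card H.normalCore ∣ 2 := by
      have := hSi ▸ (S : Subgroup G).relIndex_dvd_index_of_normal H.normalCore
      rwa [← inf_relIndex_left, h1, relIndex_bot_left] at this
    have h3 : Nat.card H.normalCore = 2 :=
      ((Nat.dvd_prime Nat.prime_two).1 h2).resolve_left fun e => hc (card_eq_one.1 e)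
    have h4 : H.normalCore = T := eq_of_le_of_card_ge
      ((IsPGroup.of_card (p := 2) (n := 1) h3).le_sylow_of_normal T) (by rw [h3]; exact hT.le)
    refine hST (inf_eq_left.2 fun s hs a ha => ?_)
    exact commute_of_normal_of_disjoint _ _ inferInstance hSn (disjoint_iff.2 h1) a s (h4 ▸ ha) hs
  obtain ⟨e⟩ : Nonempty ((G ⧸ H) ≃ Fin 9) := ⟨Finite.equivFinOfCardEq hHi⟩
  let f : G →* Equiv.Perm (Fin 9) := e.permCongrHom.toMonoidHom.comp (toPermHom G (G ⧸ H))
  have hf : Function.Injective f := e.permCongrHom.injective.comp (by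
    rw [← MonoidHom.ker_eq_bot_iff, ← normalCore_eq_ker, hcore])
  set c : Equiv.Perm (Fin 9) := Equiv.swap (0 : Fin 9) 1 * Equiv.swap 1 2 * Equiv.swap 3 4 * Equiv.swap 4 5 *
    Equiv.swap 6 7 * Equiv.swap 7 8 with hc
  have hc1 : c.cycleType = {3, 3, 3} := ct c (by decide) (by decide)
  have hc2 : (f z).cycleType = {3, 3, 3} := ct _ (by rw [← map_pow, hJexp z hzJ, map_one]) fun x hx => by
    obtain ⟨y, rfl⟩ := e.surjective x
    obtain ⟨g, rfl⟩ := QuotientGroup.mk_surjective y
    have h1 : ((z * g : G) : G ⧸ H) = g := by simpa [f] using hx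
    rw [← hzc, eq_comm, QuotientGroup.eq, inv_mul_cancel_left] at h1
    exact hzH h1
  obtain ⟨u, hu⟩ := isConj_iff.1 (Equiv.Perm.isConj_iff_cycleType_eq.2 (hc2.trans hc1.symm))
  let F : G →* centralizer ({c} : Set (Equiv.Perm (Fin 9))) :=
    ((MulAut.conj u).toMonoidHom.comp f).codRestrict _ fun g => mem_centralizer_singleton_iff.2 (by
      rw [← hu]
      show MulAut.conj u (f g) * MulAut.conj u (f z) = MulAut.conj u (f z) * MulAut.conj u (f g)
      rw [← map_mul, ← map_mul, ← map_mul, ← map_mul, hzc])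
  refine ⟨MulEquiv.ofBijective F ((Nat.bijective_iff_injective_and_card F).2 ⟨fun a b h => ?_, ?_⟩)⟩
  · exact hf ((MulAut.conj u).injective (congrArg Subtype.val h))
  · rw [hG, Equiv.Perm.nat_card_centralizer, hc1]; decide

end Cfsg.Agent.S3376
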