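import Mathlib
import Cfsg.Statements.S3389
import Cfsg.Agent.Perm.Derang
import Cfsg.Agent.Perm.PFixed

set_option autoImplicit false
open Cfsg

namespace Cfsg.Agent.S3389

open MulAction

theorem smul_mem_fixedBy {G Ω : Type*} [Group G] [MulAction G Ω] {g z : G} (h : g * z = z * g) {x : Ω}
    (hx : g • x = x) : g • z • x = z • x := by rw [← mul_smul, h, mul_smul, hx]

/-- Let G be a finite group acting faithfully and transitively on a finite set Ω with fixity k ≥ 1: every non-identity element fixes at most k points and some non-identity element fixes exactly k points. Then |Z(G)| divides k; if k = 2 then |G| is even; and for every prime p > k dividing |G| and every point α, either p does not divide |G_α| or G_α contains a Sylow p-subgroup of G. -/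
theorem result {G : Type*} [Group G] [Finite G] {Ω : Type*} [Fintype Ω] [MulAction G Ω] [FaithfulSMul G Ω]
    (htr : MulAction.IsPretransitive G Ω) (k : ℕ) (hk : 1 ≤ k)
    (hfix : ∀ g : G, g ≠ 1 → Nat.card (MulAction.fixedBy Ω g) ≤ k) (hex : ∃ g : G, g ≠ 1 ∧ Nat.card (MulAction.fixedBy Ω g) = k) :
    Nat.card (Subgroup.center G) ∣ k ∧ (k = 2 → 2 ∣ Nat.card G) ∧
      ∀ (p : ℕ), p.Prime → k < p → p ∣ Nat.card G → ∀ α : Ω,
        ¬ p ∣ Nat.card (MulAction.stabilizer G α) ∨ ¬ p ∣ (MulAction.stabilizer G α).index := by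
  classical
  obtain ⟨g, hg1, hg⟩ := hex
  refine ⟨?_, ?_, ?_⟩
  · let T : SubMulAction (Subgroup.center G) Ω := ⟨fixedBy Ω g, fun z x hx =>
      smul_mem_fixedBy (Subgroup.mem_center_iff.mp z.2 g) hx⟩
    rw [← hg]
    refine Perm.card_dvd_of_semiregular (G := Subgroup.center G) (α := T) fun z hz a ha => hz ?_
    refine Subtype.ext (Perm.eq_one_of_commute_transitive (congrArg Subtype.val ha) fun b => ?_)
    obtain ⟨u, hu⟩ := exists_smul_eq G a.1 b
    exact ⟨u, hu, (Subgroup.mem_center_iff.mp z.2 u).symm⟩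
  · rintro rfl
    obtain ⟨a, b, hab, e⟩ := Set.ncard_eq_two.mp hg
    have hfx : ∀ z : G, z ≠ 1 → z • a = a → z • b = b → ∀ x, z • x = x → x = a ∨ x = b := by
      intro z hz ha hb x hx
      by_contra hc
      push Not at hc
      have : ({a, b, x} : Set Ω).ncard ≤ (fixedBy Ω z).ncard := Set.ncard_le_ncard (by
        rintro y (rfl | rfl | rfl) <;> assumption)
      rw [Set.ncard_eq_three.mpr ⟨a, b, x, hab, hc.1.symm, hc.2.symm, rfl⟩] at this
      exact absurd (this.trans (hfix z hz)) (by decide)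
    have hga : g • a = a := (show a ∈ fixedBy Ω g by rw [e]; simp)
    have hgb : g • b = b := (show b ∈ fixedBy Ω g by rw [e]; simp)
    obtain ⟨p, hp, hd⟩ := Nat.exists_prime_and_dvd (n := Nat.card (stabilizer (stabilizer G a) b))
      ((Subgroup.one_lt_card_iff_ne_bot _).mpr (Subgroup.ne_bot_iff_exists_ne_one.mpr
        ⟨⟨⟨g, hga⟩, hgb⟩, fun e => hg1 (congrArg (fun x => x.1.1) e)⟩)).ne'
    haveI := Fact.mk hp
    obtain ⟨x, hx⟩ := exists_prime_orderOf_dvd_card' p hd
    have hx1 : x.1 ≠ 1 := fun e => by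
      rw [show x = 1 from Subtype.ext e, orderOf_one] at hx
      exact hp.one_lt.ne hx
    obtain ⟨P, hP⟩ := (Perm.isPGroup_zpowers_of_pow (p := p) (g := x.1) (k := 1) (by
      rw [pow_one, ← hx, ← Subgroup.coe_pow, pow_orderOf_eq_one]; rfl)).exists_le_sylow
    have hxP := hP (Subgroup.mem_zpowers _)
    haveI : Nontrivial (P : Subgroup (stabilizer G a)) := ⟨⟨_, hxP⟩, 1, fun e => hx1 (congrArg Subtype.val e)⟩
    haveI := P.2.center_nontrivial
    obtain ⟨z, hz⟩ := exists_ne (1 : Subgroup.center (P : Subgroup (stabilizer G a)))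
    have hz1 : z.1.1.1 ≠ 1 := fun e => hz (Subtype.ext (Subtype.ext (Subtype.ext e)))
    have hcz : ∀ u ∈ (P : Subgroup (stabilizer G a)), u.1 * z.1.1.1 = z.1.1.1 * u.1 := fun u hu =>
      congrArg (fun y => y.1.1) (Subgroup.mem_center_iff.mp z.2 ⟨u, hu⟩)
    have hzb : z.1.1.1 • b = b := (hfx x.1.1 (fun e => hx1 (Subtype.ext e)) x.1.2 x.2 _
      (smul_mem_fixedBy (hcz _ hxP) x.2)).resolve_left fun e =>
        hab (MulAction.injective _ (Eq.trans z.1.1.2 e.symm))
    have hPb : ∀ u ∈ (P : Subgroup (stabilizer G a)), u.1 • b = b := fun u hu =>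
      (hfx _ hz1 z.1.1.2 hzb _ (smul_mem_fixedBy (hcz u hu).symm hzb)).resolve_left fun e =>
        hab (MulAction.injective _ (Eq.trans u.2 e.symm))
    obtain ⟨u, hu⟩ := exists_smul_eq G b a
    let f : (P : Subgroup (stabilizer G a)) →* stabilizer G a :=
      { toFun := fun v => ⟨u * v.1.1 * u⁻¹, by
          rw [mem_stabilizer_iff, mul_smul, mul_smul, inv_smul_eq_iff.mpr hu.symm, hPb _ v.2, hu]⟩
        map_one' := by ext; simp
        map_mul' := fun v w => by ext; simp [mul_assoc] }
    have hf : Function.Injective f := fun v w e => by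
      have : u * v.1.1 * u⁻¹ = u * w.1.1 * u⁻¹ := congrArg Subtype.val e
      exact Subtype.ext (Subtype.ext (by simpa using this))
    obtain ⟨h, hh⟩ := exists_smul_eq (stabilizer G a) (Sylow.ofCard f.range (by
      rw [← Nat.card_congr (MonoidHom.ofInjective hf).toEquiv, P.card_eq_multiplicity])) P
    have hmem : h * f z.1 * h⁻¹ ∈ (P : Subgroup (stabilizer G a)) := by
      have : f z.1 ∈ f.range := ⟨z.1, rfl⟩
      generalize f z.1 = y at this
      rw [← hh]
      exact Subgroup.smul_mem_pointwise_smul _ (MulAut.conj h) _ this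
    have hw : (h.1 * u) • b = a := by rw [mul_smul, hu]; exact h.2
    have hw' : (h.1 * u)⁻¹ • b = a := by
      refine (hfx _ hz1 z.1.1.2 hzb _ ?_).resolve_right fun e => hab (by rw [← hw, inv_smul_eq_iff.mp e.symm.symm |>.symm])
      have := hPb _ hmem
      change (h.1 * (u * z.1.1.1 * u⁻¹) * h.1⁻¹) • b = b at this
      rw [eq_inv_smul_iff, ← mul_smul, ← mul_smul]
      simpa [mul_assoc] using this
    refine Dvd.dvd.trans ?_ (orderOf_dvd_natCard (h.1 * u))
    by_contra hodd
    obtain ⟨k, hk⟩ := Nat.odd_iff.mpr (Nat.two_dvd_ne_zero.mp hodd)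
    have h2 : ∀ k : ℕ, ((h.1 * u) ^ 2) ^ k • b = b := fun k => by
      induction k with
      | zero => simp
      | succ k ih => rw [pow_succ, mul_smul, pow_two, mul_smul, hw, ← inv_smul_eq_iff.mp hw', ← pow_two, ih]
    have := pow_orderOf_eq_one (h.1 * u)
    rw [hk, pow_succ', pow_mul] at this
    have e2 := congrArg (· • b) this
    simp only [mul_smul, one_smul] at e2
    rw [h2, ← mul_smul, hw] at e2
    exact hab e2
  · intro p hp hkp _ a
    by_contra hc
    push Not at hc
    haveI := Fact.mk hp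
    obtain ⟨x, hx⟩ := exists_prime_orderOf_dvd_card' p hc.1
    have hx1 : x.1 ≠ 1 := fun e => by
      rw [show x = 1 from Subtype.ext e, orderOf_one] at hx
      exact hp.one_lt.ne hx
    have h1 := Perm.card_modEq_fixedBy (α := Ω) (p := p) (g := x.1) (k := 1) (by
      rw [pow_one, ← hx, ← Subgroup.coe_pow, pow_orderOf_eq_one]; rfl)
    have h2 := hc.2
    rw [index_stabilizer_of_transitive] at h2
    have h3 := Nat.le_of_dvd ((Set.ncard_pos (s := fixedBy Ω x.1) (Set.toFinite _)).mpr ⟨a, x.2⟩) ((h1.dvd_iff dvd_rfl).mp h2)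
    have := hfix _ hx1
    rw [Nat.card_coe_set_eq] at this
    omega

end Cfsg.Agent.S3389
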