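import Mathlib
import Cfsg.Statements.S3390
import Cfsg.Agent.S3224
import Cfsg.Agent.Perm.Derang
import Cfsg.Agent.Perm.FC4
import Cfsg.Agent.Perm.PFixed
import Cfsg.Agent.Perm.Small2

set_option autoImplicit false
open Cfsg

namespace Cfsg.Agent.S3390

open Subgroup MulAction Cfsg.Agent.Perm
open scoped Pointwise

section
variable {P Ω : Type*} [Group P] [Finite P] [Finite Ω] [MulAction P Ω]

theorem four_dvd {n : ℕ} (h : ∃ k, n = 2 ^ k) (h1 : n ≠ 1) (h2 : n ≠ 2) : 4 ∣ n := by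
  obtain ⟨k, rfl⟩ := h
  rcases k with _ | _ | k
  · simp at h1
  · simp at h2
  · exact ⟨2 ^ k, by ring⟩

theorem lemA (hP : IsPGroup 2 P)
    (three : ∀ (g : P) (a b c : Ω), g • a = a → g • b = b → g • c = c → a ≠ b → a ≠ c → b ≠ c → g = 1)
    (γ : Ω) (h0 : stabilizer P γ ≠ ⊥) (h1 : (stabilizer P γ).index ≠ 1) (h2 : (stabilizer P γ).index ≠ 2) :
    Nat.card (stabilizer P γ) = 2 ∧ ((∃ n : ℕ, Nonempty (P ≃* DihedralGroup n)) ∨ Cfsg.IsQuasiDihedral P) := by
  classical
  haveI : Fact (Nat.Prime 2) := ⟨Nat.prime_two⟩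
  set D := stabilizer P γ with hD
  have h4 : 4 ∣ (orbit P γ).ncard := by
    rw [← index_stabilizer]; exact four_dvd (hP.index D) h1 h2
  have hinv : ∀ q : P, ∀ x ∈ orbit P γ, q • x ∈ orbit P γ := fun q x hx => mapsTo_smul_orbit q γ hx
  have h5 := ncard_modEq_fixed D (hP.to_subgroup D) (orbit P γ) (Set.toFinite _) fun q _ => hinv q
  set F := {x | x ∈ orbit P γ ∧ ∀ q ∈ D, q • x = x} with hF
  have hγ : γ ∈ F := ⟨mem_orbit_self γ, fun q hq => hq⟩
  obtain ⟨δ, hδ, hne⟩ : ∃ δ ∈ F, δ ≠ γ := by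
    by_contra hc
    push Not at hc
    have : F = {γ} := Set.eq_singleton_iff_unique_mem.2 ⟨hγ, hc⟩
    rw [this, Set.ncard_singleton] at h5
    unfold Nat.ModEq at h5; omega
  have two : ∀ d ∈ D, d ≠ 1 → ∀ x, d • x = x → x = γ ∨ x = δ := fun d hd hd1 x hx => by
    by_contra hc
    push Not at hc
    exact hd1 (three d γ δ x hd (hδ.2 d hd) hx hne.symm hc.1.symm hc.2.symm)
  have hcard : Nat.card D = 2 := by
    by_contra hc
    have h6 : 4 ∣ Nat.card D := four_dvd (IsPGroup.iff_card.1 (hP.to_subgroup D))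
      (fun e => h0 (card_eq_one.1 e)) hc
    have h7 := dvd_ncard_of_forall_orbit D (orbit P γ \ {γ, δ}) (Set.toFinite _) (k := 4) (fun g hg x hx => by
      refine ⟨hinv g x hx.1, ?_⟩
      rintro (e | e)
      · exact hx.2 (Or.inl (smul_left_cancel g (e.trans (show g • γ = γ from hg).symm)))
      · exact hx.2 (Or.inr (smul_left_cancel g (e.trans (hδ.2 g hg).symm)))) (fun x hx => by
      have : stabilizer D x = ⊥ := eq_bot_iff.2 fun d hd => by
        by_contra hc
        exact hx.2 (two d d.2 (fun e => hc (mem_bot.2 (Subtype.ext e))) x hd)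
      rw [← index_stabilizer, this, index_bot]; exact h6)
    have h8 := Set.ncard_diff_add_ncard_of_subset (show ({γ, δ} : Set Ω) ⊆ orbit P γ by
      rintro _ (rfl | rfl); exacts [hγ.1, hδ.1])
    rw [Set.ncard_pair hne.symm] at h8
    omega
  refine ⟨hcard, ?_⟩
  obtain ⟨t, htD, ht⟩ := exists_mem_orderOf_prime D Nat.prime_two (by rw [hcard])
  have ht1 : t ≠ 1 := fun e => by rw [e, orderOf_one] at ht; omega
  have hDt : D = zpowers t := (eq_of_le_of_card_ge (zpowers_le.2 htD) (by rw [hcard, Nat.card_zpowers, ht])).symm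
  have huniq : ∀ d ∈ D, d ≠ 1 → d = t := fun d hd hd1 => by
    obtain ⟨y, -, hy⟩ := (Nat.card_eq_two_iff' (1 : D)).1 hcard
    exact congrArg Subtype.val ((hy ⟨d, hd⟩ fun e => hd1 (congrArg Subtype.val e)).trans
      (hy ⟨t, htD⟩ fun e => ht1 (congrArg Subtype.val e)).symm)
  set C := centralizer ({t} : Set P)
  have ho : orbit C γ = {γ, δ} := by
    ext x
    constructor
    · rintro ⟨c, rfl⟩
      refine two t htD ht1 _ ?_
      show t • (c.1 • γ) = c.1 • γ
      rw [smul_smul, ← mem_centralizer_singleton_iff.1 c.2, mul_smul, show t • γ = γ from htD]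
    · rintro (rfl | rfl)
      · exact mem_orbit_self _
      · obtain ⟨g, hg⟩ := hδ.1
        have : g⁻¹ * t * g = t := huniq _ (by
          show (g⁻¹ * t * g) • γ = γ
          simp only at hg
          rw [mul_smul, mul_smul, hg, hδ.2 t htD, ← hg, inv_smul_smul]) (fun e => ht1 (by
            rw [← mul_inv_cancel_left g t, ← mul_inv_cancel_right (g * (g⁻¹ * t)) g, mul_assoc g, e]; simp))
        exact ⟨⟨g, mem_centralizer_singleton_iff.2 (by rw [← mul_inv_cancel_left g (t * g), ← mul_assoc g⁻¹, this])⟩, hg⟩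
  have hDC : D ≤ C := by
    rw [hDt, zpowers_le]; exact mem_centralizer_singleton_iff.2 rfl
  have hC : Nat.card C = 4 := by
    have h1 := (stabilizer C γ).card_mul_index
    rw [index_stabilizer, ho, Set.ncard_pair hne.symm, show stabilizer C γ = D.subgroupOf C from rfl,
      Nat.card_congr (subgroupOfEquivOfLe hDC).toEquiv, hcard] at h1
    exact h1.symm
  rcases Cfsg.Agent.S3224.result hP t ht hC with h | h | h
  exacts [Or.inl h, Or.inr h, by have := D.card_mul_index; rw [hcard, h] at this; omega]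

end


/-- Let G be a finite group acting faithfully and transitively on a finite set Ω with fixity 2 (every non-identity element fixes at most two points, and some fixes exactly two). Let α ∈ Ω and S a Sylow 2-subgroup of G. Then one of the following holds: the stabilizer S_α of α in S is trivial; S is dihedral or semidihedral and either |S_α| = 2 or |S : S_α| = 2; |S| ≥ 4, S has exactly one orbit of size 2 on Ω, every other S-orbit is regular, and G has a normal subgroup of index 2 or of index |S| which is a Frobenius group; or S ≤ G_α. -/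
theorem result {G : Type*} [Group G] [Finite G] {Ω : Type*} [Fintype Ω] [MulAction G Ω] [FaithfulSMul G Ω] (htr : MulAction.IsPretransitive G Ω)
    (hfix : ∀ g : G, g ≠ 1 → Nat.card (MulAction.fixedBy Ω g) ≤ 2) (hex : ∃ g : G, g ≠ 1 ∧ Nat.card (MulAction.fixedBy Ω g) = 2) (α : Ω) (S : Sylow 2 G) :
    (S : Subgroup G) ⊓ MulAction.stabilizer G α = ⊥ ∨
    (((∃ n : ℕ, Nonempty (↥(S : Subgroup G) ≃* DihedralGroup n)) ∨ Cfsg.IsQuasiDihedral ↥(S : Subgroup G)) ∧
       (Nat.card ↥((S : Subgroup G) ⊓ MulAction.stabilizer G α) = 2 ∨ ((S : Subgroup G) ⊓ MulAction.stabilizer G α).relIndex (S : Subgroup G) = 2)) ∨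
    (4 ≤ Nat.card (S : Subgroup G) ∧
       (∃ ω : Ω, Nat.card (MulAction.orbit ↥(S : Subgroup G) ω) = 2 ∧
          ∀ ω' : Ω, ω' ∉ MulAction.orbit ↥(S : Subgroup G) ω → Nat.card (MulAction.orbit ↥(S : Subgroup G) ω') = Nat.card (S : Subgroup G)) ∧
       ∃ N : Subgroup G, N.Normal ∧ (N.index = 2 ∨ N.index = Nat.card (S : Subgroup G)) ∧ (∃ H : Subgroup ↥N, Cfsg.IsFrobeniusComplement H)) ∨
    (S : Subgroup G) ≤ MulAction.stabilizer G α := by
  classical
  haveI : Fact (Nat.Prime 2) := ⟨Nat.prime_two⟩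
  have three : ∀ (g : G) (a b c : Ω), g • a = a → g • b = b → g • c = c → a ≠ b → a ≠ c → b ≠ c → g = 1 := by
    intro g a b c ha hb hc h1 h2 h3
    by_contra hg
    have h4 := hfix g hg
    have h5 := Set.ncard_le_ncard (show ({a, b, c} : Set Ω) ⊆ fixedBy Ω g by
      rintro _ (rfl | rfl | rfl); exacts [ha, hb, hc])
    rw [Set.ncard_eq_three.2 ⟨a, b, c, h1, h2, h3, rfl⟩] at h5
    exact absurd (h5.trans h4) (by norm_num)
  have three' : ∀ (g : (S : Subgroup G)) (a b c : Ω), g • a = a → g • b = b → g • c = c → a ≠ b → a ≠ c →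
      b ≠ c → g = 1 := fun g a b c ha hb hc h1 h2 h3 => Subtype.ext (three g a b c ha hb hc h1 h2 h3)
  set D := stabilizer (S : Subgroup G) α with hD
  have e1 : ((S : Subgroup G) ⊓ stabilizer G α).subgroupOf S = D := by
    ext x; simp [mem_subgroupOf, D]; rfl
  have e2 : Nat.card ↥((S : Subgroup G) ⊓ stabilizer G α) = Nat.card D := by
    rw [← e1, Nat.card_congr (subgroupOfEquivOfLe inf_le_left).toEquiv]
  have e3 : ((S : Subgroup G) ⊓ stabilizer G α).relIndex S = D.index := by rw [← e1]; rfl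
  by_cases h0 : D = ⊥
  · left; rw [← card_eq_one, e2, h0, card_bot]
  by_cases h1 : D.index = 1
  · right; right; right
    exact (relIndex_eq_one.1 (e3.trans h1)).trans inf_le_right
  by_cases h2 : D.index ≠ 2
  · obtain ⟨h3, h4⟩ := lemA S.isPGroup' three' α h0 h1 h2
    exact Or.inr (Or.inl ⟨h4, Or.inl (e2.trans h3)⟩)
  push Not at h2
  by_cases hdi : (∃ n : ℕ, Nonempty (↥(S : Subgroup G) ≃* DihedralGroup n)) ∨ Cfsg.IsQuasiDihedral ↥(S : Subgroup G)
  · exact Or.inr (Or.inl ⟨hdi, Or.inr (e3.trans h2)⟩)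
  right; right; left
  have hc1 := D.card_mul_index
  have hc2 : 2 ≤ Nat.card D := (one_lt_card_iff_ne_bot D).2 h0
  rw [h2] at hc1
  have ho : (orbit (S : Subgroup G) α).ncard = 2 := by rw [← index_stabilizer, h2]
  have hst : ∀ γ ∈ orbit (S : Subgroup G) α, stabilizer (S : Subgroup G) γ = D := by
    rintro _ ⟨s, rfl⟩
    haveI := D.normal_of_index_eq_two h2
    rw [stabilizer_smul_eq_stabilizer_map_conj]
    exact Subgroup.Normal.conj_smul_eq_self s D
  obtain ⟨β, hβ, hβα⟩ := Set.exists_ne_of_one_lt_ncard (ho ▸ one_lt_two) α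
  have hreg : ∀ γ, γ ∉ orbit (S : Subgroup G) α → stabilizer (S : Subgroup G) γ = ⊥ := by
    intro γ hγ
    by_contra hE
    have hED : stabilizer (S : Subgroup G) γ ⊓ D = ⊥ := eq_bot_iff.2 fun g hg =>
      three' g α β γ hg.2 (show g ∈ stabilizer _ β by rw [hst β hβ]; exact hg.2) hg.1 hβα.symm
        (fun e => hγ (e ▸ mem_orbit_self α)) (fun e => hγ (e ▸ hβ))
    by_cases k1 : (stabilizer (S : Subgroup G) γ).index = 1
    · rw [index_eq_one.1 k1, top_inf_eq] at hED; exact h0 hED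
    by_cases k2 : (stabilizer (S : Subgroup G) γ).index = 2
    · have k3 := index_inf_le (H := stabilizer (S : Subgroup G) γ) (K := D)
      rw [hED, index_bot, k2, h2] at k3
      have k4 : Nat.card (S : Subgroup G) = 4 := by omega
      have k5 : ¬ IsCyclic (S : Subgroup G) := fun hc => by
        have k6 := (stabilizer (S : Subgroup G) γ).card_mul_index
        rw [k2] at k6
        obtain ⟨x, hx, hxo⟩ := exists_mem_orderOf_prime D Nat.prime_two (by omega)
        obtain ⟨y, hy, hyo⟩ := exists_mem_orderOf_prime (stabilizer (S : Subgroup G) γ) Nat.prime_two (by omega)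
        have k7 : x.1 ∈ zpowers y.1 := mem_zpowers_of_cyclic hc y.2 x.2 (by rw [orderOf_coe, orderOf_coe, hxo, hyo])
        have : x ∈ (⊥ : Subgroup (S : Subgroup G)) := hED ▸ ⟨by
          obtain ⟨k, hk⟩ := k7
          rw [show x = y ^ k from Subtype.ext hk.symm]; exact zpow_mem hy k, hx⟩
        rw [mem_bot.1 this, orderOf_one] at hxo; omega
      haveI : IsKleinFour (S : Subgroup G) :=
        ⟨k4, (not_isCyclic_iff_exponent_eq_prime Nat.prime_two (by rw [k4]; rfl)).1 k5⟩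
      exact hdi (Or.inl ⟨2, IsKleinFour.nonempty_mulEquiv⟩)
    · exact hdi (lemA S.isPGroup' three' γ hE k1 k2).2
  have hmem : ∀ s : (S : Subgroup G), s ∈ D ↔ ∃ γ : Ω, s.1 • γ = γ := fun s => ⟨fun h => ⟨α, h⟩, fun ⟨γ, h⟩ => by
    by_cases k : γ ∈ orbit (S : Subgroup G) α
    · rw [← hst γ k]; exact h
    · have : s ∈ stabilizer (S : Subgroup G) γ := h
      rw [hreg γ k, mem_bot] at this
      rw [this]; exact one_mem _⟩
  refine ⟨by omega, ⟨α, ho, fun γ hγ => ?_⟩, ?_⟩
  · rw [Nat.card_coe_set_eq, ← index_stabilizer, hreg γ hγ, index_bot]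
  let ϕ : (S : Subgroup G) →* ℤˣ := MonoidHom.mk' (fun s => if s ∈ D then 1 else -1) fun a b => by
    simp only [mul_mem_iff_of_index_two h2]
    by_cases ha : a ∈ D <;> by_cases hb : b ∈ D <;> simp [ha, hb]
  have hϕ : ∀ s, ϕ s = if s ∈ D then 1 else -1 := fun _ => rfl
  have hodd : Odd (S : Subgroup G).index := by
    have := S.not_dvd_index
    exact Nat.odd_iff.2 (by omega)
  have hV : ∀ s : (S : Subgroup G), MonoidHom.transfer ϕ s.1 = ϕ s := fun s => by
    have := Fintype.ofFinite (Quotient (orbitRel (zpowers s.1) (G ⧸ (S : Subgroup G))))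
    rw [MonoidHom.transfer_eq_prod_quotient_orbitRel_zpowers_quot, Finset.prod_congr rfl
      (g := fun q => ϕ s ^ Function.minimalPeriod (s.1 • ·) q.out), Finset.prod_pow_eq_pow_sum,
      ← index_eq_sum_minimalPeriod]
    · rw [hϕ]; split_ifs
      · simp
      · exact hodd.neg_one_pow
    · intro q _
      rw [← map_pow, hϕ, hϕ]
      refine if_congr ?_ rfl rfl
      rw [hmem, hmem]
      constructor
      · rintro ⟨γ, h⟩
        refine ⟨q.out.out • γ, ?_⟩
        simpa [mul_smul, inv_smul_eq_iff] using h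
      · rintro ⟨γ, h⟩
        refine ⟨q.out.out⁻¹ • γ, ?_⟩
        simpa [mul_smul, inv_smul_eq_iff] using h
  set N := (MonoidHom.transfer ϕ).ker with hN
  have hNS : ∀ s : (S : Subgroup G), s.1 ∈ N ↔ s ∈ D := fun s => by
    rw [MonoidHom.mem_ker, hV, hϕ]; split_ifs with h <;> simp [h]
  obtain ⟨x, rfl⟩ := hβ
  have hxD : x ∉ D := hβα
  have hNi : N.index = 2 := by
    rw [index_ker, MonoidHom.range_eq_top.2, card_top]
    · simp
    · intro u
      rcases Int.units_eq_one_or u with rfl | rfl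
      · exact ⟨1, map_one _⟩
      · exact ⟨x, by rw [hV, hϕ, if_neg hxD]⟩
  obtain ⟨⟨d, hd⟩, hd1⟩ := ne_bot_iff_exists_ne_one.1 h0
  have hd2 : d.1 ≠ 1 := fun e => hd1 (Subtype.ext (Subtype.ext e))
  refine ⟨N, inferInstance, Or.inl hNi, stabilizer N α, fun e => ?_, fun e => ?_, fun g hg => ?_⟩
  · have : (⟨d.1, (hNS d).2 hd⟩ : N) ∈ stabilizer N α := hd
    rw [e, mem_bot] at this
    exact hd2 (congrArg Subtype.val this)
  · refine hd2 (eq_of_smul_eq_smul (α := Ω) fun γ => ?_)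
    obtain ⟨g, rfl⟩ := exists_smul_eq G α γ
    have : (⟨g⁻¹ * d.1 * g, by simpa using Normal.conj_mem inferInstance _ ((hNS d).2 hd) g⁻¹⟩ : N) ∈
      stabilizer N α := e ▸ mem_top _
    have h : (g⁻¹ * d.1 * g) • α = α := this
    simpa [mul_smul, inv_smul_eq_iff] using h
  have hoN : Odd (orbit N α).ncard := by
    rw [← index_stabilizer]
    have k1 : (D.map (S : Subgroup G).subtype).subgroupOf N ≤ stabilizer N α := by
      rintro y ⟨s, hs, e⟩
      show y.1 • α = α
      rw [show y.1 = s.1 from e.symm]; exact hs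
    refine Odd.of_dvd_nat ?_ (index_dvd_of_le k1)
    have k2 : D.map (S : Subgroup G).subtype ≤ N := by rintro _ ⟨s, hs, rfl⟩; exact (hNS s).2 hs
    have k3 := relIndex_mul_index k2
    rw [index_map_subtype, hNi, h2, mul_comm 2] at k3
    rw [← Nat.eq_of_mul_eq_mul_right two_pos k3] at hodd
    exact hodd
  have hsm : ∀ g : G, ∀ γ : Ω, g • orbit N γ = orbit N (g • γ) := fun g γ => by
    ext y
    constructor
    · rintro ⟨_, ⟨n, rfl⟩, rfl⟩
      exact ⟨⟨g * n * g⁻¹, Normal.conj_mem inferInstance _ n.2 g⟩, by simp [mul_smul, Subgroup.smul_def]⟩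
    · rintro ⟨n, rfl⟩
      exact ⟨_, ⟨⟨g⁻¹ * n * g, by simpa using Normal.conj_mem inferInstance _ n.2 g⁻¹⟩, rfl⟩,
        by simp [mul_smul, Subgroup.smul_def]⟩
  have hdisj : ∀ γ ∈ orbit N α, γ ∉ orbit N (x.1 • α) := fun γ k1 k2 => by
    have k3 : x.1 • orbit N α = orbit N α := by
      rw [hsm, ← orbit_eq_iff.2 k1, ← orbit_eq_iff.2 k2]
    obtain ⟨k, hk⟩ := S.isPGroup' x
    have k4 := ncard_modEq_fixedBy (p := 2) (g := x.1) (k := k) (congrArg Subtype.val hk) (orbit N α)
      (Set.toFinite _) fun y hy => k3 ▸ Set.smul_mem_smul_set hy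
    have : {y | y ∈ orbit N α ∧ x.1 • y = y} = ∅ := Set.eq_empty_of_forall_notMem fun y hy =>
      hxD ((hmem x).2 ⟨y, hy.2⟩)
    rw [this, Set.ncard_empty] at k4
    obtain ⟨j, hj⟩ := hoN
    unfold Nat.ModEq at k4; omega
  rw [eq_bot_iff]
  rintro h ⟨k1, k2⟩
  by_contra k3
  replace k2 : h ∈ stabilizer N (g • α) := by rw [stabilizer_smul_eq_stabilizer_map_conj]; exact k2
  obtain ⟨k, r, hr, -, hk⟩ := exists_pow_orderOf_prime (g := h) k3
  haveI := Fact.mk hr
  have k4 : (h ^ k).1 • α = α := pow_mem k1 k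
  have k5 : (h ^ k).1 • (g.1 • α) = g.1 • α := pow_mem k2 k
  have k6 : (h ^ k).1 ≠ 1 := fun e => hr.ne_one (by rw [← hk, show h ^ k = 1 from Subtype.ext e]; exact orderOf_one)
  have k7 : (h ^ k).1 ^ r ^ 1 = 1 := by
    rw [pow_one, ← hk]; exact congrArg Subtype.val (pow_orderOf_eq_one (h ^ k))
  have hgα : α ≠ g.1 • α := fun e => hg e.symm
  have key : ∀ y, (h ^ k).1 • y = y → y = α ∨ y = g.1 • α := fun y hy => by
    by_contra hc
    push Not at hc
    exact k6 (three _ _ _ _ k4 k5 hy hgα hc.1.symm hc.2.symm)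
  have m1 := ncard_modEq_fixedBy k7 (orbit N α) (Set.toFinite _) fun y hy => mapsTo_smul_orbit (h ^ k) α hy
  have m2 := ncard_modEq_fixedBy k7 (orbit N (x.1 • α)) (Set.toFinite _) fun y hy => mapsTo_smul_orbit (h ^ k) _ hy
  have m3 : {y | y ∈ orbit N α ∧ (h ^ k).1 • y = y} = {α, g.1 • α} := by
    ext y
    exact ⟨fun hy => key y hy.2, by rintro (rfl | rfl); exacts [⟨mem_orbit_self _, k4⟩, ⟨mem_orbit _ g, k5⟩]⟩
  have m4 : {y | y ∈ orbit N (x.1 • α) ∧ (h ^ k).1 • y = y} = ∅ := Set.eq_empty_of_forall_notMem fun y hy => by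
    rcases key y hy.2 with rfl | rfl
    exacts [hdisj _ (mem_orbit_self _) hy.1, hdisj _ (mem_orbit _ g) hy.1]
  rw [m3, Set.ncard_pair hgα] at m1
  rw [m4, Set.ncard_empty, ← hsm, Set.ncard_smul_set] at m2
  have m5 : r ∣ 2 := Nat.modEq_zero_iff_dvd.1 (m1.symm.trans m2)
  rw [(Nat.prime_dvd_prime_iff_eq hr Nat.prime_two).1 m5] at m2
  obtain ⟨j, hj⟩ := hoN
  unfold Nat.ModEq at m2; omega

end Cfsg.Agent.S3390
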