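import Mathlib
import Cfsg.Statements.S3396
import Cfsg.Agent.CIT.F7

set_option autoImplicit false
open Cfsg

namespace Cfsg.Agent.S3396


/-- Let G be a finite group whose order has at least three distinct prime divisors, and suppose every nonidentity element of G has order a power of 2 or a prime other than 5. Then G is isomorphic to PSL₂(7) (here F is any field with 7 elements). In particular a finite group whose set of element orders is {1, 2, 3, 4, 7} is PSL₂(7). -/
theorem result {G : Type*} [Group G] [Finite G]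
    {F : Type*} [Field F] [Fintype F] (hF : Fintype.card F = 7)
    (h3 : 3 ≤ (Nat.card G).primeFactors.card)
    (hord : ∀ g : G, g ≠ 1 → (∃ k : ℕ, orderOf g = 2 ^ k) ∨ ((orderOf g).Prime ∧ orderOf g ≠ 5)) :
    Nonempty (G ≃* Matrix.ProjectiveSpecialLinearGroup (Fin 2) F) := by
  have h' : CIT.F.Epp G := fun g hg => by
    rcases hord g hg with ⟨k, hk⟩ | h
    · rw [hk]
      refine Nat.prime_two.isPrimePow.pow fun h0 => hg (orderOf_eq_one_iff.1 ?_)
      rw [hk, h0, pow_zero]
    · exact h.1.isPrimePow
  have no : ∀ k : ℕ, k = 5 ∨ k = 9 → ¬ ∃ g : G, orderOf g = k := by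
    rintro k hk ⟨g, hg⟩
    have h1 : g ≠ 1 := by
      rintro rfl
      rw [orderOf_one] at hg
      omega
    rcases hord g h1 with ⟨j, hj⟩ | h
    · have := CIT.F.odd_dvd_two_pow (r := k) (k := j) (by rcases hk with rfl | rfl <;> decide)
        (by rw [← hj, hg])
      omega
    · rw [hg] at h
      rcases hk with rfl | rfl
      · exact h.2 rfl
      · exact absurd h.1 (by norm_num)
  have h5 : ¬ 5 ∣ Nat.card G := fun h => no 5 (Or.inl rfl) (CIT.F.exists_prime_order Nat.prime_five h)
  have h6 : ¬ 5 ∣ Nat.card (G ⧸ Cfsg.pCore 2 G) := fun h =>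
    h5 (h.trans (Subgroup.card_quotient_dvd_card _))
  rcases CIT.F.eppo_struct h' (h'.not_solv h3) with h1 | h1 | h1 | h1 | ⟨-, h1 | h1 | h1 | h1 | h1⟩
  · exact absurd (by rw [h1.card4]; norm_num) h6
  · exact absurd (CIT.F.exists_dvd_of_quot (CIT.F.L2.ord_even (n := 3) h1 (by norm_num)
      (by norm_num))) (no 9 (Or.inr rfl))
  · exact absurd (by rw [h1.card1]; norm_num) h6
  · exact absurd (by rw [h1.card2]; norm_num) h6
  · exact h1.iso hF
  · exact absurd (CIT.F.L2.ord_odd (c := 8) h1 (by norm_num) (by norm_num)) (no 9 (Or.inr rfl))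
  · exact absurd (by rw [h1.card]; norm_num) h5
  · exact absurd (by rw [h1.card]; norm_num) h5
  · exact absurd (by rw [h1.card]; norm_num) h5

end Cfsg.Agent.S3396
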