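import Mathlib
import Cfsg.Statements.S3406
import Cfsg.Agent.CIT.F9
import Cfsg.Agent.S2497

set_option autoImplicit false
open Cfsg

namespace Cfsg.Agent.S3406

theorem six {G : Type*} [Group G] [Finite G]
    (h5 : Nat.card (MulAction.orbitRel.Quotient (MulAut G) G) ≤ 5) (l : List ℕ) (hl : l.Nodup)
    (h6 : l.length = 6) (h : ∀ k ∈ l, ∃ g : G, orderOf g = k) : False := by
  have := CIT.F.card_le_orbits (G := G) l.toFinset fun k hk => h k (List.mem_toFinset.1 hk)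
  rw [List.toFinset_card_of_nodup hl] at this
  omega

theorem of_dvd {G : Type*} [Group G] [Finite G] {a b : ℕ} (h : ∃ g : G, orderOf g = a) (hb : b ∣ a) :
    ∃ g : G, orderOf g = b := by
  obtain ⟨g, rfl⟩ := h
  exact ⟨g ^ (orderOf g / b), orderOf_pow_orderOf_div (orderOf_pos g).ne' hb⟩


/-- A non-abelian finite simple group on whose elements the full automorphism group has at most five orbits is isomorphic to the alternating group of degree 5 or 6, to PSL(2, 7) or to PSL(2, 8). -/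
theorem result {G : Type*} [Group G] [Finite G] [IsSimpleGroup G] (hG : ¬ IsMulCommutative G)
    (h5 : Nat.card (MulAction.orbitRel.Quotient (MulAut G) G) ≤ 5) :
    Nonempty (G ≃* ↥(alternatingGroup (Fin 5))) ∨ Nonempty (G ≃* ↥(alternatingGroup (Fin 6))) ∨
      (∃ (F : Type) (_ : Field F) (_ : Fintype F), (Fintype.card F = 7 ∨ Fintype.card F = 8) ∧
        Nonempty (G ≃* Matrix.ProjectiveSpecialLinearGroup (Fin 2) F)) := by
  have hns := CIT.F.not_solv_of_simple hG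
  have o1 : ∃ g : G, orderOf g = 1 := ⟨1, orderOf_one⟩
  have o2 : ∃ g : G, orderOf g = 2 := CIT.F.exists_two_of_ns hns
  by_cases h4 : ∃ g : G, orderOf g = 4
  · obtain ⟨p, q, hp, hq, hp2, hq2, hpq, hpG, hqG⟩ := CIT.F.exists_odd_primes hns
    have hp1 := hp.one_lt
    have hq1 := hq.one_lt
    have hp4 : p ≠ 4 := by rintro rfl; norm_num at hp
    have hq4 : q ≠ 4 := by rintro rfl; norm_num at hq
    have hE : ∀ g : G, g ≠ 1 → IsPrimePow (orderOf g) := fun g hg => by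
      by_contra h2
      have h3 : orderOf g ≠ 1 := fun h => hg (orderOf_eq_one_iff.1 h)
      have h6 : orderOf g ≠ 2 := fun h => h2 (h ▸ Nat.prime_two.isPrimePow)
      have h7 : orderOf g ≠ 4 := fun h => h2 (h ▸ (Nat.prime_two.isPrimePow.pow two_ne_zero))
      have h8 : orderOf g ≠ p := fun h => h2 (h ▸ hp.isPrimePow)
      have h9 : orderOf g ≠ q := fun h => h2 (h ▸ hq.isPrimePow)
      refine six h5 [orderOf g, 1, 2, 4, p, q] ?_ rfl ?_
      · simp only [List.nodup_cons, List.mem_cons, List.not_mem_nil, List.nodup_nil,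
        or_false, not_false_eq_true, and_true, not_or]
        omega
      · simp only [List.mem_cons, List.not_mem_nil, or_false, forall_eq_or_imp, forall_eq]
        exact ⟨⟨g, rfl⟩, o1, o2, h4, CIT.F.exists_prime_order hp hpG,
          CIT.F.exists_prime_order hq hqG⟩
    rcases S2497.result hG hE with h | ⟨F, _, _, hF, ⟨e⟩⟩ | h | ⟨F, _, _, ⟨hF, h⟩ | ⟨hF, h⟩⟩
    · exact Or.inr (Or.inl h)
    · simp only [Finset.mem_insert, Finset.mem_singleton] at hF
      rcases hF with hF | hF | hF | hF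
      · exact Or.inl (CIT.F.L2.a5 (Or.inl ⟨F, _, _, hF, ⟨e⟩⟩))
      · exact Or.inr (Or.inr ⟨F, _, _, Or.inl hF, ⟨e⟩⟩)
      · exact Or.inr (Or.inr ⟨F, _, _, Or.inr hF, ⟨e⟩⟩)
      · have hL : CIT.F.L2 (2 * 8 + 1) G := ⟨F, _, _, hF, ⟨e⟩⟩
        refine (six h5 [1, 2, 4, 8, 3, 9] (by decide) rfl fun k hk => ?_).elim
        refine hL.ord_odd (by norm_num) ?_
        revert k
        decide
    · refine (six h5 [1, 2, 4, 5, 3, 7] (by decide) rfl fun k hk => ?_).elim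
      refine CIT.F.L34.ord h ?_
      revert k
      decide
    · have hL : CIT.F.SzM 1 G := ⟨F, _, _, hF, h⟩
      refine (six h5 [1, 2, 4, 5, 7, 13] (by decide) rfl fun k hk => ?_).elim
      refine hL.ord (by norm_num) ?_
      revert k
      decide
    · have hL : CIT.F.SzM 2 G := ⟨F, _, _, hF, h⟩
      refine (six h5 [1, 2, 4, 5, 25, 31] (by decide) rfl fun k hk => ?_).elim
      refine hL.ord (by norm_num) ?_
      revert k
      decide
  have h4' : ∀ g : G, orderOf g ≠ 4 := fun g hg => h4 ⟨g, hg⟩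
  have hs := CIT.F.solv_cent (G := G) fun p q hp hq hp2 hq2 h1 h2 => by
    by_contra hpq
    have hp1 := hp.one_lt
    have hq1 := hq.one_lt
    obtain ⟨a, ha⟩ := hp.odd_of_ne_two hp2
    obtain ⟨b, hb⟩ := hq.odd_of_ne_two hq2
    refine six h5 [1, 2, p, q, 2 * p, 2 * q] ?_ rfl ?_
    · simp only [List.nodup_cons, List.mem_cons, List.not_mem_nil, List.nodup_nil,
        or_false, not_false_eq_true, and_true, not_or]
      omega
    · simp only [List.mem_cons, List.not_mem_nil, or_false, forall_eq_or_imp, forall_eq]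
      exact ⟨o1, o2, of_dvd h1 (dvd_mul_left _ _), of_dvd h2 (dvd_mul_left _ _), h1, h2⟩
  rcases CIT.F.abel_simple hG h4' hs with ⟨F, _, _, n, hn, hF, ⟨e⟩⟩ | ⟨F, _, _, h1, h2, ⟨e⟩⟩
  · obtain rfl | rfl | hn4 : n = 2 ∨ n = 3 ∨ 4 ≤ n := by omega
    · exact Or.inl (CIT.F.L2.a5 (Or.inl ⟨F, _, _, hF, ⟨e⟩⟩))
    · exact Or.inr (Or.inr ⟨F, _, _, Or.inr hF, ⟨e⟩⟩)
    have hL : CIT.F.L2 (2 ^ n) G := ⟨F, _, _, hF, ⟨e⟩⟩
    have h16 : 2 ^ 4 ≤ 2 ^ n := Nat.pow_le_pow_right (by norm_num) hn4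
    have ha := hL.ord_even (k := 2 ^ n - 1) hn (Or.inr (Or.inl dvd_rfl))
    have hb := hL.ord_even (k := 2 ^ n + 1) hn (Or.inr (Or.inr dvd_rfl))
    obtain ⟨c, hc, h3, h6⟩ : ∃ c, (3 * c = 2 ^ n - 1 ∨ 3 * c = 2 ^ n + 1) ∧
        (∃ g : G, orderOf g = 3) ∧ ∃ g : G, orderOf g = c := by
      rcases CIT.F.three_dvd_pow n with ⟨c, hc⟩ | ⟨c, hc⟩
      · exact ⟨c, Or.inl hc.symm, of_dvd ha ⟨c, hc⟩, of_dvd ha ⟨3, by omega⟩⟩
      · exact ⟨c, Or.inr hc.symm, of_dvd hb ⟨c, hc⟩, of_dvd hb ⟨3, by omega⟩⟩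
    refine (six h5 [1, 2, 3, c, 2 ^ n - 1, 2 ^ n + 1] ?_ rfl ?_).elim
    · simp only [List.nodup_cons, List.mem_cons, List.not_mem_nil, List.nodup_nil,
        or_false, not_false_eq_true, and_true, not_or]
      omega
    · simp only [List.mem_cons, List.not_mem_nil, or_false, forall_eq_or_imp, forall_eq]
      exact ⟨o1, o2, h3, h6, ha, hb⟩
  · by_cases h5' : Fintype.card F = 5
    · exact Or.inl (CIT.F.L2.a5 (Or.inr ⟨F, _, _, h5', ⟨e⟩⟩))
    obtain ⟨c, u, o, hc, hc5, ⟨u', hu⟩, ⟨o', ho⟩, hu1, ho1, h6⟩ := CIT.F.tori h1 (by omega)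
    obtain ⟨hp, ⟨p', hp'⟩, hpc, hpc', -⟩ := CIT.F.char_facts hc
    have hO : ∀ k, (k ∣ ringChar F ∨ k ∣ c ∨ k ∣ c + 1) → ∃ g : G, orderOf g = k := fun k hk =>
      CIT.F.ord_of_equiv e (CIT.F.exists_order_odd (by omega) hc hk)
    have hp1 := hp.one_lt
    have h7 : ∀ k, k ∣ 2 * u ∨ k ∣ o → k ∣ c ∨ k ∣ c + 1 := by
      rcases h6 with ⟨h7, h8⟩ | ⟨h7, h8⟩
      · rw [h8, h7]; exact fun k hk => hk
      · rw [h8, h7]; exact fun k hk => hk.symm
    have hpu : ringChar F ≠ u := fun h => by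
      rcases h7 u (Or.inl (dvd_mul_left _ _)) with h8 | h8
      · exact hpc (h ▸ h8)
      · exact hpc' (h ▸ h8)
    have hpo : ringChar F ≠ o := fun h => by
      rcases h7 o (Or.inr dvd_rfl) with h8 | h8
      · exact hpc (h ▸ h8)
      · exact hpc' (h ▸ h8)
    refine (six h5 [1, 2, u, 2 * u, o, ringChar F] ?_ rfl ?_).elim
    · simp only [List.nodup_cons, List.mem_cons, List.not_mem_nil, List.nodup_nil,
        or_false, not_false_eq_true, and_true, not_or]
      omega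
    · simp only [List.mem_cons, List.not_mem_nil, or_false, forall_eq_or_imp, forall_eq]
      exact ⟨o1, o2, hO _ (Or.inr (h7 _ (Or.inl (dvd_mul_left _ _)))),
        hO _ (Or.inr (h7 _ (Or.inl dvd_rfl))), hO _ (Or.inr (h7 _ (Or.inr dvd_rfl))),
        hO _ (Or.inl dvd_rfl)⟩

end Cfsg.Agent.S3406
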