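import Mathlib
import Cfsg.Agent.GC.CGr
import Cfsg.Agent.Gl23.Qd
import Cfsg.Agent.Gl23.Ord1
import Cfsg.Agent.S3224
import Cfsg.Agent.Inv.NFour
import Cfsg.Statements.S3412
-- import your own Cfsg.Agent.* helpers here

set_option autoImplicit false
open Cfsg

namespace Cfsg.Agent.S3412

open Subgroup Cfsg.Agent.GC.CGr Cfsg.Agent.Gl23

variable {H : Type*} [Group H] [Finite H]

theorem no_two (hG : Nat.card H = 5616) {x : H} (h1 : x ≠ 1) (hx : Nat.card (centralizer ({x} : Set H)) = 13)
    (K : Subgroup H) : K.index ≠ 2 := fun hK => by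
  have hp : Nat.Prime 13 := by norm_num
  have ho : orderOf x = 13 := ((Nat.dvd_prime hp).1 (hx ▸ orderOf_dvd_natCard _
    (mem_centralizer_singleton_iff.2 rfl))).resolve_left (mt orderOf_eq_one_iff.1 h1)
  have hxK : x ∈ K := by
    have := sq_mem_of_index_two hK (x ^ 7)
    rwa [← pow_mul, show 7 * 2 = 13 + 1 from rfl, pow_succ, ← ho, pow_orderOf_eq_one, one_mul] at this
  have hc : Nat.card K = 13 * 216 := by have := K.card_mul_index; rw [hK, hG] at this; omega
  have ho' : orderOf (⟨x, hxK⟩ : K) = 13 := (orderOf_mk x hxK).trans ho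
  obtain ⟨-, h2, h3⟩ := sylow_data hp hc (by norm_num) ho'
  have h4 := relIndex_dvd hp ho'
  have h5 : Nat.card (centralizer ((zpowers (⟨x, hxK⟩ : K) : Subgroup K) : Set K)) ∣ 13 :=
    hx ▸ (Core.card_map_subtype _).symm.dvd.trans (card_dvd_of_le (by
      rintro _ ⟨g, hg, rfl⟩
      exact mem_centralizer_singleton_iff.2 (congrArg Subtype.val (hg _ (mem_zpowers _))).symm))
  have h6 := Core.card_mul_relIndex (centralizer_le_normalizer ((zpowers (⟨x, hxK⟩ : K) : Subgroup K) : Set K))
  have h7 := (normalizer ((zpowers (⟨x, hxK⟩ : K) : Subgroup K) : Set K)).card_mul_index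
  rw [← h6, hc] at h7
  have h9 := h7.symm.dvd.trans (mul_dvd_mul_right (mul_dvd_mul h5 h4) _)
  generalize (normalizer ((zpowers (⟨x, hxK⟩ : K) : Subgroup K) : Set K)).index = n at h2 h3 h9
  exact (by decide +kernel : ∀ n ≤ 216, n ∣ 216 → n % 13 = 1 % 13 → ¬ 13 * 216 ∣ 13 * (13 - 1) * n) n
    (Nat.le_of_dvd (by norm_num) h3) h3 h2 h9

theorem not_dih {C : Type*} [Group C] [Finite C] (hC : Nat.card C = 48) (S : Subgroup C) (e : S ≃* DihedralGroup 8)
    (h : ∀ u : C, orderOf u = 4 → Nat.card (centralizer ({u} : Set C)) ≤ 8) : False := by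
  have hS : Nat.card S = 16 := (Nat.card_congr e.toEquiv).trans DihedralGroup.nat_card
  have h3 : S.index = 3 := by have := S.card_mul_index; rw [hS, hC] at this; omega
  have h6 : S.normalCore.index ∣ 6 := by
    rw [show 6 = S.index.factorial by rw [h3]; rfl, normalCore_eq_ker, index_ker, index_eq_card, ← Nat.card_perm]
    exact card_subgroup_dvd_card (MulAction.toPermHom C (C ⧸ S)).range
  have ho : ∀ s : S, orderOf (s : C) = orderOf (e s) := fun s => (orderOf_coe s).trans (e.orderOf_eq s).symm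
  let r : S := e.symm (.r 1)
  have hr : orderOf (r : C) = 8 := by rw [ho, e.apply_symm_apply, DihedralGroup.orderOf_r_one]
  obtain ⟨c, hc⟩ := h6
  have hu : (r : C) ^ 6 ∈ S.normalCore := by rw [hc, pow_mul]; exact pow_mem (pow_index_mem _ r.1) c
  have h4 : orderOf ((r : C) ^ 6) = 4 := by rw [orderOf_pow, hr]; rfl
  have := Fact.mk Nat.prime_three
  obtain ⟨w, hw⟩ := exists_prime_orderOf_dvd_card' (G := C) 3 (by rw [hC]; norm_num)
  have key : ∀ s : S, orderOf (s : C) = 4 → (s : C) = r ^ 6 ∨ (s : C) = (r ^ 6)⁻¹ := fun s hs => by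
    have k : ∀ d : DihedralGroup 8, d ^ 4 = 1 → d ^ 2 ≠ 1 → d = .r 1 ^ 6 ∨ d = (.r 1 ^ 6)⁻¹ := by decide
    rw [ho] at hs
    exact (k (e s) (hs ▸ pow_orderOf_eq_one _) (pow_ne_one_of_lt_orderOf (by norm_num) (by omega))).imp
      (fun h => congrArg Subtype.val (e.injective (a₂ := r ^ 6) (h.trans (by simp [r]))))
      fun h => congrArg Subtype.val (e.injective (a₂ := (r ^ 6)⁻¹) (h.trans (by simp [r])))
  have hw3 : w ^ 3 = 1 := hw ▸ pow_orderOf_eq_one w
  have hwu : w * r ^ 6 * w⁻¹ = r ^ 6 := by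
    refine (key ⟨_, normalCore_le S ((normalCore_normal S).conj_mem _ hu w)⟩
      ((Inv.orderOf_conj _ _).trans h4)).elim id fun k => ?_
    change w * (r : C) ^ 6 * w⁻¹ = ((r : C) ^ 6)⁻¹ at k
    generalize (r : C) ^ 6 = u at k ⊢
    have k2 : w * u⁻¹ * w⁻¹ = u := by rw [← conj_inv, k, inv_inv]
    calc _ = w ^ 3 * (w * u * w⁻¹) * (w ^ 3)⁻¹ := by rw [hw3]; group
      _ = w * (w * (w * (w * u * w⁻¹) * w⁻¹) * w⁻¹) * w⁻¹ := by rw [show w ^ 3 = w * w * w by simp [pow_succ]]; group
      _ = u := by rw [k, k2, k, k2]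
  have d1 := orderOf_dvd_natCard (centralizer {(r : C) ^ 6}) (mem_centralizer_singleton_iff.2 (mul_inv_eq_iff_eq_mul.1 hwu))
  have d2 := orderOf_dvd_natCard (centralizer {(r : C) ^ 6}) (x := r) (mem_centralizer_singleton_iff.2 (by group))
  have := h _ h4
  have := Nat.card_pos (α := centralizer {(r : C) ^ 6})
  rw [hw] at d1
  rw [hr] at d2
  omega

theorem main {F : H ≃ L} (h : CG F) (hG : Nat.card H = 5616) : Nonempty (H ≃* L33) := by
  have := Fact.mk Nat.prime_two
  have hO := Inv.pResidual_eq_top_of_no_index_two (no_two hG (x := F.symm a0)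
    (fun e => absurd (congrArg Subtype.val ((F.apply_symm_apply a0).symm.trans (e ▸ h.one))) (by decide))
    (by rw [h.card_cent, F.apply_symm_apply, card_a0']))
  obtain ⟨z, hz⟩ := F.surjective t0
  obtain ⟨y, y2, yz, yn, y4⟩ := h.exists_y hz
  have z2 := h.two hz
  have hC := h.c48 hz
  have h8 := fun u => h.c8 hz (u := u)
  have zC : z ∈ centralizer ({z} : Set H) := mem_centralizer_singleton_iff.2 rfl
  have zc : ∀ g : centralizer ({z} : Set H), g * ⟨z, zC⟩ = ⟨z, zC⟩ * g := fun g =>
    Subtype.ext (mem_centralizer_singleton_iff.1 g.2)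
  have hle : ∀ (u : centralizer ({z} : Set H)) (K : Subgroup (centralizer ({z} : Set H))), K ≤ centralizer {u} →
      Nat.card K ≤ Nat.card (centralizer {z} ⊓ centralizer {u.1} : Subgroup H) := fun u K hK => by
    rw [← Core.card_map_subtype]
    refine card_le_of_le ?_
    rintro _ ⟨g, hg, rfl⟩
    exact ⟨g.2, mem_centralizer_singleton_iff.2 (congrArg Subtype.val (mem_centralizer_singleton_iff.1 (hK hg)))⟩
  let y' : centralizer ({z} : Set H) := ⟨y, mem_centralizer_singleton_iff.2 yz⟩
  obtain ⟨T, hT⟩ := (IsPGroup.of_card (p := 2) (n := 1) ((Nat.card_zpowers y').trans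
    ((orderOf_mk _ _).trans y2))).exists_le_sylow
  have c16 : Nat.card T = 16 := by
    rw [T.card_eq_multiplicity, hC, show 48 = 2 ^ 4 * 3 from rfl, Nat.factorization_mul (by norm_num) (by norm_num),
      Nat.prime_two.factorization_pow]
    simp [Nat.factorization_eq_zero_of_not_dvd]
  have hzT : (⟨z, zC⟩ : centralizer ({z} : Set H)) ∈ (T : Subgroup _) := by
    have : (zpowers (⟨z, zC⟩ : centralizer ({z} : Set H))).Normal := ⟨fun n hn g => by
      obtain ⟨k, rfl⟩ := mem_zpowers_iff.1 hn
      rwa [(Commute.zpow_right (zc g) k).eq, mul_inv_cancel_right]⟩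
    exact (IsPGroup.of_card (p := 2) (n := 1) ((Nat.card_zpowers _).trans
      ((orderOf_mk _ _).trans z2))).le_sylow_of_normal T (mem_zpowers _)
  let y'' : T := ⟨y', hT (mem_zpowers _)⟩
  have o2 : orderOf y'' = 2 := (orderOf_mk _ _).trans ((orderOf_mk _ _).trans y2)
  have c4 : Nat.card (centralizer ({y''} : Set T)) = 4 := by
    have k1 : Nat.card (centralizer ({y''} : Set T)) ≤ 4 := by
      rw [← Core.card_map_subtype]
      refine (hle y' _ ?_).trans y4
      rintro _ ⟨g, hg, rfl⟩
      exact mem_centralizer_singleton_iff.2 (congrArg Subtype.val (mem_centralizer_singleton_iff.1 hg))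
    have k2 : zpowers y'' < centralizer {y''} := lt_of_le_of_ne (zpowers_le.2 (mem_centralizer_singleton_iff.2 rfl))
      fun e => by
        have k : (⟨_, hzT⟩ : T) ∈ zpowers y'' := e ▸ mem_centralizer_singleton_iff.2 (Subtype.ext (zc y').symm)
        rcases Inv.one_or_eq_of_mem_zpowers (Inv.mul_self_of_two o2) k with k | k
        · exact h.ne_one hz (congrArg (fun t : T => t.1.1) k)
        · exact yn (congrArg (fun t : T => t.1.1) k).symm
    have k3 := Core.card_lt_of_lt k2
    have k4 := c16 ▸ card_subgroup_dvd_card (centralizer ({y''} : Set T))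
    rw [Nat.card_zpowers, o2] at k3
    generalize Nat.card (centralizer ({y''} : Set T)) = n at *
    interval_cases n <;> simp_all
  rcases S3224.result T.isPGroup' y'' o2 c4 with ⟨n, ⟨e⟩⟩ | k | k
  · obtain rfl : n = 8 := by
      have := (Nat.card_congr e.toEquiv).trans DihedralGroup.nat_card
      omega
    refine (not_dih hC T e fun u hu => (hle u _ le_rfl).trans (h8 u (mem_centralizer_singleton_iff.1 u.2)
      (fun k => ?_) fun k => ?_)).elim
    · rw [← orderOf_coe, k, orderOf_one] at hu; omega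
    · rw [← orderOf_coe, k, z2] at hu; omega
  · obtain ⟨a, b, m, k⟩ := Inv.exists_qd k
    obtain rfl : m = 0 := by have := k.card_eq (n := 3) c16; omega
    have ea : (a : H) ^ 4 = z := by_contra fun e => by
      have := (hle (a ^ 4) T fun g hg => mem_centralizer_singleton_iff.2 (k.commute_z hg)).trans
        (h8 _ (mem_centralizer_singleton_iff.1 (a ^ 4).2) (fun e => by
          have := k.z_two
          rw [← orderOf_coe, show ((a ^ 2 ^ (0 + 2) :) : H) = 1 from e, orderOf_one] at this
          omega) e)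
      omega
    let S : Sylow 2 H := Sylow.ofCard ((T : Subgroup _).map (centralizer ({z} : Set H)).subtype) (by
      rw [Core.card_map_subtype, hG, show 5616 = 2 ^ 4 * 351 from rfl,
        Nat.factorization_mul (by norm_num) (by norm_num), Nat.prime_two.factorization_pow]
      simpa [Nat.factorization_eq_zero_of_not_dvd] using c16)
    obtain ⟨e⟩ := cent_equiv_of_qd (S := S) (k.map (subtype_injective _)) hO (by
      change Nat.card (centralizer ({(a : H) ^ 4} : Set H)) ∣ 48
      rw [ea, hC])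
    refine (recognition hO (ea ▸ z2 :) e).resolve_right fun ⟨f⟩ => ?_
    have := Nat.card_congr f.toEquiv
    rw [hG, Golay.card_M11] at this
    omega
  · omega

/-- Let H be a finite group whose commuting graph (vertices the non-identity elements, two joined when they commute) is isomorphic to that of PSL_3(3): there is a bijection between the non-identity elements of H and of PSL_3(3) under which two elements commute exactly when their images do. Then H ≅ PSL_3(3). -/
theorem result {H : Type*} [Group H] [Finite H]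
    (f : {h : H // h ≠ 1} ≃ {g : Matrix.ProjectiveSpecialLinearGroup (Fin 3) (ZMod 3) // g ≠ 1})
    (hf : ∀ x y : {h : H // h ≠ 1}, (x : H) * y = y * x ↔ ((f x) : Matrix.ProjectiveSpecialLinearGroup (Fin 3) (ZMod 3)) * (f y) = (f y) * (f x)) :
    Nonempty (H ≃* Matrix.ProjectiveSpecialLinearGroup (Fin 3) (ZMod 3)) := by
  classical
  let F : H ≃ L33 := (Equiv.optionSubtypeNe 1).symm.trans (f.optionCongr.trans (Equiv.optionSubtypeNe 1))
  have h1 : F 1 = 1 := by simp [F]
  have h2 : ∀ x (hx : x ≠ 1), F x = f ⟨x, hx⟩ := fun x hx => by simp [F, hx]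
  have h3 : ∀ x y, x * y = y * x ↔ F x * F y = F y * F x := fun x y => by
    by_cases hx : x = 1
    · simp [hx, h1]
    by_cases hy : y = 1
    · simp [hy, h1]
    rw [h2 x hx, h2 y hy]
    exact hf ⟨x, hx⟩ ⟨y, hy⟩
  have hc : center L = ⊥ := card_eq_one.1 (by rw [Classical.SLBasic.card_center_SL, Nat.card_zmod]; rfl)
  let e : L33 ≃* L := (QuotientGroup.quotientMulEquivOfEq hc).trans QuotientGroup.quotientBot
  exact main (F := F.trans e.toEquiv) ⟨by simp [h1], fun x y => (h3 x y).trans (by
    change _ ↔ e (F x) * e (F y) = e (F y) * e (F x)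
    rw [← map_mul e, ← map_mul e, e.injective.eq_iff])⟩ ((Nat.card_congr F).trans card_L33)

end Cfsg.Agent.S3412
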