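import Mathlib
import Cfsg.Statements.S3413
import Cfsg.Agent.Gl23.Ord6

set_option autoImplicit false
open Cfsg

namespace Cfsg.Agent.S3413

open Cfsg.Agent.Golay

/-- Let H be a finite group whose commuting graph (vertices the non-identity elements, two joined when they commute) is isomorphic to that of the Mathieu group M_11: there is a bijection between the non-identity elements of H and of M_11 under which two elements commute exactly when their images do. Then H ≅ M_11. -/
theorem result {H : Type*} [Group H] [Finite H]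
    (f : {h : H // h ≠ 1} ≃ {g : ↥Cfsg.Spor.M11 // g ≠ 1})
    (hf : ∀ x y : {h : H // h ≠ 1}, (x : H) * y = y * x ↔ ((f x) : ↥Cfsg.Spor.M11) * (f y) = (f y) * (f x)) :
    Nonempty (H ≃* ↥Cfsg.Spor.M11) := by
  classical
  let F : H ≃ Spor.M11 :=
    (Equiv.optionSubtypeNe 1).symm.trans (f.optionCongr.trans (Equiv.optionSubtypeNe 1))
  have h1 : F 1 = 1 := by simp [F]
  have h2 : ∀ x (hx : x ≠ 1), F x = f ⟨x, hx⟩ := fun x hx => by simp [F, hx]
  have h3 : ∀ x y, x * y = y * x ↔ F x * F y = F y * F x := fun x y => by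
    by_cases hx : x = 1
    · simp [hx, h1]
    by_cases hy : y = 1
    · simp [hy, h1]
    rw [h2 x hx, h2 y hy]
    exact hf ⟨x, hx⟩ ⟨y, hy⟩
  have hG : Nat.card H = 7920 := (Nat.card_congr F).trans card_M11
  obtain ⟨g, hg⟩ := exists_prime_orderOf_dvd_card' (G := Spor.M11) (hp := ⟨by norm_num⟩) 11
    (by rw [card_M11]; norm_num)
  obtain ⟨r, hr, h4, h5⟩ := card_cent_M11 g
  rw [(by decide : ∀ r ∈ cls11, 11 = r.2.1 → r.2.2 = 720) r hr (hg ▸ h4)] at h5
  obtain ⟨x, rfl⟩ := F.surjective g
  have h6 : Nat.card (Subgroup.centralizer ({x} : Set H)) =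
      Nat.card (Subgroup.centralizer ({F x} : Set Spor.M11)) :=
    Nat.card_congr (F.subtypeEquiv fun y => by
      rw [Subgroup.mem_centralizer_singleton_iff, Subgroup.mem_centralizer_singleton_iff, h3])
  have := Gl23.simple_of_SX hG (Gl23.SX_of_card (p := 11) (by norm_num) (x := x)
    (fun h => by simp [h, h1] at hg) (by omega))
  exact Gl23.equiv_M11 hG

end Cfsg.Agent.S3413
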