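import Mathlib
import Cfsg.Statements.S3421
import Cfsg.Agent.CIT.F12

set_option autoImplicit false
open Cfsg

namespace Cfsg.Agent.S3421


/-- Let F be a finite field with more than 3 elements. A finite group G is isomorphic to PSL(2, F) if and only if G has the same set of element orders and the same order as PSL(2, F). -/
theorem result {G : Type*} [Group G] [Finite G] {F : Type*} [Field F] [Fintype F] (hF : 3 < Fintype.card F) :
    Nonempty (G ≃* Matrix.ProjectiveSpecialLinearGroup (Fin 2) F) ↔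
      (Set.range (orderOf : G → ℕ) = Set.range (orderOf : Matrix.ProjectiveSpecialLinearGroup (Fin 2) F → ℕ) ∧
        Nat.card G = Nat.card (Matrix.ProjectiveSpecialLinearGroup (Fin 2) F)) := by
  constructor
  · rintro ⟨e⟩
    refine ⟨Set.ext fun k => ⟨?_, ?_⟩, Nat.card_congr e.toEquiv⟩
    · rintro ⟨g, rfl⟩
      exact ⟨e g, e.orderOf_eq g⟩
    · rintro ⟨g, rfl⟩
      exact ⟨e.symm g, e.symm.orderOf_eq g⟩
  rintro ⟨h1, h2⟩
  have h3 : ∀ k, (∃ g : G, orderOf g = k) ↔
      ∃ g : Matrix.ProjectiveSpecialLinearGroup (Fin 2) F, orderOf g = k := fun k =>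
    Set.ext_iff.1 h1 k
  rcases Nat.even_or_odd (Fintype.card F) with h4 | ⟨c, hc⟩
  · obtain ⟨n, hn, hq⟩ : ∃ n, 2 ≤ n ∧ Fintype.card F = 2 ^ n := by
      obtain ⟨p, hc, f, hp, hq⟩ := FiniteField.card' F
      obtain rfl : 2 = p := (Nat.prime_dvd_prime_iff_eq Nat.prime_two hp).1
        (Nat.prime_two.dvd_of_dvd_pow (hq ▸ h4.two_dvd))
      refine ⟨f, ?_, hq⟩
      by_contra h5
      have : 2 ^ (f : ℕ) ≤ 2 ^ 1 := Nat.pow_le_pow_right (by norm_num) (by omega)
      omega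
    have h5 := CIT.F.four_dvd_pow hn
    have h6 := CIT.F.four_le_pow hn
    have ho : ∀ g : G, orderOf g ∣ 2 ∨ orderOf g ∣ 2 ^ n - 1 ∨ orderOf g ∣ 2 ^ n + 1 := fun g => by
      obtain ⟨g', hg⟩ := (h3 _).1 ⟨g, rfl⟩
      exact hg ▸ CIT.F.order_even hn hq g'
    have hev : ∀ g : G, 2 ∣ orderOf g → orderOf g = 2 := fun g hg => by
      rcases ho g with h7 | h7 | h7
      · exact Nat.dvd_antisymm h7 hg
      · have := hg.trans h7; omega
      · have := hg.trans h7; omega
    have hO : CIT.F.Ord2 G := fun g hg => ⟨1, hev g hg⟩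
    have h4' : ¬ ∃ g : G, orderOf g = 4 := fun ⟨g, hg⟩ => by
      have := hev g (by rw [hg]; norm_num)
      omega
    have hc := h2.trans (CIT.F.card_psl2_even (by omega) hq)
    have hns : ¬ Group.IsSolvable G := by
      obtain ⟨r, hr, hr2, h7⟩ := CIT.F.exists_prime_dvd (n := 2 ^ n - 1) (by omega)
        (Nat.odd_iff.2 (by omega))
      obtain ⟨s, hs, hs2, h8⟩ := CIT.F.exists_prime_dvd (n := 2 ^ n + 1) (by omega)
        (Nat.odd_iff.2 (by omega))
      have h9 : ∀ k, k ∣ 2 ^ n - 1 → k ∣ 2 ^ n + 1 → k = 1 := fun k h9 h10 => by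
        have h11 : k ∣ 2 ^ 1 := by
          have := Nat.dvd_sub h10 h9
          rwa [show 2 ^ n + 1 - (2 ^ n - 1) = 2 ^ 1 by omega] at this
        exact CIT.F.odd_dvd_two_pow (Odd.of_dvd_nat (Nat.odd_iff.2 (by omega)) h10) h11
      refine CIT.F.not_solv_of_three Nat.prime_two hr hs hr2.symm hs2.symm
        (fun h => hr.ne_one (h9 r h7 (h ▸ h8))) ?_ ?_ ?_ (fun g hg => ?_) (fun g hg => ?_)
        fun g hg => ?_
      · rw [hc]; exact ((show 2 ∣ 4 by norm_num).trans h5).mul_right _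
      · rw [hc, CIT.F.sq_sub_one_eq']; exact (h7.mul_left _).mul_left _
      · rw [hc, CIT.F.sq_sub_one_eq']; exact (h8.mul_right _).mul_left _
      · have := hev g (hg ▸ dvd_mul_right _ _)
        have := hr.one_lt
        omega
      · have := hev g (hg ▸ dvd_mul_right _ _)
        have := hs.one_lt
        omega
      · rcases ho g with h10 | h10 | h10 <;> rw [hg] at h10
        · exact hr2 ((Nat.prime_dvd_prime_iff_eq hr Nat.prime_two).1 ((dvd_mul_right _ _).trans h10))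
        · exact hs.ne_one (h9 s ((dvd_mul_left _ _).trans h10) h8)
        · exact hr.ne_one (h9 r h7 ((dvd_mul_right _ _).trans h10))
    have hb : Cfsg.pCore 2 G = ⊥ := by
      by_contra hb
      exact h4' (hO.exists_four hns hb)
    have key : CIT.F.L2E G → Nonempty (G ≃* Matrix.ProjectiveSpecialLinearGroup (Fin 2) F) := by
      rintro ⟨K, _, _, m, hm, hK, ⟨e⟩⟩
      have h7 := CIT.F.four_dvd_pow hm
      have h8 := CIT.F.four_le_pow hm
      have h9 := (Nat.card_congr e.toEquiv).trans (CIT.F.card_psl2_even (by omega) hK)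
      have h10 : 2 ^ m = 2 ^ n := by
        by_contra h10
        have h11 : ∀ a b : ℕ, 1 ≤ a → a < b → a * (a ^ 2 - 1) < b * (b ^ 2 - 1) :=
          fun a b ha hab => by
            have h12 : a ^ 2 < b ^ 2 := Nat.pow_lt_pow_left hab two_ne_zero
            have h13 : 1 ≤ a ^ 2 := Nat.one_le_pow _ _ ha
            exact Nat.mul_lt_mul_of_le_of_lt hab.le (by omega) (by omega)
        rcases Nat.lt_or_gt_of_ne h10 with h12 | h12
        · have := h11 _ _ (by omega) h12
          omega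
        · have := h11 _ _ (by omega) h12
          omega
      exact CIT.F.L2.iso (q := 2 ^ n) ⟨K, inferInstance, inferInstance, hK.trans h10, ⟨e⟩⟩ hq
    have e0 := (QuotientGroup.quotientMulEquivOfEq hb).trans QuotientGroup.quotientBot
    rcases CIT.F.struct hO hns with h7 | h7 | ⟨-, h7 | h7 | h7 | h7⟩
    · exact key (h7.equiv e0)
    · obtain ⟨K, _, _, m, hm, hK, ⟨e⟩⟩ := CIT.F.sz_equiv h7 e0
      exact absurd (CIT.F.ord_of_equiv e (CIT.F.exists_order_sz hm hK (Or.inl dvd_rfl))) h4'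
    · obtain ⟨K, _, _, hp, h8, ⟨k, hk⟩, ⟨e⟩⟩ := h7
      by_cases h9 : Fintype.card K = 5
      · obtain ⟨L, _, _, hL, e'⟩ := CIT.F.L2.four_of_five (G := G) ⟨K, _, _, h9, ⟨e⟩⟩
        exact key ⟨L, _, _, 2, le_rfl, hL, e'⟩
      obtain ⟨c, hc⟩ := hp.odd_of_ne_two (by omega)
      have h10 : 2 ^ 2 < 2 ^ k := by omega
      have h11 : 2 ^ 3 ∣ 2 ^ k :=
        pow_dvd_pow 2 ((Nat.pow_lt_pow_iff_right (by norm_num)).1 h10)
      exact absurd (CIT.F.ord_of_equiv e (CIT.F.exists_order_odd (by omega) hc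
        (Or.inr (by omega)))) h4'
    · exact absurd (CIT.F.L2.ord_odd (c := 4) h7 (by norm_num) (by norm_num)) h4'
    · exact absurd (h7.ord (by norm_num)) h4'
    · obtain ⟨-, -, -, -, -, g, hg⟩ := h7
      have := hev g (by rw [hg]; norm_num)
      omega
  · obtain ⟨hp, -, -, -, n, -, hn⟩ := CIT.F.char_facts hc
    have h5 : 2 ≤ c := by omega
    have h6 := h2.trans (CIT.F.card_psl2_odd hc)
    have ho : ∀ g : G, orderOf g ∣ ringChar F ∨ orderOf g ∣ c ∨ orderOf g ∣ c + 1 := fun g => by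
      obtain ⟨g', hg⟩ := (h3 _).1 ⟨g, rfl⟩
      exact hg ▸ CIT.F.order_odd h5 hc g'
    have e1 := (h3 c).2 (CIT.F.exists_order_odd h5 hc (Or.inr (Or.inl dvd_rfl)))
    have e2 := (h3 (c + 1)).2 (CIT.F.exists_order_odd h5 hc (Or.inr (Or.inr dvd_rfl)))
    refine CIT.F.L2.iso ?_ rfl
    rcases Nat.even_or_odd c with h7 | h7
    · exact CIT.F.Sp.l2 (e := c) (o := c + 1) ⟨hp, ⟨n, hn⟩, hc, h5, Or.inl ⟨rfl, rfl⟩, h7.two_dvd,
        by rw [h6, hc], ho, e1, e2⟩
    · exact CIT.F.Sp.l2 (e := c + 1) (o := c) ⟨hp, ⟨n, hn⟩, hc, h5, Or.inr ⟨rfl, rfl⟩,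
        h7.add_one.two_dvd, by rw [h6, hc]; ring, fun g => by have := ho g; tauto, e2, e1⟩

end Cfsg.Agent.S3421
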