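import Mathlib
import Cfsg.Statements.S3427
import Cfsg.Agent.U33.F
import Cfsg.Agent.U33.PM
-- Template for statement S3427 (row 3427; see /opt/grader/pristine/manifest.json for weights).
-- Copy to Cfsg/Agent/S3427.lean and replace the sorry. The statement below is byte-identical to the frozen
-- statement Cfsg.CfsgFrozen.S3427 (Cfsg/Statements/S3427.lean; the theorem Cfsg.recog5_chevalley_g_two_over_two_by_order_and_spectrum);
-- the grader kernel-checks Cfsg.Agent.S3427.result against that frozen type. Keep the theorem IN THIS FILE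
-- (a `result` declared elsewhere and merely imported here is not credited); helpers may live anywhere
-- under Cfsg/Agent/.
-- import your own Cfsg.Agent.* helpers here

set_option autoImplicit false
open Cfsg

namespace Cfsg.Agent.S3427

/-- Let F be the field with 2 elements and let M be the Chevalley group of type G₂ over F (a non-simple group of order 12096 whose derived subgroup, of index 2, is isomorphic to PSU(3, 3)). A finite group G is isomorphic to M if and only if G has the same set of element orders and the same order as M. -/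
theorem result {G : Type*} [Group G] [Finite G] {F : Type*} [Field F] [Fintype F] (hF : Fintype.card F = 2) :
    Nonempty (G ≃* ↥(Cfsg.Lie.chevG2.group F)) ↔
      (Set.range (orderOf : G → ℕ) = Set.range (orderOf : ↥(Cfsg.Lie.chevG2.group F) → ℕ) ∧ Nat.card G = Nat.card ↥(Cfsg.Lie.chevG2.group F)) := by
  obtain ⟨hc, ho, L, hn, hs, hL, hC⟩ := U33.partM hF
  have : Finite ↥(Cfsg.Lie.chevG2.group F) := Nat.finite_of_card_ne_zero (by rw [hc]; norm_num)
  obtain ⟨⟨eM⟩, h14⟩ := U33.of_simple hc (fun g => (ho g).1) L hs hL hC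
  constructor
  · rintro ⟨e⟩
    refine ⟨Set.ext fun n => ⟨?_, ?_⟩, Nat.card_congr e.toEquiv⟩
    · rintro ⟨g, rfl⟩
      exact ⟨e g, e.orderOf_eq g⟩
    · rintro ⟨g, rfl⟩
      exact ⟨e.symm g, e.symm.orderOf_eq g⟩
  · rintro ⟨h1, h2⟩
    have key : ∀ g : G, ∃ m : ↥(Cfsg.Lie.chevG2.group F), orderOf m = orderOf g := fun g =>
      (h1 ▸ Set.mem_range_self g : orderOf g ∈ Set.range (orderOf : ↥(Cfsg.Lie.chevG2.group F) → ℕ))
    have h9 : ∀ g : G, orderOf g ≠ 9 := fun g => by obtain ⟨m, hm⟩ := key g; exact hm ▸ (ho m).1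
    have h21 : ∀ g : G, orderOf g ≠ 21 := fun g => by obtain ⟨m, hm⟩ := key g; exact hm ▸ (ho m).2
    have h14' : ∀ g : G, orderOf g ≠ 14 := fun g => by obtain ⟨m, hm⟩ := key g; exact hm ▸ h14 m
    rw [hc] at h2
    obtain ⟨K, hn', hs', hK, hC'⟩ := U33.partI h2 h14' h21 h9
    obtain ⟨⟨e⟩, -⟩ := U33.of_simple h2 h9 K hs' hK hC'
    exact ⟨e.trans eM.symm⟩
end Cfsg.Agent.S3427
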