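import Mathlib
import Cfsg.Statements.S3433
import Cfsg.Agent.CIT.Sp5

set_option autoImplicit false
open Cfsg

namespace Cfsg.Agent.S3433

open Cfsg.Agent.CIT.F Cfsg.Agent.CIT.Sp5

/-- A finite group whose set of element orders is exactly {1, 2, 3, 4, 5} is isomorphic to the alternating group of degree 6, or has a normal elementary abelian 2-subgroup with quotient isomorphic to the alternating group of degree 5. -/
theorem result {G : Type*} [Group G] [Finite G] (h : Set.range (orderOf : G → ℕ) = {k : ℕ | 1 ≤ k ∧ k ≤ 5}) :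
    Nonempty (G ≃* ↥(alternatingGroup (Fin 6))) ∨
      ∃ (N : Subgroup G) (_ : N.Normal), Cfsg.IsElementaryAbelian 2 N ∧ Nonempty (G ⧸ N ≃* ↥(alternatingGroup (Fin 5))) := by
  have h5 : ∀ g : G, orderOf g ≤ 5 := fun g => (h.le ⟨g, rfl⟩).2
  have ex : ∀ k, 1 ≤ k → k ≤ 5 → ∃ g : G, orderOf g = k := fun k a b => h.ge ⟨a, b⟩
  exact (struct5 h5 (ex 2 (by decide) (by decide)) (ex 3 (by decide) (by decide))
    (ex 5 (by decide) (by decide))).imp_right fun e =>
      ⟨_, inferInstance, elem_ab h5 (ex 3 (by decide) (by decide)) e, L2.a5 (Or.inl e)⟩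

end Cfsg.Agent.S3433
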