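import Mathlib
import Cfsg.Statements.S3488
import Cfsg.Agent.Spc.Iso
import Cfsg.Agent.Spec.Sym
-- import your own Cfsg.Agent.* helpers here

set_option autoImplicit false
open Cfsg

namespace Cfsg.Agent.S3488

set_option backward.isDefEq.respectTransparency false

open Matrix Polynomial in
theorem aux {F : Type*} [Field F] [CharP F 2] (M : SpecialLinearGroup (Fin 3) F)
    (hM : M ∈ Subgroup.closure {M : Matrix.SpecialLinearGroup (Fin 3) F | (M : Matrix (Fin 3) (Fin 3) F) 2 0 = 0 ∧
      (M : Matrix (Fin 3) (Fin 3) F) 2 1 = 0 ∧ (M : Matrix (Fin 3) (Fin 3) F) 2 2 = 1}) {t : F}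
    (ht : M.1 0 0 + M.1 1 1 = t) :
    (t = 0 → M ^ 4 = 1) ∧ (t = 1 → M ^ 3 = 1) ∧ (t ^ 2 + t + 1 = 0 → M ^ 5 = 1) := by
  have h0 : M.1 2 0 = 0 ∧ M.1 2 1 = 0 ∧ M.1 2 2 = 1 := by
    have : Pi.single 2 1 ᵥ* M.1 = Pi.single 2 1 := by
      clear ht
      induction hM using Subgroup.closure_induction with
      | mem x hx => ext i; fin_cases i <;> simp [vecMul, dotProduct, Fin.sum_univ_three, hx.1, hx.2.1, hx.2.2]
      | one => simp
      | mul x y _ _ hx hy => rw [Matrix.SpecialLinearGroup.coe_mul, ← vecMul_vecMul, hx, hy]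
      | inv x _ hx =>
        nth_rw 1 [← hx]
        rw [vecMul_vecMul, ← Matrix.SpecialLinearGroup.coe_mul, mul_inv_cancel]; simp
    exact ⟨by simpa using congrFun this 0, by simpa using congrFun this 1, by simpa using congrFun this 2⟩
  have hd := M.2
  rw [det_fin_three, h0.1, h0.2.1, h0.2.2] at hd
  have h1 : aeval M.1 ((X ^ 2 - C t * X + 1) * (X - 1)) = 0 := by
    subst ht
    simp only [map_mul, map_add, map_sub, map_pow, aeval_X, aeval_C, map_one, Algebra.algebraMap_eq_smul_one, sq]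
    ext i j
    fin_cases i <;> fin_cases j <;> simp [mul_apply, Fin.sum_univ_three, h0.1, h0.2.1, h0.2.2, one_apply] <;>
      first | ring1 | grind
  have key : ∀ (m : ℕ) (P : F[X]), X ^ m - 1 = P * ((X ^ 2 - C t * X + 1) * (X - 1)) → M ^ m = 1 :=
    fun m P h => Subtype.ext (by
      have := congrArg (aeval M.1) h
      rw [map_mul, h1, mul_zero, map_sub, map_pow, aeval_X, map_one, sub_eq_zero] at this
      exact this)
  have h2' : (2 : F[X]) = 0 := CharTwo.two_eq_zero
  refine ⟨fun h => key 4 (X + 1) (by rw [h, map_zero]; ring), fun h => key 3 1 (by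
    rw [h, map_one]; linear_combination (X ^ 2 - X) * h2'), fun h => ?_⟩
  have h' := congrArg (C : F →+* F[X]) h
  simp only [map_add, map_pow, map_one, map_zero] at h'
  exact key 5 (X ^ 2 + (C t + 1) * X + 1) (by linear_combination (X ^ 3 - X ^ 2) * h' - (X ^ 3 - X ^ 2) * h2')

/-- Let F be the field with four elements. The affine group F² ⋊ SL(2,F), realised as the subgroup of SL(3,F) of matrices with last row (0, 0, 1), has exactly the same set of element orders as the alternating group of degree 6 (namely {1, 2, 3, 4, 5}); so the alternating group of degree 6 is not determined by its element orders. -/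
theorem result {F : Type*} [Field F] [Fintype F] (hF : Fintype.card F = 4) :
    Set.range (orderOf : Subgroup.closure {M : Matrix.SpecialLinearGroup (Fin 3) F |
        (M : Matrix (Fin 3) (Fin 3) F) 2 0 = 0 ∧ (M : Matrix (Fin 3) (Fin 3) F) 2 1 = 0 ∧ (M : Matrix (Fin 3) (Fin 3) F) 2 2 = 1} → ℕ) =
      Set.range (orderOf : alternatingGroup (Fin 6) → ℕ) := by
  have : CharP F 2 := by
    obtain ⟨p, hp⟩ := CharP.exists F
    obtain ⟨n, h1, h2⟩ := FiniteField.card F p
    obtain rfl : p = 2 := (Nat.prime_dvd_prime_iff_eq h1 Nat.prime_two).1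
      (h1.dvd_of_dvd_pow (n := 2) (by rw [show 2 ^ 2 = Fintype.card F from hF.symm, h2]; exact dvd_pow_self _ n.ne_zero))
    exact hp
  have h4 : ∀ t : F, t = 0 ∨ t = 1 ∨ t ^ 2 + t + 1 = 0 := fun t => by
    have := FiniteField.pow_card t
    rw [hF] at this
    have h : t * ((t - 1) * (t ^ 2 + t + 1)) = 0 := by linear_combination this
    simpa [sub_eq_zero] using h
  refine Eq.trans ?_ Spec.spec_A6.symm
  refine Spec.spec_eq_of [3, 4, 5] ?_ ?_ fun n => ⟨fun h => ?_, fun ⟨m, hm, h⟩ => ?_⟩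
  · rintro ⟨M, hM⟩
    obtain ⟨h1, h2, h3⟩ := aux M hM rfl
    rcases h4 (M.1 0 0 + M.1 1 1) with h | h | h
    exacts [⟨4, by simp, Subtype.ext (h1 h)⟩, ⟨3, by simp, Subtype.ext (h2 h)⟩, ⟨5, by simp, Subtype.ext (h3 h)⟩]
  · have key : ∀ t : F, ∃ M : Matrix.SpecialLinearGroup (Fin 3) F, M.1 = !![0, -1, 1; 1, t, 0; 0, 0, 1] := fun t =>
      ⟨⟨_, by simp [Matrix.det_fin_three]⟩, rfl⟩
    have key2 : ∀ (t : F) (M : Matrix.SpecialLinearGroup (Fin 3) F), M.1 = !![0, -1, 1; 1, t, 0; 0, 0, 1] →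
        (M.1 2 0 = 0 ∧ M.1 2 1 = 0 ∧ M.1 2 2 = 1) ∧ M.1 0 0 + M.1 1 1 = t ∧ M ^ 2 ≠ 1 := fun t M h =>
      ⟨by simp [h], by simp [h], fun h' => by
        simpa [h, sq] using congrFun (congrFun (congrArg Subtype.val h') 0) 2⟩
    obtain ⟨w, h0, h1⟩ : ∃ w : F, w ≠ 0 ∧ w ≠ 1 := by
      by_contra h
      push Not at h
      have : Fintype.card F ≤ 2 := by
        classical
        exact (Finset.card_le_card (show Finset.univ ⊆ ({0, 1} : Finset F) from fun x _ => by
          simpa [or_iff_not_imp_left] using h x)).trans Finset.card_le_two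
      omega
    have : Fact (Nat.Prime 5) := ⟨by decide⟩
    intro m hm
    simp only [List.mem_cons, List.not_mem_nil, or_false] at hm
    rcases hm with rfl | rfl | rfl
    · obtain ⟨M, hM⟩ := key 1
      obtain ⟨k1, k2, k3⟩ := key2 _ M hM
      exact ⟨⟨M, Subgroup.subset_closure k1⟩, (Subgroup.orderOf_mk _ _).trans (orderOf_eq_prime
        ((aux M (Subgroup.subset_closure k1) k2).2.1 rfl) (by rintro rfl; simp at k3))⟩
    · obtain ⟨M, hM⟩ := key 0
      obtain ⟨k1, k2, k3⟩ := key2 _ M hM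
      exact ⟨⟨M, Subgroup.subset_closure k1⟩, (Subgroup.orderOf_mk _ _).trans (orderOf_eq_prime_pow (p := 2) (n := 1)
        k3 ((aux M (Subgroup.subset_closure k1) k2).1 rfl))⟩
    · obtain ⟨M, hM⟩ := key w
      obtain ⟨k1, k2, k3⟩ := key2 _ M hM
      exact ⟨⟨M, Subgroup.subset_closure k1⟩, (Subgroup.orderOf_mk _ _).trans (orderOf_eq_prime
        ((aux M (Subgroup.subset_closure k1) k2).2.2 (((h4 w).resolve_left h0).resolve_left h1))
        (by rintro rfl; simp at k3))⟩
  · simp only [Set.mem_ofPred_eq, List.mem_cons, List.not_mem_nil, or_false] at h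
    rcases h with rfl | rfl | rfl | rfl | rfl <;> decide
  · simp only [List.mem_cons, List.not_mem_nil, or_false] at hm
    rcases hm with rfl | rfl | rfl <;> have := Nat.le_of_dvd (by decide) h <;> interval_cases n <;> simp_all

end Cfsg.Agent.S3488
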