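import Mathlib
import Cfsg.Statements.S3493
import Cfsg.Agent.Perm.XP
import Cfsg.Agent.S0205

set_option autoImplicit false
open Cfsg

namespace Cfsg.Agent.S3493

open Subgroup MulAction Perm LocalEven

section
variable {G Ω : Type*} [Group G] [Finite G] [Fintype Ω] [MulAction G Ω] [FaithfulSMul G Ω]

theorem cent (hF : fittingSubgroup G = ⊥) {T : Subgroup G} (hT : IsComponent T) {t : G}
    (ht : t ∈ T) (h : ∀ u ∈ T, Commute u t) : t = 1 :=
  mem_bot.1 (hF ▸ Comp2.component_inf_centralizer_le_fitting hT ⟨ht, fun u hu => (h u hu).eq⟩)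

theorem conj_comm (hF : fittingSubgroup G = ⊥) {T : Subgroup G} (hT : IsComponent T) {t : G}
    (ht : t ∈ T) (h : ∀ u ∈ T, Commute (u * t * u⁻¹) t) : t = 1 := by
  have := comp_simple hF hT
  by_contra h1
  have h2 := (normalClosure_normal (s := {(⟨t, ht⟩ : T)})).eq_bot_or_eq_top.resolve_left fun e =>
    h1 (congrArg Subtype.val (mem_bot.1 (e.le (subset_normalClosure rfl))))
  have h3 : normalClosure {(⟨t, ht⟩ : T)} ≤ centralizer {⟨t, ht⟩} := (closure_le _).2 fun x hx => by
    obtain ⟨a, rfl, hx⟩ := Group.mem_conjugatesOfSet_iff.1 hx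
    obtain ⟨u, rfl⟩ := isConj_iff.1 hx
    exact mem_centralizer_singleton_iff.2 (Subtype.ext (h u u.2).eq)
  exact h1 (cent hF hT ht fun u hu =>
    show u * t = t * u from congrArg Subtype.val
      (mem_centralizer_singleton_iff.1 (h3 (h2.ge (mem_top (⟨u, hu⟩ : T))))))

theorem normal_of (h : XP G Ω) {T : Subgroup G} (hT : IsComponent T) {α : Ω}
    (hn : ∀ g : G, g • α = α → g ∈ normalizer (T : Set G)) : T.Normal := by
  have := h.prim
  refine normalizer_eq_top_iff.1 (eq_top_iff.2 fun g _ => ?_)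
  obtain ⟨e, he, h1⟩ := layer_trans hT α (g • α)
  have := mul_mem (Comp2.layer_le_normalizer hT he) (hn (e⁻¹ * g) (by
    rw [mul_smul, inv_smul_eq_iff, h1]))
  rwa [mul_inv_cancel_left] at this

theorem semireg (h : XP G Ω) (h2 : ∀ T : Subgroup G, IsComponent T →
    ∃ T' : Subgroup G, IsComponent T' ∧ T' ≠ T) {T : Subgroup G} (hT : IsComponent T) {t : G}
    (ht : t ∈ T) {α : Ω} (hα : t • α = α) : t = 1 := by
  have := h.prim
  by_cases hn : ∀ T : Subgroup G, IsComponent T → ∀ g : G, g • α = α → g ∈ normalizer (T : Set G)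
  · obtain ⟨T', hT', h3⟩ := h2 T hT
    have := normal_of h hT' (hn T' hT')
    exact congrArg Subtype.val (mem_bot.1 ((regular_of_commute (normal_trans (Ω := Ω) T'
      (Comp2.component_ne_bot hT')) (fun m hm n hn => (comp_commute hT hT' h3.symm hm hn).eq) α).le
        (show (⟨t, ht⟩ : T) ∈ _ from hα)))
  push Not at hn
  obtain ⟨S, hS, g, hg, hn⟩ := hn
  by_contra h1
  let R := closure {x : G | x • α = α ∧ ∃ T : Subgroup G, IsComponent T ∧ x ∈ T}
  have hR : R ≤ stabilizer G α := (closure_le _).2 fun x hx => hx.1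
  have hR' : R ≤ layer G := (closure_le _).2 fun x ⟨_, T, hT, hx⟩ => Comp2.component_le_layer hT hx
  have hRn : stabilizer G α ≤ normalizer (R : Set G) := le_normalizer_of_cj_le fun k hk => by
    rw [cj_closure]
    refine closure_mono ?_
    rintro _ ⟨x, ⟨h3, T, hT, hx⟩, rfl⟩
    exact ⟨mul_mem (mul_mem hk (show x ∈ stabilizer G α from h3)) (inv_mem hk), cj k T,
      Comp2.component_conj hT k, conj_mem_cj hx⟩
  have hR0 : R ≠ ⊥ := fun e => h1 (mem_bot.1 (e.le (subset_closure ⟨hα, T, hT, ht⟩)))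
  obtain ⟨s, hs, h3⟩ := comp_not_fix hS α
  obtain ⟨r, hr, h4⟩ := h.trans hR hRn hR0 (s • α) hg
  have key : ∀ k : G, k • α = α → k • s • α = (k * s * k⁻¹) • α := fun k hk => by
    rw [mul_smul, mul_smul, inv_smul_eq_iff.2 hk.symm]
  refine h.not_fix hR hRn hR0 (β := g • s • α) (fun e => h3 (smul_left_cancel g (e.trans hg.symm)))
    ((closure_le _).2 fun x ⟨h5, U, hU, hx⟩ => ?_)
  have k2 : ∀ y : G, Commute x y → x • y • α = y • α := fun y hy => by
    rw [smul_smul, hy.eq, mul_smul, h5]
  change x • g • s • α = g • s • α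
  by_cases h6 : U = S
  · rw [key g hg]
    refine k2 _ (comp_commute hU (Comp2.component_conj hS g) (fun e => hn ?_) hx (conj_mem_cj hs))
    exact cj_eq_self_iff.1 (e.symm.trans h6)
  · rw [← h4, key r (hR hr)]
    exact k2 _ (comp_commute hU hS h6 hx
      (conj_mem_of_mem_normalizer (Comp2.layer_le_normalizer hS (hR' hr)) hs))

theorem caseB (h : XP G Ω) (hF : fittingSubgroup G = ⊥) (h2 : ∀ T : Subgroup G, IsComponent T →
    ∃ T' : Subgroup G, IsComponent T' ∧ T' ≠ T) {T : Subgroup G} (hT : IsComponent T) (α : Ω) :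
    layer G ⊓ stabilizer G α = ⊥ := by
  have := h.prim
  by_contra h0
  have key : ∀ k s : G, k • α = α → k • s • α = (k * s * k⁻¹) • α := fun k s hk => by
    rw [mul_smul, mul_smul, inv_smul_eq_iff.2 hk.symm]
  have tr : ∀ T : Subgroup G, IsComponent T → ∀ g : G, ∃ t ∈ T, t • α = g • α := fun T hT g => by
    obtain ⟨s, hs, h3⟩ := comp_not_fix hT α
    have : Nontrivial Ω := ⟨_, _, h3⟩
    let K : Subgroup G :=
      { carrier := {g | ∀ t ∈ T, ∃ u ∈ T, g • t • α = u • α}
        one_mem' := fun t ht => ⟨t, ht, one_smul _ _⟩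
        mul_mem' := fun {a b} ha hb t ht => by
          obtain ⟨u, hu, h4⟩ := hb t ht
          simpa only [mul_smul, h4] using ha u hu
        inv_mem' := fun {a} ha => by
          have : ∀ n : ℕ, ∀ t ∈ T, ∃ u ∈ T, a ^ n • t • α = u • α := fun n => by
            induction n with
            | zero => exact fun t ht => ⟨t, ht, by simp⟩
            | succ n ih =>
              intro t ht
              obtain ⟨u, hu, h4⟩ := ha t ht
              simpa only [pow_succ, mul_smul, h4] using ih u hu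
          obtain ⟨n, hn⟩ := (mem_powers_iff_mem_zpowers).2 (inv_mem (mem_zpowers a))
          exact hn ▸ this n }
    have h4 : stabilizer G α ≤ K := fun k hk t ht => by
      obtain ⟨r, hr, h5⟩ := h.trans inf_le_right (le_normalizer_inf (H := layer G)
        le_normalizer_of_normal le_normalizer) h0 (t • α) hk
      exact ⟨_, conj_mem_of_mem_normalizer (Comp2.layer_le_normalizer hT hr.1) ht,
        h5 ▸ key r t hr.2⟩
    have h5 := ((isCoatom_stabilizer_iff_preprimitive G α).2 h.prim).2 K (lt_of_le_of_ne h4 fun e =>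
      h3 (e.ge (show s ∈ K from fun t ht => ⟨_, mul_mem hs ht, (mul_smul _ _ _).symm⟩)))
    obtain ⟨u, hu, h6⟩ := h5.ge (mem_top g) 1 (one_mem _)
    exact ⟨u, hu, by rw [← h6, one_smul]⟩
  have inj : ∀ t ∈ T, ∀ u ∈ T, t • α = u • α → t = u := fun t ht u hu e =>
    (inv_mul_eq_one.1 (semireg h h2 hT (mul_mem (inv_mem hu) ht) (α := α)
      (by rw [mul_smul, e, inv_smul_smul]))).symm
  obtain ⟨T', hT', h3⟩ := h2 T hT
  have lift : ∀ u ∈ T, ∃ g : G, g • α = α ∧ ∀ t ∈ T, g • t • α = (u * t * u⁻¹) • α := fun u hu => by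
    obtain ⟨v, hv, h4⟩ := tr T' hT' u⁻¹
    refine ⟨u * v, by rw [mul_smul, h4, smul_inv_smul], fun t ht => ?_⟩
    rw [mul_smul, smul_smul v, (comp_commute hT' hT h3 hv ht).eq, mul_smul, h4, mul_smul, mul_smul]
  have inv : ∀ t ∈ T, ∀ u ∈ T, u * t * u⁻¹ = t⁻¹ → t⁻¹ = t := fun t ht u hu e => by
    by_cases h1 : t = 1
    · simp [h1]
    have hb : t • α ≠ α := fun e => h1 (semireg h h2 hT ht e)
    obtain ⟨g, h4, h5⟩ := lift u hu
    open scoped Pointwise in
    rcases h.max hb (K := stabilizer G ({t • α, t⁻¹ • α} : Set Ω)) (fun k hk hk' => by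
      have h6 : Commute (k * t * k⁻¹) t := by
        by_cases h6 : cj k T = T
        · rw [inj _ (h6 ▸ conj_mem_cj ht) t ht ((key k t hk).symm.trans hk')]
        · exact comp_commute (Comp2.component_conj hT k) hT h6 (conj_mem_cj ht) ht
      have h7 : k • t⁻¹ • α = t⁻¹ • α := by
        rw [key k _ hk, show k * t⁻¹ * k⁻¹ = (k * t * k⁻¹)⁻¹ by group, inv_smul_eq_iff, smul_smul,
          h6.inv_right.eq, mul_smul, ← key k t hk, hk', inv_smul_smul]
      rw [mem_stabilizer_iff, Set.smul_set_insert, Set.smul_set_singleton, hk', h7]) with h6 | h6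
    · refine inj _ (inv_mem ht) t ht ?_
      rw [← e, ← h5 t ht]
      refine h6 g ?_ h4
      rw [mem_stabilizer_iff, Set.smul_set_insert, Set.smul_set_singleton, h5 t ht,
        h5 _ (inv_mem ht), e, show u * t⁻¹ * u⁻¹ = (u * t * u⁻¹)⁻¹ by group, e, inv_inv,
        Set.pair_comm]
    · refine absurd (conj_comm hF hT ht fun v hv => ?_) h1
      obtain ⟨k, h7, h8⟩ := lift v hv
      have h9 := (mem_stabilizer_iff.1 (h6 k h7)).le (Set.smul_mem_smul_set (Set.mem_insert _ _))
      rw [h8 t ht] at h9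
      have h10 := mul_mem (mul_mem hv ht) (inv_mem hv)
      rcases h9 with h9 | h9
      · rw [inj _ h10 _ ht h9]
      · rw [inj _ h10 _ (inv_mem ht) h9]
        exact (Commute.refl t).inv_left
  have h4 : 2 ∣ Nat.card T := even_iff_two_dvd.1 (Nat.not_odd_iff_even.1 fun ho =>
    Comp2.quasisimple_not_isSolvable hT.2 (S0205.result ho))
  obtain ⟨a, ha, h5⟩ := Comp2.exists_orderOf_eq_of_dvd_card h4
  have h6 : a * a = 1 := by rw [← pow_two, ← h5, pow_orderOf_eq_one]
  refine absurd (conj_comm hF hT ha fun v hv => ?_) fun e => by simp [e] at h5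
  have h7 := mul_mem (mul_mem hv ha) (inv_mem hv)
  have h8 : v * a * v⁻¹ * (v * a * v⁻¹) = 1 := by
    rw [show v * a * v⁻¹ * (v * a * v⁻¹) = v * (a * a) * v⁻¹ by group, h6]; group
  generalize v * a * v⁻¹ = b at h7 h8
  have h9 := inv (a * b) (mul_mem ha h7) a ha (by
    rw [mul_inv_rev, inv_eq_of_mul_eq_one_right h6, inv_eq_of_mul_eq_one_right h8, ← mul_assoc, h6,
      one_mul])
  rwa [mul_inv_rev, inv_eq_of_mul_eq_one_right h6, inv_eq_of_mul_eq_one_right h8] at h9

theorem caseC (h : XP G Ω) (hF : fittingSubgroup G = ⊥) (h2 : ∀ T : Subgroup G, IsComponent T →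
    ∃ T' : Subgroup G, IsComponent T' ∧ T' ≠ T) {T : Subgroup G} (hT : IsComponent T) (α : Ω) :
    False := by
  have := h.prim
  have reg : ∀ e ∈ layer G, e • α = α → e = 1 := fun e he h1 =>
    mem_bot.1 ((caseB h hF h2 hT α).le ⟨he, h1⟩)
  have fx : ∀ e ∈ layer G, ∀ k : G, k • α = α → (k • e • α = e • α ↔ Commute k e) :=
    fun e he k hk => ⟨fun h1 => by
      have := reg _ (mul_mem (inv_mem he) ((inferInstance : (layer G).Normal).conj_mem e he k)) (by
        rw [mul_smul, mul_smul, mul_smul, inv_smul_eq_iff.2 hk.symm, h1, inv_smul_smul])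
      rw [inv_mul_eq_one, eq_mul_inv_iff_mul_eq] at this
      exact this.symm, fun h1 => by rw [smul_smul, h1.eq, mul_smul, hk]⟩
  have nm : ∀ T : Subgroup G, IsComponent T → ∀ t ∈ T, t ≠ 1 → ∀ k : G, Commute k t →
      k ∈ normalizer (T : Set G) := fun T hT t ht h1 k hk => by
    refine cj_eq_self_iff.1 (by_contra fun h3 => h1 (cent hF hT ht fun u hu => ?_))
    exact (comp_commute (Comp2.component_conj hT k) hT h3
      (mem_cj.2 (by rwa [mul_assoc, ← hk.eq, inv_mul_cancel_left])) hu).symm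
  have c1 : ∀ T : Subgroup G, IsComponent T → ∀ k : G, k • α = α → k ∈ normalizer (T : Set G) →
      ∀ t ∈ T, Commute k t := fun T hT k hk hn t ht => by
    by_cases h1 : t = 1
    · simp [h1]
    have h3 := Comp2.component_le_layer hT ht
    rcases h.max (K := normalizer (T : Set G)) (fun e => h1 (reg t h3 e))
      (fun g hg hg' => nm T hT t ht h1 g ((fx t h3 g hg).1 hg')) with h4 | h4
    · exact (fx t h3 k hk).1 (h4 k hn hk)
    · obtain ⟨T', hT', h5⟩ := h2 T hT
      have := normal_of h hT h4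
      obtain ⟨s, hs, h6⟩ := comp_not_fix hT' α
      obtain ⟨u, hu⟩ := (normal_trans (Ω := Ω) T (Comp2.component_ne_bot hT)).exists_smul_eq α (s • α)
      have h7 := inv_mul_eq_one.1 (reg _ (mul_mem (inv_mem (Comp2.component_le_layer hT' hs))
        (Comp2.component_le_layer hT u.2)) (by rw [mul_smul, inv_smul_eq_iff]; exact hu))
      rw [cent hF hT' hs fun v hv => comp_commute hT' hT h5 hv (h7 ▸ u.2)] at h6
      exact absurd (one_smul _ _) h6
  have c3 : ∀ k : G, k • α = α → k ∈ normalizer (T : Set G) → k = 1 := fun k hk hn => by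
    refine mem_bot.1 ((centralizer_layer hF).le (le_centralizer_iff.1 (show layer G ≤
      centralizer (zpowers k : Set G) from Comp2.layer_le_iff.2 fun T' hT' => ?_) (mem_zpowers k)))
    suffices k ∈ normalizer (T' : Set G) from fun t ht _ ⟨n, hn⟩ =>
      hn ▸ ((c1 T' hT' k hk this t ht).zpow_left n).eq
    by_cases h3 : T = T'
    · exact h3 ▸ hn
    obtain ⟨q, hq, -, t, ht, rfl⟩ := exists_prime_ne hT 2 Nat.prime_two
    obtain ⟨r, hr, h4, s, hs, rfl⟩ := exists_prime_ne hT' _ hq
    have h5 := comp_commute hT hT' h3 ht hs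
    have h6 := mul_mem (Comp2.component_le_layer hT ht) (Comp2.component_le_layer hT' hs)
    have h7 := (Nat.coprime_primes hr hq).2 h4
    have h8 : t ≠ 1 := fun e => hq.ne_one (orderOf_eq_one_iff.2 e)
    have h9 : ∀ {g a b : G}, Commute a b → (orderOf a).Coprime (orderOf b) → Commute g (a * b) →
        Commute g b := fun {g a b} h1 h2 h3 => by
      obtain ⟨m, hm⟩ := exists_pow_eq_self_of_coprime h2
      have := (h3.pow_right (orderOf a)).pow_right m
      rwa [h1.mul_pow, pow_orderOf_eq_one, one_mul, hm] at this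
    rcases h.max (β := (t * s) • α) (K := centralizer {t}) (fun e => h4 (by
      rw [eq_inv_of_mul_eq_one_right (reg _ h6 e), orderOf_inv])) (fun g hg hg' =>
        mem_centralizer_singleton_iff.2 (h9 h5.symm h7 (h5.eq ▸ (fx _ h6 g hg).1 hg')).eq)
      with h10 | h10
    · exact nm T' hT' s hs (fun e => hr.ne_one (orderOf_eq_one_iff.2 e)) k (h9 h5 h7.symm
        ((fx _ h6 k hk).1 (h10 k (mem_centralizer_singleton_iff.2 (c1 T hT k hk hn t ht).eq) hk)))
    · obtain ⟨g, h11, h12⟩ := h.move (α := α) (β := t • α) fun e =>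
        h8 (reg t (Comp2.component_le_layer hT ht) e)
      exact absurd ((fx t (Comp2.component_le_layer hT ht) g h11).2
        (mem_centralizer_singleton_iff.1 (h10 g h11))) h12
  obtain ⟨t, ht, h3⟩ := comp_not_fix hT α
  obtain ⟨g, hg, h4⟩ := h.move h3
  have h5 : t ≠ 1 := fun e => h3 (by rw [e, one_smul])
  have hE := Comp2.component_le_layer hT ht
  have h6 : ∀ n : ℕ, n < orderOf g → ∃ c ∈ layer G, (∀ u ∈ T, Commute u c) ∧
      (t * g) ^ (n + 1) = t * c * g ^ (n + 1) := fun n => by
    induction n with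
    | zero => exact fun _ => ⟨1, one_mem _, fun u _ => Commute.one_right u, by simp⟩
    | succ n ih =>
      intro hn
      obtain ⟨c, h7, h8, h9⟩ := ih (by omega)
      refine ⟨c * (g ^ (n + 1) * t * (g ^ (n + 1))⁻¹), mul_mem h7
        ((inferInstance : (layer G).Normal).conj_mem t hE _), fun u hu => (h8 u hu).mul_right
          (comp_commute hT (Comp2.component_conj hT _) (fun e => ?_) hu (conj_mem_cj ht)), by
        rw [pow_succ, h9]; group⟩
      exact pow_ne_one_of_lt_orderOf n.succ_ne_zero hn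
        (c3 _ (pow_mem (show g ∈ stabilizer G α from hg) _) (cj_eq_self_iff.1 e.symm))
  obtain ⟨c, h7, h8, h9⟩ := h6 (orderOf g - 1) (Nat.sub_lt (orderOf_pos g) one_pos)
  rw [Nat.sub_add_cancel (show 1 ≤ orderOf g from orderOf_pos g), pow_orderOf_eq_one, mul_one] at h9
  have h10 : Commute g (t * c) := by
    have h10 := ((Commute.refl (t * g)).pow_right (orderOf g))
    rw [h9] at h10
    simpa using ((Commute.refl t).mul_right (h8 t ht)).inv_left.mul_left h10
  have h11 : (t * c) • α ≠ α := fun e => h5 (cent hF hT ht fun u hu => by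
    rw [eq_inv_of_mul_eq_one_left (reg _ (mul_mem hE h7) e)]
    exact (h8 u hu).inv_right)
  rcases h.max h3 (K := stabilizer G ((t * c) • α)) (fun k hk hk' => by
    rw [c3 k hk (nm T hT t ht h5 k ((fx t hE k hk).1 hk'))]; exact one_mem _) with h12 | h12
  · exact h4 (h12 g ((fx _ (mul_mem hE h7) g hg).2 h10) hg)
  · obtain ⟨k, hk, h13⟩ := h.move h11
    exact h13 (h12 k hk)

end


/-- An extremely primitive permutation group is of affine type or almost simple. Let a finite group G act faithfully and primitively on a finite set Ω with at least two points, in such a way that every point stabilizer acts primitively on each of its own orbits in Ω (an orbit of size one counts as primitive). Then either G has a non-trivial abelian normal subgroup whose elements other than the identity fix no point (affine type), or G has a non-abelian simple normal subgroup with trivial centralizer (almost simple). -/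
theorem result {G : Type*} [Group G] [Finite G] {Ω : Type*} [Fintype Ω] [MulAction G Ω] [FaithfulSMul G Ω] (hΩ : 2 ≤ Fintype.card Ω) (hprim : MulAction.IsPreprimitive G Ω) (hep : ∀ (α : Ω) (ω : Ω), MulAction.IsPreprimitive (MulAction.stabilizer G α) (MulAction.orbit (MulAction.stabilizer G α) ω)) :
    (∃ N : Subgroup G, N.Normal ∧ N ≠ ⊥ ∧ IsMulCommutative N ∧ ∀ ω : Ω, MulAction.stabilizer N ω = ⊥) ∨ (∃ T : Subgroup G, T.Normal ∧ IsSimpleGroup T ∧ ¬ IsMulCommutative T ∧ Subgroup.centralizer (T : Set G) = ⊥) := by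
  have : Nontrivial Ω := Fintype.one_lt_card_iff_nontrivial.1 hΩ
  by_cases h : fittingSubgroup G = ⊥
  swap
  · obtain ⟨N, r, -, h2, h3, h4, -, h5⟩ := Perm.exists_affine (Ω := Ω) h
    exact Or.inl ⟨N, h2, h3, h4.1, h5⟩
  have : Nontrivial G := by
    obtain ⟨a, b, hab⟩ := exists_pair_ne Ω
    obtain ⟨g, rfl⟩ := MulAction.exists_smul_eq G a b
    exact ⟨g, 1, fun h => hab (by rw [h, one_smul])⟩
  refine Or.inr ((Perm.almost_simple_or h).resolve_right fun ⟨⟨T, hT⟩, h1⟩ => ?_)
  refine caseC ⟨hprim, fun α e => ?_, hep⟩ h h1 hT (Classical.arbitrary Ω)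
  have := (card_prime_of_isCoatom_bot (e ▸ (isCoatom_stabilizer_iff_preprimitive G α).2 hprim)).1
  have := IsCyclic.isMulCommutative (α := G)
  exact Comp2.quasisimple_not_isMulCommutative hT.2 inferInstance

end Cfsg.Agent.S3493
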