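import Mathlib
import Cfsg.Statements.S3496
import Cfsg.Agent.Perm.XP2
import Cfsg.Agent.Perm.SemiAff
import Cfsg.Agent.Perm.NF1

set_option autoImplicit false
open Cfsg

namespace Cfsg.Agent.S3496

open Subgroup MulAction Perm

theorem cyc (F : Type*) [Field F] [Finite F] (p : ℕ) [Fact p.Prime] [CharP F p] :
    IsCyclic (F ≃+* F) := by
  letI := ZMod.algebra F p
  exact isCyclic_of_surjective (MonoidHom.mk' (fun σ : F ≃ₐ[ZMod p] F => σ.toRingEquiv)
    fun _ _ => rfl) fun σ => ⟨{ σ with
      commutes' := fun r => RingHom.congr_fun (RingHom.ext_zmod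
        (σ.toRingHom.comp (algebraMap (ZMod p) F)) (algebraMap (ZMod p) F)) r }, rfl⟩


/-- The soluble extremely primitive groups. Let a finite solvable group G act faithfully and primitively on a finite set Ω with p ^ d points (p prime), with non-trivial point stabilizers each acting primitively on every one of its orbits. Then there is a prime q such that every orbit of a point stabilizer G_α other than {α} has exactly q points, q divides p ^ d − 1 but no p ^ i − 1 with 0 < i < d, and G_α has a normal subgroup T of order q with G_α generated by T and one further element and the order of G_α dividing q·d (so G_α is cyclic of order q, or an extension of T by a cyclic group of order dividing d). -/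
theorem result {G : Type*} [Group G] [Finite G] {Ω : Type*} [Fintype Ω] [MulAction G Ω] [FaithfulSMul G Ω] [Group.IsSolvable G] (p d : ℕ) (hp : p.Prime) (hcard : Fintype.card Ω = p ^ d)
    (hprim : MulAction.IsPreprimitive G Ω) (hH : ∀ α : Ω, MulAction.stabilizer G α ≠ ⊥) (hep : ∀ (α : Ω) (ω : Ω), MulAction.IsPreprimitive (MulAction.stabilizer G α) (MulAction.orbit (MulAction.stabilizer G α) ω)) (α : Ω) :
    ∃ q : ℕ, q.Prime ∧ (∀ ω : Ω, ω ≠ α → Nat.card (MulAction.orbit (MulAction.stabilizer G α) ω) = q) ∧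
      q ∣ p ^ d - 1 ∧ (∀ i : ℕ, 0 < i → i < d → ¬ q ∣ p ^ i - 1) ∧
      ∃ T : Subgroup G, T ≤ MulAction.stabilizer G α ∧ MulAction.stabilizer G α ≤ Subgroup.normalizer (T : Set G) ∧ Nat.card T = q ∧
        (∃ h : G, MulAction.stabilizer G α = T ⊔ Subgroup.zpowers h) ∧ Nat.card (MulAction.stabilizer G α) ∣ q * d := by
  have h : XP G Ω := ⟨hprim, hH, hep⟩
  have := Fact.mk hp
  obtain ⟨β, hb⟩ := h.exists_ne α
  have : Nontrivial Ω := ⟨β, α, hb⟩
  have hd : d ≠ 0 := by
    rintro rfl
    exact Fintype.one_lt_card.ne' hcard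
  have := (nontrivial_iff_ne_bot _).2 (hH α)
  have : Nontrivial G := (stabilizer G α).subtype_injective.nontrivial
  obtain ⟨N, r, -, hN, hN0, hNe, htr, hreg⟩ := exists_affine (G := G) (Ω := Ω) (by
    obtain ⟨N, r, h1, h2, h3, h4⟩ := Core.exists_normal_pGroup (G := G)
    have := Fact.mk h3
    exact fun e => h2 (le_bot_iff.1 (e ▸ Core.le_fitting h1 h4.isNilpotent)))
  obtain ⟨T, q, hT, hT0, -, hq, hTe, -⟩ := Core.exists_minimal_normal_elementary_le
    (⊤ : Subgroup (stabilizer G α)) inferInstance top_ne_bot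
  have h1 := map_subtype_le T
  have h2 := LocalEven.le_normalizer_map_subtype T
  have h3 : T.map (stabilizer G α).subtype ≠ ⊥ := by
    rwa [Ne, map_eq_bot_iff_of_injective _ (subtype_injective _)]
  have hK : Nat.card (GaloisField p d) = p ^ d := GaloisField.card p d hd
  obtain ⟨e, he, he1, he0, he2⟩ := exists_semiaffine (a := α)
    (fun u hu v hv => Core.comm_of_isMulCommutative hNe.1 hu hv)
    (fun x => let ⟨u, hu⟩ := htr.exists_smul_eq α x; ⟨u, u.2, hu⟩)
    (fun u hu e => congrArg Subtype.val ((hreg α).le (show (⟨u, hu⟩ : N) ∈ _ from e))) h1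
    (fun u hu v hv => Core.comm_of_isMulCommutative (Core.IsElementaryAbelian.map hTe _).1 hu hv)
    (fun g hg k hk => LocalEven.conj_mem_of_mem_normalizer (h2 hg) hk)
    (fun W hW hW0 hc => h.irred hNe.1 hN0 h1 h2 h3 hW hW0 hc) (GaloisField p d)
    (by rw [hK, Nat.card_eq_fintype_card, hcard])
  have he' : ∀ g : stabilizer G α, ∃ (c : (GaloisField p d)ˣ) (σ : GaloisField p d ≃+* GaloisField p d),
      ∀ y, e ((g : G) • e.symm y) = c * σ y := fun g => by
    obtain ⟨c, b, σ, h4⟩ := he g
    have h5 := h4 α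
    rw [show (g : G) • α = α from g.2, he0, map_zero, mul_zero, zero_add] at h5
    exact ⟨c, σ, fun y => by rw [h4, ← h5, add_zero, e.apply_symm_apply]⟩
  choose c σ hσ using he'
  have uq : ∀ (g : stabilizer G α) (a : GaloisField p d) (τ : GaloisField p d ≃+* GaloisField p d),
      (∀ y, e ((g : G) • e.symm y) = a * τ y) → c g = a ∧ σ g = τ := fun g a τ h4 => by
    have h5 : (c g : GaloisField p d) = a := by simpa [hσ] using h4 1
    exact ⟨h5, RingEquiv.ext fun y => mul_left_cancel₀ (c g).ne_zero (by rw [← hσ, h4, h5])⟩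
  have hm : ∀ g k, (c (g * k) : GaloisField p d) = c g * σ g (c k) ∧ σ (g * k) = σ g * σ k :=
    fun g k => uq _ _ _ fun y => by
      rw [coe_mul, mul_smul, ← e.symm_apply_apply ((k : G) • _), hσ, hσ, map_mul, mul_assoc]
      rfl
  have ext : ∀ g k : stabilizer G α, c g = c k → σ g = σ k → g = k := fun g k h4 h5 =>
    Subtype.ext (eq_of_smul_eq_smul (α := Ω) fun x => e.injective (by
      rw [← e.symm_apply_apply x, hσ, hσ, h4, h5]))
  let φ := MonoidHom.mk' σ fun g k => (hm g k).2
  have hT1 : ∀ t ∈ T, σ t = 1 := fun t ht =>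
    let ⟨l, hl⟩ := he2 t ⟨t, ht, rfl⟩
    (uq t l 1 fun y => by rw [hl, e.apply_symm_apply]; rfl).2
  have hker : φ.ker = T := le_antisymm (fun g (hg : σ g = 1) =>
    ((h.coreFree hb).cent_eq_of_comm hT0 hTe.1).le fun t ht => ext _ _ (Units.ext (by
      rw [(hm _ _).1, (hm _ _).1, hg, hT1 t ht, mul_comm]; rfl))
      (by rw [(hm _ _).2, (hm _ _).2, hg, hT1 t ht])) hT1
  let χ : T →* (GaloisField p d)ˣ := MonoidHom.mk' (fun t => c t) fun t s => Units.ext (by
    rw [coe_mul, (hm _ _).1, hT1 t t.2]; rfl)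
  have hχ : Function.Injective χ := fun t s h4 =>
    Subtype.ext (ext _ _ h4 (by rw [hT1 t t.2, hT1 s s.2]))
  have := isCyclic_of_injective χ hχ
  have hTq : Nat.card T = q := by
    have := Fact.mk hq
    refine (hq.eq_one_or_self_of_dvd _ ?_).resolve_left fun e => hT0 (card_eq_one.1 e)
    rw [← IsCyclic.exponent_eq_card]
    exact Monoid.exponent_dvd_of_forall_pow_eq_one fun t => Subtype.ext (hTe.2 t t.2)
  refine ⟨q, hq, fun ω hω => (h.card_orbit hω hT0 hTe.1).trans hTq, ?_, fun i hi hid ⟨m, hm'⟩ => ?_,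
    _, h1, h2, (LocalEven.card_map_subtype T).trans hTq, ?_, ?_⟩
  · rw [← hK, ← Nat.card_units, ← hTq]
    exact card_dvd_of_injective χ hχ
  · let f := iterateFrobenius (GaloisField p d) p i
    have tr : ∀ u ∈ N, ∀ x, e (u • x) = e x + e (u • α) := fun u hu x => by
      obtain ⟨v, hv, h4⟩ := he1 (e (u • α))
      have h5 := reg_inj hreg hv hu (a := α) (e.injective (by rw [h4, he0, zero_add]))
      rw [← h4, h5]
    have key : ∀ k s : G, k • α = α → k • s • α = (k * s * k⁻¹) • α := fun k s hk => by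
      rw [mul_smul, mul_smul, inv_smul_eq_iff.2 hk.symm]
    let L : Subgroup G :=
      { carrier := {u | u ∈ N ∧ f (e (u • α)) = e (u • α)}
        one_mem' := ⟨one_mem _, by rw [one_smul, he0, map_zero]⟩
        mul_mem' := fun {a b} ha hb => ⟨mul_mem ha.1 hb.1, by
          rw [mul_smul, tr a ha.1, map_add, ha.2, hb.2]⟩
        inv_mem' := fun {a} ha => ⟨inv_mem ha.1, by
          have := tr a ha.1 (a⁻¹ • α)
          rw [smul_inv_smul, he0, eq_comm, add_eq_zero_iff_eq_neg] at this
          rw [this, map_neg, ha.2]⟩ }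
    have h4 := h.irred hNe.1 hN0 h1 h2 h3 (L := L) (fun u hu => hu.1) (fun h4 => by
      obtain ⟨v, hv, h5⟩ := he1 1
      have h6 := h5 α
      rw [he0, zero_add] at h6
      rw [mem_bot.1 (h4.le (show v ∈ L from ⟨hv, by rw [h6, map_one]⟩)), one_smul, he0] at h6
      exact zero_ne_one h6) (by
      rintro _ ⟨t, ht, rfl⟩ l hl
      refine ⟨hN.conj_mem l hl.1 _, ?_⟩
      have h5 : χ ⟨t, ht⟩ ^ q = 1 := by
        rw [← map_pow, show (⟨t, ht⟩ : T) ^ q = 1 from Subtype.ext (hTe.2 t ht), map_one]
      have h6 : f (c t) = c t := by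
        rw [iterateFrobenius_def, ← Nat.sub_add_cancel (Nat.one_le_pow i p hp.pos), hm', pow_succ,
          pow_mul, show (c t : GaloisField p d) ^ q = 1 from congrArg Units.val h5, one_pow, one_mul]
      rw [coe_subtype, ← key _ _ t.2, ← e.symm_apply_apply (l • α), hσ, hT1 t ht, map_mul, h6]
      exact congrArg _ hl.2)
    have := Fintype.ofFinite (GaloisField p d)
    have h5 := (FiniteField.forall_pow_eq_one_iff (GaloisField p d) (p ^ i - 1)).1 fun x => by
      obtain ⟨v, hv, h5⟩ := he1 x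
      have h6 := (h4.ge hv).2
      rw [h5, he0, zero_add, iterateFrobenius_def,
        ← Nat.sub_add_cancel (Nat.one_le_pow i p hp.pos), pow_succ] at h6
      exact Units.ext (by simpa using h6)
    rw [← Nat.card_eq_fintype_card, hK] at h5
    have := Nat.le_of_dvd (Nat.sub_pos_of_lt (Nat.one_lt_pow hi.ne' hp.one_lt)) h5
    have := Nat.pow_lt_pow_right hp.one_lt hid
    have := Nat.one_le_pow i p hp.pos
    omega
  · have := cyc (GaloisField p d) p
    obtain ⟨⟨_, g, rfl⟩, hg⟩ := IsCyclic.exists_generator (α := φ.range)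
    refine ⟨g, le_antisymm (fun k hk => ?_) (sup_le h1 (zpowers_le.2 g.2))⟩
    obtain ⟨n, hn⟩ := hg ⟨_, ⟨k, hk⟩, rfl⟩
    have h4 : ⟨k, hk⟩ * (g ^ n)⁻¹ ∈ T := hker.le (by
      rw [MonoidHom.mem_ker, map_mul, map_inv, map_zpow, mul_inv_eq_one]
      exact (congrArg Subtype.val hn).symm)
    have := mul_mem (mem_sup_left (mem_map_of_mem (stabilizer G α).subtype h4))
      (mem_sup_right (zpow_mem (mem_zpowers (g : G)) n))
    simpa using this
  · have : Finite (GaloisField p d ≃+* GaloisField p d) :=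
      Finite.of_injective _ DFunLike.coe_injective
    rw [← φ.ker.card_mul_index, index_ker, hker, hTq]
    exact Nat.mul_dvd_mul_left _ ((card_subgroup_dvd_card _).trans (card_ringEquiv hK).dvd)

end Cfsg.Agent.S3496
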