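import Mathlib
import Cfsg.Statements.S3497
import Cfsg.Agent.Perm.XP2
import Cfsg.Agent.PGrp.Aut

set_option autoImplicit false
open Cfsg

namespace Cfsg.Agent.S3497


/-- Restrictions on the point stabilizer of an extremely primitive group. Let a finite group G act faithfully and primitively on a finite set Ω with point stabilizers H = G_α whose order is neither 1 nor a prime, each acting primitively on every one of its orbits. Then H has trivial center, the Fitting subgroup F(H) is an elementary abelian p-group for some prime p, and if F(H) ≠ 1 has order p ^ e then p ^ e divides the number of points minus one and H / F(H) embeds in GL_e(p) (there is a homomorphism from H to GL_e(p) with kernel exactly F(H)). -/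
theorem result {G : Type*} [Group G] [Finite G] {Ω : Type*} [Fintype Ω] [MulAction G Ω] [FaithfulSMul G Ω] (hprim : MulAction.IsPreprimitive G Ω) (hep : ∀ (α : Ω) (ω : Ω), MulAction.IsPreprimitive (MulAction.stabilizer G α) (MulAction.orbit (MulAction.stabilizer G α) ω)) (α : Ω)
    (hH1 : MulAction.stabilizer G α ≠ ⊥) (hHp : ¬ (Nat.card (MulAction.stabilizer G α)).Prime) :
    Subgroup.center (MulAction.stabilizer G α) = ⊥ ∧
    IsMulCommutative (Cfsg.fittingSubgroup (MulAction.stabilizer G α)) ∧
    ∃ p e : ℕ, p.Prime ∧ Nat.card (Cfsg.fittingSubgroup (MulAction.stabilizer G α)) = p ^ e ∧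
      (∀ x ∈ Cfsg.fittingSubgroup (MulAction.stabilizer G α), x ^ p = 1) ∧
      (Cfsg.fittingSubgroup (MulAction.stabilizer G α) ≠ ⊥ →
        p ^ e ∣ Fintype.card Ω - 1 ∧
        ∃ φ : MulAction.stabilizer G α →* GL (Fin e) (ZMod p), φ.ker = Cfsg.fittingSubgroup (MulAction.stabilizer G α)) := by
  have h : Perm.XP G Ω := ⟨hprim, fun β e => hH1 (Subgroup.eq_bot_of_card_eq _ (by
    rw [Perm.card_stabilizer_eq α β, e, Subgroup.card_bot])), hep⟩
  obtain ⟨β, hb⟩ := h.exists_ne α
  have hcf := h.coreFree hb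
  have hc := hcf.comm_of_nilpotent Core.fitting_nilpotent
  refine ⟨by_contra fun h0 => hHp (Perm.card_prime_of_isCoatom_bot ?_).2, hc, ?_⟩
  · have h1 := hcf.cent_inf h0
    rw [Subgroup.centralizer_eq_top_iff_subset.2 le_rfl, top_inf_eq] at h1
    exact h1 ▸ hcf.1
  by_cases h0 : fittingSubgroup (MulAction.stabilizer G α) = ⊥
  · exact ⟨2, 0, Nat.prime_two, by rw [h0, Subgroup.card_bot, pow_zero],
      fun x hx => by rw [Subgroup.mem_bot.1 (h0.le hx), one_pow], fun h1 => absurd h0 h1⟩
  obtain ⟨p, hp, hel⟩ := (hcf.minN_of_comm h0 hc).elementary Core.fitting_solvable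
  have := Fact.mk hp
  obtain ⟨e, he⟩ := (Core.IsElementaryAbelian.isPGroup hel).exists_card_eq
  refine ⟨p, e, hp, he, hel.2, fun _ => ⟨?_, ?_⟩⟩
  · rw [← Nat.card_eq_fintype_card, ← Perm.ncard_compl_singleton α]
    refine Perm.dvd_ncard_of_forall_orbit (MulAction.stabilizer G α) _ (Set.toFinite _)
      (fun g hg x (hx : x ≠ α) (e : g • x = α) => hx (smul_left_cancel g (e.trans hg.symm)))
      fun x hx => ?_
    rw [← Nat.card_coe_set_eq, h.card_orbit hx h0 hc, he]
  · obtain ⟨φ, hφ⟩ := PGrp.exists_autMatrix hc (fun v => Subtype.ext (hel.2 v v.2)) he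
    refine ⟨φ.toHomUnits.comp MulAut.conjNormal, (Subgroup.ext fun g => ?_).trans
      (hcf.cent_eq_of_comm h0 hc)⟩
    rw [MonoidHom.mem_ker, MonoidHom.comp_apply, Units.ext_iff, MonoidHom.coe_toHomUnits,
      Units.val_one, map_eq_one_iff φ hφ]
    exact ⟨fun e x hx => (mul_inv_eq_iff_eq_mul.1 (congrArg Subtype.val
      (DFunLike.congr_fun e (⟨x, hx⟩ : fittingSubgroup _)))).symm, fun e => MulEquiv.ext fun x =>
        Subtype.ext (mul_inv_eq_iff_eq_mul.2 (e x x.2).symm)⟩

end Cfsg.Agent.S3497
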