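import Mathlib
import Cfsg.Statements.S3501
import Cfsg.Agent.Perm.Socle

set_option autoImplicit false
open Cfsg

namespace Cfsg.Agent.S3501

open MulAction Function

/-- Let a finite group G act faithfully and primitively on a finite set Ω with at least two points, and suppose G is not almost simple (it has no non-abelian simple normal subgroup with trivial centralizer). Then the derangements of G form a single conjugacy class if and only if G is sharply 2-transitive (2-transitive, and no non-identity element fixes two points). -/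
theorem result {G : Type*} [Group G] [Finite G] {Ω : Type*} [Fintype Ω] [MulAction G Ω] [FaithfulSMul G Ω] (hΩ : 2 ≤ Fintype.card Ω) (hprim : MulAction.IsPreprimitive G Ω) (hnas : ¬ ∃ T : Subgroup G, T.Normal ∧ IsSimpleGroup T ∧ ¬ IsMulCommutative T ∧ Subgroup.centralizer (T : Set G) = ⊥) :
    Nat.card {c : ConjClasses G // ∃ g : G, ConjClasses.mk g = c ∧ ∀ ω : Ω, g • ω ≠ ω} = 1 ↔ (MulAction.IsMultiplyPretransitive G Ω 2 ∧ ∀ g : G, g ≠ 1 → ∀ a b : Ω, a ≠ b → g • a = a → g • b ≠ b) := by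
  classical
  haveI : Nontrivial Ω := Fintype.one_lt_card_iff_nontrivial.mp hΩ
  constructor
  swap
  · rintro ⟨h2, hs⟩
    obtain ⟨K, hKn, hK, -, htr, -⟩ := Perm.sharp2_kernel h2 (Perm.sharp_of_forall fun x hx g hg =>
      by_contra fun hg1 => hs g hg1 _ _ (hx.ne (show (0 : Fin 2) ≠ 1 by decide)) (hg 0) (hg 1))
    obtain ⟨a, b, hab⟩ := exists_pair_ne Ω
    obtain ⟨g, hg, e⟩ := htr a b
    have hg1 : g ≠ 1 := by rintro rfl; exact hab (by simpa using e)
    rw [Nat.card_eq_one_iff_unique]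
    refine ⟨⟨?_⟩, ⟨⟨_, g, rfl, ((hK g).mp hg).resolve_left hg1⟩⟩⟩
    rintro ⟨_, x, rfl, hx⟩ ⟨_, y, rfl, hy⟩
    refine Subtype.ext (ConjClasses.mk_eq_mk_iff_isConj.mpr (Perm.isConj_of_regular_normal h2 K a
      (fun n hn e => ((hK n).mp hn).resolve_right fun h => h a e) ((hK _).mpr (Or.inr hx))
      ((hK _).mpr (Or.inr hy)) ?_ ?_))
    · rintro rfl; exact hx a (one_smul _ _)
    · rintro rfl; exact hy a (one_smul _ _)
  intro h
  have hconj : ∀ x y : G, (∀ ω : Ω, x • ω ≠ ω) → (∀ ω : Ω, y • ω ≠ ω) → IsConj x y := fun x y hx hy => by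
    haveI := (Nat.card_eq_one_iff_unique.mp h).1
    exact ConjClasses.mk_eq_mk_iff_isConj.mp (congrArg Subtype.val (Subsingleton.elim
      (⟨_, x, rfl, hx⟩ : {c : ConjClasses G // ∃ g : G, ConjClasses.mk g = c ∧ ∀ ω : Ω, g • ω ≠ ω})
      ⟨_, y, rfl, hy⟩))
  obtain ⟨a, b, hab⟩ := exists_pair_ne Ω
  haveI : Nontrivial G := by
    obtain ⟨g, hg⟩ := exists_smul_eq G a b
    exact ⟨g, 1, by rintro rfl; exact hab (by simpa using hg)⟩
  obtain ⟨N, hNn, hN0, -, hmin⟩ := Core.exists_minimal_normal_le (⊤ : Subgroup G) top_ne_bot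
  have hNt := Perm.transitive_of_normal (α := Ω) N hN0
  have hreg : ∀ a : Ω, stabilizer N a = ⊥ := by
    by_contra hnr
    have hnab : ¬ IsMulCommutative N := fun hc => hnr
      (Perm.regular_of_commute hNt fun x hx y hy => Core.comm_of_isMulCommutative hc hx hy)
    obtain ⟨T, _, _, m, f, hT, hTc, hm, hf, hker, hone, hcl, -⟩ :=
      Perm.minimal_normal_coords N hN0 hmin hnab
    have hsurj : ∀ t : Fin m → T, ∃ n : N, ∀ i, f i n = t i := fun t => by
      obtain ⟨d, hd⟩ := Perm.surj_of_ker_ne hTc f hf Finset.univ (fun i _ j _ => hker i j) t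
      exact ⟨d, fun i => hd i (Finset.mem_univ _)⟩
    have hinj : ∀ x y : N, (∀ i, f i x = f i y) → x = y := fun x y e =>
      mul_inv_eq_one.mp (hone _ fun i => by rw [map_mul, map_inv, e, mul_inv_cancel])
    let i0 : Fin m := ⟨0, hm⟩
    by_cases hm1 : ∀ i, i = i0
    · refine hnas ⟨N, hNn, (MulEquiv.ofBijective (f i0) ⟨fun x y e => hinj x y fun i => by
        rw [hm1 i]; exact e, hf i0⟩).isSimpleGroup, hnab, by_contra fun hC => hnr ?_⟩
      exact Perm.regular_of_commute (Perm.transitive_of_normal _ hC) fun x hx y hy => hy x hx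
    push Not at hm1
    obtain ⟨i1, hi1⟩ := hm1
    by_cases hR : (stabilizer N a).map (f i0) = ⊤
    · have hder : ∀ n : N, n ≠ 1 → (∀ i, i ≠ i0 → f i n = 1) → ∀ ω : Ω, n.1 • ω ≠ ω := by
        have : ∀ n : N, (∀ i, i ≠ i0 → f i n = 1) → n • a = a → n = 1 := fun n hn e => by
          apply Perm.eq_one_of_forall_smul (α := Ω)
          intro x
          obtain ⟨u, rfl⟩ := exists_smul_eq N a x
          obtain ⟨d, hd, e'⟩ : f i0 u⁻¹ ∈ (stabilizer N a).map (f i0) := hR ▸ Subgroup.mem_top _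
          have : u⁻¹ * n * u = d * n * d⁻¹ := hinj _ _ fun i => by
            by_cases hi : i = i0
            · simp [hi, e']
            · simp [hn i hi]
          exact Perm.mem_stabilizer_smul_iff.mpr (this ▸ mul_mem (mul_mem hd e) (inv_mem hd))
        intro n hn1 hn ω e
        obtain ⟨u, rfl⟩ := exists_smul_eq N a ω
        have := this (u⁻¹ * n * u) (fun i hi => by simp [hn i hi]) (Perm.mem_stabilizer_smul_iff.mp e)
        rw [mul_assoc, inv_mul_eq_one, eq_comm, mul_eq_right] at this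
        exact hn1 this
      let K : Subgroup G := (⨅ (i) (_ : i ≠ i0), (f i).ker).map N.subtype
      have hK : ∀ t : T, ∃ n : N, n.1 ∈ K ∧ f i0 n = t := fun t => by
        obtain ⟨n, hn⟩ := hsurj (Pi.mulSingle i0 t)
        exact ⟨n, ⟨n, by simp +contextual [Subgroup.mem_iInf, hn], rfl⟩, by simp [hn]⟩
      obtain ⟨p, hp, hpp⟩ := Perm.isPGroup_of_isConj K (fun e => by
        obtain ⟨t, ht⟩ := exists_ne (1 : T)
        obtain ⟨n, hn, rfl⟩ := hK t
        rw [e, Subgroup.mem_bot] at hn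
        exact ht (by rw [show n = 1 from Subtype.ext hn, map_one])) (by
        rintro _ ⟨x, hx, rfl⟩ _ ⟨y, hy, rfl⟩ hx1 hy1
        simp only [SetLike.mem_coe, Subgroup.mem_iInf] at hx hy
        exact hconj _ _ (hder x (fun e => hx1 (by rw [e]; rfl)) hx) (hder y (fun e => hy1 (by rw [e]; rfl)) hy))
      haveI := Fact.mk hp
      have hpg : IsPGroup p T := fun t => ⟨1, by
        obtain ⟨n, hn, rfl⟩ := hK t
        rw [pow_one, ← map_pow, show n ^ p = 1 from Subtype.ext (hpp _ hn), map_one]⟩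
      haveI := hpg.isNilpotent
      exact hTc ⟨⟨IsSimpleGroup.comm_iff_isSolvable.mpr inferInstance⟩⟩
    · obtain ⟨t, ht⟩ := Perm.exists_not_conj_mem _ hR
      have hder : ∀ n : N, f i0 n = t → ∀ ω : Ω, n.1 • ω ≠ ω := fun n hn ω e => by
        obtain ⟨u, rfl⟩ := exists_smul_eq N a ω
        exact ht (f i0 u) ⟨_, Perm.mem_stabilizer_smul_iff.mp e, by simp [hn]⟩
      obtain ⟨n1, h1⟩ := hsurj (Pi.mulSingle i0 t)
      obtain ⟨n2, h2⟩ := hsurj fun _ => t
      obtain ⟨g, hg⟩ := isConj_iff.mp (hconj _ _ (hder n1 (by simp [h1])) (hder n2 (h2 _)))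
      obtain ⟨j, hj⟩ := hcl i1 g
      have := (hj n1).mpr (by simp [h1, hi1])
      rw [show MulAut.conjNormal g n1 = n2 from Subtype.ext hg, h2] at this
      exact ht 1 (by simp [this])
  have hder : ∀ n ∈ N, n ≠ 1 → ∀ ω : Ω, n • ω ≠ ω := fun n hn h1 ω e =>
    h1 (Perm.reg_inj hreg hn N.one_mem (e.trans (one_smul _ _).symm))
  obtain ⟨⟨n0, hn0⟩, hn01⟩ := Subgroup.ne_bot_iff_exists_ne_one.mp hN0
  have hn01' : n0 ≠ 1 := fun e => hn01 (Subtype.ext e)
  obtain ⟨-, h1⟩ := Perm.derangement_closure (α := Ω) N fun g hg => by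
    obtain ⟨u, rfl⟩ := isConj_iff.mp (hconj _ _ (hder n0 hn0 hn01') hg)
    exact hNn.conj_mem _ hn0 u
  refine ⟨Perm.two_trans_of_orbit a fun x y hx hy => ?_, fun g hg x y hxy ex ey => ?_⟩
  · obtain ⟨u, rfl⟩ := exists_smul_eq N a x
    obtain ⟨v, rfl⟩ := exists_smul_eq N a y
    obtain ⟨g, hg⟩ := isConj_iff.mp (hconj u.1 v.1
      (hder _ u.2 fun e => hx (by change u.1 • a = a; rw [e, one_smul]))
      (hder _ v.2 fun e => hy (by change v.1 • a = a; rw [e, one_smul])))
    obtain ⟨p, hp, hpp⟩ := Perm.isPGroup_of_isConj N hN0 fun x hx y hy hx1 hy1 =>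
      hconj _ _ (hder x hx hx1) (hder y hy hy1)
    haveI := Fact.mk hp
    have hpg : IsPGroup p N := fun n => ⟨1, Subtype.ext (by simpa using hpp n.1 n.2)⟩
    haveI := hpg.isNilpotent
    obtain ⟨q, -, hq⟩ := Core.minimal_normal_elementary N inferInstance hN0 hmin
    obtain ⟨n, hn⟩ := exists_smul_eq N (g • a) a
    change n.1 • g • a = a at hn
    refine ⟨n * g, by rw [mul_smul, hn], ?_⟩
    change (n.1 * g) • u.1 • a = v.1 • a
    rw [← mul_smul, mul_assoc, mul_inv_eq_iff_eq_mul.mp hg, ← mul_assoc,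
      Core.comm_of_isMulCommutative hq.1 n.2 v.2, mul_smul, mul_smul, hn]
  · by_cases hgN : g ∈ N
    · exact hder g hgN hg x ex
    · haveI := (Nat.card_eq_one_iff_unique.mp (h1 g hgN)).1
      exact hxy (congrArg Subtype.val (Subsingleton.elim (⟨x, ex⟩ : fixedBy Ω g) ⟨y, ey⟩))

end Cfsg.Agent.S3501
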