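import Mathlib
import Cfsg.Statements.S3520
import Cfsg.Agent.Perm.CFree
import Cfsg.Agent.Perm.FrobKer
import Cfsg.Agent.Perm.NormalSub
import Cfsg.Agent.S0144

set_option autoImplicit false
open Cfsg

namespace Cfsg.Agent.S3520

open Subgroup MulAction Perm LocalEven

/-- Let a finite group G act faithfully and primitively on a finite set Ω with at least two points, suppose G is not almost simple (no non-abelian simple normal subgroup with trivial centralizer), and suppose the derangements of G form exactly two conjugacy classes. Then either Ω has 3 points and G has order 3; or G has a non-trivial abelian normal subgroup N acting regularly, every non-identity element of G fixes at most one point (so, when n > 3, G is a Frobenius group with kernel N), the number n of points is odd and a point stabilizer has order (n − 1)/2; or G is 2-transitive with a non-trivial abelian regular normal subgroup and some non-identity element fixes at least two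 points (a non-Frobenius 2-transitive affine group). -/
theorem result {G : Type*} [Group G] [Finite G] {Ω : Type*} [Fintype Ω] [MulAction G Ω] [FaithfulSMul G Ω] (hΩ : 2 ≤ Fintype.card Ω) (hprim : MulAction.IsPreprimitive G Ω) (hnas : ¬ ∃ T : Subgroup G, T.Normal ∧ IsSimpleGroup T ∧ ¬ IsMulCommutative T ∧ Subgroup.centralizer (T : Set G) = ⊥)
    (hκ : Nat.card {c : ConjClasses G // ∃ g : G, ConjClasses.mk g = c ∧ ∀ ω : Ω, g • ω ≠ ω} = 2) (α : Ω) :
    (Fintype.card Ω = 3 ∧ Nat.card G = 3) ∨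
    ((∃ N : Subgroup G, N.Normal ∧ N ≠ ⊥ ∧ IsMulCommutative N ∧ ∀ ω : Ω, MulAction.stabilizer N ω = ⊥) ∧ (∀ g : G, g ≠ 1 → Nat.card (MulAction.fixedBy Ω g) ≤ 1) ∧ ¬ 2 ∣ Fintype.card Ω ∧
        2 * Nat.card (MulAction.stabilizer G α) = Fintype.card Ω - 1) ∨
    ((∃ N : Subgroup G, N.Normal ∧ N ≠ ⊥ ∧ IsMulCommutative N ∧ ∀ ω : Ω, MulAction.stabilizer N ω = ⊥) ∧ MulAction.IsMultiplyPretransitive G Ω 2 ∧ ∃ g : G, g ≠ 1 ∧ 2 ≤ Nat.card (MulAction.fixedBy Ω g)) := by
  have : Nontrivial Ω := Fintype.one_lt_card_iff_nontrivial.1 hΩ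
  have three : ∀ x y z : G, (∀ ω : Ω, x • ω ≠ ω) → (∀ ω : Ω, y • ω ≠ ω) → (∀ ω : Ω, z • ω ≠ ω) →
      IsConj x y ∨ IsConj x z ∨ IsConj y z := fun x y z hx hy hz => by
    obtain ⟨a, b, -, h⟩ := Nat.card_eq_two_iff.1 hκ
    have h1 : ∀ w : G, (∀ ω : Ω, w • ω ≠ ω) → ConjClasses.mk w = a.1 ∨ ConjClasses.mk w = b.1 :=
      fun w hw => (h.ge (Set.mem_univ ⟨_, w, rfl, hw⟩)).imp (congrArg Subtype.val)
        (congrArg Subtype.val)
    simp only [← ConjClasses.mk_eq_mk_iff_isConj]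
    rcases h1 x hx with h2 | h2 <;> rcases h1 y hy with h3 | h3 <;> rcases h1 z hz with h4 | h4 <;>
      simp [h2, h3, h4]
  by_cases h : fittingSubgroup G = ⊥
  · have : Nontrivial G := by
      obtain ⟨a, b, hab⟩ := exists_pair_ne Ω
      obtain ⟨g, rfl⟩ := MulAction.exists_smul_eq G a b
      exact ⟨g, 1, fun h => hab (by rw [h, one_smul])⟩
    obtain ⟨⟨T, hT⟩, h1⟩ := (almost_simple_or h).resolve_left hnas
    exfalso
    rcases comp_semireg_or (Ω := Ω) h hT with h2 | ⟨t, ht, h2⟩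
    · obtain ⟨p, hp, -, x, hx, rfl⟩ := exists_prime_ne hT 2 Nat.prime_two
      obtain ⟨q, hq, h3, y, hy, rfl⟩ := exists_prime_ne hT _ hp
      obtain ⟨r, hr, h4, h5, h6⟩ : ∃ r : ℕ, r.Prime ∧ r ∣ Nat.card T ∧ r ≠ orderOf x ∧
          r ≠ orderOf y := by
        by_contra! h4
        obtain ⟨a, k, h5, h6⟩ := Nat.exists_eq_pow_mul_and_not_dvd (Nat.card_pos (α := T)).ne' _
          hp.ne_one
        refine Comp2.quasisimple_not_isSolvable hT.2 (S0144.result _ _ a _ hp hq (h6.trans (congrArg _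
          (Nat.eq_prime_pow_of_unique_prime_dvd (by rintro rfl; simp at h5) fun {r} hr hd => ?_))))
        exact h4 r hr (h6 ▸ hd.mul_left _) fun e => h5 (e ▸ hd)
      have := Fact.mk hr
      obtain ⟨z, hz, rfl⟩ := Comp2.exists_orderOf_eq_of_dvd_card h4
      have ex : ∀ x ∈ T, (orderOf x).Prime → ∀ ω : Ω, x • ω ≠ ω := fun x hx hp ω hω =>
        hp.ne_one (by rw [h2 x hx ω hω, orderOf_one])
      rcases three x y z (ex x hx hp) (ex y hy hq) (ex z hz hr) with ⟨c, e⟩ | ⟨c, e⟩ | ⟨c, e⟩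
      exacts [h3 (e.orderOf_eq _).symm, h5 (e.orderOf_eq _).symm, h6 (e.orderOf_eq _).symm]
    · obtain ⟨T', hT', h3⟩ := h1 T hT
      obtain ⟨q, hq, -, s, hs, rfl⟩ := exists_prime_ne hT' 2 Nat.prime_two
      obtain ⟨r, hr, h4, u, hu, rfl⟩ := exists_prime_ne hT' _ hq
      have hd : ∀ s ∈ T', ∀ b : Ω, (t * s) • b ≠ b := fun s hs => h2 s
        (Comp2.component_le_layer hT' hs) fun u hu => comp_commute hT hT' h3.symm hu hs
      have hd1 := hd 1 (one_mem _)
      rw [mul_one] at hd1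
      have ht1 : t ≠ 1 := fun e => hd1 α (by rw [e, one_smul])
      -- unique decomposition
      have dec : ∀ {S U V : Subgroup G}, IsComponent S → IsComponent U → IsComponent V → S ≠ U →
          S ≠ V → ∀ {W : Subgroup G}, IsComponent W → S ≠ W → ∀ {a b c d : G}, a ∈ S → b ∈ U →
          c ∈ V → d ∈ W → a * b = c * d → a = 1 := fun hS hU hV h5 h6 W hW h7 a b c d ha hb hc hd e =>
        comp_cent h hS ha fun v hv => eq_mul_inv_of_mul_eq e ▸ ((comp_commute hS hV h6 hv hc).mul_right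
          (comp_commute hS hW h7 hv hd)).mul_right (comp_commute hS hU h5 hv hb).inv_right
      have dec2 : ∀ {S U : Subgroup G}, IsComponent S → IsComponent U → S ≠ U → ∀ {a b c d : G},
          a ∈ S → b ∈ U → c ∈ S → d ∈ U → a * b = c * d → a = c ∧ b = d :=
        fun hS hU h5 a b c d ha hb hc hd e => by
          have := inv_mul_eq_one.1 (dec hS hU hU h5 h5 hU h5 (mul_mem (inv_mem hc) ha) hb hd
            (one_mem _) (by rw [mul_assoc, e, inv_mul_cancel_left, mul_one]))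
          exact ⟨this.symm, mul_left_cancel (this ▸ e)⟩
      have nc : ∀ s ∈ T', s ≠ 1 → ¬ IsConj t (t * s) := fun s hs h5 e => by
        obtain ⟨g, e⟩ := isConj_iff.1 e
        have h6 := Comp2.component_conj hT g
        have h7 : g * t * g⁻¹ ∈ cj g T := conj_mem_cj ht
        by_cases h8 : T = cj g T
        · exact h5 (dec2 hT hT' h3.symm ht hs (h8 ▸ h7) (one_mem _) ((mul_one _).trans e).symm).2
        · exact ht1 (dec hT hT' h6 h3.symm h8 h6 h8 ht hs h7 (one_mem _) (by rw [mul_one, e]))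
      rcases three t _ _ hd1 (hd s hs) (hd u hu) with e | e | e
      · exact nc s hs (fun e => hq.ne_one (orderOf_eq_one_iff.2 e)) e
      · exact nc u hu (fun e => hr.ne_one (orderOf_eq_one_iff.2 e)) e
      obtain ⟨g, e⟩ := isConj_iff.1 e
      rw [show g * (t * s) * g⁻¹ = g * t * g⁻¹ * (g * s * g⁻¹) by group] at e
      have h6 := Comp2.component_conj hT g
      have h7 := Comp2.component_conj hT' g
      have h8 : g * t * g⁻¹ ∈ cj g T := conj_mem_cj ht
      have h9 : g * s * g⁻¹ ∈ cj g T' := conj_mem_cj hs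
      have hc := (comp_commute hT hT' h3.symm ht hu).eq
      have hu1 : u ≠ 1 := fun e => hr.ne_one (orderOf_eq_one_iff.2 e)
      have oc : ∀ x : G, orderOf (g * x * g⁻¹) = orderOf x := fun x =>
        (MulAut.conj g).orderOf_eq x
      by_cases h10 : T' = cj g T'
      · by_cases h11 : T = cj g T
        · exact h4 (by rw [← (dec2 hT hT' h3.symm (h11 ▸ h8) (h10 ▸ h9) ht hu e).2, oc])
        · exact ht1 (dec hT hT' h6 h3.symm h11 hT' h3.symm ht hu h8 (h10 ▸ h9) e.symm)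
      by_cases h11 : T' = cj g T
      · by_cases h12 : T = cj g T'
        · obtain ⟨h13, h14⟩ := dec2 hT' hT h3 (h11 ▸ h8) (h12 ▸ h9) hu ht (e.trans hc)
          exact h4 (by rw [← h13, oc, ← h14, oc])
        · exact ht1 (dec hT hT' hT' h3.symm h3.symm h7 h12 ht hu (h11 ▸ h8) h9 e.symm)
      · exact hu1 (dec hT' hT h6 h3 h11 h7 h10 hu ht h8 h9 (hc.symm.trans e.symm))
  obtain ⟨N, r, -, hN, hN0, hNe, htr, hreg⟩ := exists_affine (Ω := Ω) h
  have haff : ∃ N : Subgroup G, N.Normal ∧ N ≠ ⊥ ∧ IsMulCommutative N ∧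
    ∀ ω : Ω, stabilizer N ω = ⊥ := ⟨N, hN, hN0, hNe.1, hreg⟩
  have der : ∀ n ∈ N, n ≠ 1 → ∀ ω : Ω, n • ω ≠ ω := fun n hn h1 ω e =>
    h1 (reg_inj hreg hn (one_mem _) (e.trans (one_smul _ _).symm))
  have orb : ∀ n ∈ N, ∀ m ∈ N, IsConj n m → ∃ k : G, k • α = α ∧ k • n • α = m • α :=
    fun n hn m hm e => by
      obtain ⟨g, rfl⟩ := isConj_iff.1 e
      obtain ⟨u, hu⟩ := htr.exists_smul_eq α (g⁻¹ • α)
      have hu' : (u : G) • α = g⁻¹ • α := hu
      exact ⟨g * u, by rw [mul_smul, hu', smul_inv_smul], by rw [mul_smul, smul_smul (u : G),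
        Core.comm_of_isMulCommutative hNe.1 u.2 hn, mul_smul, hu', mul_smul, mul_smul]⟩
  have pt : ∀ b : Ω, b ≠ α → ∃ n ∈ N, n ≠ 1 ∧ n • α = b := fun b hb =>
    let ⟨n, hn⟩ := htr.exists_smul_eq α b
    ⟨n, n.2, fun e => hb (by rw [← hn]; exact (congrArg (· • α) e).trans (one_smul _ _)), hn⟩
  right
  by_cases h1 : ∀ n ∈ N, ∀ m ∈ N, n ≠ 1 → m ≠ 1 → IsConj n m
  · refine Or.inr ⟨haff, two_trans_of_orbit α fun b c hb hc => ?_, ?_⟩
    · obtain ⟨n, hn, h2, rfl⟩ := pt b hb
      obtain ⟨m, hm, h3, rfl⟩ := pt c hc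
      exact orb n hn m hm (h1 n hn m hm h2 h3)
    by_contra! h2
    have h3 : ∀ g : G, (∀ ω : Ω, g • ω ≠ ω) → g ∈ N := by
      by_cases h3 : ∃ g : G, g ≠ 1 ∧ ∃ a : Ω, g • a = a
      · obtain ⟨K, -, h4, -, -, h5⟩ := frobenius_kernel hprim.toIsPretransitive h3
          fun g a b hab ha hb => by_contra fun h4 => (h2 g h4).not_ge
            (Finite.one_lt_card_iff_nontrivial.2 ⟨⟨a, ha⟩, ⟨b, hb⟩, fun e => hab (congrArg Subtype.val e)⟩)
        rw [eq_of_le_of_card_ge (K := K) (fun n hn => (h4 n).2 (or_iff_not_imp_left.2 (der n hn)))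
          (h5.trans (card_eq_of_regular N htr hreg α).symm).le]
        exact fun g hg => (h4 g).2 (Or.inr hg)
      · intro g _
        obtain ⟨n, hn⟩ := htr.exists_smul_eq α (g • α)
        push Not at h3
        have h4 : (n : G)⁻¹ * g = 1 := by_contra fun h4 => h3 _ h4 α (by
          rw [mul_smul, inv_smul_eq_iff]; exact hn.symm)
        exact inv_mul_eq_one.1 h4 ▸ n.2
    obtain ⟨⟨_, x, rfl, hx⟩, ⟨_, y, rfl, hy⟩, h4, -⟩ := Nat.card_eq_two_iff.1 hκ
    exact h4 (Subtype.ext (ConjClasses.mk_eq_mk_iff_isConj.2 (h1 x (h3 x hx) y (h3 y hy)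
      (fun e => hx α (by rw [e, one_smul])) fun e => hy α (by rw [e, one_smul]))))
  push Not at h1
  obtain ⟨n, hn, m, hm, hn1, hm1, h1⟩ := h1
  have h2 : ∀ g : G, (∀ ω : Ω, g • ω ≠ ω) → IsConj n g ∨ IsConj m g := fun g hg =>
    (three n m g (der n hn hn1) (der m hm hm1) hg).resolve_left h1
  have h3 := (derangement_closure N fun g hg => (h2 g hg).elim
    (fun e => let ⟨c, hc⟩ := isConj_iff.1 e; hc ▸ hN.conj_mem n hn c)
    fun e => let ⟨c, hc⟩ := isConj_iff.1 e; hc ▸ hN.conj_mem m hm c).2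
  have h4 : ∀ g : G, g ≠ 1 → Nat.card (fixedBy Ω g) ≤ 1 := fun g hg => by
    by_cases h4 : g ∈ N
    · rw [(card_fixedBy_eq_zero_iff g).2 (der g h4 hg)]; exact zero_le_one
    · exact (h3 g h4).le
  have h5 : ∀ b : Ω, b ≠ α → (orbit (stabilizer G α) b).ncard = Nat.card (stabilizer G α) :=
    fun b hb => by
      rw [← index_stabilizer, show stabilizer (stabilizer G α) b = ⊥ from eq_bot_iff.2 fun g hg =>
        Subtype.ext (by_contra fun h5 => (h4 g h5).not_gt (Finite.one_lt_card_iff_nontrivial.2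
          ⟨⟨α, g.2⟩, ⟨b, hg⟩, fun e => hb (congrArg Subtype.val e).symm⟩)), index_bot]
  have h6 : 2 * Nat.card (stabilizer G α) = Fintype.card Ω - 1 := by
    rw [← Nat.card_eq_fintype_card, ← ncard_compl_singleton α, two_mul]
    nth_rw 1 [← h5 _ (der n hn hn1 α)]
    rw [← h5 _ (der m hm hm1 α), ← Set.ncard_union_eq]
    · congr 1
      refine Set.Subset.antisymm ?_ fun b hb => ?_
      · rintro _ (⟨k, rfl⟩ | ⟨k, rfl⟩) e
        · exact der n hn hn1 α (smul_left_cancel (k : G) (e.trans k.2.symm))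
        · exact der m hm hm1 α (smul_left_cancel (k : G) (e.trans k.2.symm))
      · obtain ⟨u, hu, h6, rfl⟩ := pt b hb
        exact (h2 u (der u hu h6)).imp
          (fun e => let ⟨k, h7, h8⟩ := orb n hn u hu e; ⟨⟨k, h7⟩, h8⟩)
          fun e => let ⟨k, h7, h8⟩ := orb m hm u hu e; ⟨⟨k, h7⟩, h8⟩
    · refine (orbit.eq_or_disjoint _ _).resolve_left fun e => h1 ?_
      obtain ⟨k, hk⟩ := e.ge (mem_orbit_self _)
      refine isConj_iff.2 ⟨k, reg_inj hreg (hN.conj_mem n hn k) hm (a := α) ?_⟩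
      rw [mul_smul, mul_smul, inv_smul_eq_iff.2 k.2.symm]
      exact hk
  exact Or.inl ⟨haff, h4, by omega, h6⟩

end Cfsg.Agent.S3520
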