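import Mathlib
import Cfsg.Statements.S3521
import Cfsg.Agent.Perm.XP2
import Cfsg.Agent.Perm.XP3
import Cfsg.Agent.Perm.SemiAff

set_option autoImplicit false
open Cfsg

namespace Cfsg.Agent.S3521

open Subgroup MulAction Perm

/-- Let a finite group G that is not solvable act faithfully and primitively on a finite set with p ^ d points (p prime), with a non-trivial abelian normal subgroup acting regularly (affine type) and with non-trivial point stabilizers each acting primitively on every one of its orbits (an insoluble extremely primitive group of affine type). Then p = 2; and if moreover G is not 2-transitive, then a point stabilizer is almost simple (it has a non-abelian simple normal subgroup with trivial centralizer). -/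
theorem result {G : Type*} [Group G] [Finite G] {Ω : Type*} [Fintype Ω] [MulAction G Ω] [FaithfulSMul G Ω] (p d : ℕ) (hp : p.Prime) (hcard : Fintype.card Ω = p ^ d) (hsol : ¬ Group.IsSolvable G)
    (N : Subgroup G) [N.Normal] (hN : N ≠ ⊥) (hNc : IsMulCommutative N) (hNreg : ∀ ω : Ω, MulAction.stabilizer N ω = ⊥)
    (hprim : MulAction.IsPreprimitive G Ω) (hH : ∀ α : Ω, MulAction.stabilizer G α ≠ ⊥) (hep : ∀ (α : Ω) (ω : Ω), MulAction.IsPreprimitive (MulAction.stabilizer G α) (MulAction.orbit (MulAction.stabilizer G α) ω)) (α : Ω) :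
    p = 2 ∧ (¬ MulAction.IsMultiplyPretransitive G Ω 2 → ∃ T : Subgroup (MulAction.stabilizer G α), T.Normal ∧ IsSimpleGroup T ∧ ¬ IsMulCommutative T ∧ Subgroup.centralizer (T : Set (MulAction.stabilizer G α)) = ⊥) := by
  have h : XP G Ω := ⟨hprim, hH, hep⟩
  have := Fact.mk hp
  obtain ⟨β, hb⟩ := h.exists_ne α
  have : Nontrivial Ω := ⟨β, α, hb⟩
  have hNn : N.Normal := inferInstance
  have htr := normal_trans (Ω := Ω) N hN
  have hc : ∀ u ∈ N, ∀ v ∈ N, u * v = v * u := fun u hu v hv =>
    Core.comm_of_isMulCommutative hNc hu hv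
  have key : ∀ k s : G, k • α = α → k • s • α = (k * s * k⁻¹) • α := fun k s hk => by
    rw [mul_smul, mul_smul, inv_smul_eq_iff.2 hk.symm]
  have hs : ¬ Group.IsSolvable (stabilizer G α) := fun hs => hsol (by
    have : Group.IsSolvable N := Group.isSolvable_of_comm fun a b => Subtype.ext (hc _ a.2 _ b.2)
    have : Group.IsSolvable (G ⧸ N) := Group.isSolvable_of_surjective
      (f := (QuotientGroup.mk' N).comp (stabilizer G α).subtype) fun x => by
        obtain ⟨g, rfl⟩ := QuotientGroup.mk_surjective x
        obtain ⟨n, hn⟩ := htr.exists_smul_eq α (g⁻¹ • α)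
        exact ⟨⟨g * n, show (g * n) • α = α by
          rw [mul_smul, show (n : G) • α = _ from hn, smul_inv_smul]⟩,
          QuotientGroup.mk_mul_of_mem g n.2⟩
    exact Group.isSolvable_of_ker_le_range N.subtype (QuotientGroup.mk' N) (by simp))
  have h2 : ∀ n ∈ N, n ^ 2 = 1 := by
    obtain ⟨i, hi⟩ := exists_prime_orderOf_dvd_card' (G := stabilizer G α) 2
      (even_iff_two_dvd.1 (Nat.not_odd_iff_even.1 fun ho => hs (S0205.result ho)))
    have h1 : (i : G) * i = 1 := by
      rw [← coe_mul, ← pow_two, ← hi, pow_orderOf_eq_one, coe_one]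
    obtain ⟨n, hn, h3⟩ : ∃ n ∈ N, n⁻¹ * (i * n * (i : G)⁻¹) ≠ 1 := by
      by_contra! h3
      have : i = 1 := Subtype.ext (eq_of_smul_eq_smul (α := Ω) fun x => by
        obtain ⟨n, rfl⟩ := htr.exists_smul_eq α x
        rw [coe_one, one_smul]
        exact (key _ _ i.2).trans (congrArg (· • α) (inv_mul_eq_one.1 (h3 n n.2)).symm))
      simp [this] at hi
    have h4 := mul_mem (inv_mem hn) (hNn.conj_mem n hn i)
    have h5 : i * (n⁻¹ * (i * n * (i : G)⁻¹)) * (i : G)⁻¹ = (n⁻¹ * (i * n * (i : G)⁻¹))⁻¹ := by
      rw [inv_eq_of_mul_eq_one_right h1, mul_inv_rev, mul_inv_rev, mul_inv_rev,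
        inv_eq_of_mul_eq_one_right h1, inv_inv]
      simp only [mul_assoc, h1, mul_one]
    generalize n⁻¹ * (i * n * (i : G)⁻¹) = m at h3 h4 h5
    have h6 : m • α ≠ α := fun e => h3 (reg_inj hNreg h4 (one_mem _) (e.trans (one_smul _ _).symm))
    have h7 : ∀ k : G, k • α = α → k • m • α = m • α → k • m⁻¹ • α = m⁻¹ • α := fun k hk hk' => by
      rw [key k _ hk, show k * m⁻¹ * k⁻¹ = (k * m * k⁻¹)⁻¹ by group,
        reg_inj hNreg (hNn.conj_mem m h4 k) h4 ((key k m hk).symm.trans hk')]
    have h8 : m⁻¹ = m := by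
      open scoped Pointwise in
      rcases h.max h6 (K := stabilizer G ({m • α, m⁻¹ • α} : Set Ω)) (fun k hk hk' => by
        rw [mem_stabilizer_iff, Set.smul_set_insert, Set.smul_set_singleton, hk', h7 k hk hk'])
        with h8 | h8
      · refine reg_inj hNreg (inv_mem h4) h4 (a := α) ?_
        rw [← h5, ← key _ _ i.2]
        refine h8 i ?_ i.2
        rw [mem_stabilizer_iff, Set.smul_set_insert, Set.smul_set_singleton, key _ _ i.2,
          key _ _ i.2, h5, show i * m⁻¹ * (i : G)⁻¹ = (i * m * (i : G)⁻¹)⁻¹ by group, h5, inv_inv,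
          Set.pair_comm]
      · have h9 := h.isCoatom h6
        rw [show (stabilizer G (m • α)).subgroupOf (stabilizer G α) = ⊥ from eq_bot_iff.2
          fun g hg => Subtype.ext (h.faith h6 g.2 fun k hk => by
            rcases (mem_stabilizer_iff.1 (h8 k hk)).le
              (Set.smul_mem_smul_set (Set.mem_insert _ _)) with e | e
            · rw [e]; exact hg
            · rw [e]; exact h7 g g.2 hg)] at h9
        have := (card_prime_of_isCoatom_bot h9).1
        exact absurd (Group.isSolvable_of_comm (IsCyclic.isMulCommutative (α := _)).1.1) hs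
    exact fun x hx => ((h.irred hNc hN le_rfl le_normalizer (hH α) (L := Core.powKer N hNc 2)
      (fun x hx => hx.1) (fun e => h3 (mem_bot.1 (e.le (Core.mem_powKer.2
        ⟨h4, by rw [pow_two, ← eq_inv_iff_mul_eq_one, h8]⟩)))) fun k _ l hl => Core.mem_powKer.2
          ⟨hNn.conj_mem l hl.1 k, by rw [conj_pow, hl.2, mul_one, mul_inv_cancel]⟩).ge hx).2
  have hN2 := card_eq_of_regular N htr hNreg α
  rw [Nat.card_eq_fintype_card (α := Ω), hcard] at hN2
  refine ⟨((Nat.prime_dvd_prime_iff_eq Nat.prime_two hp).1 (Nat.prime_two.dvd_of_dvd_pow (hN2 ▸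
    Core.prime_dvd_card_of_isPGroup (Core.IsElementaryAbelian.isPGroup ⟨hNc, h2⟩) hN))).symm,
    fun _ => ?_⟩
  have hF : fittingSubgroup (stabilizer G α) = ⊥ := by
    by_contra hF
    obtain ⟨T, q, hT, hT0, -, hq, hTe, -⟩ := Core.exists_minimal_normal_elementary_le
      _ Core.fitting_solvable hF
    have h1 := map_subtype_le T
    have h3 := LocalEven.le_normalizer_map_subtype T
    have hd : d ≠ 0 := by
      rintro rfl
      exact Fintype.one_lt_card.ne' hcard
    obtain ⟨e, -, -, -, he⟩ := exists_semiaffine (a := α) hc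
      (fun x => let ⟨u, hu⟩ := htr.exists_smul_eq α x; ⟨u, u.2, hu⟩)
      (fun u hu e => congrArg Subtype.val ((hNreg α).le (show (⟨u, hu⟩ : N) ∈ _ from e))) h1
      (fun u hu v hv => Core.comm_of_isMulCommutative (Core.IsElementaryAbelian.map hTe _).1 hu hv)
      (fun g hg k hk => LocalEven.conj_mem_of_mem_normalizer (h3 hg) hk)
      (fun W hW hW0 hc => h.irred hNc hN h1 h3 (by
        rwa [Ne, map_eq_bot_iff_of_injective _ (subtype_injective _)]) hW hW0 hc) (GaloisField p d)
      (by rw [GaloisField.card p d hd, Nat.card_eq_fintype_card, hcard])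
    have he' : ∀ (t : T) (x : Ω), e (((t : stabilizer G α) : G) • x) =
        e (((t : stabilizer G α) : G) • e.symm 1) * e x := fun t x => by
      obtain ⟨l, hl⟩ := he _ ⟨t, t.2, rfl⟩
      exact (hl x).trans (by rw [← mul_one l, ← e.apply_symm_apply 1, ← hl, e.apply_symm_apply]; rfl)
    have := isCyclic_of_injective_ringHom (G := T) (R := GaloisField p d)
      { toFun := fun t => e (((t : stabilizer G α) : G) • e.symm 1)
        map_one' := by simp
        map_mul' := fun s t => by rw [← he', coe_mul, coe_mul, mul_smul] }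
      fun s t hst => Subtype.ext (Subtype.ext (eq_of_smul_eq_smul (α := Ω) fun x => e.injective
        (by rw [he', he' t]; exact congrArg (· * e x) hst)))
    have : Group.IsSolvable (MulAut T) := Group.isSolvable_of_comm fun a b =>
      (IsCyclic.mulAutMulEquiv T).injective (by rw [map_mul, map_mul, mul_comm])
    have : Group.IsSolvable T := Group.isSolvable_of_comm hTe.1.1.1
    refine hs (Group.isSolvable_of_ker_le_range T.subtype (MulAut.conjNormal (H := T))
      fun g hg => ?_)
    rw [range_subtype, ← (h.coreFree hb).cent_eq_of_comm hT0 hTe.1]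
    exact fun x hx => (mul_inv_eq_iff_eq_mul.1 (congrArg Subtype.val
      (DFunLike.congr_fun hg (⟨x, hx⟩ : T)))).symm
  have := (nontrivial_iff_ne_bot _).2 (hH α)
  refine (almost_simple_or hF).resolve_right fun ⟨⟨T, hT⟩, h1⟩ => ?_
  obtain ⟨T', hT', h3⟩ := h1 T hT
  letI : CommGroup N := { (inferInstance : Group N) with mul_comm := hNc.1.1 }
  letI : DistribMulAction (stabilizer G α) (Additive N) :=
    { smul := fun h u => Additive.ofMul (MulAut.conjNormal (h : G) u.toMul)
      one_smul := fun u => by change Additive.ofMul _ = _; simp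
      mul_smul := fun g h u => by change Additive.ofMul _ = Additive.ofMul _; simp; rfl
      smul_zero := fun h => congrArg Additive.ofMul (map_one _)
      smul_add := fun h u v => congrArg Additive.ofMul (map_mul _ _ _) }
  have := (nontrivial_iff_ne_bot _).2 hN
  refine not_two_comp (V := Additive N) (fun v => congrArg Additive.ofMul
    (Subtype.ext ((pow_two _).symm.trans (h2 _ v.toMul.2)))) (fun v hv => ?_) hF hT' hT h3
  convert h.coreFree (α := α) (β := (v.toMul : G) • α) fun e => hv (congrArg Additive.ofMul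
    (Subtype.ext (reg_inj hNreg v.toMul.2 (one_mem _) (e.trans (one_smul _ _).symm)))) using 1
  ext g
  rw [mem_subgroupOf, mem_stabilizer_iff, mem_stabilizer_iff, key _ _ g.2]
  exact ⟨fun e => congrArg (fun x : Additive N => (x.toMul : G) • α) e, fun e =>
    congrArg Additive.ofMul (Subtype.ext (reg_inj hNreg (hNn.conj_mem _ v.toMul.2 _) v.toMul.2 e))⟩

end Cfsg.Agent.S3521
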