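import Mathlib
import Cfsg.Statements.S3532
import Cfsg.Agent.Spc.Iso
-- import your own Cfsg.Agent.* helpers here

set_option autoImplicit false
open Cfsg

namespace Cfsg.Agent.S3532

/-- Let q ≥ 4 be a prime power and L = PSL(2,q). There is a finite solvable group with the same set of element orders as L × L (so L × L is not determined by its spectrum). -/
theorem result {F : Type*} [Field F] [Fintype F] (hF : 4 ≤ Fintype.card F) :
    ∃ (H : Type) (_ : Group H) (_ : Finite H), Group.IsSolvable H ∧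
      Set.range (orderOf : H → ℕ) = Set.range (orderOf : Matrix.ProjectiveSpecialLinearGroup (Fin 2) F × Matrix.ProjectiveSpecialLinearGroup (Fin 2) F → ℕ) := by
  obtain ⟨p, hp⟩ := CharP.exists F
  have hpp := CharP.char_is_prime F p
  haveI := Fact.mk hpp
  have hS := S2475.result (F := F) p hF
  have hd : Nat.gcd 2 (Fintype.card F - 1) ∣ Fintype.card F + 1 := by
    rcases Spc.gcd_two_cases (F := F) with h | h <;> rw [h.2.1]
    exacts [one_dvd _, h.2.2.add_one.two_dvd]
  obtain ⟨H₁, _, _, h1, h2, -⟩ := Spc.exists_frob hpp (b := (Fintype.card F - 1) / Nat.gcd 2 (Fintype.card F - 1))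
    ((Spc.coprime_of_cast (F := F) p (by simpa using Spc.cast_pow_sub_ne (F := F) one_pos)).coprime_dvd_left
      (Nat.div_dvd_of_dvd (Nat.gcd_dvd_right _ _)))
  obtain ⟨H₂, _, _, h3, h4, -⟩ := Spc.exists_frob hpp (b := (Fintype.card F + 1) / Nat.gcd 2 (Fintype.card F - 1))
    ((Spc.coprime_of_cast (F := F) p (by simpa using Spc.cast_pow_add_ne (F := F) one_pos)).coprime_dvd_left
      (Nat.div_dvd_of_dvd hd))
  refine ⟨H₁ × H₂, inferInstance, inferInstance, inferInstance, Set.ext fun m => ?_⟩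
  refine Spec.mem_prod.trans (Iff.trans ?_ Spec.mem_prod.symm)
  rw [h2, h4, Spec.spec, hS]
  generalize (Fintype.card F - 1) / Nat.gcd 2 (Fintype.card F - 1) = b at *
  generalize (Fintype.card F + 1) / Nat.gcd 2 (Fintype.card F - 1) = c at *
  simp only [Set.mem_setOf_eq]
  constructor
  · rintro ⟨x, hx, y, hy, rfl⟩
    exact ⟨x, by tauto, y, by tauto, rfl⟩
  · rintro ⟨x, hx | hx | hx, y, hy | hy | hy, rfl⟩
    · exact ⟨x, Or.inl hx, y, Or.inl hy, rfl⟩
    · exact ⟨y, Or.inr hy, x, Or.inl hx, Nat.lcm_comm _ _⟩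
    · exact ⟨x, Or.inl hx, y, Or.inr hy, rfl⟩
    · exact ⟨x, Or.inr hx, y, Or.inl hy, rfl⟩
    · exact ⟨_, Or.inr (Nat.lcm_dvd hx hy), 1, by simp, by simp⟩
    · exact ⟨x, Or.inr hx, y, Or.inr hy, rfl⟩
    · exact ⟨y, Or.inl hy, x, Or.inr hx, Nat.lcm_comm _ _⟩
    · exact ⟨y, Or.inr hy, x, Or.inr hx, Nat.lcm_comm _ _⟩
    · exact ⟨1, by simp, _, Or.inr (Nat.lcm_dvd hx hy), by simp⟩

end Cfsg.Agent.S3532
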