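import Mathlib
import Cfsg.Statements.S3547
import Cfsg.Agent.Perm.Derang

set_option autoImplicit false
open Cfsg

namespace Cfsg.Agent.S3547

open MulAction

/-- Let G act faithfully and transitively on a finite set Ω, let D be the subgroup generated by the derangements, and let r_G and r_D be the numbers of orbits of G and of D on ordered pairs of points (the permutation ranks). Then r_D − 1 = (r_G − 1)·[G : D]. -/
theorem result {G Ω : Type*} [Group G] [Finite G] [MulAction G Ω] [FaithfulSMul G Ω] [Finite Ω]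
    (htrans : MulAction.IsPretransitive G Ω) :
    Nat.card (MulAction.orbitRel.Quotient ↥(Subgroup.closure {g : G | ∀ ω : Ω, g • ω ≠ ω}) (Ω × Ω)) - 1 =
      (Nat.card (MulAction.orbitRel.Quotient G (Ω × Ω)) - 1) * (Subgroup.closure {g : G | ∀ ω : Ω, g • ω ≠ ω}).index := by
  classical
  haveI := Fintype.ofFinite G
  obtain ⟨-, h2⟩ := Perm.derangement_closure (α := Ω) (Subgroup.closure {g : G | ∀ ω : Ω, g • ω ≠ ω})
    fun g hg => Subgroup.subset_closure hg
  generalize Subgroup.closure {g : G | ∀ ω : Ω, g • ω ≠ ω} = D at h2 ⊢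
  have h1 := Perm.sum_card_fixedBy (G := G) (α := Ω × Ω)
  rw [← Finset.sum_filter_add_sum_filter_not _ (· ∈ D), Perm.sum_subgroup_card_fixedBy,
    Finset.sum_congr rfl (g := fun _ => 1) (fun g hg => by
      rw [Perm.card_fixedBy_prod, h2 g (Finset.mem_filter.mp hg).2]), ← Finset.card_eq_sum_ones] at h1
  have h4 := Finset.card_filter_add_card_filter_not (s := (Finset.univ : Finset G)) (· ∈ D)
  rw [Finset.card_univ, ← Nat.card_eq_fintype_card, ← Fintype.card_subtype,
    ← Nat.card_eq_fintype_card] at h4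
  have h5 := D.index_mul_card
  have h6 : 0 < Nat.card D := Nat.card_pos
  rcases isEmpty_or_nonempty Ω with hΩ | hΩ
  · haveI : IsEmpty (orbitRel.Quotient D (Ω × Ω)) := ⟨fun x => isEmptyElim x.out⟩
    haveI : IsEmpty (orbitRel.Quotient G (Ω × Ω)) := ⟨fun x => isEmptyElim x.out⟩
    simp
  haveI : Nonempty (orbitRel.Quotient D (Ω × Ω)) := ⟨Quotient.mk _ (Classical.arbitrary _)⟩
  haveI : Nonempty (orbitRel.Quotient G (Ω × Ω)) := ⟨Quotient.mk _ (Classical.arbitrary _)⟩
  obtain ⟨r, hr⟩ := Nat.exists_eq_add_one_of_ne_zero (Nat.card_pos (α := orbitRel.Quotient D (Ω × Ω))).ne'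
  obtain ⟨s, hs⟩ := Nat.exists_eq_add_one_of_ne_zero (Nat.card_pos (α := orbitRel.Quotient G (Ω × Ω))).ne'
  rw [hr, hs] at h1 ⊢
  simp only [Nat.add_sub_cancel]
  apply Nat.eq_of_mul_eq_mul_right h6
  rw [mul_assoc, h5]
  change Nat.card D + _ = _ at h4
  nlinarith

end Cfsg.Agent.S3547
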