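import Mathlib
import Cfsg.Statements.S3548
import Cfsg.Agent.Perm.Derang

set_option autoImplicit false
open Cfsg

namespace Cfsg.Agent.S3548

open MulAction

/-- Let G act faithfully and transitively on a finite set with n ≥ 2 points and let D be the subgroup generated by the derangements. Then the index of D in G divides n − 1, and if it equals n − 1 then n is a prime power. -/
theorem result {G Ω : Type*} [Group G] [Finite G] [MulAction G Ω] [FaithfulSMul G Ω] [Finite Ω]
    (htrans : MulAction.IsPretransitive G Ω) (hΩ : 2 ≤ Nat.card Ω) :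
    (Subgroup.closure {g : G | ∀ ω : Ω, g • ω ≠ ω}).index ∣ Nat.card Ω - 1 ∧
    ((Subgroup.closure {g : G | ∀ ω : Ω, g • ω ≠ ω}).index = Nat.card Ω - 1 → IsPrimePow (Nat.card Ω)) := by
  obtain ⟨h1, h2⟩ := Perm.derangement_closure (α := Ω) (Subgroup.closure {g : G | ∀ ω : Ω, g • ω ≠ ω})
    fun g hg => Subgroup.subset_closure hg
  have hn := Perm.derangement_closure_normal (G := G) (α := Ω)
  generalize Subgroup.closure {g : G | ∀ ω : Ω, g • ω ≠ ω} = D at h1 h2 hn ⊢
  haveI : Nontrivial Ω := Finite.one_lt_card_iff_nontrivial.mp hΩ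
  obtain ⟨a, b, hab⟩ := exists_pair_ne Ω
  have hinv : ∀ g ∈ stabilizer G a, ∀ x ∈ ({a}ᶜ : Set Ω), g • x ∈ ({a}ᶜ : Set Ω) :=
    fun g hg x hx h => hx (MulAction.injective g (h.trans (Eq.symm hg)))
  refine ⟨Perm.ncard_compl_singleton a ▸ Perm.dvd_ncard_of_forall_orbit (stabilizer G a) _ (Set.toFinite _)
    hinv fun x hx => Perm.index_dvd_ncard_orbit D h1 h2 hx, fun h => ?_⟩
  have horb : ∀ x, x ≠ a → orbit (stabilizer G a) x = {a}ᶜ := fun x hx => by
    refine Set.eq_of_subset_of_ncard_le (by rintro _ ⟨g, rfl⟩; exact hinv g.1 g.2 x hx) ?_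
    rw [Perm.ncard_compl_singleton, ← h]
    exact Nat.le_of_dvd ((Set.ncard_pos (Set.toFinite _)).mpr ⟨x, mem_orbit_self x⟩)
      (Perm.index_dvd_ncard_orbit D h1 h2 hx)
  have h2t : IsMultiplyPretransitive G Ω 2 := Perm.two_trans_of_orbit a fun x y hx hy => by
    obtain ⟨g, hg⟩ : y ∈ orbit (stabilizer G a) x := horb x hx ▸ hy
    exact ⟨g, g.2, hg⟩
  have hst : ∀ n ∈ D, n • a = a → n = 1 := fun n hnD hna => by
    refine Perm.eq_one_of_forall_smul (α := Ω) fun x => ?_
    by_cases hx : x = a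
    · rw [hx, hna]
    have e1 := Perm.card_mul_card_stabilizer (G := G) a
    have e2 := Perm.card_mul_card_stabilizer (G := D) a
    have e3 := Perm.card_orbit_mul_card_stabilizer (G := stabilizer G a) x
    rw [Nat.card_coe_set_eq, horb x hx, Perm.ncard_compl_singleton] at e3
    rw [← D.index_mul_card, h, ← e2, ← e3, mul_left_comm, ← mul_assoc, ← mul_assoc] at e1
    have e4 := Nat.eq_of_mul_eq_mul_left (Nat.mul_pos (by omega) (by omega)) e1
    let f : stabilizer (stabilizer G a) x → stabilizer D a := fun g => ⟨⟨g.1.1, by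
      by_contra h
      haveI := (Nat.card_eq_one_iff_unique.mp (h2 g h)).1
      exact hx (congrArg Subtype.val (Subsingleton.elim (⟨x, g.2⟩ : fixedBy Ω g.1.1) ⟨a, g.1.2⟩))⟩, g.1.2⟩
    have hf : Function.Bijective f := (Nat.bijective_iff_injective_and_card f).mpr
      ⟨fun g k e => Subtype.ext (Subtype.ext (congrArg (fun y => y.1.1) e)), e4⟩
    obtain ⟨g, hg⟩ := hf.2 ⟨⟨n, hnD⟩, hna⟩
    rw [← show g.1.1 = n from congrArg (fun y => y.1.1) hg]
    exact g.2
  have hc : Nat.card D = Nat.card Ω := by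
    rw [← Perm.card_mul_card_stabilizer (G := D) a, show stabilizer D a = ⊥ from
      eq_bot_iff.mpr fun n hn => Subtype.ext (hst n.1 n.2 hn), Subgroup.card_bot, mul_one]
  obtain ⟨p, hp, hpp⟩ := Perm.isPGroup_of_isConj D (D.one_lt_card_iff_ne_bot.mp (by omega))
    fun x hx y hy => Perm.isConj_of_regular_normal h2t D a hst hx hy
  haveI := Fact.mk hp
  have hpg : IsPGroup p D := fun n => ⟨1, Subtype.ext (by simpa using hpp n.1 n.2)⟩
  obtain ⟨k, hk⟩ := IsPGroup.iff_card.mp hpg
  rw [← hc, hk]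
  refine hp.isPrimePow.pow ?_
  rintro rfl
  rw [pow_zero] at hk
  omega

end Cfsg.Agent.S3548
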