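import Mathlib
import Cfsg.Statements.S3549
import Cfsg.Agent.Perm.Derang

set_option autoImplicit false
open Cfsg

namespace Cfsg.Agent.S3549

open MulAction
open scoped Pointwise

/-- Let G act faithfully, transitively but imprimitively on a finite set with n points, and let D be the subgroup generated by the derangements. Then the index of D in G is at most √n − 1. -/
theorem result {G Ω : Type*} [Group G] [Finite G] [MulAction G Ω] [FaithfulSMul G Ω] [Finite Ω]
    (htrans : MulAction.IsPretransitive G Ω) (himp : ¬ MulAction.IsPreprimitive G Ω) :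
    ((Subgroup.closure {g : G | ∀ ω : Ω, g • ω ≠ ω}).index : ℝ) ≤ Real.sqrt (Nat.card Ω) - 1 := by
  obtain ⟨h1, h2⟩ := Perm.derangement_closure (α := Ω) (Subgroup.closure {g : G | ∀ ω : Ω, g • ω ≠ ω})
    fun g hg => Subgroup.subset_closure hg
  generalize Subgroup.closure {g : G | ∀ ω : Ω, g • ω ≠ ω} = D at h1 h2 ⊢
  obtain ⟨B, hB, hBn, hBu⟩ : ∃ B : Set Ω, IsBlock G B ∧ B.Nontrivial ∧ B ≠ Set.univ := by
    by_contra hc
    push Not at hc
    refine himp ⟨fun {B} hB => ?_⟩
    by_cases h : B.Nontrivial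
    · exact Or.inr (hc B hB h)
    · exact Or.inl (Set.not_nontrivial_iff.mp h)
  obtain ⟨a, ha⟩ := hBn.nonempty
  have d1 : D.index ∣ Nat.card Ω - 1 := Perm.ncard_compl_singleton a ▸
    Perm.dvd_ncard_of_forall_orbit (stabilizer G a) {a}ᶜ (Set.toFinite _)
      (fun g hg x hx h => hx (MulAction.injective g (h.trans (Eq.symm hg))))
      fun x hx => Perm.index_dvd_ncard_orbit D h1 h2 hx
  have d2 : D.index ∣ B.ncard - 1 := Set.ncard_diff_singleton_of_mem ha ▸
    Perm.dvd_ncard_of_forall_orbit (stabilizer G a) (B \ {a}) (Set.toFinite _)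
      (fun g hg x hx => ⟨by
        rw [← hB.smul_eq_of_mem ha (g := g) (by rwa [hg])]
        exact Set.smul_mem_smul_set hx.1, fun h => hx.2 (MulAction.injective g (h.trans (Eq.symm hg)))⟩)
      fun x hx => Perm.index_dvd_ncard_orbit D h1 h2 hx.2
  obtain ⟨m, hm⟩ := hB.ncard_dvd_card ⟨a, ha⟩
  have hb : 1 < B.ncard := (Set.one_lt_ncard_iff_nontrivial).mpr hBn
  have hm1 : 1 < m := by
    have : B.ncard < Nat.card Ω := Set.ncard_lt_card hBu
    by_contra h
    rcases (show m = 0 ∨ m = 1 by omega) with rfl | rfl <;> omega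
  obtain ⟨b, hb'⟩ : ∃ b, B.ncard = b + 1 := ⟨B.ncard - 1, by omega⟩
  obtain ⟨m, rfl⟩ : ∃ k, m = k + 1 := ⟨m - 1, by omega⟩
  rw [hb'] at hm d2 hb
  rw [hm, show (b + 1) * (m + 1) - 1 = b * (m + 1) + m by rw [add_mul, one_mul]; omega] at d1
  simp only [Nat.add_sub_cancel] at d2
  have d3 : D.index ∣ m := (Nat.dvd_add_right (d2.mul_right _)).mp d1
  have l1 := Nat.le_of_dvd (by omega) d2
  have l2 := Nat.le_of_dvd (by omega) d3
  rw [le_sub_iff_add_le]
  apply Real.le_sqrt_of_sq_le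
  rw [hm]
  exact_mod_cast (by nlinarith : (D.index + 1) ^ 2 ≤ (b + 1) * (m + 1))

end Cfsg.Agent.S3549
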