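import Mathlib
import Cfsg.Statements.S3554
import Cfsg.Agent.Perm.Prim

set_option autoImplicit false
open Cfsg

namespace Cfsg.Agent.S3554

open MulAction

/-- Let G act faithfully and transitively on a finite set and suppose G has a non-trivial cyclic normal subgroup. Then some element of G of prime order fixes no point. -/
theorem result {G Ω : Type*} [Group G] [Finite G] [MulAction G Ω] [FaithfulSMul G Ω] [Finite Ω]
    (htrans : MulAction.IsPretransitive G Ω) (C : Subgroup G) (hC : C.Normal) (hC1 : C ≠ ⊥) (hcyc : IsCyclic ↥C) :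
    ∃ g : G, (orderOf g).Prime ∧ ∀ ω : Ω, g • ω ≠ ω := by
  obtain ⟨p, hp, hd⟩ := Nat.exists_prime_and_dvd (C.one_lt_card_iff_ne_bot.mpr hC1).ne'
  haveI := Fact.mk hp
  obtain ⟨x, hx⟩ := exists_prime_orderOf_dvd_card' p hd
  refine ⟨x, by rw [Subgroup.orderOf_coe, hx]; exact hp, fun ω h => ?_⟩
  have hx1 : x ≠ 1 := by
    rintro rfl
    rw [orderOf_one] at hx
    exact hp.one_lt.ne hx
  apply hx1
  refine Subtype.ext (Perm.eq_one_of_forall_smul (α := Ω) fun y => ?_)
  obtain ⟨g, rfl⟩ := exists_smul_eq G ω y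
  obtain ⟨k, hk⟩ := (MulAut.conjNormal g⁻¹ : MulAut C).toMonoidHom.map_cyclic
  have hk := (hk x).symm
  have h2 : (x : G) ^ k ∈ stabilizer G ω := Subgroup.zpow_mem _ h k
  have e : (x : G) ^ k = g⁻¹ * x * g := by simpa using congrArg Subtype.val hk
  exact Perm.mem_stabilizer_smul_iff.mpr (e ▸ h2)

end Cfsg.Agent.S3554
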