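import Mathlib
import Cfsg.Statements.S3555
import Cfsg.Agent.Perm.Derang

set_option autoImplicit false
open Cfsg

namespace Cfsg.Agent.S3555

open MulAction

theorem sum_sq_le {G Ω : Type*} [Group G] [Fintype G] [MulAction G Ω] [Finite Ω] :
    ∑ g : G, Nat.card (fixedBy Ω (g ^ 2)) ≤ ∑ g : G, Nat.card (fixedBy Ω g) * Nat.card (fixedBy Ω g) := by
  classical
  haveI := Fintype.ofFinite Ω
  simp only [← Perm.card_fixedBy_prod]
  rw [Perm.sum_card_fixedBy_eq_sum_stabilizer]
  have := Finset.sum_card_bipartiteAbove_eq_sum_card_bipartiteBelow (s := (Finset.univ : Finset G))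
    (t := (Finset.univ : Finset (Ω × Ω))) (fun g x => g • x.1 = x.2 ∧ g • x.2 = x.1)
  refine le_of_eq_of_le (Finset.sum_congr rfl fun g _ => ?_) (this.le.trans (Finset.sum_le_sum fun x _ => ?_))
  · rw [Finset.bipartiteAbove, ← Fintype.card_subtype, ← Nat.card_eq_fintype_card]
    exact Nat.card_congr ⟨fun a => ⟨(a.1, g • a.1), rfl, by rw [← mul_smul, ← pow_two]; exact a.2⟩,
      fun x => ⟨x.1.1, by rw [mem_fixedBy, pow_two, mul_smul, x.2.1, x.2.2]⟩, fun _ => rfl,
      fun x => Subtype.ext (Prod.ext rfl x.2.1)⟩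
  · rw [Finset.bipartiteBelow, ← Fintype.card_subtype, ← Nat.card_eq_fintype_card]
    rcases isEmpty_or_nonempty {g : G // g • x.1 = x.2 ∧ g • x.2 = x.1} with h | ⟨⟨u⟩⟩
    · simp
    · refine Nat.card_le_card_of_injective (fun g => ⟨u.1⁻¹ * g.1, Prod.ext ?_ ?_⟩) ?_
      · change (u.1⁻¹ * g.1) • x.1 = x.1
        rw [mul_smul, g.2.1, inv_smul_eq_iff, u.2.1]
      · change (u.1⁻¹ * g.1) • x.2 = x.2
        rw [mul_smul, g.2.2, inv_smul_eq_iff, u.2.2]
      · intro g k e
        exact Subtype.ext (mul_left_cancel (congrArg Subtype.val e))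

/-- Let G act faithfully and transitively on a finite set and suppose every element of G fixing no point is an involution. Then either G is an elementary abelian 2-group, or G is a Frobenius group whose Frobenius kernel is an elementary abelian 2-group: G has a Frobenius complement H, and the elements lying in no conjugate of H, together with the identity, pairwise commute and square to the identity. -/
theorem result {G Ω : Type*} [Group G] [Finite G] [MulAction G Ω] [FaithfulSMul G Ω] [Finite Ω]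
    (htrans : MulAction.IsPretransitive G Ω) (hinv : ∀ g : G, (∀ ω : Ω, g • ω ≠ ω) → orderOf g = 2) :
    (IsMulCommutative G ∧ ∀ g : G, g ^ 2 = 1) ∨
    (∃ H : Subgroup G, Cfsg.IsFrobeniusComplement H ∧
      (∀ x ∈ Cfsg.frobeniusKernel H, x ^ 2 = 1) ∧
      ∀ x ∈ Cfsg.frobeniusKernel H, ∀ y ∈ Cfsg.frobeniusKernel H, x * y = y * x) := by
  classical
  haveI := Fintype.ofFinite G
  have hcomm : ∀ N : Subgroup G, (∀ g ∈ N, g ^ 2 = 1) → ∀ x ∈ N, ∀ y ∈ N, x * y = y * x :=
    fun N h x hx y hy => congrArg Subtype.val ((Perm.mul_comm_of_sq h).is_comm.comm ⟨x, hx⟩ ⟨y, hy⟩)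
  by_cases hreg : ∀ g : G, g ≠ 1 → ∀ a : Ω, g • a ≠ a
  · have : ∀ g : G, g ^ 2 = 1 := fun g => by
      by_cases hg : g = 1
      · simp [hg]
      · rw [← hinv g (hreg g hg), pow_orderOf_eq_one]
    exact Or.inl ⟨⟨⟨fun x y => hcomm ⊤ (fun g _ => this g) x trivial y trivial⟩⟩, this⟩
  right
  push Not at hreg
  obtain ⟨g0, hg0, a, ha⟩ := hreg
  haveI : Nonempty Ω := ⟨a⟩
  haveI := Fintype.ofFinite Ω
  set n := Nat.card Ω with hn
  set f : G → ℕ := fun g => Nat.card (fixedBy Ω g) with hf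
  have h1 : ∑ g, f g = Nat.card G := Perm.sum_card_fixedBy_of_transitive
  have hfn : ∀ g, f g ≤ n := fun g => Set.ncard_le_card _
  have h2 : ∑ g, f (g ^ 2) ≤ ∑ g, f g * f g := sum_sq_le
  let t : G → ℤ := fun g => (f (g ^ 2) : ℤ) + n * f g - f g * f g - n
  have ht : ∀ g, ((f g : ℤ) - 1) * (n - f g) + (if f g = 0 then (n : ℤ) else 0) ≤ t g := fun g => by
    simp only [t]
    split_ifs with h
    · have : g ^ 2 = 1 := by
        rw [← hinv g ((Perm.card_fixedBy_eq_zero_iff g).mp h), pow_orderOf_eq_one]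
      rw [this, show f 1 = n from (Perm.card_fixedBy_eq_card_iff _).mpr rfl, h]
      simp
    · have : f g ≤ f (g ^ 2) := Set.ncard_le_ncard (s := fixedBy Ω g) (t := fixedBy Ω (g ^ 2))
        fun x hx => by rw [mem_fixedBy, pow_two, mul_smul, hx, hx]
      have : (f g : ℤ) ≤ f (g ^ 2) := by exact_mod_cast this
      linarith
  have ht0 : ∀ g, 0 ≤ ((f g : ℤ) - 1) * (n - f g) + (if f g = 0 then (n : ℤ) else 0) := fun g => by
    split_ifs with h
    · simp [h]
    · have h3 : (1 : ℤ) ≤ f g := by exact_mod_cast Nat.pos_of_ne_zero h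
      have h4 : (f g : ℤ) ≤ n := by exact_mod_cast hfn g
      simpa using mul_nonneg (sub_nonneg.mpr h3) (sub_nonneg.mpr h4)
  have hs : ∑ g, t g ≤ 0 := by
    simp only [t, Finset.sum_sub_distrib, Finset.sum_add_distrib, ← Finset.mul_sum]
    have h1' : ∑ g, (f g : ℤ) = Fintype.card G := by rw [← Nat.card_eq_fintype_card]; exact_mod_cast h1
    have h2' : ∑ g, (f (g ^ 2) : ℤ) ≤ ∑ g, (f g : ℤ) * f g := by exact_mod_cast h2
    rw [h1']
    simp only [Finset.sum_const, Finset.card_univ, nsmul_eq_mul]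
    linarith
  have hz := (Finset.sum_eq_zero_iff_of_nonneg fun g _ => ht0 g).mp
    (le_antisymm ((Finset.sum_le_sum fun g _ => ht g).trans hs) (Finset.sum_nonneg fun g _ => ht0 g))
  have hfix : ∀ g : G, g ≠ 1 → ∀ x y : Ω, g • x = x → g • y = y → x = y := fun g hg x y hx hy => by
    have h3 := hz g (Finset.mem_univ _)
    rw [if_neg (fun h => (Perm.card_fixedBy_eq_zero_iff g).mp h x hx), add_zero, mul_eq_zero] at h3
    rcases h3 with h3 | h3
    · haveI := (Nat.card_eq_one_iff_unique.mp (show f g = 1 by omega)).1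
      exact congrArg Subtype.val (Subsingleton.elim (⟨x, hx⟩ : fixedBy Ω g) ⟨y, hy⟩)
    · exact absurd ((Perm.card_fixedBy_eq_card_iff (α := Ω) g).mp (show f g = n by omega)) hg
  have hΩ : 1 < Fintype.card Ω := by
    rw [Fintype.one_lt_card_iff_nontrivial]
    by_contra h
    rw [not_nontrivial_iff_subsingleton] at h
    exact hg0 (Perm.eq_one_of_forall_smul (α := Ω) fun _ => Subsingleton.elim _ _)
  obtain ⟨e1, e2⟩ := S4252.result hΩ (fun a b => exists_smul_eq G a b) ⟨g0, hg0, a, ha⟩ hfix a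
  obtain ⟨K, hK, -, -⟩ := S0035.result _ e1
  have hsq : ∀ x ∈ Cfsg.frobeniusKernel (stabilizer G a), x ^ 2 = 1 := by
    rw [e2]
    rintro x (rfl | hx)
    · simp
    · rw [← hinv x hx, pow_orderOf_eq_one]
  refine ⟨_, e1, hsq, ?_⟩
  rw [← hK] at hsq ⊢
  exact hcomm K hsq

end Cfsg.Agent.S3555
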