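import Mathlib
import Cfsg.Statements.S3556
import Cfsg.Agent.Perm.Comp

set_option autoImplicit false
open Cfsg

namespace Cfsg.Agent.S3556


/-- Let G act faithfully and primitively on a finite set with at least two points, and suppose that for some fixed prime p every element of G fixing no point has order a power of p. Then G is of affine type (it has a regular normal subgroup that is an elementary abelian r-group for some prime r) or almost simple (it has a non-abelian simple normal subgroup with trivial centralizer). -/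
theorem result {G Ω : Type*} [Group G] [Finite G] [MulAction G Ω] [FaithfulSMul G Ω] [Finite Ω]
    (hprim : MulAction.IsPreprimitive G Ω) (hΩ : 2 ≤ Nat.card Ω) (p : ℕ) (hp : p.Prime)
    (hder : ∀ g : G, (∀ ω : Ω, g • ω ≠ ω) → ∃ k : ℕ, orderOf g = p ^ k) :
    (∃ (N : Subgroup G) (r : ℕ), r.Prime ∧ N.Normal ∧ Cfsg.IsElementaryAbelian r N ∧
      MulAction.IsPretransitive N Ω ∧ ∀ a : Ω, MulAction.stabilizer N a = ⊥) ∨
    (∃ T : Subgroup G, T.Normal ∧ IsSimpleGroup ↥T ∧ ¬ IsMulCommutative ↥T ∧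
      Subgroup.centralizer (T : Set G) = ⊥) := by
  have : Nontrivial Ω := Finite.one_lt_card_iff_nontrivial.1 hΩ
  by_cases h : fittingSubgroup G = ⊥
  swap
  · obtain ⟨N, r, h1, h2, -, h3⟩ := Perm.exists_affine (Ω := Ω) h
    exact Or.inl ⟨N, r, h1, h2, h3⟩
  have : Nontrivial G := by
    obtain ⟨a, b, hab⟩ := exists_pair_ne Ω
    obtain ⟨g, rfl⟩ := MulAction.exists_smul_eq G a b
    exact ⟨g, 1, fun h => hab (by rw [h, one_smul])⟩
  refine Or.inr ((Perm.almost_simple_or h).resolve_right fun ⟨⟨T, hT⟩, h1⟩ => ?_)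
  have key : ∀ q : ℕ, q.Prime → q ≠ p → ∀ k, ¬ q ∣ p ^ k := fun q hq h2 k h3 =>
    h2 ((Nat.prime_dvd_prime_iff_eq hq hp).1 (hq.dvd_of_dvd_pow h3))
  rcases Perm.comp_semireg_or (Ω := Ω) h hT with h2 | ⟨t, ht, h2⟩
  · obtain ⟨q, hq, h3, s, hs, rfl⟩ := Perm.exists_prime_ne hT p hp
    obtain ⟨k, hk⟩ := hder s fun b hb => hq.ne_one (orderOf_eq_one_iff.2 (h2 s hs b hb))
    exact key _ hq h3 k hk.dvd
  · obtain ⟨T', hT', h3⟩ := h1 T hT
    obtain ⟨q, hq, h4, s, hs, rfl⟩ := Perm.exists_prime_ne hT' p hp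
    have h5 : ∀ u ∈ T, Commute u s := fun u hu => Perm.comp_commute hT hT' h3.symm hu hs
    obtain ⟨k, hk⟩ := hder _ (h2 s (Comp2.component_le_layer hT' hs) h5)
    have h6 := pow_orderOf_eq_one (t * s)
    rw [hk, (h5 t ht).mul_pow, mul_eq_one_iff_inv_eq] at h6
    have h7 : s ^ p ^ k ∈ T' ⊓ Subgroup.centralizer (T' : Set G) := ⟨pow_mem hs _, fun u hu =>
      (Perm.comp_commute hT' hT h3 hu (h6 ▸ inv_mem (pow_mem ht _))).eq⟩
    exact key _ hq h4 k (orderOf_dvd_of_pow_eq_one (Subgroup.mem_bot.1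
      (h ▸ Comp2.component_inf_centralizer_le_fitting hT' h7)))

end Cfsg.Agent.S3556
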