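import Mathlib
import Cfsg.Statements.S3557
import Cfsg.Agent.LocalEven.SylowIn

set_option autoImplicit false
open Cfsg

namespace Cfsg.Agent.S3557


/-- Let G act faithfully and transitively on a finite set with 2p² points, p a prime, and suppose G is 2-closed: every permutation of the set which, on each ordered pair of points, agrees with some element of G, is itself induced by an element of G. Then some element of G of prime order fixes no point. -/
theorem result {G Ω : Type*} [Group G] [Finite G] [MulAction G Ω] [FaithfulSMul G Ω] [Finite Ω]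
    (htrans : MulAction.IsPretransitive G Ω) (p : ℕ) (hp : p.Prime) (hcard : Nat.card Ω = 2 * p ^ 2)
    (hcl : ∀ σ : Equiv.Perm Ω, (∀ a b : Ω, ∃ g : G, σ a = g • a ∧ σ b = g • b) → ∃ g : G, ∀ a : Ω, σ a = g • a) :
    ∃ g : G, (orderOf g).Prime ∧ ∀ ω : Ω, g • ω ≠ ω := by
  classical
  haveI := Fact.mk hp
  obtain ⟨P⟩ : Nonempty (Sylow p G) := inferInstance
  have hP := P.isPGroup'
  have h1 : ∀ a : Ω, p ^ 2 ∣ (MulAction.stabilizer (P : Subgroup G) a).index := fun a => by
    have h2 : (MulAction.stabilizer G a).index = 2 * p ^ 2 := by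
      rw [MulAction.index_stabilizer_of_transitive, hcard]
    have h3 := Subgroup.relIndex_mul_index (inf_le_right : MulAction.stabilizer G a ⊓ P ≤ P)
    rw [Subgroup.inf_relIndex_right] at h3
    have h4 : p ^ 2 ∣ (MulAction.stabilizer G a).relIndex P * (P : Subgroup G).index := by
      rw [h3]
      exact (Dvd.intro_left 2 h2.symm).trans (Subgroup.index_dvd_of_le inf_le_left)
    exact (((Nat.Prime.coprime_iff_not_dvd hp).2 P.not_dvd_index).pow_left 2).dvd_of_dvd_mul_right h4
  have hpp : 1 < p ^ 2 := Nat.one_lt_pow two_ne_zero hp.one_lt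
  have : Nonempty Ω := (Nat.card_pos_iff.1 (by omega)).1
  obtain ⟨a0⟩ := this
  have hc : ∀ {Q : Type _} [Group Q] [Finite Q] (_ : IsPGroup p Q) (N : Subgroup Q) [N.Normal],
      N ≠ ⊥ → ∃ z ∈ N, (∀ y, y * z = z * y) ∧ orderOf z = p := fun hQ N hN h => by
    obtain ⟨z, h2, h3, h4⟩ := LocalEven.exists_mem_inf_centralizer (P := ⊤) (hQ.to_subgroup ⊤)
      (hQ.to_subgroup N) (by rw [Subgroup.normalizer_eq_top]) h
    exact ⟨z, h2, fun y => h3 y trivial, h4⟩
  obtain ⟨z, -, hz, hzo⟩ := hc hP ⊤ (fun h => by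
    have h2 := h1 a0
    rw [eq_top_iff.2 (h.le.trans bot_le : ⊤ ≤ MulAction.stabilizer (P : Subgroup G) a0),
      Subgroup.index_top] at h2
    exact absurd (Nat.le_of_dvd one_pos h2) (by omega))
  have hzp : z ^ p = 1 := by rw [← pow_orderOf_eq_one z, hzo]
  by_cases h2 : ∀ ω : Ω, z • ω ≠ ω
  · exact ⟨z, by rwa [Subgroup.orderOf_coe, hzo], h2⟩
  push Not at h2
  obtain ⟨b, hb⟩ := h2
  obtain ⟨a, ha⟩ : ∃ a : Ω, z • a ≠ a := by
    by_contra! h
    exact LocalEven.ne_one_of_orderOf_eq hzo (Subtype.ext (eq_of_smul_eq_smul (α := Ω) fun a =>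
      (h a).trans (one_smul _ a).symm))
  have h3 : ∀ x ∈ MulAction.orbit (P : Subgroup G) a, z • x ≠ x := by
    rintro _ ⟨y, rfl⟩ h
    simp only at h
    rw [← mul_smul, ← hz, mul_smul, smul_left_cancel_iff] at h
    exact ha h
  have h4 : ∀ x ∈ MulAction.orbit (P : Subgroup G) b, z • x = x := by
    rintro _ ⟨y, rfl⟩
    simp only
    rw [← mul_smul, ← hz, mul_smul, hb]
  have h5 : Disjoint (MulAction.orbit (P : Subgroup G) a) (MulAction.orbit (P : Subgroup G) b) :=
    Set.disjoint_left.2 fun x hx hx' => h3 x hx (h4 x hx')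
  have h6 := Set.ncard_union_eq h5
  have h7 := Set.ncard_le_card (MulAction.orbit (P : Subgroup G) a ∪ MulAction.orbit (P : Subgroup G) b)
  have h8 := Nat.le_of_dvd (Nat.pos_of_ne_zero Subgroup.index_ne_zero_of_finite) (h1 a)
  have h9 := Nat.le_of_dvd (Nat.pos_of_ne_zero Subgroup.index_ne_zero_of_finite) (h1 b)
  rw [MulAction.index_stabilizer] at h8 h9
  have h10 : ∀ x, x ∉ MulAction.orbit (P : Subgroup G) a → x ∈ MulAction.orbit (P : Subgroup G) b :=
    fun x hx => Or.resolve_left (((Set.eq_univ_iff_ncard (MulAction.orbit (P : Subgroup G) a ∪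
      MulAction.orbit (P : Subgroup G) b)).2 (by omega)).ge (Set.mem_univ x)) hx
  have h11 : (MulAction.stabilizer (P : Subgroup G) a).index = p ^ 2 := by
    rw [MulAction.index_stabilizer]; omega
  set H := MulAction.stabilizer (P : Subgroup G) a ⊔ Subgroup.zpowers z with hH
  have h12 : H.index ∣ p := by
    have h12 := Subgroup.index_dvd_of_le (le_sup_left : _ ≤ H)
    rw [h11] at h12
    obtain ⟨k, hk, h13⟩ := (Nat.dvd_prime_pow hp).1 h12
    have : k ≠ 2 := by
      rintro rfl
      have h14 := Subgroup.relIndex_mul_index (le_sup_left : _ ≤ H)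
      rw [h11, h13, mul_eq_right₀ (by omega), Subgroup.relIndex_eq_one] at h14
      exact ha (h14 (Subgroup.mem_sup_right (Subgroup.mem_zpowers z)))
    rw [h13]
    exact (pow_dvd_pow p (by omega)).trans (pow_one p).dvd
  have h13 : H.Normal := by
    rcases (Nat.dvd_prime hp).1 h12 with h | h
    · rw [Subgroup.index_eq_one.1 h]; infer_instance
    · obtain ⟨n, hn⟩ := IsPGroup.iff_card.1 hP
      refine Subgroup.normal_of_index_eq_minFac_card ?_
      rw [h, hn, hp.pow_minFac]
      rintro rfl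
      have := H.index_dvd_card
      rw [h, hn, pow_zero] at this
      exact hp.one_lt.ne' (Nat.dvd_one.1 this)
  let K := (MulAction.stabilizer (P : Subgroup G) b).normalCore
  have h14 : ∀ k, k ∈ K ↔ ∀ x ∈ MulAction.orbit (P : Subgroup G) b, k • x = x := fun k =>
    ⟨by
      rintro hk _ ⟨y, rfl⟩
      have := hk y⁻¹
      rw [MulAction.mem_stabilizer_iff, mul_smul, mul_smul, inv_inv, inv_smul_eq_iff] at this
      exact this,
    fun h y => by
      rw [MulAction.mem_stabilizer_iff, mul_smul, mul_smul, h _ ⟨y⁻¹, rfl⟩, smul_inv_smul]⟩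
  haveI := h13.map _ (QuotientGroup.mk'_surjective K)
  obtain ⟨_, ⟨u, hu, rfl⟩, h15, h16⟩ := hc (hP.to_quotient K) (H.map (QuotientGroup.mk' K))
    (fun h => by
      rw [Subgroup.map_eq_bot_iff, QuotientGroup.ker_mk'] at h
      have := Nat.le_of_dvd hp.pos ((h1 b).trans ((Subgroup.index_dvd_of_le
        (h.trans (Subgroup.normalCore_le _))).trans h12))
      nlinarith [hp.two_le])
  have h17 : ∀ x ∈ MulAction.orbit (P : Subgroup G) b, u • x ≠ x := fun x hx h => by
    refine LocalEven.ne_one_of_orderOf_eq h16 ((QuotientGroup.eq_one_iff u).2 ((h14 u).2 ?_))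
    rw [← MulAction.orbit_eq_iff.2 hx]
    rintro _ ⟨y, rfl⟩
    have h18 := (h14 _).1 (QuotientGroup.eq.1 (h15 (y : _ ⧸ K))) x hx
    simp only
    rwa [mul_smul, inv_smul_eq_iff, mul_smul, mul_smul, h] at h18
  have h18 : ∀ x ∈ MulAction.orbit (P : Subgroup G) a, ∃ w ∈ Subgroup.zpowers z, u • x = w • x := by
    rintro _ ⟨y, rfl⟩
    have : (Subgroup.zpowers z).Normal := ⟨by
      rintro _ ⟨n, rfl⟩ g
      exact ⟨n, by simp [((show Commute g z from hz g).zpow_right n).eq]⟩⟩
    have h19 : y⁻¹ * u * y ∈ (H : Set P) := h13.conj_mem' u hu y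
    rw [hH, sup_comm, Subgroup.normal_mul] at h19
    obtain ⟨w, hw, s, hs, h19⟩ := h19
    refine ⟨y * w * y⁻¹, this.conj_mem w hw y, ?_⟩
    simp only at h19 ⊢
    calc _ = y • (w * s) • a := by rw [h19]; simp [mul_smul]
      _ = _ := by simp [mul_smul, show s • a = a from hs]
  have h19 : ∀ (y : P) (c x : Ω), y • x ∈ MulAction.orbit (P : Subgroup G) c ↔
      x ∈ MulAction.orbit (P : Subgroup G) c := fun y c x =>
    ⟨fun h => inv_smul_smul y x ▸ MulAction.mem_orbit_of_mem_orbit y⁻¹ h,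
      MulAction.mem_orbit_of_mem_orbit y⟩
  let f : Ω → Ω := fun x => if x ∈ MulAction.orbit (P : Subgroup G) a then z • x else u • x
  have h20 : Function.Injective f := fun x y h => by
    simp only [f] at h
    split_ifs at h with hx hy hy
    · exact smul_left_cancel _ h
    · exact absurd ((h19 u a y).1 (h ▸ (h19 z a x).2 hx)) hy
    · exact absurd ((h19 u a x).1 (h ▸ (h19 z a y).2 hy)) hx
    · exact smul_left_cancel _ h
  have h21 : ∀ x ∈ MulAction.orbit (P : Subgroup G) a, ∀ y ∉ MulAction.orbit (P : Subgroup G) a,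
      ∃ g : G, f x = g • x ∧ f y = g • y := fun x hx y hy => by
    obtain ⟨w, hw, h⟩ := h18 x hx
    refine ⟨(z * w⁻¹ * u : P), ?_, ?_⟩
    · change _ = (z * w⁻¹ * u) • x
      simp only [f, if_pos hx]
      rw [mul_smul, h, mul_smul, inv_smul_smul]
    · change _ = (z * w⁻¹ * u) • y
      simp only [f, if_neg hy]
      rw [mul_smul]
      exact ((show Subgroup.zpowers z ≤ MulAction.stabilizer _ (u • y) from Subgroup.zpowers_le.2
        (h4 _ ((h19 u b y).2 (h10 y hy)))) (mul_mem (Subgroup.mem_zpowers z) (inv_mem hw))).symm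
  obtain ⟨g, hg⟩ := hcl (Equiv.ofBijective f (Finite.injective_iff_bijective.1 h20)) fun x y => by
    by_cases hx : x ∈ MulAction.orbit (P : Subgroup G) a <;>
      by_cases hy : y ∈ MulAction.orbit (P : Subgroup G) a
    · exact ⟨z, if_pos hx, if_pos hy⟩
    · exact h21 x hx y hy
    · exact (h21 y hy x hx).imp fun _ h => h.symm
    · exact ⟨u, if_neg hx, if_neg hy⟩
  have h22 : ∀ x, g • x ≠ x := fun x => by
    rw [← hg]
    by_cases hx : x ∈ MulAction.orbit (P : Subgroup G) a
    · exact (if_pos hx).trans_ne (h3 x hx)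
    · exact (if_neg hx).trans_ne (h17 x (h10 x hx))
  refine ⟨g, ?_, h22⟩
  have h23 : ∀ (c : Ω) (w : P), (∀ x ∈ MulAction.orbit (P : Subgroup G) c, g • x = w • x) →
      ∀ n : ℕ, ∀ x ∈ MulAction.orbit (P : Subgroup G) c, g ^ n • x = w ^ n • x := fun c w h n => by
    induction n with
    | zero => simp
    | succ n ih => intro x hx; rw [pow_succ, pow_succ, mul_smul, mul_smul, h x hx, ih _ ((h19 w c x).2 hx)]
  rw [orderOf_eq_prime (p := p) (eq_of_smul_eq_smul (α := Ω) fun x => ?_)
    fun h => h22 a (by rw [h, one_smul])]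
  · exact hp
  rw [one_smul]
  by_cases hx : x ∈ MulAction.orbit (P : Subgroup G) a
  · rw [h23 a z (fun y hy => (hg y).symm.trans (if_pos hy)) p x hx, hzp, one_smul]
  · rw [h23 b u (fun y hy => (hg y).symm.trans (if_neg (Set.disjoint_right.1 h5 hy))) p x (h10 x hx)]
    refine (h14 _).1 ((QuotientGroup.eq_one_iff _).1 ?_) x (h10 x hx)
    have h24 := pow_orderOf_eq_one (QuotientGroup.mk' K u)
    rw [h16] at h24
    exact h24

end Cfsg.Agent.S3557
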