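import Mathlib
import Cfsg.Statements.S3559
import Cfsg.Agent.Fil.C
import Cfsg.Agent.Perm.NormalSub

set_option autoImplicit false
open Cfsg

namespace Cfsg.Agent.S3559


/-- Let G act faithfully and transitively on a finite set whose number of points n ≥ 2 is not a prime power, and suppose G has a cyclic subgroup acting regularly (transitively with trivial point stabilizers). Then G is imprimitive or doubly transitive. -/
theorem result {G Ω : Type*} [Group G] [Finite G] [MulAction G Ω] [FaithfulSMul G Ω] [Finite Ω]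
    (htrans : MulAction.IsPretransitive G Ω) (hn : 2 ≤ Nat.card Ω) (hnp : ¬ IsPrimePow (Nat.card Ω))
    (C : Subgroup G) (hcyc : IsCyclic ↥C) (hC : MulAction.IsPretransitive ↥C Ω ∧ ∀ a : Ω, MulAction.stabilizer ↥C a = ⊥) :
    ¬ MulAction.IsPreprimitive G Ω ∨ MulAction.IsMultiplyPretransitive G Ω 2 := by
  by_contra hcon
  push Not at hcon
  haveI := hcon.1
  obtain ⟨a⟩ : Nonempty Ω := (Nat.card_pos_iff.1 (by omega)).1
  have hc := Perm.card_eq_of_regular C hC.1 hC.2 a
  obtain ⟨p, hp, hd⟩ := Nat.exists_prime_and_dvd (show Nat.card Ω ≠ 1 by omega)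
  exact hcon.2 (Fil.cyclic_B C hcyc hC.1 hC.2 a hp (hc ▸ hd) (by
    rw [hc]; intro e; exact hnp (e ▸ hp.isPrimePow)))

end Cfsg.Agent.S3559
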