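import Mathlib
import Cfsg.Statements.S3560
import Cfsg.Agent.Perm.Prim
import Cfsg.Agent.Perm.Multi
import Cfsg.Agent.Perm.Homog

set_option autoImplicit false
open Cfsg

namespace Cfsg.Agent.S3560

open MulAction Cfsg.Agent.Perm Equiv

section
variable {ι M : Type*}

def adj (x y : ι → M) : Prop := ∃ i, ∀ j, j ≠ i → x j = y j

theorem adj_pi (s : ι → Perm M) (x y : ι → M) :
    adj (Equiv.piCongrRight s x) (Equiv.piCongrRight s y) ↔ adj x y := by
  simp [adj]

theorem adj_sw (σ : Perm ι) (x y : ι → M) :
    adj (Equiv.arrowCongr σ (Equiv.refl M) x) (Equiv.arrowCongr σ (Equiv.refl M) y) ↔ adj x y := by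
  constructor
  · rintro ⟨i, h⟩
    exact ⟨σ.symm i, fun j hj => by simpa using h (σ j) (fun e => hj (by rw [← e]; simp))⟩
  · rintro ⟨i, h⟩
    exact ⟨σ i, fun j hj => by simpa using h (σ.symm j) (fun e => hj (by rw [← e]; simp))⟩

theorem all_rel [Finite ι] [Finite M] (hM : 3 ≤ Nat.card M) (r : (ι → M) → (ι → M) → Prop) (hr : Equivalence r)
    (h1 : ∀ (s : ι → Perm M) x y, r x y → r (Equiv.piCongrRight s x) (Equiv.piCongrRight s y))
    (h2 : ∀ (σ : Perm ι) x y, r x y → r (Equiv.arrowCongr σ (Equiv.refl M) x) (Equiv.arrowCongr σ (Equiv.refl M) y))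
    {a b : ι → M} (hab : a ≠ b) (h : r a b) (x y : ι → M) : r x y := by
  classical
  obtain ⟨i, hi⟩ := Function.ne_iff.1 hab
  obtain ⟨c, hca, hcb⟩ := exists_ne_ne hM (a i) (b i)
  have e1 : r b (Function.update b i c) := by
    have := h1 (Function.update 1 i (swap (b i) c)) a b h
    have ea : Equiv.piCongrRight (Function.update (1 : ι → Perm M) i (swap (b i) c)) a = a := by
      funext j
      by_cases hj : j = i
      · subst hj; simp [swap_apply_of_ne_of_ne hi hca.symm]
      · simp [Function.update_of_ne hj]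
    have eb : Equiv.piCongrRight (Function.update (1 : ι → Perm M) i (swap (b i) c)) b = Function.update b i c := by
      funext j
      by_cases hj : j = i
      · subst hj; simp
      · simp [Function.update_of_ne hj]
    rw [ea, eb] at this
    exact hr.trans (hr.symm h) this
  have e2 : ∀ x y : ι → M, (∀ j, j ≠ i → x j = y j) → r x y := by
    intro x y hxy
    by_cases hv : x i = y i
    · have : x = y := funext fun j => if hj : j = i then hj ▸ hv else hxy j hj
      rw [this]; exact hr.refl y
    obtain ⟨τ, t1, t2⟩ := two_trans (G := Perm M) (Equiv.Perm.isMultiplyPretransitive M 2) hcb.symm hv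
    have := h1 (fun j => if j = i then τ else swap (b j) (x j)) _ _ e1
    convert this using 1
    · funext j
      by_cases hj : j = i
      · subst hj; simpa using t1.symm
      · simp [hj]
    · funext j
      by_cases hj : j = i
      · subst hj; simpa using t2.symm
      · simp [hj, hxy j hj]
  have e3 : ∀ j, ∀ x y : ι → M, (∀ k, k ≠ j → x k = y k) → r x y := by
    intro j x y hxy
    have := h2 (swap i j) _ _ (e2 (x ∘ swap i j) (y ∘ swap i j) fun k hk => hxy _ fun e => hk 
      ((swap i j).injective (e.trans (swap_apply_left i j).symm)))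
    convert this using 1 <;> funext k <;> simp
  have e4 : ∀ s : Finset ι, ∀ x y : ι → M, (∀ k, k ∉ s → x k = y k) → r x y := by
    intro s
    induction s using Finset.induction_on with
    | empty => intro x y hxy; rw [show x = y from funext fun k => hxy k (by simp)]; exact hr.refl y
    | insert j s hj ih =>
      intro x y hxy
      refine hr.trans (e3 j x (Function.update x j (y j)) fun k hk => by rw [Function.update_of_ne hk]) (ih _ _ ?_)
      intro k hk
      by_cases e : k = j
      · subst e; simp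
      · rw [Function.update_of_ne e]; exact hxy k (by simp [e, hk])
  haveI := Fintype.ofFinite ι
  exact e4 Finset.univ x y (by simp)

def autG {Y : Type*} (φ : Y ≃ (ι → M)) : Subgroup (Perm Y) where
  carrier := {σ | ∀ x y, adj (φ (σ x)) (φ (σ y)) ↔ adj (φ x) (φ y)}
  mul_mem' ha hb x y := (ha _ _).trans (hb x y)
  one_mem' _ _ := Iff.rfl
  inv_mem' {σ} h x y := by simpa using (h (σ⁻¹ x) (σ⁻¹ y)).symm

theorem mem_autG {Y : Type*} (φ : Y ≃ (ι → M)) (τ : Perm (ι → M)) (h : ∀ x y, adj (τ x) (τ y) ↔ adj x y) :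
    φ.symm.permCongr τ ∈ autG φ := fun x y => by simpa using h (φ x) (φ y)

end


/-- Let K be a finite group isomorphic to a direct product of r ≥ 2 groups all of the same order m ≥ 3. Then K is not a B-group: there is a primitive but not doubly transitive permutation group (on some finite set) containing a regular subgroup isomorphic to K. -/
theorem result {K : Type*} [Group K] [Finite K] {ι : Type*} [Fintype ι] (F : ι → Type*) [∀ i, Group (F i)]
    (hr : 2 ≤ Fintype.card ι) (m : ℕ) (hm : 3 ≤ m) (hcard : ∀ i, Nat.card (F i) = m) (e : K ≃* (∀ i, F i)) :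
    ∃ (n : ℕ) (G R : Subgroup (Equiv.Perm (Fin n))), R ≤ G ∧ Nonempty (↥R ≃* K) ∧
      MulAction.IsPretransitive ↥R (Fin n) ∧ (∀ a : Fin n, MulAction.stabilizer ↥R a = ⊥) ∧
      MulAction.IsPreprimitive ↥G (Fin n) ∧ ¬ MulAction.IsMultiplyPretransitive ↥G (Fin n) 2 := by
  classical
  haveI : ∀ i, Finite (F i) := fun i => Nat.finite_of_card_ne_zero (by rw [hcard]; omega)
  let u : ∀ i, F i ≃ Fin m := fun i => Finite.equivFinOfCardEq (hcard i)
  let φ : Fin (Nat.card (ι → Fin m)) ≃ (ι → Fin m) := (Finite.equivFin _).symm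
  let ψ : Fin (Nat.card (ι → Fin m)) ≃ K := φ.trans ((Equiv.piCongrRight u).symm.trans e.toEquiv.symm)
  let ρ : K →* Perm (Fin (Nat.card (ι → Fin m))) := ψ.symm.permCongrHom.toMonoidHom.comp (MulAction.toPermHom K K)
  have hρ : ∀ k y, ψ (ρ k y) = k * ψ y := fun k y => by simp [ρ]
  have hinj : Function.Injective ρ := fun a b h => by
    have := hρ a (ψ.symm 1)
    rw [h, hρ] at this
    simpa using this.symm
  have hle : ρ.range ≤ autG φ := by
    rintro _ ⟨k, rfl⟩
    have : ρ k = φ.symm.permCongr (Equiv.piCongrRight fun i => (u i).permCongr (Equiv.mulLeft (e k i))) := by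
      ext1 y
      apply ψ.injective
      rw [hρ]
      apply e.injective
      funext i
      simp [ψ]
    rw [this]
    exact mem_autG φ _ (adj_pi _)
  have htr : IsPretransitive ρ.range (Fin (Nat.card (ι → Fin m))) := ⟨fun x y =>
    ⟨⟨ρ (ψ y * (ψ x)⁻¹), _, rfl⟩, ψ.injective ((hρ _ _).trans (by simp))⟩⟩
  haveI : IsPretransitive (autG φ) (Fin (Nat.card (ι → Fin m))) := ⟨fun x y => by
    obtain ⟨g, hg⟩ := htr.exists_smul_eq x y
    exact ⟨⟨g.1, hle g.2⟩, hg⟩⟩
  refine ⟨_, autG φ, ρ.range, hle, ⟨(MonoidHom.ofInjective hinj).symm⟩, htr, fun a => ?_, ?_, fun h2 => ?_⟩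
  · rw [eq_bot_iff]
    rintro ⟨_, k, rfl⟩ hk
    have h1 : ρ k a = a := hk
    have h2 := hρ k a
    rw [h1] at h2
    have : k = 1 := by simpa using h2
    subst this
    exact Subtype.ext (map_one ρ)
  · refine isPreprimitive_of_rel fun r hr hinv a b hab h x y => ?_
    have := all_rel (M := Fin m) (by simpa using hm) (fun x y => r (φ.symm x) (φ.symm y))
      ⟨fun _ => hr.refl _, hr.symm, hr.trans⟩
      (fun s x y h => by simpa using hinv ⟨_, mem_autG φ _ (adj_pi s)⟩ _ _ h)
      (fun s x y h => by simpa using hinv ⟨_, mem_autG φ _ (adj_sw s)⟩ _ _ h)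
      (φ.injective.ne hab) (by simpa using h) (φ x) (φ y)
    simpa using this
  · obtain ⟨i, j, hij⟩ := Fintype.one_lt_card_iff.1 (show 1 < Fintype.card ι by omega)
    let v : Fin m := ⟨0, by omega⟩
    let w : Fin m := ⟨1, by omega⟩
    have hvw : v ≠ w := by simp [v, w]
    obtain ⟨g, h1, h2⟩ := two_trans h2 (a := φ.symm fun _ => v) (b := φ.symm (Function.update (fun _ => v) i w))
      (c := φ.symm fun _ => v) (d := φ.symm fun _ => w)
      (φ.symm.injective.ne fun h => hvw (by simpa using congrFun h i))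
      (φ.symm.injective.ne fun h => hvw (congrFun h i))
    have h3 := (g.2 (φ.symm fun _ => v) (φ.symm (Function.update (fun _ => v) i w))).2
      ⟨i, fun k hk => by simp [Function.update_of_ne hk]⟩
    change adj (φ (g • _)) (φ (g • _)) at h3
    rw [h1, h2] at h3
    obtain ⟨k, hk⟩ := h3
    by_cases e : i = k
    · exact hvw (by simpa using hk j (e ▸ hij.symm))
    · exact hvw (by simpa using hk i e)

end Cfsg.Agent.S3560
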