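import Mathlib
import Cfsg.Statements.S3571
import Cfsg.Agent.Elu.Der2
import Cfsg.Agent.S2119

set_option autoImplicit false
set_option backward.isDefEq.respectTransparency false
open Cfsg

namespace Cfsg.Agent.S3571

open Cfsg.Agent.Elu Equiv MulAction in

/-- Let G be an almost simple group whose socle is an alternating group of degree m ≥ 5 (G has a normal subgroup T isomorphic to that alternating group with trivial centralizer), acting faithfully and primitively on a finite set Ω with at least two points, and let r be the largest prime divisor of the number of points. Then G contains an element of order r fixing no point. -/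
theorem result {G Ω : Type*} [Group G] [Finite G] [MulAction G Ω] [FaithfulSMul G Ω] [Finite Ω]
    (T : Subgroup G) (hT : T.Normal) (hTc : Subgroup.centralizer (T : Set G) = ⊥) (m : ℕ) (hm : 5 ≤ m)
    (eT : ↥T ≃* ↥(alternatingGroup (Fin m))) (hprim : MulAction.IsPreprimitive G Ω) (hΩ : 2 ≤ Nat.card Ω)
    (r : ℕ) (hr : r.Prime) (hrd : r ∣ Nat.card Ω) (hmax : ∀ s : ℕ, s.Prime → s ∣ Nat.card Ω → s ≤ r) :
    ∃ g : G, orderOf g = r ∧ ∀ ω : Ω, g • ω ≠ ω := by
  by_contra hc
  push Not at hc
  haveI : Nontrivial Ω := Finite.one_lt_card_iff_nontrivial.mp hΩ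
  obtain ⟨ω, ω', hne⟩ := exists_pair_ne Ω
  haveI : Nontrivial (alternatingGroup (Fin m)) :=
    alternatingGroup.nontrivial_of_three_le_card (by simp; omega)
  haveI : Nontrivial T := eT.toEquiv.nontrivial
  have htr : IsPretransitive T Ω := by
    refine IsQuasiPreprimitive.isPretransitive_of_normal (fun e => ?_)
    obtain ⟨t, ht⟩ := exists_ne (1 : T)
    apply ht
    refine eq_of_smul_eq_smul (α := Ω) (fun x => ?_)
    have : x ∈ fixedPoints T Ω := e ▸ Set.mem_univ x
    rw [one_smul]; exact this t
  have hnT : ¬ ∀ t : T, t • ω = ω := fun e => by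
    obtain ⟨t, ht⟩ := htr.exists_smul_eq ω ω'
    exact hne ((e t).symm.trans ht)
  by_cases h6 : m = 6
  · subst h6
    let φ : T →* Perm (Fin 6) := (alternatingGroup (Fin 6)).subtype.comp eT.toMonoidHom
    have hφ : Function.Injective φ := Subtype.val_injective.comp eT.injective
    have h : DrHyp φ ω r := by
      refine ⟨htr, hφ, fun σ hσ => ⟨eT.symm ⟨σ, hσ⟩, by simp [φ]⟩, fun e => hnT (fun t => ?_), hr,
        hrd, hmax, fun g hg => hc g (by rw [Subgroup.orderOf_coe, hg])⟩
      obtain ⟨u, hu, e'⟩ := e (eT t).2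
      exact hφ e' ▸ hu
    exact h.six_false
  · let ε := MulEquiv.ofBijective _ (S2119.result m (by omega) h6)
    let φ : G →* Perm (Fin m) := ε.symm.toMonoidHom.comp ((MulAut.congr eT).toMonoidHom.comp
      (MulAut.conjNormal : G →* MulAut T))
    have hφ : Function.Injective φ := by
      rw [injective_iff_map_eq_one]
      intro g hg
      have h1 : (MulAut.conjNormal g : MulAut T) = 1 := by
        have h0 : MulAut.congr eT (MulAut.conjNormal g) = 1 := ε.symm.map_eq_one_iff.mp hg
        exact (MulAut.congr eT).map_eq_one_iff.mp h0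
      rw [← Subgroup.mem_bot, ← hTc, Subgroup.mem_centralizer_iff]
      intro t ht
      have := congrArg (fun f : MulAut T => (f ⟨t, ht⟩ : G)) h1
      simp only [MulAut.conjNormal_apply, MulAut.one_apply] at this
      rw [← mul_inv_eq_iff_eq_mul.mp this]
    have hφT : ∀ t : T, φ t = (eT t : Perm (Fin m)) := by
      intro t
      show ε.symm _ = _
      rw [MulEquiv.symm_apply_eq]
      ext1 a
      apply Subtype.ext
      show (eT (MulAut.conjNormal (t : G) (eT.symm a)) : Perm (Fin m)) = eT t * a * (eT t)⁻¹
      have : MulAut.conjNormal (t : G) (eT.symm a) = t * eT.symm a * t⁻¹ := Subtype.ext rfl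
      rw [this]; simp
    have h : DrHyp φ ω r := by
      refine ⟨inferInstance, hφ, fun σ hσ => ⟨eT.symm ⟨σ, hσ⟩, by simp [hφT]⟩,
        fun e => hnT (fun t => ?_), hr, hrd, hmax, hc⟩
      obtain ⟨u, hu, e'⟩ := e (eT t).2
      rw [← hφT] at e'
      exact (hφ e' ▸ hu : (t : G) ∈ stabilizer G ω)
    by_cases ht : IsPretransitive ((stabilizer G ω).map φ) (Fin m)
    · exact h.trans_false hm ht
    · exact h.intrans_false hm ((isCoatom_stabilizer_iff_preprimitive G ω).mpr hprim) ht

end Cfsg.Agent.S3571
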