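import Mathlib
import Cfsg.Statements.S3592
import Cfsg.Agent.Gl23.Ord6
import Cfsg.Agent.Perm.Small

set_option autoImplicit false
open Cfsg

namespace Cfsg.Agent.S3592

open Cfsg.Agent.Golay

/-- Let M be the Mathieu group M₁₁ (order 7920). If a finite group G has the same order as M and the same set of values of the function 'number of elements of order n' (taken over the element orders n that occur), then G is isomorphic to M. -/
theorem result {G : Type*} [Group G] [Finite G]
    (hcard : Nat.card G = Nat.card ↥Cfsg.Spor.M11)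
    (hnse : {c : ℕ | 0 < c ∧ ∃ n : ℕ, c = Nat.card {g : G // orderOf g = n}} =
      {c : ℕ | 0 < c ∧ ∃ n : ℕ, c = Nat.card {g : ↥Cfsg.Spor.M11 // orderOf g = n}}) :
    Nonempty (G ≃* ↥Cfsg.Spor.M11) := by
  rw [card_M11] at hcard
  have hp := Fact.mk (show Nat.Prime 11 by norm_num)
  obtain ⟨x, hx⟩ := exists_prime_orderOf_dvd_card' (G := G) 11 (by rw [hcard]; norm_num)
  obtain ⟨hS, h1, h2⟩ := Gl23.sylow_data (m := 720) hp.out hcard (by norm_num) hx
  obtain ⟨P, hP⟩ := hS.exists_sylow_top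
  have h3 := Perm.ncard_orderOf_prime P (by rw [hP, Nat.card_zpowers, hx])
  rw [P.card_eq_index_normalizer, ← P.coe_coe, hP, ← Nat.card_coe_set_eq] at h3
  have h4 := Nat.pos_of_dvd_of_pos h2 (by norm_num)
  obtain ⟨-, n, hn⟩ : Nat.card {g : G // orderOf g = 11} ∈
      {c : ℕ | 0 < c ∧ ∃ n : ℕ, c = Nat.card {g : ↥Cfsg.Spor.M11 // orderOf g = n}} :=
    hnse ▸ ⟨h3.symm ▸ by omega, 11, rfl⟩
  have h5 : ((cls11.filter fun r => r.2.1 = n).map fun r => r.2.2).sum ∈
      [0, 1, 165, 440, 990, 1584, 1320, 1980, 1440] := by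
    by_cases h : n ≤ 11
    · interval_cases n <;> decide
    · rw [List.filter_eq_nil_iff.2 fun r hr => by
        have := (by decide : ∀ r ∈ cls11, r.2.1 ≤ 11) r hr
        simp only [decide_eq_true_eq]
        omega]
      decide
  rw [← card_orderOf_M11, ← hn, show Nat.card {g : G // orderOf g = 11} = _ from h3] at h5
  have := Gl23.simple_of_SX hcard (Gl23.SX_of_index hcard hx ((by decide +kernel : ∀ n ≤ 720, n % 11 = 1 % 11 →
    n ∣ 720 → n * (11 - 1) ∈ [0, 1, 165, 440, 990, 1584, 1320, 1980, 1440] → n = 144) _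
      (Nat.le_of_dvd (by norm_num) h2) h1 h2 h5))
  exact Gl23.equiv_M11 hcard

end Cfsg.Agent.S3592
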