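import Mathlib
import Cfsg.Statements.S3593
import Cfsg.Agent.O12.Sim
-- Template for statement S3593 (row 3593; see /opt/grader/pristine/manifest.json for weights).
-- Copy to Cfsg/Agent/S3593.lean and replace the sorry. The statement below is byte-identical to the frozen
-- statement Cfsg.CfsgFrozen.S3593 (Cfsg/Statements/S3593.lean; the theorem Cfsg.recog7_mathieu_twelve_determined_by_order_and_same_order_counts);
-- the grader kernel-checks Cfsg.Agent.S3593.result against that frozen type. Keep the theorem IN THIS FILE
-- (a `result` declared elsewhere and merely imported here is not credited); helpers may live anywhere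
-- under Cfsg/Agent/.
-- import your own Cfsg.Agent.* helpers here

set_option autoImplicit false
open Cfsg

namespace Cfsg.Agent.S3593

/-- Let M be the Mathieu group M₁₂ (order 95040). If a finite group G has the same order as M and the same set of values of the function 'number of elements of order n' (taken over the element orders n that occur), then G is isomorphic to M. -/
theorem result {G : Type*} [Group G] [Finite G]
    (hcard : Nat.card G = Nat.card ↥Cfsg.Spor.M12)
    (hnse : {c : ℕ | 0 < c ∧ ∃ n : ℕ, c = Nat.card {g : G // orderOf g = n}} =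
      {c : ℕ | 0 < c ∧ ∃ n : ℕ, c = Nat.card {g : ↥Cfsg.Spor.M12 // orderOf g = n}}) :
    Nonempty (G ≃* ↥Cfsg.Spor.M12) := by
  have hM := Golay.card_M12
  have := Golay.simple_M12
  rw [hM] at hcard
  have hp := Fact.mk (show Nat.Prime 11 by norm_num)
  obtain ⟨x, hx⟩ := exists_prime_orderOf_dvd_card' (G := G) 11 (by rw [hcard]; norm_num)
  obtain ⟨y, hy⟩ := exists_prime_orderOf_dvd_card' (G := Spor.M12) 11 (by rw [hM]; norm_num)
  obtain ⟨-, h1, h2⟩ := Gl23.sylow_data (m := 8640) hp.out hcard (by norm_num) hx
  have h3 := O12.card_eleven hcard hx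
  have h4 := Nat.pos_of_dvd_of_pos h2 (by norm_num)
  obtain ⟨-, n, hn⟩ : Nat.card {g : G // orderOf g = 11} ∈
      {c : ℕ | 0 < c ∧ ∃ n : ℕ, c = Nat.card {g : ↥Cfsg.Spor.M12 // orderOf g = n}} :=
    hnse ▸ ⟨h3.symm ▸ by omega, 11, rfl⟩
  rw [h3] at hn
  have h5 : n ∣ 11 := by
    by_contra h
    have := O12.dvd_card_orderOf (n := n) hp.out hy fun g hg e => h (e ▸ O12.not_comm_eleven hM hy hg)
    omega
  have := O12.simple_of_SX' hcard (O12.SX_of_index' hcard hx (by
    rcases (Nat.dvd_prime hp.out).1 h5 with rfl | rfl
    · simp only [orderOf_eq_one_iff, Nat.card_unique] at hn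
      omega
    · have h6 := (Subgroup.normalizer ((Subgroup.zpowers y : Subgroup Spor.M12) : Set Spor.M12)).card_mul_index
      rw [(O12.cent_eleven hM hy).2, hM] at h6
      rw [O12.card_eleven hM hy] at hn
      omega))
  exact O12.equiv_M12 hcard
end Cfsg.Agent.S3593
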