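import Mathlib
import Cfsg.Statements.S3599
import Cfsg.Agent.Spc.Iso
-- import your own Cfsg.Agent.* helpers here

set_option autoImplicit false
open Cfsg

namespace Cfsg.Agent.S3599

open Cfsg.Agent.Spec

/-- the prescribed spectrum -/
def om {s : ℕ} (p : Fin s → Fin 2 → ℕ) : Set ℕ :=
  {m : ℕ | ∃ c : Fin s → ℕ, (∀ j, c j = 1 ∨ c j = p j 0 ∨ c j = p j 1) ∧ m = ∏ j, c j}

variable {s : ℕ} {p : Fin s → Fin 2 → ℕ} (hp : ∀ j i, (p j i).Prime)
  (hinj : ∀ j i j' i', p j i = p j' i' → j = j' ∧ i = i')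
include hp hinj

theorem cop {c : Fin s → ℕ} (hc : ∀ j, c j = 1 ∨ c j = p j 0 ∨ c j = p j 1) {i j : Fin s}
    (h : i ≠ j) : (c i).Coprime (c j) := by
  have key : ∀ a b, (p i a).Coprime (p j b) := fun a b =>
    (Nat.coprime_primes (hp _ _) (hp _ _)).2 fun e => h (hinj _ _ _ _ e).1
  rcases hc i with e | e | e <;> rcases hc j with e' | e' | e' <;> rw [e, e'] <;>
    first | exact key _ _ | simp

theorem exists_grp (a : Fin s → Fin 2) : ∃ (H : Type) (_ : Group H) (_ : Finite H),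
    Set.range (orderOf : H → ℕ) = om p ∧
      ∀ x y : H, Commute (x ^ ∏ j, p j (a j + 1)) (y ^ ∏ j, p j (a j + 1)) := by
  classical
  have h1 : ∀ j, (p j (a j + 1)).Coprime (p j (a j)) := fun j =>
    (Nat.coprime_primes (hp _ _) (hp _ _)).2 fun e => by
      have := (hinj _ _ _ _ e).2
      revert this
      generalize a j = b
      revert b
      decide
  choose H gH fH _ h2 h3 using fun j => Spc.exists_frob (hp j (a j)) (h1 j)
  have h4 : ∀ j m, m ∈ spec (H j) ↔ m = 1 ∨ m = p j 0 ∨ m = p j 1 := by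
    intro j m
    rw [h2, Set.mem_setOf_eq, Nat.dvd_prime (hp _ _), Nat.dvd_prime (hp _ _)]
    generalize a j = b
    fin_cases b <;> simp <;> tauto
  have h5 : ∀ x : ∀ j, H j, orderOf x = ∏ j, orderOf (x j) := by
    intro x
    refine Spc.orderOf_eq_of_iff fun m => ⟨fun h => ?_, fun h => funext fun j => ?_⟩
    · refine Finset.prod_dvd_of_isRelPrime (fun i _ j _ hij => Nat.coprime_iff_isRelPrime.1
        (cop hp hinj (fun j => (h4 j _).1 ⟨x j, rfl⟩) hij)) fun j _ => ?_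
      exact orderOf_dvd_of_pow_eq_one (congrFun h j)
    · exact orderOf_dvd_iff_pow_eq_one.1 ((Finset.dvd_prod_of_mem _ (Finset.mem_univ j)).trans h)
  refine ⟨∀ j, H j, inferInstance, inferInstance, Set.ext fun m => ⟨?_, ?_⟩, fun x y => ?_⟩
  · rintro ⟨x, rfl⟩
    exact ⟨_, fun j => (h4 j _).1 ⟨x j, rfl⟩, h5 x⟩
  · rintro ⟨c, hc, rfl⟩
    choose x hx using fun j => (h4 j _).2 (hc j)
    exact ⟨x, by rw [h5]; exact Finset.prod_congr rfl fun j _ => hx j⟩
  · funext j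
    obtain ⟨k, hk⟩ := Finset.dvd_prod_of_mem (fun j => p j (a j + 1)) (Finset.mem_univ j)
    simp only [Pi.mul_apply, Pi.pow_apply]
    rw [hk, mul_comm (p j _), pow_mul, pow_mul]
    exact h3 j _ _

theorem exists_crit (a : Fin s → Fin 2) : ∃ (G : Type) (_ : Group G) (_ : Finite G),
    (Set.range (orderOf : G → ℕ) = om p ∧
      ∀ x y : G, Commute (x ^ ∏ j, p j (a j + 1)) (y ^ ∏ j, p j (a j + 1))) ∧
      ∀ (H : Subgroup G) (N : Subgroup H) [N.Normal], (H ≠ ⊤ ∨ N ≠ ⊥) →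
        Set.range (orderOf : (H ⧸ N) → ℕ) ≠ om p := by
  classical
  have hex : ∃ n, ∃ (H : Type) (_ : Group H) (_ : Finite H), (Set.range (orderOf : H → ℕ) = om p ∧
      ∀ x y : H, Commute (x ^ ∏ j, p j (a j + 1)) (y ^ ∏ j, p j (a j + 1))) ∧ Nat.card H = n := by
    obtain ⟨H, _, _, h⟩ := exists_grp hp hinj a
    exact ⟨_, H, _, ‹_›, h, rfl⟩
  obtain ⟨G, _, _, h1, h2⟩ := Nat.find_spec hex
  refine ⟨G, _, ‹_›, h1, fun H N _ hne e => ?_⟩
  refine Nat.find_min hex (m := Nat.card (H ⧸ N)) ?_ ⟨H ⧸ N, _, inferInstance, ⟨e, fun x y => ?_⟩, rfl⟩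
  · rw [← h2]
    have e1 := H.card_mul_index
    have e2 := N.card_mul_index
    have e3 : 0 < Nat.card N := Nat.card_pos
    have e4 : 0 < H.index := Nat.pos_of_ne_zero H.index_ne_zero_of_finite
    have e5 : 0 < N.index := Nat.pos_of_ne_zero N.index_ne_zero_of_finite
    show N.index < _
    rw [← e1, ← e2]
    rcases hne with h | h
    · have := Subgroup.one_lt_index_of_ne_top h
      nlinarith [Nat.mul_le_mul e3 (le_refl (N.index * H.index))]
    · have := (N.one_lt_card_iff_ne_bot).2 h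
      nlinarith [Nat.mul_le_mul e4 (le_refl (N.index * Nat.card N))]
  · obtain ⟨x, rfl⟩ := QuotientGroup.mk'_surjective N x
    obtain ⟨y, rfl⟩ := QuotientGroup.mk'_surjective N y
    rw [← map_pow, ← map_pow]
    exact Commute.map (Subtype.ext (h1.2 x y) : Commute (x ^ _) (y ^ _)) _

omit hp hinj in
theorem comm_of {G : Type*} [Group G] {B r : ℕ} (h : ∀ x y : G, Commute (x ^ B) (y ^ B))
    (hc : r.Coprime B) {x y : G} (hx : orderOf x = r) (hy : orderOf y = r) : Commute x y := by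
  obtain ⟨k, hk⟩ := exists_pow_eq_self_of_coprime (x := x) (n := B) (hx ▸ hc.symm)
  obtain ⟨l, hl⟩ := exists_pow_eq_self_of_coprime (x := y) (n := B) (hy ▸ hc.symm)
  rw [← hk, ← hl]
  exact (h x y).pow_pow k l

theorem not_both {G : Type*} [Group G] (hG : Set.range (orderOf : G → ℕ) = om p) {a b : Fin s → Fin 2}
    (ha : ∀ x y : G, Commute (x ^ ∏ j, p j (a j + 1)) (y ^ ∏ j, p j (a j + 1)))
    (hb : ∀ x y : G, Commute (x ^ ∏ j, p j (b j + 1)) (y ^ ∏ j, p j (b j + 1))) : a = b := by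
  classical
  funext j
  by_contra hab
  have h1 : ∀ a : Fin s → Fin 2, (p j (a j)).Coprime (∏ j, p j (a j + 1)) := fun a =>
    Nat.Coprime.prod_right fun i _ => (Nat.coprime_primes (hp _ _) (hp _ _)).2 fun e => by
      obtain ⟨rfl, h⟩ := hinj _ _ _ _ e
      revert h
      generalize a j = b
      revert b
      decide
  have h2 : ∀ i, ∃ x : G, orderOf x = p j i := fun i => by
    have : p j i ∈ om p := ⟨Pi.mulSingle j (p j i), fun k => by
      by_cases h : k = j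
      · subst h; fin_cases i <;> simp
      · simp [h], by simp⟩
    rwa [← hG] at this
  obtain ⟨x, hx⟩ := h2 (a j)
  obtain ⟨y, hy⟩ := h2 (b j)
  have hc : (p j (a j)).Coprime (p j (b j)) :=
    (Nat.coprime_primes (hp _ _) (hp _ _)).2 fun e => hab (hinj _ _ _ _ e).2
  have c1 : (x * (y * x * y⁻¹)⁻¹) ^ p j (a j) = 1 := by
    have e : orderOf (y * x * y⁻¹) = p j (a j) := ((MulAut.conj y).orderOf_eq x).trans hx
    rw [(comm_of ha (h1 a) hx e).inv_right.mul_pow, inv_pow, ← hx, pow_orderOf_eq_one, hx, ← e,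
      pow_orderOf_eq_one]
    simp
  have c2 : (x * (y * x * y⁻¹)⁻¹) ^ p j (b j) = 1 := by
    have e : orderOf (x * y * x⁻¹) = p j (b j) := ((MulAut.conj x).orderOf_eq y).trans hy
    rw [show x * (y * x * y⁻¹)⁻¹ = (x * y * x⁻¹) * y⁻¹ by group,
      (comm_of hb (h1 b) e hy).inv_right.mul_pow, inv_pow, ← e, pow_orderOf_eq_one, e, ← hy,
      pow_orderOf_eq_one]
    simp
  have c3 : Commute x y := by
    have := (pow_eq_one_iff_of_coprime hc).1 ⟨c1, c2⟩
    rw [mul_inv_eq_one, eq_mul_inv_iff_mul_eq] at this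
    exact this
  have c4 : p j (a j) * p j (b j) ∈ om p := by
    rw [← hG]
    exact ⟨x * y, by rw [c3.orderOf_mul_eq_mul_orderOf_of_coprime (by rwa [hx, hy]), hx, hy]⟩
  obtain ⟨c, hc1, hc2⟩ := c4
  have key : ∀ i, p j i ∣ ∏ k, c k → c j = p j i := fun i h => by
    obtain ⟨k, -, hk⟩ := ((hp j i).prime.dvd_finset_prod_iff _).1 h
    rcases hc1 k with e | e | e <;> rw [e] at hk
    · exact absurd (Nat.dvd_one.1 hk) (hp j i).one_lt.ne'
    all_goals
      obtain ⟨rfl, rfl⟩ := hinj _ _ _ _ ((Nat.prime_dvd_prime_iff_eq (hp _ _) (hp _ _)).1 hk)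
      exact e
  exact hab (hinj _ _ _ _ ((key _ (hc2 ▸ dvd_mul_right _ _)).symm.trans
    (key _ (hc2 ▸ dvd_mul_left _ _)))).2

omit hp hinj

/-- A finite group is critical with respect to a set Ω of natural numbers when its set of element orders is Ω while no proper section H/N (H a subgroup, N normal in H, (H, N) ≠ (whole group, 1)) has Ω as its set of element orders. Let s ≥ 1 and let p(j,0), p(j,1) (j < s) be 2s pairwise distinct primes, and let Ω be the set of all products c(0)·…·c(s−1) with each c(j) ∈ {1, p(j,0), p(j,1)}. Then there are 2^s pairwise non-isomorphic finite groups critical with respect to Ω. -/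
theorem result (s : ℕ) (hs : 1 ≤ s) (p : Fin s → Fin 2 → ℕ)
    (hp : ∀ j i, (p j i).Prime) (hinj : ∀ j i j' i', p j i = p j' i' → j = j' ∧ i = i') :
    ∃ (G : Fin (2 ^ s) → Type) (_ : ∀ a, Group (G a)) (_ : ∀ a, Fintype (G a)),
      (∀ a b, a ≠ b → ¬ Nonempty (G a ≃* G b)) ∧
      ∀ a, Set.range (orderOf : (G a) → ℕ) = {m : ℕ | ∃ c : Fin s → ℕ, (∀ j, c j = 1 ∨ c j = p j 0 ∨ c j = p j 1) ∧ m = ∏ j, c j} ∧
      ∀ (H : Subgroup (G a)) (N : Subgroup ↥H) [N.Normal], (H ≠ ⊤ ∨ N ≠ ⊥) → Set.range (orderOf : (↥H ⧸ N) → ℕ) ≠ {m : ℕ | ∃ c : Fin s → ℕ, (∀ j, c j = 1 ∨ c j = p j 0 ∨ c j = p j 1) ∧ m = ∏ j, c j} := by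
  choose G gG fG h1 h2 using fun a : Fin (2 ^ s) => exists_crit hp hinj (finFunctionFinEquiv.symm a)
  refine ⟨G, gG, fun a => Fintype.ofFinite _, fun a b hab ⟨e⟩ => hab ?_, fun a => ⟨(h1 a).1, h2 a⟩⟩
  refine finFunctionFinEquiv.symm.injective (not_both hp hinj (h1 a).1 (h1 a).2 fun x y => ?_)
  apply e.injective
  simpa using ((h1 b).2 (e x) (e y)).eq

end Cfsg.Agent.S3599
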