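import Mathlib
import Cfsg.Statements.S3600
import Cfsg.Agent.CIT.Sp5

set_option autoImplicit false
open Cfsg

namespace Cfsg.Agent.S3600

open Subgroup Cfsg.Agent.CIT.F Cfsg.Agent.CIT.Sp5

/-- A finite group is critical with respect to a set Ω of natural numbers when its set of element orders is Ω while no proper section has Ω as its set of element orders. A finite group critical with respect to {1, 2, 3, 4, 5} (the set of element orders of the alternating group of degree 6) is isomorphic either to the alternating group of degree 6 or to the affine group F² ⋊ SL(2,F) over the field F with four elements (realised as the matrices of SL(3,F) with last row (0, 0, 1)). -/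
theorem result {G : Type*} [Group G] [Finite G]
    (hcrit : Set.range (orderOf : G → ℕ) = ({1, 2, 3, 4, 5} : Set ℕ) ∧
      ∀ (H : Subgroup G) (N : Subgroup ↥H) [N.Normal], (H ≠ ⊤ ∨ N ≠ ⊥) → Set.range (orderOf : (↥H ⧸ N) → ℕ) ≠ ({1, 2, 3, 4, 5} : Set ℕ)) :
    Nonempty (G ≃* alternatingGroup (Fin 6)) ∨
      ∃ (F : Type) (_ : Field F) (_ : Fintype F), Fintype.card F = 4 ∧
        Nonempty (G ≃* ↥(Subgroup.closure {M : Matrix.SpecialLinearGroup (Fin 3) F |
          (M : Matrix (Fin 3) (Fin 3) F) 2 0 = 0 ∧ (M : Matrix (Fin 3) (Fin 3) F) 2 1 = 0 ∧ (M : Matrix (Fin 3) (Fin 3) F) 2 2 = 1})) := by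
  obtain ⟨h, hc⟩ := hcrit
  have h5 : ∀ g : G, orderOf g ≤ 5 := fun g => by
    have := h.le ⟨g, rfl⟩
    simp only [Set.mem_insert_iff, Set.mem_singleton_iff] at this
    omega
  have ex : ∀ k ∈ ({1, 2, 3, 4, 5} : Set ℕ), ∃ g : G, orderOf g = k := fun k a => h.ge a
  refine (struct5 h5 (ex 2 (by simp)) (ex 3 (by simp)) (ex 5 (by simp))).imp_right fun e => ?_
  obtain ⟨F, _, _, hF, φ, hr, hk, g4, hg4⟩ := affine h5 (ex 3 (by simp)) (ex 4 (by simp)) e
  refine ⟨F, inferInstance, inferInstance, hF, ⟨(MonoidHom.ofInjective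
    ((MonoidHom.ker_eq_bot_iff φ).1 ?_)).trans (MulEquiv.subgroupCongr hr)⟩⟩
  by_contra hne
  let ψ := φ.comp (⊤ : Subgroup G).subtype
  have o : ∀ g : (⊤ : Subgroup G), orderOf (g : (⊤ : Subgroup G) ⧸ ψ.ker) = orderOf (φ g) :=
    fun g => (orderOf_injective _ (QuotientGroup.kerLift_injective ψ) _).symm
  refine hc ⊤ ψ.ker (Or.inr fun e => hne (eq_bot_iff.2 fun g hg => ?_)) (Set.ext fun n => ?_)
  · exact congrArg Subtype.val (show (⟨g, trivial⟩ : (⊤ : Subgroup G)) = 1 from e.le hg)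
  constructor
  · rintro ⟨y, rfl⟩
    obtain ⟨g, rfl⟩ := QuotientGroup.mk_surjective y
    have h1 := Nat.le_of_dvd (orderOf_pos _) (orderOf_map_dvd φ g)
    have h2 := h5 g
    have h3 := orderOf_pos (g : (⊤ : Subgroup G) ⧸ ψ.ker)
    rw [o] at h3 ⊢
    simp only [Set.mem_insert_iff, Set.mem_singleton_iff]
    omega
  · have odd : ∀ r, r.Prime → r ≠ 2 → r ∈ ({1, 2, 3, 4, 5} : Set ℕ) →
        r ∈ Set.range (orderOf : (⊤ : Subgroup G) ⧸ ψ.ker → ℕ) := fun r hr h2 hm => by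
      obtain ⟨g, hg⟩ := ex r hm
      refine ⟨(⟨g, trivial⟩ : (⊤ : Subgroup G)), (o _).trans ?_⟩
      refine ((Nat.dvd_prime hr).1 (hg ▸ orderOf_map_dvd φ g)).resolve_left fun e => ?_
      obtain ⟨k, hk⟩ := IsPGroup.iff_orderOf.1 hk ⟨g, φ.mem_ker.2 (orderOf_eq_one_iff.1 e)⟩
      rw [Subgroup.orderOf_mk, hg] at hk
      exact h2 ((Nat.prime_dvd_prime_iff_eq hr Nat.prime_two).1 (hr.dvd_of_dvd_pow hk.dvd))
    rintro (rfl | rfl | rfl | rfl | rfl)
    · exact ⟨1, orderOf_one⟩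
    · refine ⟨(⟨g4 ^ 2, trivial⟩ : (⊤ : Subgroup G)), (o _).trans ?_⟩
      rw [map_pow, orderOf_pow_of_dvd two_ne_zero (hg4 ▸ by decide), hg4]
    · exact odd 3 (by decide) (by decide) (by simp)
    · exact ⟨(⟨g4, trivial⟩ : (⊤ : Subgroup G)), (o _).trans hg4⟩
    · exact odd 5 (by decide) (by decide) (by simp)

end Cfsg.Agent.S3600
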