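import Mathlib
import Cfsg.Statements.S3619
import Cfsg.Agent.Perm.Jord3

set_option autoImplicit false
open Cfsg

namespace Cfsg.Agent.S3619


/-- Let G act faithfully on a finite set in such a way that every non-trivial normal subgroup of G is transitive (G is quasiprimitive). Let Γ be a subset with more than one point and not the whole set, such that the pointwise stabilizer of the complement of Γ acts transitively on Γ (a Jordan set). If that pointwise stabilizer acts primitively on Γ, then G is k-fold transitive where k is one more than the number of points outside Γ (the Jordan set is a trivial one). -/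
theorem result {G Ω : Type*} [Group G] [Finite G] [MulAction G Ω] [FaithfulSMul G Ω] [Finite Ω]
    (hqp : ∀ N : Subgroup G, N.Normal → N ≠ ⊥ → MulAction.IsPretransitive ↥N Ω)
    (Γ : Set Ω) (hΓ1 : 1 < Γ.ncard) (hΓ2 : Γ.ncard < Nat.card Ω)
    (hJ : MulAction.IsPretransitive ↥(fixingSubgroup G Γᶜ) ↥(SubMulAction.ofFixingSubgroup G Γᶜ))
    (hJp : MulAction.IsPreprimitive ↥(fixingSubgroup G Γᶜ) ↥(SubMulAction.ofFixingSubgroup G Γᶜ)) :
    MulAction.IsMultiplyPretransitive G Ω (Nat.card Ω - Γ.ncard + 1) := by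
  have e := Set.ncard_add_ncard_compl Γ
  have hJ' := (Perm.jc_iff _).2 hJ
  have hc : 2 ≤ Γᶜᶜ.ncard := by rwa [compl_compl]
  have := Perm.isPretransitive_of_quasi hqp hJ' hc
  have : Nontrivial Ω := Finite.one_lt_card_iff_nontrivial.1 (by omega)
  have hp : MulAction.IsPreprimitive G Ω := by_contra fun hnp => by
    obtain ⟨M, π, hπ, hs, hf, -, _⟩ := Perm.exists_quasi_quot hqp hnp
    obtain ⟨a, ha⟩ : Γᶜᶜ.Nonempty := Set.nonempty_of_ncard_ne_zero (by omega)
    obtain ⟨b, hb, h⟩ := hf a
    obtain ⟨c, hc', h'⟩ := hJ'.not_fiber hπ hs hc (π a)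
    exact h' (Perm.prim_rel (G := fixingSubgroup G Γᶜ) (α := SubMulAction.ofFixingSubgroup G Γᶜ)
      (fun x y => π x = π y) ⟨fun _ => rfl, Eq.symm, Eq.trans⟩
      (fun g x y h => (hπ g x).trans ((congrArg _ h).trans (hπ g y).symm))
      (a := ⟨b, fun h1 => ha (hJ'.mem_of_fiber hπ hs hc h1 h.symm)⟩) (b := ⟨a, ha⟩)
      (fun h => hb (congrArg Subtype.val h)) h ⟨c, hc'⟩ ⟨a, ha⟩)
  have := hp.isMultiplyPreprimitive (s := Γᶜ) (n := Γᶜ.ncard - 1) (by omega) (by omega) hJp
  rw [show Nat.card Ω - Γ.ncard + 1 = Γᶜ.ncard - 1 + 2 by omega]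
  exact MulAction.IsMultiplyPreprimitive.isMultiplyPretransitive ..

end Cfsg.Agent.S3619
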