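import Mathlib
import Cfsg.Statements.S3626
import Cfsg.Agent.Spc.Iso
import Cfsg.Agent.Spec.Pow
import Cfsg.Agent.S1159
-- import your own Cfsg.Agent.* helpers here

set_option autoImplicit false
open Cfsg

namespace Cfsg.Agent.S3626

/-- Let R be the small Ree group over the field with q = 3^(2m+1) ≥ 27 elements. Then there are finite groups of arbitrarily large order with exactly the same set of element orders as R × R × R. -/
theorem result {K : Type*} [Field K] [Fintype K] {m : ℕ} (hm : 1 ≤ m) (hK : Fintype.card K = 3 ^ (2 * m + 1)) (N : ℕ) :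
    ∃ (H : Type) (_ : Group H) (_ : Fintype H), N < Fintype.card H ∧
      Set.range (orderOf : H → ℕ) = Set.range (orderOf : ↥(Cfsg.Lie.twistedG2 K (3 ^ m)) × ↥(Cfsg.Lie.twistedG2 K (3 ^ m)) × ↥(Cfsg.Lie.twistedG2 K (3 ^ m)) → ℕ) := by
  haveI : CharP K 3 := by
    obtain ⟨p, hp⟩ := CharP.exists K
    obtain ⟨n, h1, h2⟩ := FiniteField.card K p
    obtain rfl : p = 3 := (Nat.prime_dvd_prime_iff_eq h1 Nat.prime_three).1
      (h1.dvd_of_dvd_pow (n := 2 * m + 1) (by rw [← hK, h2]; exact dvd_pow_self _ n.ne_zero))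
    exact hp
  have h27 : 3 ^ 3 ≤ 3 ^ (2 * m + 1) := Nat.pow_le_pow_right (by decide) (by omega)
  have h8 : 3 ^ (2 * m + 1) % 8 = 3 := by rw [pow_succ, pow_mul, Nat.mul_mod, Nat.pow_mod]; simp
  obtain ⟨ρ, hρ⟩ := Spc.ree_rep (K := K) (by rwa [hK]) (by omega)
  obtain ⟨P, h1, h2, -, h4⟩ := Spc.exists_Op 3 ρ
  have hS := S1159.result hm hK
  rw [hK] at hρ
  have := Spec.spec_cube_replace (G := Cfsg.Lie.twistedG2 K (3 ^ m)) (H := Spc.AR ρ) (fun d hd => (hS d).2 (by
      rw [hρ] at hd; rcases hd with h | h | h | h <;> simp [h]))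
    ((hS _).2 (Or.inr (Or.inr (Or.inr (Or.inr (Or.inl dvd_rfl))))))
    ((hS _).2 (Or.inr (Or.inr (Or.inr (Or.inr (Or.inr dvd_rfl)))))) fun a ha => by
      rw [hρ]; rcases (hS a).1 ha with h | h | h | h | h | h <;> simp [h]
  refine (this ▸ Spec.unb_prod ((⊥ : Subgroup _).prod P) (fun h => h2 ?_) ?_ :
    Spec.Unb (Spec.spec _)) N
  · exact (Subgroup.prod_eq_bot_iff.1 h).2
  · exact Group.isSolvable_of_surjective (f := (Subgroup.prodEquiv _ _).symm.toMonoidHom) (MulEquiv.surjective _)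

end Cfsg.Agent.S3626
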