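import Mathlib
import Cfsg.Statements.S3634
import Cfsg.Agent.S0041
import Cfsg.Agent.Perm.Small2
import Cfsg.Agent.Perm.FC4
import Cfsg.Agent.Core.Basic

set_option autoImplicit false
open Cfsg

namespace Cfsg.Agent.S3634

open Subgroup Cfsg.Agent.Perm

theorem zc {G : Type*} [Group G] [Finite G] {p : ℕ} [Fact p.Prime] {P : Subgroup G} (hP : IsPGroup p P)
    (h0 : P ≠ ⊥) : ∃ Z : Subgroup G, Z ≤ P ∧ Z ≠ ⊥ ∧ IsMulCommutative Z ∧
      normalizer (P : Set G) ≤ normalizer (Z : Set G) := by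
  haveI : Nontrivial P := (nontrivial_iff_ne_bot P).2 h0
  haveI := hP.center_nontrivial
  refine ⟨P ⊓ centralizer (P : Set G), inf_le_left, fun h => ?_, ⟨⟨fun a b => Subtype.ext ?_⟩⟩, fun g hg => ?_⟩
  · obtain ⟨z, hz⟩ := exists_ne (1 : center P)
    have : z.1.1 ∈ P ⊓ centralizer (P : Set G) :=
      ⟨z.1.2, fun y hy => congrArg Subtype.val (mem_center_iff.1 z.2 ⟨y, hy⟩)⟩
    rw [h] at this
    exact hz (Subtype.ext (Subtype.ext this))
  · exact b.2.2 a.1 a.2.1
  · refine mem_normalizer_fintype fun y hy => ⟨(mem_normalizer_iff.1 hg y).1 hy.1, fun w hw => ?_⟩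
    have h1 : g⁻¹ * w * g ∈ P := by
      have := (mem_normalizer_iff.1 (inv_mem hg) w).1 hw
      rwa [inv_inv] at this
    have h2 := hy.2 _ h1
    calc w * (g * y * g⁻¹) = g * ((g⁻¹ * w * g) * y) * g⁻¹ := by group
      _ = g * y * g⁻¹ * w := by rw [h2]; group

theorem orderOf_conj_eq {G : Type*} [Group G] (y x : G) : orderOf (x * y * x⁻¹) = orderOf y :=
  (MulAut.conj x).orderOf_eq y

theorem L3 {G : Type*} [Group G] [Finite G] {p q r : ℕ} (hp : p.Prime) (hq : q.Prime) (hr : r.Prime)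
    (hpq : p ≠ q) (hpr : p ≠ r) (hqr : q ≠ r) {P Q : Subgroup G} [P.Normal] (hP : IsPGroup p P) (hP0 : P ≠ ⊥)
    (hQ : IsPGroup q Q) (hQ0 : Q ≠ ⊥) {x : G} (hx : orderOf x = r) (hxQ : x ∈ normalizer (Q : Set G)) :
    (∃ x : G, orderOf x = p * q) ∨ (∃ x : G, orderOf x = p * r) ∨ (∃ x : G, orderOf x = q * r) := by
  haveI : Fact p.Prime := ⟨hp⟩
  haveI : Fact q.Prime := ⟨hq⟩
  by_contra hcon
  push Not at hcon
  obtain ⟨h1, h2, h3⟩ := hcon
  obtain ⟨V, hVP, hV0, hVc, hVn⟩ := zc hP hP0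
  rw [normalizer_eq_top, top_le_iff] at hVn
  have fpf : ∀ a : G, a ≠ 1 → (∀ s : ℕ, s.Prime → s ∣ orderOf a → s = q ∨ s = r) → V ⊓ centralizer {a} = ⊥ := by
    intro a ha hs
    by_contra hne
    have hpg : IsPGroup p ↥(V ⊓ centralizer {a}) := hP.to_le (inf_le_left.trans hVP)
    have hd : p ∣ Nat.card ↥(V ⊓ centralizer {a}) := by
      obtain ⟨k, hk⟩ := IsPGroup.iff_card.1 hpg
      rw [hk]
      refine dvd_pow_self _ ?_
      rintro rfl
      exact hne (card_eq_one.1 hk)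
    obtain ⟨v, hv, hvo⟩ := exists_mem_orderOf_prime _ hp hd
    obtain ⟨k, s, hs1, hs2, hs3⟩ := exists_pow_orderOf_prime ha
    have hc : v * a ^ k = a ^ k * v :=
      (Commute.pow_right (show Commute v a from mem_centralizer_singleton_iff.1 hv.2) k).eq
    rcases hs s hs1 hs2 with rfl | rfl
    · exact h1 _ (orderOf_mul_of_commute hc hvo hs3 ((Nat.coprime_primes hp hs1).2 hpq))
    · exact h2 _ (orderOf_mul_of_commute hc hvo hs3 ((Nat.coprime_primes hp hs1).2 hpr))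
  obtain ⟨Z, hZQ, hZ0, hZc, hZn⟩ := zc hQ hQ0
  obtain ⟨k, hk⟩ := IsPGroup.iff_card.1 (hQ.to_le hZQ)
  have hcyc : IsCyclic Z := Cfsg.Agent.S0041.result Z V hV0 (by rw [hVn]; exact le_top) (fun a ha ha1 =>
    fpf a ha1 fun s hs hsd => Or.inl ((Nat.prime_dvd_prime_iff_eq hs hq).1 (hs.dvd_of_dvd_pow
      (hk ▸ hsd.trans (Z.orderOf_dvd_natCard ha))))) (Or.inl hZc)
  have hqZ : q ∣ Nat.card Z := by
    rw [hk]
    refine dvd_pow_self _ ?_
    rintro rfl
    exact hZ0 (card_eq_one.1 hk)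
  obtain ⟨y, hy, hyo⟩ := exists_mem_orderOf_prime _ hq hqZ
  have hxy : x ∈ normalizer (zpowers y : Set G) := by
    have hw' : x * y * x⁻¹ ∈ Z := (mem_normalizer_iff.1 (hZn hxQ) y).1 hy
    have h4 := mem_zpowers_of_cyclic hcyc hy hw' (orderOf_conj_eq y x)
    refine mem_normalizer_fintype ?_
    rintro w ⟨j, rfl⟩
    simp only [← conj_zpow]
    exact zpow_mem h4 j
  have hco : Nat.Coprime q r := (Nat.coprime_primes hq hr).2 hqr
  have hcard : Nat.card ↥(zpowers y ⊔ zpowers x) = q * r := by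
    rw [Core.card_sup_of_disjoint (zpowers_le.2 hxy) (Core.disjoint_of_coprime
      (by rwa [Nat.card_zpowers, Nat.card_zpowers, hyo, hx])), Nat.card_zpowers, Nat.card_zpowers, hyo, hx]
  have hcyc2 : IsCyclic ↥(zpowers y ⊔ zpowers x) := Cfsg.Agent.S0041.result _ V hV0 (by rw [hVn]; exact le_top)
    (fun a ha ha1 => fpf a ha1 fun s hs hsd => by
      have : s ∣ q * r := hcard ▸ hsd.trans (Subgroup.orderOf_dvd_natCard _ ha)
      rcases (Nat.Prime.dvd_mul hs).1 this with h | h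
      · exact Or.inl ((Nat.prime_dvd_prime_iff_eq hs hq).1 h)
      · exact Or.inr ((Nat.prime_dvd_prime_iff_eq hs hr).1 h)) (Or.inr ⟨q, r, hq, hr, hcard⟩)
  obtain ⟨g, hg⟩ := IsCyclic.exists_ofOrder_eq_natCard (α := ↥(zpowers y ⊔ zpowers x))
  exact h3 g.1 (by rw [orderOf_coe, hg, hcard])

theorem syl {G : Type*} [Group G] [Finite G] {q : ℕ} [Fact q.Prime] (M : Subgroup G) [M.Normal]
    (h : q ∣ Nat.card M) : ∃ Q : Subgroup G, IsPGroup q Q ∧ Q ≠ ⊥ ∧ normalizer (Q : Set G) ⊔ M = ⊤ := by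
  obtain ⟨Q⟩ := (inferInstance : Nonempty (Sylow q M))
  refine ⟨(Q : Subgroup M).map M.subtype, Q.isPGroup'.map _, fun e => ?_, Q.normalizer_sup_eq_top⟩
  rw [map_eq_bot_iff_of_injective _ M.subtype_injective] at e
  exact sylow_ne_bot Q h e


/-- Let G be a finite group with normal subgroups K ≤ M, and let p, q, r be distinct primes with p dividing the order of K, q dividing the order of M/K and r dividing the order of G/M. Then p, q, r are not pairwise non-adjacent in the prime graph of G: G has an element of order pq, pr or qr. -/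
theorem result {G : Type*} [Group G] [Finite G] (K M : Subgroup G) [K.Normal] [M.Normal] (hKM : K ≤ M)
    (p q r : ℕ) (hp : p.Prime) (hq : q.Prime) (hr : r.Prime) (hpq : p ≠ q) (hpr : p ≠ r) (hqr : q ≠ r)
    (hpK : p ∣ Nat.card ↥K) (hqM : q ∣ Nat.card ↥M / Nat.card ↥K) (hrG : r ∣ Nat.card G / Nat.card ↥M) :
    (∃ x : G, orderOf x = p * q) ∨ (∃ x : G, orderOf x = p * r) ∨ (∃ x : G, orderOf x = q * r) := by
  haveI : Fact p.Prime := ⟨hp⟩
  haveI : Fact q.Prime := ⟨hq⟩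
  have e1 : Nat.card M / Nat.card K = K.relIndex M := by
    rw [← card_mul_index (K.subgroupOf M), Nat.card_congr (subgroupOfEquivOfLe hKM).toEquiv,
      Nat.mul_div_cancel_left _ Nat.card_pos]; rfl
  have e2 : Nat.card G / Nat.card M = M.index := by
    rw [← card_mul_index M, Nat.mul_div_cancel_left _ Nat.card_pos]
  rw [e1] at hqM
  rw [e2] at hrG
  obtain ⟨P, hP, hP0, hPn⟩ := syl K hpK
  set N := normalizer (P : Set G) with hN
  have hq' : q ∣ Nat.card (M.subgroupOf N) := by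
    have : M = (N ⊓ M) ⊔ K := by
      refine le_antisymm (fun m hm => ?_) (sup_le inf_le_right hKM)
      have h1 : m ∈ N ⊔ K := by rw [hPn]; trivial
      obtain ⟨a, ha, b, hb, rfl⟩ := mem_sup_of_normal_right.1 h1
      exact mul_mem_sup ⟨ha, (M.mul_mem_cancel_right (hKM hb)).1 hm⟩ hb
    rw [this, relIndex_sup_right] at hqM
    rw [← inf_subgroupOf_right, Nat.card_congr (subgroupOfEquivOfLe inf_le_right).toEquiv, inf_comm]
    exact hqM.trans (relIndex_dvd_card _ _)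
  have hr' : r ∣ (M.subgroupOf N).index := by
    rw [← relIndex, ← relIndex_sup_right, top_le_iff.1 (hPn.ge.trans (sup_le_sup_left hKM N)), relIndex_top_right]
    exact hrG
  obtain ⟨Q, hQ, hQ0, hQn⟩ := syl (M.subgroupOf N) hq'
  rw [← relIndex_top_right, ← hQn, relIndex_sup_right] at hr'
  obtain ⟨x, hx, hxo⟩ := exists_mem_orderOf_prime _ hr (hr'.trans (relIndex_dvd_card _ _))
  have hP1 : P.subgroupOf N ≠ ⊥ := by
    rw [Ne, subgroupOf_eq_bot, disjoint_iff, inf_eq_left.2 le_normalizer]; exact hP0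
  have := L3 hp hq hr hpq hpr hqr (P := P.subgroupOf N)
    (hP.of_equiv (subgroupOfEquivOfLe le_normalizer).symm) hP1 hQ hQ0 hxo hx
  refine this.imp ?_ (Or.imp ?_ ?_) <;> exact fun ⟨y, hy⟩ => ⟨y.1, by rw [orderOf_coe, hy]⟩

end Cfsg.Agent.S3634
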