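import Mathlib
import Cfsg.Statements.S3643
import Cfsg.Agent.O12.S2
import Cfsg.Agent.O12.S3
-- Template for statement S3643 (row 3643; see /opt/grader/pristine/manifest.json for weights).
-- Copy to Cfsg/Agent/S3643.lean and replace the sorry. The statement below is byte-identical to the frozen
-- statement Cfsg.CfsgFrozen.S3643 (Cfsg/Statements/S3643.lean; the theorem Cfsg.recog9_groups_with_order_and_character_degree_graph_of_mathieu_twelve);
-- the grader kernel-checks Cfsg.Agent.S3643.result against that frozen type. Keep the theorem IN THIS FILE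
-- (a `result` declared elsewhere and merely imported here is not credited); helpers may live anywhere
-- under Cfsg/Agent/.
-- import your own Cfsg.Agent.* helpers here

set_option autoImplicit false
open Cfsg

namespace Cfsg.Agent.S3643

/-- Let G be a finite group of the same order as the Mathieu group M₁₂ whose character degree graph equals that of M₁₂ (same primes dividing some irreducible complex character degree, same pairs of distinct primes whose product divides some degree). Then G is isomorphic to M₁₂ or to the direct product of the alternating group of degree 4 with M₁₁. -/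
theorem result {G : Type*} [Group G] [Finite G] (hcard : Nat.card G = Nat.card ↥Cfsg.Spor.M12) (hΔ : Cfsg.degreePrimes G = Cfsg.degreePrimes ↥Cfsg.Spor.M12 ∧ Cfsg.degreeGraph G = Cfsg.degreeGraph ↥Cfsg.Spor.M12) :
    Nonempty (G ≃* ↥Cfsg.Spor.M12) ∨ Nonempty (G ≃* alternatingGroup (Fin 4) × ↥Cfsg.Spor.M11) := by
  obtain ⟨h3, h5⟩ := Cfsg.Agent.O12.degs_M12
  rw [← hΔ.2] at h3 h5
  obtain ⟨-, -, -, _, ⟨χ, rfl⟩, h3⟩ := h3
  obtain ⟨-, -, -, _, ⟨ψ, rfl⟩, h5⟩ := h5
  exact Cfsg.Agent.O12.main (hcard.trans Cfsg.Agent.Golay.card_M12) h3 h5
end Cfsg.Agent.S3643
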