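import Mathlib
import Cfsg.Statements.S3660
import Cfsg.Agent.Spc.Iso
-- import your own Cfsg.Agent.* helpers here

set_option autoImplicit false
open Cfsg

namespace Cfsg.Agent.S3660

/-- The prime graph of a finite group has the prime divisors of its order as vertices, two distinct primes p, q being joined when the group has an element of order pq; two groups have the same prime graph when they have the same prime divisors and the same joined pairs. Let F be a finite field of characteristic 2 with at least 4 elements. Then there are finite groups of arbitrarily large order with the same prime graph as PSL(2,F); in particular PSL(2,F) is not determined by its prime graph. -/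
theorem result {F : Type*} [Field F] [Fintype F] [CharP F 2] (hF : 4 ≤ Fintype.card F) (N : ℕ) :
    ∃ (H : Type) (_ : Group H) (_ : Finite H), N < Nat.card H ∧
      ((∀ p : ℕ, p.Prime → (p ∣ Nat.card (Matrix.ProjectiveSpecialLinearGroup (Fin 2) F) ↔ p ∣ Nat.card H)) ∧
      (∀ p q : ℕ, p.Prime → q.Prime → p ≠ q → ((∃ g : (Matrix.ProjectiveSpecialLinearGroup (Fin 2) F), orderOf g = p * q) ↔ (∃ g : H, orderOf g = p * q)))) := by
  have hδ : Nat.gcd 2 (Fintype.card F - 1) = 1 := by
    rcases Spc.gcd_two_cases (F := F) with h | h
    exacts [h.2.1, (h.1 CharTwo.two_eq_zero).elim]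
  have hS := S2475.result (F := F) 2 hF
  rw [hδ, Nat.div_one, Nat.div_one] at hS
  refine Spc.pg_unb (Spc.unb_sl2_two hF) (fun p hp => ?_) (fun p q hp hq hpq => ?_) N <;>
    rw [Spec.spec, hS] <;> refine or_congr_left ?_
  · exact ⟨fun h => h.trans (by decide), fun h => hp.dvd_of_dvd_pow (n := 2) h⟩
  · refine ⟨fun h => h.trans (by decide), fun h => (hpq ?_).elim⟩
    rw [(Nat.prime_dvd_prime_iff_eq hp Nat.prime_two).1 (hp.dvd_of_dvd_pow (n := 2) ((dvd_mul_right _ _).trans h)),
      (Nat.prime_dvd_prime_iff_eq hq Nat.prime_two).1 (hq.dvd_of_dvd_pow (n := 2) ((dvd_mul_left _ _).trans h))]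

end Cfsg.Agent.S3660
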