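import Mathlib
import Cfsg.Statements.S3664
import Cfsg.Agent.Spc.SCSz2
import Cfsg.Agent.Spc.Iso
-- import your own Cfsg.Agent.* helpers here

set_option autoImplicit false
open Cfsg

namespace Cfsg.Agent.S3664

set_option backward.isDefEq.respectTransparency false

open Spc Spec Conj Module
open scoped _root_.Classical

theorem sq_pm {F V : Type*} [Field F] [AddCommGroup V] [Module F V] {c : F} (h : c = 1 ∨ c = -1) :
    (c • (1 : End F V)) ^ 2 = 1 := by rcases h with rfl | rfl <;> simp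

theorem neg_pw {F V : Type*} [Field F] [AddCommGroup V] [Module F V] (f : End F V) :
    (-f) ^ 52 = f ^ 52 ∧ ((-f) ^ 13 = 1 → f ^ 13 = (-1 : F) • 1) :=
  ⟨Even.neg_pow (by decide) _, fun h => by rw [Odd.neg_pow (by decide), neg_eq_iff_eq_neg] at h; simp [h]⟩

theorem pg_of {S : Set ℕ} (h1 : ∀ p, p.Prime → p ∈ S → p ∈ [2, 3, 5, 7, 13]) (h2 : ∀ m n, m ∣ n → n ∈ S → m ∈ S)
    (h3 : ∀ n ∈ [21, 26, 35, 39, 65, 91], n ∉ S) (h4 : ∀ n, n ∣ 14 ∨ n ∣ 30 ∨ n ∣ 13 → n ∈ S) :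
    (∀ p, p.Prime → (p ∈ S ↔ p ∈ [2, 3, 5, 7, 13])) ∧
      ∀ p q, p.Prime → q.Prime → p ≠ q → (p * q ∈ S ↔ p * q ∣ 14 ∨ p * q ∣ 30 ∨ p * q ∣ 13) :=
  ⟨fun p hp => ⟨h1 p hp, fun h => h4 _ ((by decide : ∀ n ∈ [2, 3, 5, 7, 13], n ∣ 14 ∨ n ∣ 30 ∨ n ∣ 13) p h)⟩,
    fun p q hp hq hpq => ⟨fun h => ((by decide : ∀ p ∈ [2, 3, 5, 7, 13], ∀ q ∈ [2, 3, 5, 7, 13], p ≠ q →
      (p * q ∣ 14 ∨ p * q ∣ 30 ∨ p * q ∣ 13) ∨ p * q ∈ [21, 26, 35, 39, 65, 91]) p
        (h1 p hp (h2 _ _ (dvd_mul_right _ _) h)) q (h1 q hq (h2 _ _ (dvd_mul_left _ _) h)) hpq).resolve_right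
          fun h' => h3 _ h' h, h4 _⟩⟩

variable {F : Type*} [Field F] [Fintype F] (hF : Fintype.card F = 3)
include hF

theorem ne_zero {N : ℕ} (h : ¬ 3 ∣ N) : (N : F) ≠ 0 :=
  haveI : CharP F 3 := charP_of_card_eq_prime hF
  mt (CharP.cast_eq_zero_iff F 3 N).1 h

theorem no26 : 26 ∉ spec (Cfsg.PSp 3 F) := by
  rintro ⟨x, hx⟩
  obtain ⟨f, h1, h2⟩ := exists_lift_psp x
  rw [hx] at h2
  let L := AlgebraicClosure F
  obtain ⟨c, hc⟩ := (h2 26).2 dvd_rfl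
  have h3 : f ^ 52 = 1 := by
    rw [show 52 = 26 * 2 from rfl, pow_mul, hc, sq_pm (h1.sq_eq_one hc)]
  have h0 := ne_zero hF (N := 52) (by norm_num)
  obtain ⟨z, hz, h4⟩ := exists_ev_pow_ne L h0 h3 (m := 4) fun h => absurd ((h2 4).1 (ps_of_pow_eq_one h)) (by norm_num)
  have h5 := pow_eq_one_of_mem_ev L h3 hz
  have z0 : z ≠ 0 := by rintro rfl; simp at h5
  have h6 : ∀ k, z ^ k = 1 → ¬ Nat.gcd k 52 ∣ 4 := fun k hk h =>
    h4 (pow_eq_one_of_dvd (pow_gcd_eq_one.2 ⟨hk, h5⟩) h)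
  obtain ⟨η, η0, h7, S, h8, h9⟩ := orb2_gen (inj_frob L F) (ev_frob' L f) (h1.ev_inv L) hz
    fun h => h6 2 (sq_of_inv_eq z0 h) (by norm_num)
  have hS : ∀ w ∈ S, w ∈ ev L f := fun w hw => by
    rw [← Multiset.one_le_count_iff_mem, (h9 w hw).1]; exact Multiset.one_le_count_iff_mem.2 hz
  have h10 := mul_card_le (c := 1) fun w hw => Multiset.one_le_count_iff_mem.2 (hS w hw)
  have hd : (ev L f).card = 6 := by rw [card_ev, finrank_sum]
  have h11 := (h7 η).2 dvd_rfl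
  rw [iterate_zpow, hF, ← Nat.cast_pow, zpow_natCast] at h11
  have h12 : z ^ (3 ^ η - 1) = 1 ∨ z ^ (3 ^ η + 1) = 1 := h11.imp
    (fun h => by rw [pow_sub₀ _ z0 (Nat.one_le_pow _ _ (by norm_num)), h, pow_one, mul_inv_cancel₀ z0])
    fun h => by rw [pow_succ, h, inv_mul_cancel₀ z0]
  obtain rfl | rfl | rfl : η = 1 ∨ η = 2 ∨ η = 3 := by omega
  · exact h12.elim (fun h => h6 _ h (by norm_num)) fun h => h6 _ h (by norm_num)
  · exact h12.elim (fun h => h6 _ h (by norm_num)) fun h => h6 _ h (by norm_num)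
  have h13 : z ^ 26 = 1 := h12.resolve_right fun h => h6 _ h (by norm_num)
  have h14 : ∀ w ∈ ev L f, w ∈ S := by rw [(count_le_of_card hS (by omega)).1]; exact fun _ h => h
  refine absurd ((h2 13).1 ?_) (by norm_num)
  by_cases h15 : z ^ 13 = 1
  · exact ps_of_pow_eq_one ((ss_pow_eq_one_iff L h0 h3 _).2 fun w hw => ((h9 w (h14 w hw)).2.1 _).2 h15)
  · have : (-f) ^ 13 = 1 := (ss_pow_eq_one_iff L h0 ((neg_pw f).1.trans h3) _).2 fun w hw => by
      rw [ev_neg] at hw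
      obtain ⟨w, hw', rfl⟩ := Multiset.mem_map.1 hw
      replace hw := hw'
      have h16 := ((h9 w (h14 w hw)).2.1 _).2 h13
      rw [show 26 = 13 * 2 from rfl, pow_mul, sq_eq_one_iff] at h16
      rw [Odd.neg_pow (by decide), h16.resolve_left (mt ((h9 w (h14 w hw)).2.1 _).1 h15), neg_neg]
    exact ⟨-1, (neg_pw f).2 this⟩

theorem o5 : 4 = orderOf (Fintype.card F : ZMod 5) := by
  rw [hF]; exact ((orderOf_eq_iff (by norm_num)).2 (by decide)).symm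

theorem o7 : 6 = orderOf (Fintype.card F : ZMod 7) := by
  rw [hF]; exact ((orderOf_eq_iff (by norm_num)).2 (by decide)).symm

theorem o13 : 3 = orderOf (Fintype.card F : ZMod 13) := by
  rw [hF]; exact ((orderOf_eq_iff (by norm_num)).2 (by decide)).symm

theorem nonadj : ∀ n ∈ [21, 26, 35, 39, 65, 91], n ∉ spec (Cfsg.PSp 3 F) := by
  haveI : CharP F 3 := charP_of_card_eq_prime hF
  have p7 : Nat.Prime 7 := by norm_num
  have p13 : Nat.Prime 13 := by norm_num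
  have e5 : (Odd 4 ∧ 2 = 4) ∨ (Even 4 ∧ 2 * 2 = 4) := by decide
  have e7 : (Odd 6 ∧ 3 = 6) ∨ (Even 6 ∧ 2 * 3 = 6) := by decide
  have e13 : (Odd 3 ∧ 3 = 3) ∨ (Even 3 ∧ 2 * 3 = 3) := by decide
  simp only [List.forall_mem_cons]
  refine ⟨?_, no26 hF, ?_, ?_, ?_, ?_, by simp⟩ <;> rw [spec_psp_iff (by decide)]
  · exact mt (sp_char_prime 3 p7 (by norm_num) (by norm_num) (o7 hF) e7).1 (by norm_num)
  · refine mt (sp_two_primes Nat.prime_five p7 (by norm_num) (by norm_num) (by norm_num) (ne_zero hF (by norm_num))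
      (ne_zero hF (by norm_num)) (o5 hF) (o7 hF) e5 e7 (by norm_num)).1 ?_
    rintro (h | ⟨-, t, -, h⟩) <;> omega
  · exact mt (sp_char_prime 3 p13 (by norm_num) (by norm_num) (o13 hF) e13).1 (by norm_num)
  · refine mt (sp_two_primes Nat.prime_five p13 (by norm_num) (by norm_num) (by norm_num) (ne_zero hF (by norm_num))
      (ne_zero hF (by norm_num)) (o5 hF) (o13 hF) e5 e13 (by norm_num)).1 ?_
    rintro (h | ⟨-, t, -, h⟩) <;> omega
  · refine mt (sp_two_primes p13 p7 (by norm_num) (by norm_num) (by norm_num) (ne_zero hF (by norm_num))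
      (ne_zero hF (by norm_num)) (o13 hF) (o7 hF) e13 e7 (by norm_num)).1 ?_
    rintro (h | ⟨-, t, ⟨k, h'⟩, h⟩) <;> omega

theorem primes (r : ℕ) (hr : r.Prime) (h : r ∈ spec (Cfsg.PSp 3 F)) : r ∈ [2, 3, 5, 7, 13] := by
  by_cases h2 : r = 2
  · simp [h2]
  by_cases h3 : r = 3
  · simp [h3]
  haveI := Fact.mk hr
  have r0 := ne_zero hF (mt (Nat.prime_dvd_prime_iff_eq Nat.prime_three hr).1 (Ne.symm h3))
  obtain ⟨η, hη⟩ := exists_eta (orderOf (Fintype.card F : ZMod r))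
  have hQ := card_ne_zero_of_ne hr r0
  have h4 := (sp_prime hr h2 r0 rfl hη).1 ((spec_psp_iff (hr.odd_of_ne_two h2)).1 h)
  have h5 := eta_pos hr hQ rfl hη
  have h6 : ((3 ^ (η * 2) : ℕ) : ZMod r) = (1 : ℕ) := by
    rw [← hF, Nat.cast_pow, pow_mul]
    rcases (eta_spec hQ rfl hη η).2 dvd_rfl with h | h <;> simp [h]
  have h7 := (Nat.modEq_iff_dvd' (Nat.one_le_pow _ _ (by norm_num))).1 ((ZMod.natCast_eq_natCast_iff _ _ _).1 h6).symm
  have h8 : r ∣ 2 ^ 4 * (5 * (7 * 13)) := h7.trans (by interval_cases η <;> norm_num)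
  simp only [hr.dvd_mul, Nat.prime_dvd_prime_iff_eq hr Nat.prime_five, Nat.prime_dvd_prime_iff_eq hr (by norm_num : Nat.Prime 7),
    Nat.prime_dvd_prime_iff_eq hr (by norm_num : Nat.Prime 13)] at h8
  rcases h8 with h | h | h | h
  · exact (h2 ((Nat.prime_dvd_prime_iff_eq hr Nat.prime_two).1 (hr.dvd_of_dvd_pow h))).elim
  all_goals simp [h]

theorem half {N : ℕ} (h0 : ¬ 3 ∣ N * 2) (h : (3 : ZMod (N * 2)) ^ 3 = 1 ∨ (3 : ZMod (N * 2)) ^ 3 = -1) :
    N ∈ spec (Cfsg.PSp 3 F) := by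
  obtain ⟨s, s1, hs⟩ := exists_isSp_prim (ne_zero hF h0) (d := 3) (by norm_num) (by rw [hF]; exact h)
  refine s1.mem_spec_psp (by simp) ?_
  rintro m ⟨c, hm⟩
  refine Nat.dvd_of_mul_dvd_mul_right two_pos ((hs _).1 ?_)
  rw [pow_mul, hm, sq_pm (s1.sq_eq_one hm)]

theorem has30 : 30 ∈ spec (Cfsg.PSp 3 F) := by
  haveI : CharP F 3 := charP_of_card_eq_prime hF
  obtain ⟨s, s1, hs⟩ := exists_isSp_prim (ne_zero hF (N := 10) (by norm_num)) two_pos (by rw [hF]; decide)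
  obtain ⟨u, u1, u2, hu⟩ := exists_tv F 3
  refine (s1.prodMap u1).mem_spec_psp (by simp) ?_
  rintro m ⟨c, hm⟩
  obtain ⟨h1, h2⟩ := prodMap_pow_smul.1 hm
  obtain ⟨h3, h4⟩ := smul_unip_pow u2 one_ne_zero (by rwa [one_smul])
  rw [← h3, one_pow, one_smul, hs] at h1
  exact Nat.Coprime.mul_dvd_of_dvd_of_dvd (show Nat.Coprime 10 3 by norm_num) h1 ((hu m).1 h4)

omit hF in
theorem aux {S : Set ℕ} (h : ∀ n ∈ S, n ∣ 24 ∨ n ∣ 14 ∨ n ∣ 30 ∨ n ∣ 13) (p : ℕ) (hp : p.Prime) (h1 : p ∈ S) :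
    p ∈ [2, 3, 5, 7, 13] := by
  have : p ≤ 30 := by rcases h p h1 with h | h | h | h <;> exact (Nat.le_of_dvd (by norm_num) h).trans (by norm_num)
  exact (by decide +kernel : ∀ p ≤ 30, p.Prime → p ∣ 24 ∨ p ∣ 14 ∨ p ∣ 30 ∨ p ∣ 13 → p ∈ [2, 3, 5, 7, 13]) p this hp
    (h p h1)

omit hF

/-- The prime graph of a finite group has the prime divisors of its order as vertices, two distinct primes p, q being joined when the group has an element of order pq; two groups have the same prime graph when they have the same prime divisors and the same joined pairs. Let F be the field with 3 elements and L = PSp(6,F). There are finite groups of arbitrarily large order with the same prime graph as L (a prime graph shared by the orthogonal groups Ω₇(3) and PΩ⁺₈(3)). -/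
theorem result {F : Type*} [Field F] [Fintype F] (hF : Fintype.card F = 3) (N : ℕ) :
    ∃ (H : Type) (_ : Group H) (_ : Finite H), N < Nat.card H ∧
      ((∀ p : ℕ, p.Prime → (p ∣ Nat.card (Cfsg.PSp 3 F) ↔ p ∣ Nat.card H)) ∧
      (∀ p q : ℕ, p.Prime → q.Prime → p ≠ q → ((∃ g : (Cfsg.PSp 3 F), orderOf g = p * q) ↔ (∃ g : H, orderOf g = p * q)))) := by
  obtain ⟨S, h1, h2, h3⟩ := Spc.SC.Sz.main
  obtain ⟨H, _, _, -, rfl⟩ := h1 0
  have a := pg_of (aux h2) (fun _ _ h h' => Spec.mem_of_dvd h' h) (fun n hn h => by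
    have := h2 n h
    revert n
    exact fun n hn _ => (by decide : ∀ n ∈ [21, 26, 35, 39, 65, 91], ¬ (n ∣ 24 ∨ n ∣ 14 ∨ n ∣ 30 ∨ n ∣ 13)) n hn) h3
  have b := pg_of (primes hF) (fun _ _ h h' => Spec.mem_of_dvd h' h) (nonadj hF) (by
    rintro n (h | h | h)
    exacts [Spec.mem_of_dvd (half hF (by norm_num) (by decide)) h, Spec.mem_of_dvd (has30 hF) h,
      Spec.mem_of_dvd (half hF (by norm_num) (by decide)) h])
  exact Spc.pg_unb h1 (fun p hp => (b.1 p hp).trans (a.1 p hp).symm)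
    (fun p q hp hq h => (b.2 p q hp hq h).trans (a.2 p q hp hq h).symm) N

end Cfsg.Agent.S3664
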