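import Mathlib
import Cfsg.Statements.S3669
import Cfsg.Agent.S3378
import Cfsg.Agent.S4493
import Cfsg.Agent.S0494
import Cfsg.Agent.S0157
import Cfsg.Agent.Core.Hall
import Cfsg.Agent.Perm.Small
import Cfsg.Agent.Perm.Multi
import Cfsg.Agent.Perm.Bin

set_option autoImplicit false
open Cfsg

namespace Cfsg.Agent.S3669

open Subgroup MulAction Cfsg.Agent.Perm

theorem five_mem {G : Type*} [Group G] [Finite G] [IsSimpleGroup G] (h : Nat.card G = 60) :
    5 ∈ Cfsg.degreePrimes G := by
  haveI : Fact (Nat.Prime 5) := ⟨by norm_num⟩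
  have hab : ¬ IsMulCommutative G := not_comm_of_not_prime (by rw [h]; norm_num)
  have h1 := card_sylow_ne_one (p := 5) hab (by rw [h]; norm_num)
  have h2 := card_sylow_dvd (G := G) (p := 5) (a := 1) (m := 12) (by rw [h]; norm_num) (by norm_num)
  have h3 := card_sylow_modEq_one 5 G
  have h6 : Nat.card (Sylow 5 G) = 6 := by
    have := Nat.le_of_dvd (by norm_num) h2
    generalize Nat.card (Sylow 5 G) = m at *
    interval_cases m <;> simp_all [Nat.ModEq]
  have hc : ∀ P : Sylow 5 G, Nat.card P = 5 := fun P =>
    sylow_card_eq P (a := 1) (m := 12) (by rw [h]; norm_num) (by norm_num)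
  have horb : ∀ P Q R : Sylow 5 G, Q ≠ P → R ≠ P → ∃ g ∈ P, g • Q = R := by
    intro P Q R hQ hR
    have e1 : (orbit (P : Subgroup G) Q).ncard = 5 := by
      rw [← index_stabilizer, stabilizer_sylow]
      have : (Q : Subgroup G).subgroupOf P = ⊥ := by
        rw [subgroupOf_eq_bot, disjoint_def]
        intro x hx hx'
        by_contra hx1
        exact hQ (Sylow.ext (eq_of_mem_of_card_prime (hc Q) (hc P) hx hx' hx1))
      rw [this, index_bot, hc P]
    have e2 : orbit (P : Subgroup G) Q ⊆ {P}ᶜ := by
      rintro _ ⟨g, rfl⟩ e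
      apply hQ
      have e' : (g : G) • Q = P := e
      rw [← inv_smul_smul (g : G) Q, e']
      exact Sylow.smul_eq_iff_mem_normalizer.2 (le_normalizer (inv_mem g.2))
    have e3 : ({P}ᶜ : Set (Sylow 5 G)).ncard = 5 := by
      have := Set.ncard_add_ncard_compl ({P} : Set (Sylow 5 G))
      rw [Set.ncard_singleton, h6] at this
      omega
    have e4 := Set.eq_of_subset_of_ncard_le e2 (by omega)
    obtain ⟨g, hg⟩ : R ∈ orbit (P : Subgroup G) Q := by rw [e4]; exact hR
    exact ⟨g, g.2, hg⟩
  have h2t : IsMultiplyPretransitive G (Sylow 5 G) 2 := by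
    rw [is_two_pretransitive_iff]
    intro a b c d hab hcd
    obtain ⟨g, hg⟩ := exists_smul_eq G a c
    obtain ⟨k, hk, hk'⟩ := horb c (g • b) d (fun e => hab (smul_left_cancel g (hg.trans e.symm))) hcd.symm
    refine ⟨k * g, ?_, by rw [mul_smul, hk']⟩
    rw [mul_smul, hg]
    exact Sylow.smul_eq_iff_mem_normalizer.2 (le_normalizer hk)
  have hirr := (Cfsg.Agent.S0157.result (G := G) (Sylow 5 G) (by omega)).2 h2t
  refine ⟨by norm_num, 5, ⟨⟨_, hirr⟩, ?_⟩, dvd_rfl⟩
  simp only [charDegree, fixedBy_one_eq_univ, Nat.card_coe_set_eq, Set.ncard_univ, h6]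
  norm_num


/-- The character degree graph of a finite group has as vertices the primes dividing some irreducible complex character degree, two distinct primes being joined when their product divides some irreducible character degree; two groups have the same character degree graph when they have the same vertices and the same joined pairs. A finite group of order 60 with the same character degree graph as the alternating group A₅ (whose character degrees are 1, 3, 4, 5, so the graph has vertices 2, 3, 5 and no edges) is isomorphic to A₅. -/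
theorem result {G : Type*} [Group G] [Finite G] (hcard : Nat.card G = 60)
    (hΓ : Cfsg.degreePrimes G = Cfsg.degreePrimes (alternatingGroup (Fin 5)) ∧ Cfsg.degreeGraph G = Cfsg.degreeGraph (alternatingGroup (Fin 5))) : Nonempty (G ≃* alternatingGroup (Fin 5)) := by
  haveI : Fact (Nat.Prime 5) := ⟨by norm_num⟩
  have h5 : 5 ∈ Cfsg.degreePrimes G := by rw [hΓ.1]; exact five_mem card_a5
  obtain ⟨-, d, ⟨χ, rfl⟩, hd⟩ := h5
  have hns : ¬ Group.IsSolvable G := by
    intro hs
    refine (Cfsg.Agent.S4493.result hs 5 (by norm_num)).1 ?_ χ hd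
    obtain ⟨H, hH⟩ := Core.exists_subgroup_card_of_coprime (G := G) 15 4 (by rw [hcard]) (by norm_num)
    obtain ⟨Q⟩ := (inferInstance : Nonempty (Sylow 5 H))
    have hQ : Nat.card Q = 5 := sylow_card_eq Q (a := 1) (m := 3) (by rw [hH]; norm_num) (by norm_num)
    have h1 : Nat.card (Sylow 5 H) = 1 := by
      have h2 := card_sylow_dvd (G := H) (p := 5) (a := 1) (m := 3) (by rw [hH]; norm_num) (by norm_num)
      have h3 := card_sylow_modEq_one 5 H
      have := Nat.le_of_dvd (by norm_num) h2
      generalize Nat.card (Sylow 5 H) = m at *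
      interval_cases m <;> simp_all [Nat.ModEq]
    haveI : Subsingleton (Sylow 5 H) := (Nat.card_eq_one_iff_unique.1 h1).1
    haveI : (Q : Subgroup H).Normal := Q.normal_of_subsingleton
    have hP : Nat.card ((Q : Subgroup H).map H.subtype) = 5 := by rw [Core.card_map_subtype]; exact hQ
    let P : Sylow 5 G := Sylow.ofCard ((Q : Subgroup H).map H.subtype) (by
      rw [hP, hcard]; decide +kernel)
    have hle : H ≤ normalizer ((P : Subgroup G) : Set G) := Core.le_normalizer_map_subtype_of_normal H _
    have h4 := card_sylow_mul P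
    have h3 := card_sylow_modEq_one 5 G
    obtain ⟨k, hk⟩ := card_dvd_of_le hle
    rw [hk, hH, hcard] at h4
    have h6 : Nat.card (Sylow 5 G) = 1 := by
      have : Nat.card (Sylow 5 G) ∣ 4 := ⟨k, by linarith⟩
      have := Nat.le_of_dvd (by norm_num) this
      generalize Nat.card (Sylow 5 G) = m at *
      interval_cases m <;> simp_all [Nat.ModEq]
    haveI : Subsingleton (Sylow 5 G) := (Nat.card_eq_one_iff_unique.1 h6).1
    haveI : IsCyclic (P : Subgroup G) := isCyclic_of_prime_card (p := 5) hP
    refine ⟨P, P.normal_of_subsingleton, fun x hx y hy => ?_, P.isPGroup', P.not_dvd_index⟩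
    exact congrArg Subtype.val (mul_comm' (⟨x, hx⟩ : (P : Subgroup G)) ⟨y, hy⟩)
  haveI : Nontrivial G := Finite.one_lt_card_iff_nontrivial.1 (by omega)
  haveI : IsSimpleGroup G := ⟨fun N hN => by
    by_contra hc
    push Not at hc
    have h1 := Cfsg.Agent.S3378.eq_bot hns (N := N) (hcard ▸ Core.card_lt_of_ne_top N hc.2)
    have h2 : N.index < Nat.card G := Core.card_quotient_lt N hc.1
    omega⟩
  exact Cfsg.Agent.S0494.result hcard

end Cfsg.Agent.S3669
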