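import Mathlib
import Cfsg.Statements.S3678
import Cfsg.Agent.Spc.Iso
-- import your own Cfsg.Agent.* helpers here

set_option autoImplicit false
open Cfsg

namespace Cfsg.Agent.S3678

/-- The prime graph of a finite group has the prime divisors of its order as vertices, two distinct primes p, q being joined when the group has an element of order pq; two groups have the same prime graph when they have the same prime divisors and the same joined pairs. Let F be the field with 7 elements. There are finite groups of arbitrarily large order with the same prime graph as PSL(2,F) (the graph on {2, 3, 7} with no edges, which is also the prime graph of PSL(2,8)). -/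
theorem result {F : Type*} [Field F] [Fintype F] (hF : Fintype.card F = 7) (N : ℕ) :
    ∃ (H : Type) (_ : Group H) (_ : Finite H), N < Nat.card H ∧
      ((∀ p : ℕ, p.Prime → (p ∣ Nat.card (Matrix.ProjectiveSpecialLinearGroup (Fin 2) F) ↔ p ∣ Nat.card H)) ∧
      (∀ p q : ℕ, p.Prime → q.Prime → p ≠ q → ((∃ g : (Matrix.ProjectiveSpecialLinearGroup (Fin 2) F), orderOf g = p * q) ↔ (∃ g : H, orderOf g = p * q)))) := by
  haveI := Fintype.ofFinite (GaloisField 2 3)
  have hc : Fintype.card (GaloisField 2 3) = 8 := by
    rw [← Nat.card_eq_fintype_card, GaloisField.card 2 3 (by omega)]; rfl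
  haveI : Fact (Nat.Prime 7) := ⟨by decide⟩
  haveI : CharP F 7 := charP_of_card_eq_prime hF
  have hS := S2475.result (F := F) 7 (by omega)
  have hU := Spc.unb_sl2_two (K := GaloisField 2 3) (by omega)
  rw [hc] at hU
  rw [hF] at hS
  have key : ∀ m, m ∣ 3 → m ∣ 9 := fun m h => h.trans (by decide)
  refine Spc.pg_unb hU (fun p hp => ?_) (fun p q hp hq hpq => ?_) N <;> rw [Spec.spec, hS] <;>
    simp only [Set.mem_setOf_eq] <;> norm_num
  · have := hp.dvd_of_dvd_pow (m := 3) (n := 2)
    have := key p
    tauto
  · have h9 : ∀ r k : ℕ, r.Prime → ¬ p * q ∣ r ^ k := fun r k hr h => hpq (by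
      rw [(Nat.prime_dvd_prime_iff_eq hp hr).1 (hp.dvd_of_dvd_pow ((dvd_mul_right _ _).trans h)),
        (Nat.prime_dvd_prime_iff_eq hq hr).1 (hq.dvd_of_dvd_pow ((dvd_mul_left _ _).trans h))])
    have := h9 3 2 (by decide)
    have := key (p * q)
    tauto

end Cfsg.Agent.S3678
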