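import Mathlib
import Cfsg.Statements.S3680
import Cfsg.Agent.Perm.Socle
import Cfsg.Agent.Perm.Regular

set_option autoImplicit false
open Cfsg

namespace Cfsg.Agent.S3680

open MulAction

/-- The socle of a finite primitive permutation group. Let a finite group G act faithfully and primitively on a set Ω, and let N be the subgroup generated by the minimal normal subgroups of G. Then either N is an elementary abelian p-group for some prime p and acts regularly on Ω (transitively with trivial point stabilizers), or N is isomorphic to a direct product of m ≥ 1 copies of a non-abelian simple group. -/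
theorem result {G Ω : Type*} [Group G] [Finite G] [MulAction G Ω] [FaithfulSMul G Ω] [Finite Ω]
    (hprim : MulAction.IsPreprimitive G Ω) (N : Subgroup G)
    (hN : N = sSup {V : Subgroup G | V.Normal ∧ V ≠ ⊥ ∧ ∀ M : Subgroup G, M.Normal → M ≤ V → M = ⊥ ∨ M = V}) :
    (∃ p : ℕ, p.Prime ∧ IsMulCommutative N ∧ (∀ x : N, x ^ p = 1) ∧
      MulAction.IsPretransitive N Ω ∧ ∀ ω : Ω, MulAction.stabilizer N ω = ⊥) ∨
    (∃ (T : Type) (_ : Group T) (m : ℕ), 1 ≤ m ∧ IsSimpleGroup T ∧ ¬ IsMulCommutative T ∧ Nonempty (N ≃* (Fin m → T))) := by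
  classical
  rcases subsingleton_or_nontrivial G with hG | hG
  · refine Or.inl ⟨2, Nat.prime_two, ⟨⟨fun _ _ => Subsingleton.elim _ _⟩⟩, fun _ => Subsingleton.elim _ _,
      ⟨fun x y => ?_⟩, fun _ => Subsingleton.elim _ _⟩
    obtain ⟨g, rfl⟩ := exists_smul_eq G x y
    exact ⟨1, by rw [Subsingleton.elim g 1]; rfl⟩
  obtain ⟨M, hMn, hM0, -, hMmin⟩ := Core.exists_minimal_normal_le (⊤ : Subgroup G) top_ne_bot
  have hMt := Perm.transitive_of_normal (α := Ω) M hM0
  obtain ⟨T, _, m, hT, hm, ⟨e⟩⟩ := Perm.minimal_normal_equiv_pi M hM0 hMmin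
  have hTM : IsMulCommutative T → IsMulCommutative M := fun h =>
    ⟨⟨fun x y => e.injective (by
      rw [map_mul, map_mul]; ext i; exact h.is_comm.comm _ _)⟩⟩
  by_cases hu : ∀ L : Subgroup G, L.Normal → L ≠ ⊥ →
      (∀ K : Subgroup G, K.Normal → K ≤ L → K = ⊥ ∨ K = L) → L = M
  · obtain rfl : N = M := by
      rw [hN]
      exact le_antisymm (sSup_le fun L hL => (hu L hL.1 hL.2.1 hL.2.2).le) (le_sSup ⟨hMn, hM0, hMmin⟩)
    by_cases hc : IsMulCommutative N
    · obtain ⟨p, hp, h⟩ := Perm.exists_prime_pow_eq_one_of_minimal_normal N hM0 hMmin hc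
      exact Or.inl ⟨p, hp, hc, fun x => Subtype.ext (h x.1 x.2), hMt,
        Perm.regular_of_commute hMt fun x hx y hy => Core.comm_of_isMulCommutative hc hx hy⟩
    · exact Or.inr ⟨T, inferInstance, m, hm, hT, fun h => hc (hTM h), ⟨e⟩⟩
  push Not at hu
  obtain ⟨L, hLn, hL0, hLmin, hLM⟩ := hu
  have hLt := Perm.transitive_of_normal (α := Ω) L hL0
  obtain ⟨hinf, hcomm⟩ := Perm.commute_of_minimal_normal_ne hM0 hMmin hLmin hLM.symm
  have hle : ∀ K : Subgroup G, (∀ m ∈ M, ∀ k ∈ K, m * k = k * m) → K ≤ L := fun K hK k hk =>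
    Perm.mem_of_commute_of_transitive hLt hMt (fun l hl m hm => (hcomm m hm l hl).symm)
      fun m hm => (hK m hm k hk).symm
  have hNe : N = M ⊔ L := by
    rw [hN]
    refine le_antisymm (sSup_le fun K hK => ?_)
      (sup_le (le_sSup ⟨hMn, hM0, hMmin⟩) (le_sSup ⟨hLn, hL0, hLmin⟩))
    by_cases h : M = K
    · exact h ▸ le_sup_left
    · haveI := hK.1
      exact le_sup_of_le_right (hle K (Perm.commute_of_minimal_normal_ne hM0 hMmin hK.2.2 h).2)
  obtain ⟨e1⟩ := Perm.equiv_of_commute_of_transitive hMt hLt hcomm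
  obtain ⟨e2⟩ := Perm.nonempty_sup_equiv_prod hinf hcomm
  refine Or.inr ⟨T, inferInstance, m + m, by omega, hT, fun h => ?_, ⟨?_⟩⟩
  · exact hM0 (hinf ▸ (inf_eq_left.mpr (hle M fun x hx y hy =>
      Core.comm_of_isMulCommutative (hTM h) hx hy)).symm)
  · exact (MulEquiv.subgroupCongr hNe).trans (e2.trans ((e.prodCongr (e1.symm.trans e)).trans
      (Perm.nonempty_prod_pi_equiv T m m).some))

end Cfsg.Agent.S3680
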