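import Mathlib
import Cfsg.Statements.S3684
import Cfsg.Agent.Perm.Prim
import Cfsg.Agent.Classical.DihRecog

set_option autoImplicit false
open Cfsg

namespace Cfsg.Agent.S3684

open MulAction

/-- Let a finite group G act faithfully and primitively on a set Ω, and suppose the stabilizer of a point a has an orbit of length 2. Then the stabilizer of a has order 2 and G is isomorphic to the dihedral group of order 2p for some prime p. -/
theorem result {G Ω : Type*} [Group G] [Finite G] [MulAction G Ω] [FaithfulSMul G Ω] [Finite Ω]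
    (hprim : MulAction.IsPreprimitive G Ω) (a b : Ω) (h2 : Nat.card (MulAction.orbit (MulAction.stabilizer G a) b) = 2) :
    Nat.card (MulAction.stabilizer G a) = 2 ∧ ∃ p : ℕ, p.Prime ∧ Nonempty (G ≃* DihedralGroup p) := by
  have hab : a ≠ b := by
    rintro rfl
    have : orbit (stabilizer G a) a = {a} := by
      ext x; exact ⟨fun ⟨g, hg⟩ => hg.symm.trans g.2, fun h => by rw [h]; exact mem_orbit_self a⟩
    simp [this] at h2
  haveI : Nontrivial Ω := ⟨a, b, hab⟩
  have hco := IsPreprimitive.isCoatom_stabilizer_of_isPreprimitive G a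
  have h3 := Perm.card_orbit_mul_card_stabilizer (G := stabilizer G a) b
  rw [h2] at h3
  set K := stabilizer G a ⊓ stabilizer G b with hK
  have e1 : Nat.card K = Nat.card (stabilizer (stabilizer G a) b) :=
    Nat.card_congr ⟨fun x => ⟨⟨x.1, x.2.1⟩, x.2.2⟩, fun x => ⟨x.1.1, x.1.2, x.2⟩, fun _ => rfl, fun _ => rfl⟩
  have hidx : ∀ c : Ω, K ≤ stabilizer G c → stabilizer G c ≤ Subgroup.normalizer (K : Set G) := by
    intro c hc
    rw [← Subgroup.normal_subgroupOf_iff_le_normalizer hc]
    apply Subgroup.normal_of_index_eq_two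
    have := (K.subgroupOf (stabilizer G c)).index_mul_card
    rw [Nat.card_congr (Subgroup.subgroupOfEquivOfLe hc).toEquiv, Perm.card_stabilizer_eq c a, ← h3,
      e1] at this
    exact Nat.eq_of_mul_eq_mul_right Nat.card_pos this
  have hne : ¬ stabilizer G b ≤ stabilizer G a := fun h => by
    have := Perm.stabilizer_eq_of_le h
    have e : orbit (stabilizer G a) b = {b} := by
      ext x
      exact ⟨fun ⟨g, hg⟩ => hg.symm.trans (show g.1 ∈ stabilizer G b by rw [this]; exact g.2),
        fun h => by rw [h]; exact mem_orbit_self b⟩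
    simp [e] at h2
  have hgen : ∀ L : Subgroup G, stabilizer G a ≤ L → stabilizer G b ≤ L → L = ⊤ := fun L h1 h2 =>
    (hco.le_iff.mp h1).resolve_right fun e => hne (e ▸ h2)
  have hKn : K.Normal := Subgroup.normalizer_eq_top_iff.mp
    (hgen _ (hidx a inf_le_left) (hidx b inf_le_right))
  have hK1 : K = ⊥ := by
    rw [eq_bot_iff]
    intro k hk
    refine Perm.eq_one_of_forall_smul (α := Ω) fun x => ?_
    obtain ⟨g, rfl⟩ := exists_smul_eq G a x
    exact Perm.mem_stabilizer_smul_iff.mpr (by simpa using (hKn.conj_mem k hk g⁻¹).1)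
  rw [← e1, hK1, Subgroup.card_bot] at h3
  refine ⟨h3.symm, ?_⟩
  have hinv : ∀ c : Ω, ∃ x : G, x ≠ 1 ∧ x * x = 1 ∧ ∀ g, g ∈ stabilizer G c ↔ g = 1 ∨ g = x := by
    intro c
    have hc : Nat.card (stabilizer G c) = 2 := by rw [Perm.card_stabilizer_eq c a, ← h3]
    obtain ⟨x, hx, hu⟩ := (Nat.card_eq_two_iff' (1 : stabilizer G c)).mp hc
    refine ⟨x, fun e => hx (Subtype.ext e), ?_, fun g => ⟨fun hg => ?_, ?_⟩⟩
    · have : x ^ 2 = 1 := hc ▸ pow_card_eq_one'
      rw [← pow_two]; exact congrArg Subtype.val this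
    · by_cases h : g = 1
      · exact Or.inl h
      · exact Or.inr (congrArg Subtype.val (hu ⟨g, hg⟩ fun e => h (congrArg Subtype.val e)))
    · rintro (rfl | rfl)
      exacts [one_mem _, x.2]
  obtain ⟨x, hx1, hx2, hx⟩ := hinv a
  obtain ⟨y, hy1, hy2, hy⟩ := hinv b
  have hxy : ¬ Commute x y := fun h => by
    have := hgen (Subgroup.centralizer {x}) (fun g hg => by
      rcases (hx g).mp hg with rfl | rfl <;> simp [Subgroup.mem_centralizer_singleton_iff])
      (fun g hg => by
        rcases (hy g).mp hg with rfl | rfl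
        · simp
        · exact Subgroup.mem_centralizer_singleton_iff.mpr h.symm)
    refine hx1 (Perm.eq_one_of_commute_transitive ((hx x).mpr (Or.inr rfl)) fun c => ?_)
    obtain ⟨u, hu⟩ := exists_smul_eq G a c
    exact ⟨u, hu, (Subgroup.mem_centralizer_singleton_iff.mp (this ▸ Subgroup.mem_top u)).symm⟩
  have hxi : x⁻¹ = x := inv_eq_of_mul_eq_one_right hx2
  have hyi : y⁻¹ = y := inv_eq_of_mul_eq_one_right hy2
  have ho : orderOf (x * y) ≠ 1 := fun h => hxy (by
    rw [orderOf_eq_one_iff, mul_eq_one_iff_eq_inv, hyi] at h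
    rw [h])
  obtain ⟨p, hp, k, hk⟩ := Nat.exists_prime_and_dvd ho
  have hk0 : k ≠ 0 := by rintro rfl; exact (orderOf_pos (x * y)).ne' hk
  have hc : orderOf ((x * y) ^ k) = p := by
    rw [orderOf_pow_of_dvd hk0 (hk ▸ Dvd.intro_left _ rfl), hk, Nat.mul_div_cancel _ (Nat.pos_of_ne_zero hk0)]
  have hnot : x ∉ Subgroup.zpowers ((x * y) ^ k) := by
    rintro ⟨n, hn⟩
    have : Commute x (x * y) := by
      nth_rewrite 1 [← hn]
      exact ((Commute.refl _).pow_left k).zpow_left n
    exact hxy (by simpa using (Commute.refl x).inv_right.mul_right this)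
  obtain ⟨e⟩ := Classical.DihRecog.closure_equiv_dihedral hc (s := x) (by
    rw [← conj_pow, ← inv_pow, mul_inv_rev, hxi, hyi, ← mul_assoc, hx2, one_mul]) hx2 hnot
  have htop : Subgroup.closure {(x * y) ^ k, x} = ⊤ := by
    refine (hco.le_iff.mp fun g hg => ?_).resolve_right fun h => ?_
    · rcases (hx g).mp hg with rfl | rfl
      · exact one_mem _
      · exact Subgroup.subset_closure (by simp)
    · rcases (hx _).mp (h ▸ Subgroup.subset_closure (by simp) : (x * y) ^ k ∈ stabilizer G a) with h | h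
      · rw [h, orderOf_one] at hc
        exact hp.one_lt.ne hc
      · exact hnot (by rw [h]; exact Subgroup.mem_zpowers _)
  exact ⟨p, hp, ⟨(Subgroup.topEquiv.symm.trans (MulEquiv.subgroupCongr htop.symm)).trans e⟩⟩

end Cfsg.Agent.S3684
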