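import Mathlib
import Cfsg.Statements.S3699
import Cfsg.Agent.CIT.F8

set_option autoImplicit false
open Cfsg

namespace Cfsg.Agent.S3699

open CIT.F


/-- Let `q = 2^(2m+1) ≥ 8` and `S = Sz(q)` the Suzuki group. If a finite group `G` has the same prime graph as `S` (same prime divisors of the order; for distinct primes `r, s` an element of order `rs` in one iff in the other), then `G/O₂(G)` is isomorphic to `S`. The known proof uses the classification of finite simple groups. -/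
theorem result {F : Type*} [Field F] [Fintype F] (m : ℕ) (hm : 1 ≤ m)
    (hF : Fintype.card F = 2 ^ (2 * m + 1)) {G : Type*} [Group G] [Finite G]
    (h : ((∀ r : ℕ, r.Prime → (r ∣ Nat.card ↥(Cfsg.Lie.Sz F (2 ^ (m + 1))) ↔ r ∣ Nat.card G)) ∧
      (∀ r s : ℕ, r.Prime → s.Prime → r ≠ s → ((∃ x : ↥(Cfsg.Lie.Sz F (2 ^ (m + 1))), orderOf x = r * s) ↔ (∃ y : G, orderOf y = r * s))))) :
    Nonempty (G ⧸ Cfsg.pCore 2 G ≃* ↥(Cfsg.Lie.Sz F (2 ^ (m + 1)))) := by
  obtain ⟨h1, h2⟩ := h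
  have e1 : 2 ^ (m + 1) ≤ 2 ^ (2 * m + 1) := Nat.pow_le_pow_right (by norm_num) (by omega)
  have e2 : 2 ∣ 2 ^ (m + 1) := dvd_pow_self 2 (by omega)
  have e3 : 2 ∣ 2 ^ (2 * m + 1) := dvd_pow_self 2 (by omega)
  have e4 := four_le_pow (n := 2 * m + 1) (by omega)
  have no2 : ∀ r : ℕ, r.Prime → r ≠ 2 → ∀ g : G, orderOf g ≠ 2 * r := fun r hr h3 g hg => by
    obtain ⟨x, hx⟩ := (h2 2 r Nat.prime_two hr h3.symm).2 ⟨g, hg⟩
    rcases order_sz hm hF x with h4 | h4 | h4 | h4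
    · rw [hx] at h4
      exact h3 ((Nat.prime_dvd_prime_iff_eq hr Nat.prime_two).1
        (Nat.dvd_of_mul_dvd_mul_left two_pos (show 2 * r ∣ 2 * 2 from h4)))
    all_goals
      have := (Dvd.intro r rfl).trans (hx ▸ h4)
      omega
  have hord := ord2_of_no no2
  obtain ⟨r, hr, hr2, hrd⟩ := exists_prime_dvd (n := 2 ^ (2 * m + 1) - 1) (by omega)
    (odd_pow_sub_one (by omega))
  have h5 := five_dvd_sz m
  have hco : ∀ s : ℕ, s ∣ 2 ^ (2 * m + 1) - 1 → s ∣ (2 ^ (2 * m + 1)) ^ 2 + 1 → s = 1 := fun s h3 h4 => by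
    have h6 : s ∣ (2 ^ (2 * m + 1)) ^ 2 - 1 := by rw [sq_sub_one_eq']; exact h3.mul_left _
    have h7 := Nat.dvd_sub h4 h6
    have h8 : 0 < (2 ^ (2 * m + 1)) ^ 2 := by positivity
    rw [show (2 ^ (2 * m + 1)) ^ 2 + 1 - ((2 ^ (2 * m + 1)) ^ 2 - 1) = 2 ^ 1 by omega] at h7
    exact odd_dvd_two_pow ((odd_pow_sub_one (by omega)).of_dvd_nat h3) h7
  have hr5 : r ≠ 5 := by
    rintro rfl
    exact absurd (hco 5 hrd h5) (by norm_num)
  have hns : ¬ Group.IsSolvable G := by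
    refine not_solv_of_three Nat.prime_two hr Nat.prime_five hr2.symm (by norm_num) hr5
      ((h1 2 Nat.prime_two).1 ?_) ((h1 r hr).1 ((dvd_sz_iff hm hF hr hr2).2 (Or.inl hrd)))
      ((h1 5 Nat.prime_five).1 ((dvd_sz_iff hm hF Nat.prime_five (by norm_num)).2 (Or.inr h5)))
      (no2 r hr hr2) (no2 5 Nat.prime_five (by norm_num)) fun g hg => ?_
    · rw [card_sz hm hF]
      exact (e3.trans (dvd_pow_self _ two_ne_zero)).mul_right _
    · obtain ⟨x, hx⟩ := (h2 r 5 hr Nat.prime_five hr5).2 ⟨g, hg⟩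
      rcases order_sz hm hF x with h4 | h4 | h4 | h4
      · exact absurd ((Dvd.intro_left r rfl).trans (hx ▸ h4)) (by norm_num)
      · exact absurd (hco 5 ((Dvd.intro_left r rfl).trans (hx ▸ h4)) h5) (by norm_num)
      · exact hr.ne_one (hco r hrd (sz_prod m ▸ ((Dvd.intro 5 rfl).trans (hx ▸ h4)).mul_right _))
      · exact hr.ne_one (hco r hrd (sz_prod m ▸ ((Dvd.intro 5 rfl).trans (hx ▸ h4)).mul_left _))
  have h3 : ¬ 3 ∣ Nat.card G := fun h3 => not_three_dvd_sz hm hF ((h1 3 Nat.prime_three).2 h3)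
  rcases struct hord hns with h4 | ⟨K, _, _, n, hn, hK, ⟨e⟩⟩ | ⟨-, h4 | h4 | h4 | h4⟩
  · exact absurd (h4.three.trans (Subgroup.card_quotient_dvd_card _)) h3
  · have key : ∀ s : ℕ, s.Prime → s ≠ 2 → (s ∣ Nat.card (Cfsg.Lie.Sz F (2 ^ (m + 1))) ↔
        s ∣ Nat.card (Cfsg.Lie.Sz K (2 ^ (n + 1)))) := fun s hs hs2 => by
      rw [h1 s hs, ← dvd_quot_iff (Core.pCore_isPGroup 2) hs hs2, Nat.card_congr e.toEquiv]
    obtain rfl : m = n := le_antisymm (sz_le hm hn hF hK fun s hs hs2 => (key s hs hs2).1)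
      (sz_le hn hm hK hF fun s hs hs2 => (key s hs hs2).2)
    exact SzM.iso ⟨K, inferInstance, inferInstance, hK, ⟨e⟩⟩ hF
  · exact absurd h4.three h3
  · exact absurd (by rw [h4.card]; norm_num) h3
  · exact absurd (by rw [h4.card]; norm_num) h3
  · exact absurd (by rw [h4.card]; norm_num) h3

end Cfsg.Agent.S3699
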