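import Mathlib
import Cfsg.Statements.S3700
import Cfsg.Agent.CIT.F8

set_option autoImplicit false
open Cfsg

namespace Cfsg.Agent.S3700

open CIT.F

theorem pow_of_primes {n p : ℕ} (h0 : n ≠ 0) (h : ∀ s : ℕ, s.Prime → s ∣ n → s = p) :
    ∃ a, n = p ^ a := ⟨_, Nat.eq_prime_pow_of_unique_prime_dvd h0 fun hs hd => h _ hs hd⟩

theorem small {r : ℕ} (hr : r.Prime) (h2 : r ≠ 2) (h : r ∣ 20160) : r ∣ 2 ^ 4 - 1 ∨ r ∣ 2 ^ 3 - 1 := by
  have h1 : r ∣ (2 * (15 * 7)) ^ 6 := h.trans (by norm_num)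
  rcases hr.dvd_mul.1 (hr.dvd_of_dvd_pow h1) with h3 | h3
  · exact absurd ((Nat.prime_dvd_prime_iff_eq hr Nat.prime_two).1 h3) h2
  · exact hr.dvd_mul.1 h3


/-- Let `F` be a finite field with `2^m` elements, `m ≥ 4`. If a finite group `G` has the same prime graph as `PSL(2, F)` (same prime divisors of the order; for distinct primes `r, s` an element of order `rs` in one iff in the other), then `G/O₂(G)` is isomorphic to `PSL(2, F)`. The known proof uses the classification of finite simple groups. -/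
theorem result {F : Type*} [Field F] [Fintype F] (m : ℕ) (hm : 4 ≤ m)
    (hF : Fintype.card F = 2 ^ m) {G : Type*} [Group G] [Finite G]
    (h : ((∀ r : ℕ, r.Prime → (r ∣ Nat.card (Matrix.ProjectiveSpecialLinearGroup (Fin 2) F) ↔ r ∣ Nat.card G)) ∧
      (∀ r s : ℕ, r.Prime → s.Prime → r ≠ s → ((∃ x : (Matrix.ProjectiveSpecialLinearGroup (Fin 2) F), orderOf x = r * s) ↔ (∃ y : G, orderOf y = r * s))))) :
    Nonempty (G ⧸ Cfsg.pCore 2 G ≃* Matrix.ProjectiveSpecialLinearGroup (Fin 2) F) := by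
  obtain ⟨h1, h2⟩ := h
  have e3 : 2 ∣ 2 ^ m := dvd_pow_self 2 (by omega)
  have e4 : 16 ≤ 2 ^ m := (Nat.pow_le_pow_right (by norm_num) hm : 2 ^ 4 ≤ 2 ^ m)
  have hm2 : 2 ≤ m := by omega
  have no2 : ∀ r : ℕ, r.Prime → r ≠ 2 → ∀ g : G, orderOf g ≠ 2 * r := fun r hr h3 g hg => by
    obtain ⟨x, hx⟩ := (h2 2 r Nat.prime_two hr h3.symm).2 ⟨g, hg⟩
    rcases order_even hm2 hF x with h4 | h4 | h4
    · rw [hx] at h4
      have := Nat.le_of_dvd two_pos h4
      have := hr.two_le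
      omega
    all_goals
      have := (Dvd.intro r rfl).trans (hx ▸ h4)
      omega
  have hord := ord2_of_no no2
  have ho1 : Odd (2 ^ m - 1) := odd_pow_sub_one (by omega)
  have ho2 : Odd (2 ^ m + 1) := by rw [Nat.odd_iff]; omega
  have hco : ∀ s : ℕ, s ∣ 2 ^ m - 1 → s ∣ 2 ^ m + 1 → s = 1 := fun s h3 h4 => by
    have h7 := Nat.dvd_sub h4 h3
    rw [show 2 ^ m + 1 - (2 ^ m - 1) = 2 ^ 1 by omega] at h7
    exact odd_dvd_two_pow (ho1.of_dvd_nat h3) h7
  have hdiv : ∀ s : ℕ, s.Prime → s ≠ 2 → (s ∣ Nat.card G ↔ s ∣ 2 ^ m - 1 ∨ s ∣ 2 ^ m + 1) :=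
    fun s hs hs2 => by
      rw [← h1 s hs, dvd_l2e_iff (by omega) hF hs hs2, ← sq_sub_one_eq, sq_sub_one_eq', hs.dvd_mul,
        or_comm]
  have hns : ¬ Group.IsSolvable G := by
    obtain ⟨r, hr, hr2, hrd⟩ := exists_prime_dvd (n := 2 ^ m - 1) (by omega) ho1
    obtain ⟨s, hs, hs2, hsd⟩ := exists_prime_dvd (n := 2 ^ m + 1) (by omega) ho2
    have hrs : r ≠ s := by
      rintro rfl
      exact hr.ne_one (hco r hrd hsd)
    refine not_solv_of_three Nat.prime_two hr hs hr2.symm hs2.symm hrs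
      ((h1 2 Nat.prime_two).1 ?_) ((hdiv r hr hr2).2 (Or.inl hrd)) ((hdiv s hs hs2).2 (Or.inr hsd))
      (no2 r hr hr2) (no2 s hs hs2) fun g hg => ?_
    · rw [card_psl2_even (by omega) hF]
      exact e3.mul_right _
    · obtain ⟨x, hx⟩ := (h2 r s hr hs hrs).2 ⟨g, hg⟩
      rcases order_even hm2 hF x with h4 | h4 | h4
      · exact hr2 ((Nat.prime_dvd_prime_iff_eq hr Nat.prime_two).1 ((Dvd.intro s rfl).trans (hx ▸ h4)))
      · exact hs.ne_one (hco s ((Dvd.intro_left r rfl).trans (hx ▸ h4)) hsd)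
      · exact hr.ne_one (hco r hrd ((Dvd.intro s rfl).trans (hx ▸ h4)))
  obtain ⟨r, hr, hr2, hrd, hrp⟩ := exists_prim (a := 2 * m) (by omega) (by omega)
  have hrG : r ∣ Nat.card G := (h1 r hr).1 ((dvd_l2e_iff (by omega) hF hr hr2).2 hrd)
  have hsm : ¬ Nat.card G ∣ 20160 := fun h3 => by
    rcases small hr hr2 (hrG.trans h3) with h4 | h4
    · exact hrp _ (by omega) (by omega) h4
    · exact hrp _ (by omega) (by omega) h4
  have h3 : 3 ∣ Nat.card G := (hdiv 3 Nat.prime_three (by norm_num)).2 (three_dvd_pow m)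
  rcases struct hord hns with ⟨K, _, _, n, hn, hK, ⟨e⟩⟩ | ⟨K, _, _, n, hn, hK, ⟨e⟩⟩ |
    ⟨-, ⟨K, _, _, hp, hp3, ⟨k, hk⟩, ⟨e⟩⟩ | h4 | h4 | h4⟩
  · have key : ∀ s : ℕ, s.Prime → s ≠ 2 → (s ∣ 2 ^ (2 * m) - 1 ↔ s ∣ 2 ^ (2 * n) - 1) :=
      fun s hs hs2 => by
        rw [← dvd_l2e_iff (by omega) hF hs hs2, h1 s hs, ← dvd_quot_iff (Core.pCore_isPGroup 2) hs hs2,
          Nat.card_congr e.toEquiv, dvd_l2e_iff (by omega) hK hs hs2]
    have h4 : m ≤ n := by
      by_contra h4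
      exact hrp _ (by omega) (by omega) ((key r hr hr2).1 hrd)
    have h5 : n ≤ m := by
      obtain ⟨s, hs, hs2, hsd, hsp⟩ := exists_prim (a := 2 * n) (by omega) (by omega)
      by_contra h5
      exact hsp _ (by omega) (by omega) ((key s hs hs2).2 hsd)
    obtain rfl : m = n := le_antisymm h4 h5
    exact L2.iso ⟨K, inferInstance, inferInstance, hK, ⟨e⟩⟩ hF
  · refine absurd ?_ (not_three_dvd_sz hn hK)
    rwa [← Nat.card_congr e.toEquiv, dvd_quot_iff (Core.pCore_isPGroup 2) Nat.prime_three (by norm_num)]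
  · exfalso
    obtain ⟨c, hc⟩ := hp.odd_of_ne_two (by omega)
    have hcard : Nat.card G = (2 * c + 1) * (2 * c * (c + 1)) := by
      rw [Nat.card_congr e.toEquiv, card_psl2_odd hc]
    have hch : ringChar K = 2 * c + 1 := hc ▸ ringChar_of_card (k := 1) hp (by rw [pow_one])
    rw [hc] at hp hp3 hk
    have hpo : Odd (2 * c + 1) := ⟨c, rfl⟩
    have iso : ∀ N : ℕ, (N = 2 ^ m - 1 ∨ N = 2 ^ m + 1) → 2 * c + 1 ∣ N → ∃ a, a ≠ 0 ∧ N = (2 * c + 1) ^ a :=
      fun N hN hd => by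
        obtain ⟨a, ha⟩ := pow_of_primes (n := N) (p := 2 * c + 1) (by omega) fun s hs hsd => by
          by_contra hne
          obtain ⟨x, hx⟩ := exists_order_even hm2 hF (m := s * (2 * c + 1)) (Or.inr (by
            have := ((Nat.coprime_primes hs hp).2 hne).mul_dvd_of_dvd_of_dvd hsd hd
            rcases hN with rfl | rfl
            · exact Or.inl this
            · exact Or.inr this))
          obtain ⟨y, hy⟩ := (h2 s _ hs hp hne).1 ⟨x, hx⟩
          have h5 := order_odd (by omega) hc (e y)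
          rw [e.orderOf_eq, hy, hch] at h5
          have h6 : 2 * (2 * c + 1) ≤ s * (2 * c + 1) := Nat.mul_le_mul_right _ hs.two_le
          rcases h5 with h5 | h5 | h5 <;> have := Nat.le_of_dvd (by omega) h5 <;> omega
        refine ⟨a, ?_, ha⟩
        rintro rfl
        rw [pow_zero] at ha
        omega
    have other : ∀ N : ℕ, N ≠ 0 → Odd N → (∀ s : ℕ, s.Prime → s ∣ N → s ∣ Nat.card G) →
        (∀ s : ℕ, s ∣ N → s ∣ 2 * c + 1 → s = 1) → (∀ s : ℕ, s ∣ N → Odd s → s ∣ c ∨ s ∣ c + 1 → s ∣ 3) →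
        ∃ b, N = 3 ^ b := fun N h0 ho h5 h6 h7 => pow_of_primes h0 fun s hs hsd => by
      have h8 := h5 s hs hsd
      have hso := ho.of_dvd_nat hsd
      rw [hcard, hs.dvd_mul, hs.dvd_mul, hs.dvd_mul] at h8
      refine (Nat.prime_dvd_prime_iff_eq hs Nat.prime_three).1 (h7 s hsd hso ?_)
      rcases h8 with h8 | (h8 | h8) | h8
      · exact absurd (h6 s hsd h8) hs.ne_one
      · exact absurd (odd_dvd_two_pow (k := 1) hso h8) hs.ne_one
      · exact Or.inl h8
      · exact Or.inr h8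
    obtain ⟨m', rfl⟩ : ∃ m', m = m' + 1 := ⟨m - 1, by omega⟩
    rcases (hdiv _ hp (by omega)).1 (hcard ▸ Dvd.intro _ rfl) with h5 | h5
    · obtain ⟨a, ha, h6⟩ := iso _ (Or.inl rfl) h5
      obtain rfl := pow_add_one_two (k := m' + 1) hpo (by omega) ha (by omega)
      rw [pow_one] at h6
      obtain ⟨b, hb⟩ := other (2 ^ (m' + 1) + 1) (by omega) ho2
        (fun s hs hsd => (hdiv s hs (by rintro rfl; exact ho2.not_two_dvd_nat hsd)).2 (Or.inr hsd))
        (fun s h7 h8 => hco s (h6 ▸ h8) h7) fun s h7 h8 h9 => by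
          rcases h9 with h9 | h9
          · have := Nat.dvd_sub h7 (h9.mul_left 2)
            rwa [show 2 ^ (m' + 1) + 1 - 2 * c = 3 by omega] at this
          · rw [show c + 1 = 2 ^ m' by rw [pow_succ] at h6; omega] at h9
            rw [odd_dvd_two_pow h8 h9]
            exact one_dvd _
      have hb0 : b ≠ 0 := by
        rintro rfl
        rw [pow_zero] at hb
        omega
      rcases pow_sub_one_two (p := 3) (by decide) (by norm_num) hb0 hb.symm with h7 | h7
      · subst h7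
        omega
      · omega
    · obtain ⟨a, ha, h6⟩ := iso _ (Or.inr rfl) h5
      rcases pow_sub_one_two hpo (by omega) ha h6.symm with h7 | h7
      swap
      · omega
      subst h7
      rw [pow_one] at h6
      obtain ⟨b, hb⟩ := other (2 ^ (m' + 1) - 1) (by omega) ho1
        (fun s hs hsd => (hdiv s hs (by rintro rfl; exact ho1.not_two_dvd_nat hsd)).2 (Or.inl hsd))
        (fun s h7 h8 => hco s h7 (h6 ▸ h8)) fun s h7 h8 h9 => by
          rcases h9 with h9 | h9
          · rw [show c = 2 ^ m' by rw [pow_succ] at h6; omega] at h9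
            rw [odd_dvd_two_pow h8 h9]
            exact one_dvd _
          · have := Nat.dvd_sub (h9.mul_left 2) h7
            rwa [show 2 * (c + 1) - (2 ^ (m' + 1) - 1) = 3 by omega] at this
      have hb0 : b ≠ 0 := by
        rintro rfl
        rw [pow_zero] at hb
        omega
      obtain rfl := pow_add_one_two (p := 3) (k := m' + 1) (by decide) (by norm_num) hb0 (by omega)
      omega
  · exact absurd (by rw [h4.card]; norm_num) hsm
  · exact absurd (by rw [h4.card]) hsm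
  · exact absurd (by rw [h4.card]; norm_num) hsm

end Cfsg.Agent.S3700
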