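import Mathlib
import Cfsg.Statements.S3701
import Cfsg.Agent.FGS.Tri3c

set_option autoImplicit false
open Cfsg

namespace Cfsg.Agent.S3701

open Subgroup Equiv Finset Cfsg.Agent.LocalEven Cfsg.Agent.FGS

def gx : Perm (Fin 9) := Equiv.swap (0 : Fin 9) 1 * Equiv.swap 1 2
def gy : Perm (Fin 9) := Equiv.swap (3 : Fin 9) 4 * Equiv.swap 4 5
def gz : Perm (Fin 9) := Equiv.swap (6 : Fin 9) 7 * Equiv.swap 7 8
def gs : Perm (Fin 9) := Equiv.swap (0 : Fin 9) 1 * Equiv.swap 3 4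
def gr : Perm (Fin 9) := Equiv.swap (0 : Fin 9) 1 * Equiv.swap 6 7

def e (p : Fin 3 × Fin 3 × Fin 3 × Fin 2 × Fin 2) : Perm (Fin 9) :=
  gx ^ p.1.1 * gy ^ p.2.1.1 * gz ^ p.2.2.1.1 * gs ^ p.2.2.2.1.1 * gr ^ p.2.2.2.2.1

def T0 : Finset (Perm (Fin 9)) :=
  univ.image fun q : Fin 3 × Fin 3 × Fin 3 => e (q.1, q.2.1, q.2.2, 0)

theorem e_x : ∀ p, gx * e p = e (p.1 + 1, p.2) := by decide +kernel
theorem e_y : ∀ p, gy * e p = e (p.1, p.2.1 + 1, p.2.2) := by decide +kernel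
theorem e_z : ∀ p, gz * e p = e (p.1, p.2.1, p.2.2.1 + 1, p.2.2.2) := by decide +kernel
theorem e_s : ∀ p, gs * e p = e (-p.1, -p.2.1, p.2.2.1, p.2.2.2.1 + 1, p.2.2.2.2) := by
  decide +kernel
theorem e_r : ∀ p, gr * e p = e (-p.1, p.2.1, -p.2.2.1, p.2.2.2.1, p.2.2.2.2 + 1) := by
  decide +kernel
theorem e_pow : ∀ p, (e p ^ 3) ^ 2 = 1 ∧ (e p ^ 3 = 1 → p.2.2.2 = 0) := by decide +kernel
theorem e_comm : ∀ q r : Fin 3 × Fin 3 × Fin 3, e (q.1, q.2.1, q.2.2, 0) ^ 3 = 1 ∧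
    e (q.1, q.2.1, q.2.2, 0) * e (r.1, r.2.1, r.2.2, 0) =
      e (r.1, r.2.1, r.2.2, 0) * e (q.1, q.2.1, q.2.2, 0) := by decide +kernel
theorem T0_comm {x y : Perm (Fin 9)} (hx : x ∈ T0) (hy : y ∈ T0) : x ^ 3 = 1 ∧ x * y = y * x := by
  obtain ⟨q, -, rfl⟩ := mem_image.1 hx
  obtain ⟨r, -, rfl⟩ := mem_image.1 hy
  exact e_comm q r
theorem T0_card : (T0.filter fun x => x.support.card = 3).card = 6 ∧
    (T0.filter fun x => x ≠ 1 ∧ x.support.card ≠ 3).card = 20 := by decide +kernel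

theorem mem_e {x : Perm (Fin 9)} (hx : x ∈ Subgroup.closure ({gx, gy, gz, gs, gr} : Set _)) :
    ∃ p, x = e p := by
  rw [← mem_toSubmonoid, Subgroup.closure_toSubmonoid_of_finite] at hx
  induction hx using Submonoid.closure_induction_left with
  | one => exact ⟨0, by decide +kernel⟩
  | mul_left s hs y _ ih =>
    obtain ⟨p, rfl⟩ := ih
    rcases hs with rfl | rfl | rfl | rfl | rfl
    exacts [⟨_, e_x p⟩, ⟨_, e_y p⟩, ⟨_, e_z p⟩, ⟨_, e_s p⟩, ⟨_, e_r p⟩]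

theorem mem_T0 {x : Perm (Fin 9)} (hx : ∃ p, x = e p) {k : ℕ} (h : x ^ 3 ^ k = 1) : x ∈ T0 := by
  obtain ⟨⟨a, b, c, d⟩, rfl⟩ := hx
  obtain ⟨h1, h2⟩ := e_pow (a, b, c, d)
  obtain rfl : d = 0 := h2 (orderOf_eq_one_iff.1 (Nat.eq_one_of_dvd_coprimes
    (Nat.Coprime.pow_right k (show Nat.Coprime 2 3 by norm_num)) (orderOf_dvd_of_pow_eq_one h1)
    (orderOf_dvd_of_pow_eq_one (by rw [← pow_mul, mul_comm, pow_mul, h, one_pow]))))
  exact mem_image.2 ⟨(a, b, c), mem_univ _, rfl⟩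

theorem term (D A B : ℝ) (_ : 1 ≤ D) (h0 : 0 ≤ D + A + B)
    (h1 : 3 * 6 * (D + A + B) ≤ 27 * (6 * D + 2 * A))
    (_ : 3 * 20 * (D + B + A) ≤ 27 * (20 * D + 2 * B)) (hA : |A| ≤ 6 * D) (_ : |B| ≤ 20 * D) :
    0 ≤ A * B * (A + B) + D * (4 / 3 * (A * A) + 1 * (B * B) + 0 * (A * B)) := by
  have hA' := (abs_le.1 hA).2
  have hq : 0 ≤ 4 / 3 * (A * A) + 1 * (B * B) + 0 * (A * B) := by
    nlinarith [mul_self_nonneg A, mul_self_nonneg B]
  rcases le_total 0 A with a | a <;> rcases le_total 0 B with b | b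
  · positivity
  · have := mul_le_mul_of_nonneg_right (show A / 6 ≤ D by linarith) hq
    nlinarith [mul_nonneg a (sq_nonneg (4 * A + 9 * B)), mul_nonneg a (sq_nonneg B)]
  · have := mul_le_mul_of_nonneg_right (show (B - 2 * A) / 8 ≤ D by linarith) hq
    nlinarith [mul_nonneg b (sq_nonneg (B + 3 * A)), mul_nonneg b (sq_nonneg A),
      mul_nonneg (neg_nonneg.2 a) (sq_nonneg A)]
  · have := mul_le_mul_of_nonneg_right (show -(A + B) ≤ D by linarith) hq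
    nlinarith [mul_nonneg (neg_nonneg.2 (add_nonpos a b)) (sq_nonneg (A - B)),
      mul_nonneg (neg_nonneg.2 (add_nonpos a b)) (sq_nonneg A),
      mul_nonneg (neg_nonneg.2 (add_nonpos a b)) (sq_nonneg B)]

theorem main {G : Type*} [Group G] [Finite G] {H T : Subgroup G} (f : H →* Perm (Fin 9))
    (hf : Function.Injective f) (hE : ∀ h, ∃ p, f h = e p) (hTH : T ≤ H) (hT : Nat.card T = 27)
    (hN : normalizer (T : Set G) = H)
    (hC : ∀ t ∈ T, t ≠ 1 → centralizer ({t} : Set G) ≤ H) : H = ⊤ := by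
  classical
  haveI := Fintype.ofFinite G
  have hTp : IsPGroup 3 T := IsPGroup.of_card (n := 3) hT
  have hpow : ∀ {Q : Subgroup G}, IsPGroup 3 Q → ∀ h : H, h.1 ∈ Q → f h ∈ T0 := fun hQ h hh => by
    obtain ⟨k, hk⟩ := hQ ⟨h, hh⟩
    exact mem_T0 (hE h) (k := k) (by
      rw [← map_pow, show h ^ 3 ^ k = 1 from Subtype.ext (by simpa using hk), map_one])
  have hTT : (univ.filter fun h : H => h.1 ∈ T).image f = T0 := by
    refine eq_of_subset_of_card_le (fun x hx => ?_) ?_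
    · obtain ⟨h, hh, rfl⟩ := mem_image.1 hx
      exact hpow hTp h (mem_filter.1 hh).2
    · rw [card_image_of_injective _ hf, ← Fintype.card_subtype, ← Nat.card_eq_fintype_card]
      exact card_image_le.trans (by
        rw [show Nat.card {h : H // h.1 ∈ T} = 27 from
          (Nat.card_congr (subgroupOfEquivOfLe hTH).toEquiv).trans hT]; simp)
  have hmem : ∀ h : H, f h ∈ T0 → h.1 ∈ T := fun h hh => by
    obtain ⟨k, hk, e⟩ := mem_image.1 (hTT ▸ hh)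
    exact hf e ▸ (mem_filter.1 hk).2
  have exW : ∀ (Pr : Perm (Fin 9) → Prop) [DecidablePred Pr], ∃ W : Finset G,
      (∀ t, t ∈ W ↔ ∃ h : t ∈ T, Pr (f ⟨t, hTH h⟩)) ∧ W.card = (T0.filter Pr).card := fun Pr _ => by
    refine ⟨(univ.filter fun h : H => h.1 ∈ T ∧ Pr (f h)).map (Function.Embedding.subtype _),
      fun t => ?_, ?_⟩
    · simp only [Finset.mem_map, mem_filter, mem_univ, true_and, Function.Embedding.coe_subtype]
      exact ⟨by rintro ⟨a, ⟨h1, h2⟩, rfl⟩; exact ⟨h1, h2⟩, fun ⟨h1, h2⟩ => ⟨_, ⟨h1, h2⟩, rfl⟩⟩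
    · rw [card_map, ← hTT, filter_image, card_image_of_injective _ hf, filter_filter]
  obtain ⟨U, mU, cU⟩ := exW fun x => x.support.card = 3
  obtain ⟨V, mV, cV⟩ := exW fun x => x ≠ 1 ∧ x.support.card ≠ 3
  rw [T0_card.1] at cU
  rw [T0_card.2] at cV
  have tl : TL T := by
    refine ⟨.of_normalizer ⟨by rwa [top_inf_eq, hN], hTp, fun Q hQ hp hle => le_antisymm
      (fun x hx => hmem ⟨x, hN ▸ (hQ hx).2⟩ (hpow hp _ hx)) hle⟩, fun x hx y hy => ?_,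
      hN.symm ▸ hC⟩
    exact congrArg Subtype.val (hf (a₁ := ⟨y, hTH hy⟩ * ⟨x, hTH hx⟩) (a₂ := ⟨x, hTH hx⟩ * ⟨y, hTH hy⟩)
      (by rw [map_mul, map_mul, (T0_comm (hpow hTp ⟨y, hTH hy⟩ hy) (hpow hTp ⟨x, hTH hx⟩ hx)).2]))
  have hone : ∀ (t) (h : t ∈ T), f ⟨t, hTH h⟩ = 1 ↔ t = 1 := fun t h => by
    rw [map_eq_one_iff _ hf, Subtype.ext_iff]; rfl
  have hinv : ∀ (t) (h : t ∈ T), f ⟨t⁻¹, hTH (inv_mem h)⟩ = (f ⟨t, hTH h⟩)⁻¹ := fun t h =>
    map_inv f ⟨t, hTH h⟩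
  have par : Par T U V := by
    refine ⟨tl, fun t ht => ?_, fun t => ?_, fun u hu v hv hc => ?_, fun u hu => ?_, fun u hu => ?_⟩
    · exact congrArg Subtype.val (hf (a₁ := ⟨t, hTH ht⟩ ^ 3) (a₂ := 1)
        (by rw [map_pow, map_one, (T0_comm (hpow hTp ⟨t, hTH ht⟩ ht) (hpow hTp ⟨t, hTH ht⟩ ht)).1]))
    · rw [mU, mV]
      refine ⟨?_, fun ⟨h1, h2⟩ => ?_⟩
      · rintro (⟨h1, h2⟩ | ⟨h1, h2, -⟩)
        · exact ⟨h1, fun e => by rw [(hone t h1).2 e] at h2; simp at h2⟩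
        · exact ⟨h1, fun e => h2 ((hone t h1).2 e)⟩
      · exact (em _).imp (fun h => ⟨h1, h⟩) fun h => ⟨h1, fun e => h2 ((hone t h1).1 e), h⟩
    · obtain ⟨h1, h2⟩ := (mU _).1 hu
      obtain ⟨h3, h4, h5⟩ := (mV _).1 hv
      obtain ⟨g, rfl⟩ := isConj_iff.1 hc
      have hg : g ∈ H := hN ▸ tl.ti h1 (by rintro rfl; exact h4 ((hone _ h3).2 (by simp))) h3
      refine h5 ?_
      rw [show f ⟨_, hTH h3⟩ = f (⟨g, hg⟩ * ⟨u, hTH h1⟩ * ⟨g, hg⟩⁻¹) from rfl, map_mul, map_mul,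
        map_inv, Perm.card_support_conj, h2]
    · obtain ⟨h1, h2⟩ := (mU _).1 hu
      exact (mU _).2 ⟨inv_mem h1, by rwa [hinv _ h1, Perm.support_inv]⟩
    · obtain ⟨h1, h2⟩ := (mV _).1 hu
      exact (mV _).2 ⟨inv_mem h1, by rwa [hinv _ h1, Perm.support_inv, inv_ne_one]⟩
  have hb := par.bound (u := 6) (v := 20) (t := 27) (α := 4 / 3) (β := 1) (γ := 0)
    (by rw [cU]; rfl) (by rw [cV]; rfl) rfl (by rw [hT]; rfl) (by norm_num)
    (by norm_num) term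
  have hm := tl.card_mod
  rw [hN] at hb hm
  have hle : Nat.card H ≤ 108 := by
    choose c hc using hE
    exact (Nat.card_le_card_of_injective c fun a b e => hf (by rw [hc, hc, e])).trans (by simp)
  rw [← H.card_mul_index, Nat.cast_mul] at hb
  have hp : (0 : ℝ) < Nat.card H := by exact_mod_cast Nat.card_pos
  have hl : (Nat.card H : ℝ) ≤ 108 := by exact_mod_cast hle
  have hi : (0 : ℝ) ≤ H.index := by positivity
  have : (H.index : ℝ) < 24 := by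
    have : H.index * (3568 - 28 * Nat.card H : ℝ) ≤ 120 * Nat.card H :=
      le_of_mul_le_mul_left (by linarith) hp
    nlinarith
  have : H.index < 24 := by exact_mod_cast this
  rw [hT, Nat.ModEq] at hm
  exact index_eq_one.1 (by omega)

/-- Let H₀ ≤ Sym(9) be generated by the 3-cycles (1 2 3), (4 5 6), (7 8 9) and the involutions (1 2)(4 5), (1 2)(7 8) (a group of order 108, elementary abelian of order 27 extended by a four-group). Let G be a finite group with a subgroup H ≅ H₀, and T ≤ H of order 27 (a Sylow 3-subgroup of H) with N_G(T) = H and C_G(t) ≤ H for every t ≠ 1 in T. Then G = H. -/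
theorem result {G : Type*} [Group G] [Finite G] (H : Subgroup G)
    (hH : Nonempty (↥H ≃* ↥(Subgroup.closure ({Equiv.swap (0 : Fin 9) 1 * Equiv.swap 1 2, Equiv.swap (3 : Fin 9) 4 * Equiv.swap 4 5, Equiv.swap (6 : Fin 9) 7 * Equiv.swap 7 8,
        Equiv.swap (0 : Fin 9) 1 * Equiv.swap 3 4, Equiv.swap (0 : Fin 9) 1 * Equiv.swap 6 7} : Set (Equiv.Perm (Fin 9))))))
    (T : Subgroup G) (hTH : T ≤ H) (hT : Nat.card T = 27) (hN : Subgroup.normalizer (T : Set G) = H)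
    (hC : ∀ t ∈ T, t ≠ 1 → Subgroup.centralizer ({t} : Set G) ≤ H) : H = ⊤ := by
  obtain ⟨ψ⟩ := hH
  exact main ((Subgroup.subtype _).comp ψ.toMonoidHom) (Subtype.val_injective.comp ψ.injective)
    (fun h => mem_e (ψ h).2) hTH hT hN hC

end Cfsg.Agent.S3701
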