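import Mathlib
import Cfsg.Statements.S3716
import Mathlib
import Cfsg.Agent.Inv.D9d

set_option autoImplicit false
open Cfsg

namespace Cfsg.Agent.S3716

open Subgroup Cfsg.Agent.LocalEven Cfsg.Agent.FGS Cfsg.Agent.D9

/-- Let G be a finite group with an elementary abelian Sylow 3-subgroup M of order 9 which is self-centralizing (C_G(M) = M), let N = N_G(M), and suppose C_G(g) ≤ N for every nonidentity g ∈ M. If the Sylow 2-subgroups of N are dihedral of order 8, then G is not simple. -/
theorem result {G : Type*} [Group G] [Finite G] (M : Sylow 3 G) (hM9 : Nat.card ↥(M : Subgroup G) = 9)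
    (hMel : ∀ m ∈ (M : Subgroup G), m ^ 3 = 1)
    (hCM : Subgroup.centralizer ((M : Subgroup G) : Set G) = (M : Subgroup G))
    (N : Subgroup G) (hN : N = Subgroup.normalizer ((M : Subgroup G) : Set G))
    (hCg : ∀ g ∈ (M : Subgroup G), g ≠ 1 → Subgroup.centralizer ({g} : Set G) ≤ N)
    (hS : ∀ S : Sylow 2 ↥N, Nonempty (↥(S : Subgroup ↥N) ≃* DihedralGroup 4)) :
    ¬ IsSimpleGroup G := by
  subst hN
  intro hs
  have tl : TL (M : Subgroup G) := ⟨isSylowIn_top M, hCM.ge, hCg⟩
  obtain ⟨S⟩ : Nonempty (Sylow 2 (normalizer ((M : Subgroup G) : Set G))) := inferInstance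
  obtain ⟨e⟩ := hS S
  have h8 := S.card_eq_multiplicity
  rw [Nat.card_congr e.toEquiv, DihedralGroup.nat_card] at h8
  have hidx : (M : Subgroup G).relIndex (normalizer ((M : Subgroup G) : Set G)) * 9 =
      Nat.card (normalizer ((M : Subgroup G) : Set G)) := by
    rw [← hM9, ← relIndex_bot_left, ← relIndex_bot_left, mul_comm,
      relIndex_mul_relIndex _ _ _ bot_le le_normalizer]
  have h3 := (tl.syl.mono le_normalizer le_top).not_dvd
  have h48 := (PGrp.relIndex_centralizer_dvd_card_mulAut (R := (M : Subgroup G)) le_rfl).trans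
    (PGrp.card_mulAut_dvd_of_card_le_sq (p := 3) ⟨⟨fun x y => Subtype.ext (tl.ab y.2 x x.2)⟩⟩
      (fun v => Subtype.ext (hMel v v.2)) hM9.le)
  rw [hCM] at h48
  have h72 : Nat.card (normalizer ((M : Subgroup G) : Set G)) = 72 := by
    rw [← hidx] at h8 ⊢
    generalize (M : Subgroup G).relIndex (normalizer ((M : Subgroup G) : Set G)) = k at *
    have hk : k ≠ 0 := by rintro rfl; simp at h3
    have f3 : 3 = (k * 9).factorization 2 := Nat.pow_right_injective (le_refl 2) h8
    have d8 : 2 ^ 3 ∣ k * 9 := (Nat.prime_two.pow_dvd_iff_le_factorization (by omega)).2 f3.le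
    have d16 : ¬ 2 ^ 4 ∣ k * 9 := fun d => by
      have := (Nat.prime_two.pow_dvd_iff_le_factorization (by omega)).1 d
      omega
    have := Nat.le_of_dvd (by norm_num) h48
    norm_num at this h48 d8 d16
    clear f3 h8 hidx
    interval_cases k <;> omega
  obtain ⟨a, b, s, w, h⟩ := mkD8 tl hM9 hMel hCM.le h72
    ((normalizer ((M : Subgroup G) : Set G)).subtype.comp ((S : Subgroup _).subtype.comp
      e.symm.toMonoidHom)) (Subtype.val_injective.comp (Subtype.val_injective.comp e.symm.injective))
    fun x => (e.symm x).1.2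
  obtain ⟨K, hK⟩ := h.index_two
  rcases (normal_of_index_eq_two hK).eq_bot_or_eq_top with rfl | rfl
  · have := card_subgroup_dvd_card (M : Subgroup G)
    rw [index_bot] at hK
    rw [hK, hM9] at this
    omega
  · simp at hK

end Cfsg.Agent.S3716
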