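import Mathlib
import Cfsg.Statements.S3718
import Cfsg.Agent.CIT.F9
import Cfsg.Agent.S2497
import Cfsg.Agent.S0254

set_option autoImplicit false
open Cfsg

namespace Cfsg.Agent.S3718

theorem of_dvd {G : Type*} [Group G] [Finite G] {a b : ℕ} (h : ∃ g : G, orderOf g = a) (hb : b ∣ a) :
    ∃ g : G, orderOf g = b := by
  obtain ⟨g, rfl⟩ := h
  exact ⟨g ^ (orderOf g / b), orderOf_pow_orderOf_div (orderOf_pos g).ne' hb⟩

theorem exists_F9 : ∃ (F : Type) (_ : Field F) (_ : Fintype F), Fintype.card F = 9 := by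
  haveI : Fact (Nat.Prime 3) := ⟨Nat.prime_three⟩
  letI := Fintype.ofFinite (GaloisField 3 2)
  refine ⟨GaloisField 3 2, inferInstance, inferInstance, ?_⟩
  rw [← Nat.card_eq_fintype_card, GaloisField.card 3 2 (by norm_num)]
  norm_num

theorem three_pow_mod (n : ℕ) : 3 ^ n % 8 = 1 ∨ 3 ^ n % 8 = 3 := by
  induction n with
  | zero => simp
  | succ n ih => rw [pow_succ]; omega

theorem not_prime_three {a : ℕ} (h : 3 ∣ a) (h3 : 3 < a) : ¬ a.Prime := fun hp => by
  have := (Nat.prime_dvd_prime_iff_eq Nat.prime_three hp).1 h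
  omega

theorem even_of_three {n : ℕ} (h : 3 ∣ 2 ^ n - 1) : Even n := by
  by_contra h1
  obtain ⟨m, rfl⟩ := Nat.not_even_iff_odd.1 h1
  have h2 : ∀ m : ℕ, 2 ^ (2 * m + 1) % 3 = 2 := fun m => by
    induction m with
    | zero => rfl
    | succ m ih =>
      rw [show 2 * (m + 1) + 1 = (2 * m + 1) + 2 by ring, pow_add]
      omega
  have h3 := h2 m
  have h4 : 0 < 2 ^ (2 * m + 1) := by positivity
  generalize 2 ^ (2 * m + 1) = x at h h3 h4
  omega


/-- Let G be a finite simple group whose set of element orders contains at most one composite number (at most one element order that is neither 1 nor a prime). Then G is cyclic of prime order, or isomorphic to PSL₂(q) for q ∈ {5, 7, 8, 9, 11, 13, 16}, to PSL₃(4), to the Suzuki group Sz(8), to PSL₂(3ⁿ) with (3ⁿ − 1)/2 and (3ⁿ + 1)/4 both prime, or to PSL₂(2ⁿ) with 2ⁿ − 1 and (2ⁿ + 1)/3 both prime. -/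
theorem result {G : Type*} [Group G] [Finite G] [IsSimpleGroup G]
    (h1 : {n : ℕ | n ∈ Set.range (orderOf : G → ℕ) ∧ 1 < n ∧ ¬ n.Prime}.Subsingleton) :
    (Nat.card G).Prime ∨
    (∃ (F : Type) (_ : Field F) (_ : Fintype F), (Fintype.card F = 5 ∨ Fintype.card F = 7 ∨ Fintype.card F = 8 ∨ Fintype.card F = 9 ∨
        Fintype.card F = 11 ∨ Fintype.card F = 13 ∨ Fintype.card F = 16) ∧ Nonempty (G ≃* Matrix.ProjectiveSpecialLinearGroup (Fin 2) F)) ∨
    (∃ (F : Type) (_ : Field F) (_ : Fintype F), Fintype.card F = 4 ∧ Nonempty (G ≃* Matrix.ProjectiveSpecialLinearGroup (Fin 3) F)) ∨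
    (∃ (F : Type) (_ : Field F) (_ : Fintype F), Fintype.card F = 8 ∧ Nonempty (G ≃* ↥(Cfsg.Lie.Sz F 4))) ∨
    (∃ (F : Type) (_ : Field F) (_ : Fintype F), ∃ n r s : ℕ, r.Prime ∧ s.Prime ∧ 3 ^ n - 1 = 2 * r ∧ 3 ^ n + 1 = 4 * s ∧
        Fintype.card F = 3 ^ n ∧ Nonempty (G ≃* Matrix.ProjectiveSpecialLinearGroup (Fin 2) F)) ∨
    (∃ (F : Type) (_ : Field F) (_ : Fintype F), ∃ n r : ℕ, (2 ^ n - 1).Prime ∧ r.Prime ∧ 2 ^ n + 1 = 3 * r ∧
        Fintype.card F = 2 ^ n ∧ Nonempty (G ≃* Matrix.ProjectiveSpecialLinearGroup (Fin 2) F)) := by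
  by_cases hG : IsMulCommutative G
  · left
    letI : CommGroup G := { (inferInstance : Group G) with mul_comm := fun a b => hG.is_comm.comm a b }
    exact IsSimpleGroup.prime_card
  right
  have one : ∀ {a b : ℕ}, (∃ g : G, orderOf g = a) → (∃ g : G, orderOf g = b) → 1 < a →
      ¬ a.Prime → 1 < b → a ≠ b → b.Prime := fun {a b} ha hb h2 h3 h4 h5 => by
    by_contra h6
    exact h5 (h1 ⟨ha, h2, h3⟩ ⟨hb, h4, h6⟩)
  have hns := CIT.F.not_solv_of_simple hG
  by_cases h4 : ∃ g : G, orderOf g = 4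
  · have no : ∀ {a : ℕ}, (∃ g : G, orderOf g = a) → 1 < a → 4 ≠ a → a.Prime := fun ha h2 h3 =>
      one h4 ha (by norm_num) (by norm_num) h2 h3
    have hE : ∀ g : G, g ≠ 1 → IsPrimePow (orderOf g) := fun g hg => by
      have h3 : orderOf g ≠ 1 := fun h => hg (orderOf_eq_one_iff.1 h)
      have h5 := orderOf_pos g
      by_cases h7 : 4 = orderOf g
      · rw [← h7]; exact Nat.prime_two.isPrimePow.pow two_ne_zero
      · exact (no ⟨g, rfl⟩ (by omega) h7).isPrimePow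
    rcases S2497.result hG hE with ⟨⟨e⟩⟩ | ⟨F, _, _, hF, ⟨e⟩⟩ | h | ⟨F, _, _, h | ⟨hF, h⟩⟩
    · obtain ⟨F, _, _, hF⟩ := exists_F9
      obtain ⟨f⟩ := S0254.result hF
      exact Or.inl ⟨F, inferInstance, inferInstance, by omega, ⟨e.trans f.symm⟩⟩
    · simp only [Finset.mem_insert, Finset.mem_singleton] at hF
      rcases hF with hF | hF | hF | hF
      · obtain ⟨K, _, _, hK, h⟩ := CIT.F.L2.five_of_four (G := G) ⟨F, _, _, hF, ⟨e⟩⟩
        exact Or.inl ⟨K, inferInstance, inferInstance, by omega, h⟩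
      · exact Or.inl ⟨F, inferInstance, inferInstance, by omega, ⟨e⟩⟩
      · exact Or.inl ⟨F, inferInstance, inferInstance, by omega, ⟨e⟩⟩
      · have hL : CIT.F.L2 (2 * 8 + 1) G := ⟨F, _, _, hF, ⟨e⟩⟩
        exact absurd (no (hL.ord_odd (k := 8) (by norm_num) (by norm_num)) (by norm_num)
          (by norm_num)) (by norm_num)
    · exact Or.inr (Or.inl h)
    · exact Or.inr (Or.inr (Or.inl ⟨F, _, _, h⟩))
    · have hL : CIT.F.SzM 2 G := ⟨F, _, _, hF, h⟩
      exact absurd (no (hL.ord (k := 25) (by norm_num) (by norm_num)) (by norm_num)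
          (by norm_num)) (by norm_num)
  have h4' : ∀ g : G, orderOf g ≠ 4 := fun g hg => h4 ⟨g, hg⟩
  have np : ∀ {u : ℕ}, 1 < u → ¬ (2 * u).Prime := fun {u} hu =>
    Nat.not_prime_mul (by norm_num) hu.ne'
  have hs := CIT.F.solv_cent (G := G) fun p q hp hq hp2 hq2 h1 h2 => by
    by_contra hpq
    have hp1 := hp.one_lt
    have hq1 := hq.one_lt
    exact np hq1 (one h1 h2 (by omega) (np hp1) (by omega) (by omega))
  rcases CIT.F.abel_simple hG h4' hs with ⟨F, _, _, n, hn, hF, ⟨e⟩⟩ | ⟨F, _, _, h1, h2, ⟨e⟩⟩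
  · obtain rfl | rfl | rfl | hn5 : n = 2 ∨ n = 3 ∨ n = 4 ∨ 5 ≤ n := by omega
    · obtain ⟨K, _, _, hK, h⟩ := CIT.F.L2.five_of_four (G := G) ⟨F, _, _, hF, ⟨e⟩⟩
      exact Or.inl ⟨K, inferInstance, inferInstance, by omega, h⟩
    · exact Or.inl ⟨F, inferInstance, inferInstance, by omega, ⟨e⟩⟩
    · exact Or.inl ⟨F, inferInstance, inferInstance, by omega, ⟨e⟩⟩
    have hL : CIT.F.L2 (2 ^ n) G := ⟨F, _, _, hF, ⟨e⟩⟩
    have h32 : 2 ^ 5 ≤ 2 ^ n := Nat.pow_le_pow_right (by norm_num) hn5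
    have ha := hL.ord_even (k := 2 ^ n - 1) hn (Or.inr (Or.inl dvd_rfl))
    have hb := hL.ord_even (k := 2 ^ n + 1) hn (Or.inr (Or.inr dvd_rfl))
    rcases CIT.F.three_dvd_pow n with hc | ⟨c, hc⟩
    · exfalso
      obtain ⟨m, rfl⟩ := even_of_three hc
      have h8 : 2 ^ 3 ≤ 2 ^ m := Nat.pow_le_pow_right (by norm_num) (by omega)
      have h9 : 2 ^ (m + m) - 1 = (2 ^ m + 1) * (2 ^ m - 1) := by
        rw [← CIT.F.sq_sub_one_eq', pow_add, sq]
      have h10 : 2 ^ m + 1 < 2 ^ (m + m) - 1 := by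
        rw [h9]
        exact lt_mul_of_one_lt_right (by omega) (by omega)
      have hnp := not_prime_three hc (by omega)
      rcases CIT.F.three_dvd_pow m with h | h
      · exact not_prime_three h (by omega) (one ha (of_dvd ha ⟨_, h9.trans (mul_comm _ _)⟩)
          (by omega) hnp (by omega) (by omega))
      · exact not_prime_three h (by omega) (one ha (of_dvd ha ⟨_, h9⟩)
          (by omega) hnp (by omega) (by omega))
    · have hnp := not_prime_three ⟨c, hc⟩ (by omega)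
      refine Or.inr (Or.inr (Or.inr (Or.inr ⟨F, inferInstance, inferInstance, n, c, ?_, ?_, hc, hF,
        ⟨e⟩⟩)))
      · exact one hb ha (by omega) hnp (by omega) (by omega)
      · exact one hb (of_dvd hb ⟨3, by omega⟩) (by omega) hnp (by omega) (by omega)
  · by_cases h5' : Fintype.card F = 5
    · exact Or.inl ⟨F, inferInstance, inferInstance, by omega, ⟨e⟩⟩
    obtain ⟨c, u, o, hc, hc5, ⟨u', hu⟩, ⟨o', ho⟩, hu1, ho1, h6⟩ := CIT.F.tori h1 (by omega)
    obtain ⟨hp, -, hpc, hpc', n, hn, hq⟩ := CIT.F.char_facts hc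
    have hO : ∀ k, (k ∣ c ∨ k ∣ c + 1) → ∃ g : G, orderOf g = k := fun k hk =>
      CIT.F.ord_of_equiv e (CIT.F.exists_order_odd (by omega) hc (Or.inr hk))
    have h7 : ∀ k, k ∣ 2 * u ∨ k ∣ o → k ∣ c ∨ k ∣ c + 1 := by
      rcases h6 with ⟨h7, h8⟩ | ⟨h7, h8⟩
      · rw [h8, h7]; exact fun k hk => hk
      · rw [h8, h7]; exact fun k hk => hk.symm
    have h2u := hO _ (h7 _ (Or.inl dvd_rfl))
    have hup : u.Prime := one h2u (hO _ (h7 _ (Or.inl (dvd_mul_left _ _)))) (by omega) (np hu1) hu1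
      (by omega)
    have hop : o.Prime := one h2u (hO _ (h7 _ (Or.inr dvd_rfl))) (by omega) (np hu1) ho1
      (by omega)
    by_cases h3 : ringChar F = 3
    · rw [h3] at hq
      have h8 := three_pow_mod n
      refine Or.inr (Or.inr (Or.inr (Or.inl ⟨F, inferInstance, inferInstance, n, o, u, hop, hup,
        ?_, ?_, hq, ⟨e⟩⟩))) <;> omega
    · have h8 : ¬ 3 ∣ Fintype.card F := fun h => by
        rw [hq] at h
        exact h3 ((Nat.prime_dvd_prime_iff_eq Nat.prime_three hp).1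
          (Nat.prime_three.dvd_of_dvd_pow h)).symm
      have h9 : ¬ (3 ∣ u ∧ 3 < u) := fun h => not_prime_three h.1 h.2 hup
      have h10 : ¬ (3 ∣ o ∧ 3 < o) := fun h => not_prime_three h.1 h.2 hop
      have h11 : u = 3 := by
        have : u % 3 = 0 ∨ u % 3 = 1 ∨ u % 3 = 2 := by omega
        rcases this with h | h | h <;> rcases h6 with ⟨h6, h6'⟩ | ⟨h6, h6'⟩ <;> omega
      exact Or.inl ⟨F, inferInstance, inferInstance, by omega, ⟨e⟩⟩

end Cfsg.Agent.S3718
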