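import Mathlib
import Cfsg.Statements.S3728
import Cfsg.Agent.SzR.Basic

set_option autoImplicit false
open Cfsg

namespace Cfsg.Agent.S3728

open Subgroup SzR

/-- Let q = 2^(2m+1) with m ≥ 1 and let G be a finite group whose set of orders of maximal subgroups equals that of the Suzuki group Sz(q). Then G is isomorphic to Sz(q). -/
theorem result {G : Type*} [Group G] [Finite G] {F : Type*} [Field F] [Fintype F] (m : ℕ) (hm : 1 ≤ m)
    (hF : Fintype.card F = 2 ^ (2 * m + 1))
    (h : {k : ℕ | ∃ M : Subgroup G, IsCoatom M ∧ k = Nat.card ↥M} = {k : ℕ | ∃ M : Subgroup ↥(Cfsg.Lie.Sz F (2 ^ (m + 1))), IsCoatom M ∧ k = Nat.card ↥M}) :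
    Nonempty (G ≃* ↥(Cfsg.Lie.Sz F (2 ^ (m + 1)))) := by
  have hX := card_eq hm hF (MulEquiv.refl _)
  have h8 := eight_le hm
  have h2q : 2 ∣ 2 ^ (2 * m + 1) := dvd_pow_self 2 (by omega)
  have h2q' : 2 ∣ (2 ^ (2 * m + 1)) ^ 2 := h2q.trans (dvd_pow_self _ two_ne_zero)
  obtain ⟨P⟩ : Nonempty (Sylow 2 (Cfsg.Lie.Sz F (2 ^ (m + 1)))) := inferInstance
  obtain ⟨i1, i2, -⟩ := norm_sylow hm hF (MulEquiv.refl _) P
  have hB : Nat.card (normalizer ((P : Subgroup (Cfsg.Lie.Sz F (2 ^ (m + 1)))) : Set (Cfsg.Lie.Sz F (2 ^ (m + 1))))) =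
      (2 ^ (2 * m + 1)) ^ 2 * (2 ^ (2 * m + 1) - 1) := by
    have := (normalizer ((P : Subgroup (Cfsg.Lie.Sz F (2 ^ (m + 1)))) : Set (Cfsg.Lie.Sz F (2 ^ (m + 1))))).card_mul_index
    rw [i1, hX] at this
    exact Nat.eq_of_mul_eq_mul_right (by positivity) this
  have l1 : ∀ M : Subgroup G, IsCoatom M → ∃ M' : Subgroup (Cfsg.Lie.Sz F (2 ^ (m + 1))),
      IsCoatom M' ∧ Nat.card M = Nat.card M' := fun M hM => (h.le ⟨M, hM, rfl⟩ :)
  have l2 : ∀ M' : Subgroup (Cfsg.Lie.Sz F (2 ^ (m + 1))), IsCoatom M' → ∃ M : Subgroup G,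
      IsCoatom M ∧ Nat.card M' = Nat.card M := fun M hM => (h.ge ⟨M, hM, rfl⟩ :)
  obtain ⟨B, hBc, hBe⟩ := l2 _ i2
  rw [hB] at hBe
  have np : ∀ (p n : ℕ), p.Prime → ¬ (2 ^ (2 * m + 1)) ^ 2 * (2 ^ (2 * m + 1) - 1) ∣ p ^ n := by
    intro p n hp hd
    have e1 : 2 = p := (Nat.prime_dvd_prime_iff_eq Nat.prime_two hp).1
      (Nat.prime_two.dvd_of_dvd_pow ((h2q'.mul_right _).trans hd))
    subst e1
    obtain ⟨k, -, hk⟩ := (Nat.dvd_prime_pow Nat.prime_two).1 ((Dvd.intro_left _ rfl).trans hd)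
    rcases k with _ | k
    · omega
    · have : 2 ∣ 2 ^ (k + 1) := dvd_pow_self 2 (by omega)
      omega
  have hc : Nat.card G = Nat.card (Cfsg.Lie.Sz F (2 ^ (m + 1))) := by
    refine Nat.dvd_antisymm (card_dvd_of_coatoms (fun p hp hG => ?_) fun M hM => ?_)
      (card_dvd_of_coatoms (fun p hp hG => ?_) fun M hM => ?_)
    · haveI := Fact.mk hp
      obtain ⟨n, hn⟩ := hG.exists_card_eq
      exact np p n hp (hBe ▸ hn ▸ card_subgroup_dvd_card B)
    · obtain ⟨M', -, e⟩ := l1 M hM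
      exact e ▸ card_subgroup_dvd_card M'
    · haveI := Fact.mk hp
      obtain ⟨n, hn⟩ := hG.exists_card_eq
      exact np p n hp (hB ▸ hn ▸ card_subgroup_dvd_card _)
    · obtain ⟨M', -, e⟩ := l2 M hM
      exact e ▸ card_subgroup_dvd_card M'
  have hBi : B.index = (2 ^ (2 * m + 1)) ^ 2 + 1 := by
    have := B.card_mul_index
    rw [← hBe, hc, hX] at this
    exact Nat.eq_of_mul_eq_mul_left (Nat.mul_pos (by positivity) (by omega)) this
  haveI : Nontrivial G := by
    by_contra hn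
    haveI := not_nontrivial_iff_subsingleton.1 hn
    exact hBc.1 (Subsingleton.elim _ _)
  obtain ⟨N, _, hN⟩ := exists_simple_quot G
  have hn : ¬ IsMulCommutative (G ⧸ N) := fun k => by
    letI : CommGroup (G ⧸ N) := { mul_comm := k.is_comm.comm }
    have hp : N.index.Prime := IsSimpleGroup.prime_card (α := G ⧸ N)
    have hNc : IsCoatom N := ⟨fun e => hp.ne_one (index_eq_one.2 e), fun K hK => by
      rcases (Nat.dvd_prime hp).1 (index_dvd_of_le hK.le) with e | e
      · exact index_eq_one.1 e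
      · have e1 := relIndex_mul_index hK.le
        rw [e] at e1
        exact absurd (relIndex_eq_one.1 (Nat.eq_of_mul_eq_mul_right hp.pos
          (e1.trans (one_mul _).symm))) hK.not_ge⟩
    obtain ⟨M, hM, e⟩ := l1 N hNc
    have hMi : M.index = N.index := by
      have e1 := M.card_mul_index
      rw [← hc, ← N.card_mul_index, e] at e1
      exact Nat.eq_of_mul_eq_mul_left Nat.card_pos e1
    by_cases h2 : 2 ∣ M.index
    · rw [hMi, Nat.prime_dvd_prime_iff_eq Nat.prime_two hp] at h2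
      haveI := simple hm hF (MulEquiv.refl _)
      haveI : M.Normal := normal_of_index_eq_two (hMi.trans h2.symm)
      rcases M.normal_of_index_eq_two (hMi.trans h2.symm) |>.eq_bot_or_eq_top with e1 | e1
      · rw [e1, index_bot, hX, ← h2] at hMi
        have := Nat.mul_le_mul (Nat.mul_le_mul (Nat.pow_le_pow_left h8 2)
          (show 1 ≤ 2 ^ (2 * m + 1) - 1 by omega)) (show 1 ≤ (2 ^ (2 * m + 1)) ^ 2 + 1 by omega)
        omega
      · exact hM.1 e1
    · exact not_prime_sq_add_one hm (index_of_odd hm hF (MulEquiv.refl _) hM h2 ▸ hMi ▸ hp)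
  obtain ⟨K, _, _, n, hn1, hK, ⟨e⟩⟩ := sz_of_three hn fun h3 =>
    not_three m (hX ▸ hc ▸ h3.trans (card_quotient_dvd_card N))
  have hY := card_eq hn1 hK e
  have hNB : N ≤ B := by
    by_contra hNB
    have e1 : N ⊔ B = ⊤ := hBc.2 _ (lt_of_le_of_ne le_sup_right fun e => hNB (e ▸ le_sup_left))
    have e2 : B.map (QuotientGroup.mk' N) = ⊤ := by
      rw [← comap_injective (QuotientGroup.mk'_surjective N) |>.eq_iff, comap_map_eq,
        QuotientGroup.ker_mk', comap_top, sup_comm, e1]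
    have e3 := card_map_dvd B (QuotientGroup.mk' N)
    rw [e2, card_top, hY, ← hBe] at e3
    exact not_five m (((five_dvd n).mul_left _).trans e3)
  have e4 : (B.map (QuotientGroup.mk' N)).index = B.index :=
    index_map_eq _ (QuotientGroup.mk'_surjective N) (by rwa [QuotientGroup.ker_mk'])
  have e5 : IsCoatom (B.map (QuotientGroup.mk' N)) := ⟨fun e => by
      rw [e, index_top] at e4; exact hBc.1 (index_eq_one.1 e4.symm), fun L hL => by
    refine comap_injective (QuotientGroup.mk'_surjective N) (hBc.2 _ (lt_of_le_of_ne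
      (map_le_iff_le_comap.1 hL.le) fun e => hL.ne ?_))
    rw [e, map_comap_eq_self_of_surjective (QuotientGroup.mk'_surjective N)]⟩
  have e6 := index_of_odd hn1 hK e e5 (by rw [e4, hBi]; omega)
  rw [e4, hBi] at e6
  obtain rfl : m = n := by
    have := Nat.pow_right_injective le_rfl (Nat.pow_left_injective two_ne_zero (Nat.add_right_cancel e6))
    omega
  have e7 : N = ⊥ := by
    have := N.card_mul_index
    rw [index, hY, ← hX, hc] at this
    exact card_eq_one.1 (Nat.eq_of_mul_eq_mul_right Nat.card_pos (this.trans (one_mul _).symm))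
  subst e7
  exact CIT.F.SzM.iso ⟨K, inferInstance, inferInstance, hK, ⟨QuotientGroup.quotientBot.symm.trans e⟩⟩ hF

end Cfsg.Agent.S3728
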