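import Mathlib
import Cfsg.Statements.S3774
import Cfsg.Agent.PGrp.ClassSize
-- import your own Cfsg.Agent.* helpers here

set_option autoImplicit false
open Cfsg

namespace Cfsg.Agent.S3774

/-- Let G be a nontrivial finite 2-group whose automorphism group permutes the involutions of G transitively. Then every involution of G is central, so that the involutions together with 1 form the subgroup Ω₁(Z(G)), and if this subgroup has order q then |G| is a power of q. -/
theorem result {G : Type*} [Group G] [Finite G] [Nontrivial G] (hG : IsPGroup 2 G) (htrans : ∀ x y : G, x ≠ 1 → x ^ 2 = 1 → y ≠ 1 → y ^ 2 = 1 → ∃ a : MulAut G, a x = y) : (∀ x : G, x ^ 2 = 1 → x ∈ Subgroup.center G) ∧ ∃ m : ℕ, Nat.card G = Nat.card {z : G // z ^ 2 = 1} ^ m := by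
  classical
  have : Fact (Nat.Prime 2) := ⟨Nat.prime_two⟩
  obtain ⟨z, -, hz, hz2⟩ := PGrp.exists_mem_center_orderOf_eq hG ⊤ top_ne_bot
  have hz1 : z ≠ 1 := FGS.ne_one_of_orderOf_prime Nat.prime_two hz2
  have hz3 : z ^ 2 = 1 := hz2 ▸ pow_orderOf_eq_one z
  have h1 : ∀ x : G, x ^ 2 = 1 → x ∈ Subgroup.center G := fun x hx => by
    by_cases hx1 : x = 1
    · rw [hx1]; exact Subgroup.one_mem _
    obtain ⟨a, rfl⟩ := htrans z x hz1 hz3 hx1 hx
    exact PGrp.apply_mem_of_characteristic inferInstance a hz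
  refine ⟨h1, ?_⟩
  have : Fintype G := Fintype.ofFinite G
  have e1 : Nat.card {z : G // z ^ 2 = 1} = Nat.card (omegaOne 2 (Subgroup.center G)) :=
    Nat.card_congr (Equiv.subtypeEquivRight fun x => ⟨fun h => PGrp.mem_omegaOne (h1 x h) h,
      fun h => PGrp.pow_eq_one_of_mem_omegaOne_of_comm inferInstance h⟩)
  obtain ⟨n, hn⟩ := PGrp.exists_card_eq_pow hG (omegaOne 2 (Subgroup.center G))
  obtain ⟨m, hm⟩ := hG.exists_card_eq
  let f : G → G := fun x => x ^ (orderOf x / 2)
  let S : Finset G := Finset.univ.erase 1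
  let T : Finset G := (Finset.univ.filter fun x : G => x ^ 2 = 1).erase 1
  have hmaps : (S : Set G).MapsTo f T := by
    intro x hx
    have hx1 : x ≠ 1 := by simpa [S] using hx
    obtain ⟨k, hk⟩ := IsPGroup.iff_orderOf.mp hG x
    obtain ⟨k, rfl⟩ : ∃ j, k = j + 1 := ⟨k - 1, by
      rcases k with _ | k
      · exact absurd (orderOf_eq_one_iff.mp hk) hx1
      · rfl⟩
    have e : orderOf x / 2 = 2 ^ k := by rw [hk, pow_succ, Nat.mul_div_cancel _ two_pos]
    simp only [T, f, Finset.coe_erase, Finset.coe_filter, Finset.mem_univ, true_and, Set.mem_diff,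
      Set.mem_ofPred_eq, Set.mem_singleton_iff, e]
    refine ⟨by rw [← pow_mul, ← pow_succ, ← hk, pow_orderOf_eq_one], ?_⟩
    exact pow_ne_one_of_lt_orderOf (by positivity) (by
      rw [hk]; exact Nat.pow_lt_pow_right one_lt_two (by omega))
  have hsum := Finset.card_eq_sum_card_fiberwise hmaps
  have hfib : ∀ y ∈ T, (S.filter fun x => f x = y).card = (S.filter fun x => f x = z).card := by
    intro y hy
    have hy' : y ≠ 1 ∧ y ^ 2 = 1 := by simpa [T] using hy
    obtain ⟨a, rfl⟩ := htrans z y hz1 hz3 hy'.1 hy'.2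
    symm
    refine Finset.card_equiv a.toEquiv fun x => ?_
    simp only [S, f, Finset.mem_filter, Finset.mem_erase, Finset.mem_univ, and_true]
    change _ ↔ a x ≠ 1 ∧ a x ^ (orderOf (a x) / 2) = a z
    rw [MulEquiv.orderOf_eq, ← map_pow, a.injective.eq_iff, EmbeddingLike.map_ne_one_iff]
  rw [Finset.sum_congr rfl hfib, Finset.sum_const, smul_eq_mul] at hsum
  have hS : S.card = 2 ^ m - 1 := by
    rw [Finset.card_erase_of_mem (Finset.mem_univ _), Finset.card_univ, ← Nat.card_eq_fintype_card,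
      hm]
  have hT : T.card = 2 ^ n - 1 := by
    rw [Finset.card_erase_of_mem (by simp), ← Fintype.card_subtype, ← Nat.card_eq_fintype_card,
      e1, hn]
  have hd : 2 ^ n - 1 ∣ 2 ^ m - 1 := ⟨_, by rw [← hS, ← hT, hsum]⟩
  have hnm : n ∣ m := by
    have := Nat.pow_sub_one_gcd_pow_sub_one 2 n m
    rw [Nat.gcd_eq_left hd] at this
    have h2 : 2 ^ n = 2 ^ n.gcd m := by
      have := Nat.one_le_two_pow (n := n)
      have := Nat.one_le_two_pow (n := n.gcd m)
      omega
    rw [Nat.pow_right_injective le_rfl h2]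
    exact Nat.gcd_dvd_right n m
  obtain ⟨k, rfl⟩ := hnm
  exact ⟨k, by rw [e1, hn, hm, pow_mul]⟩

end Cfsg.Agent.S3774
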