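import Mathlib
import Cfsg.Statements.S3805
import Mathlib
import Cfsg.Agent.Inv.D9e

set_option autoImplicit false
open Cfsg

namespace Cfsg.Agent.S3805

open Subgroup Cfsg.Agent.LocalEven Cfsg.Agent.FGS Cfsg.Agent.D9

/-- Let G be a finite group whose Sylow 3-subgroup T is elementary abelian of order 9 and self-centralizing, with N_G(T)/T a Klein four-group, and suppose that the centralizer of every nonidentity element of T lies in N_G(T). Then T is normal in G. -/
theorem result {G : Type*} [Group G] [Finite G]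
    (T : Sylow 3 G) (hT : Cfsg.IsElementaryAbelian 3 (T : Subgroup G)) (hcard : Nat.card T = 9)
    (hC : Subgroup.centralizer ((T : Subgroup G) : Set G) = T)
    [hn : ((T : Subgroup G).subgroupOf (Subgroup.normalizer ((T : Subgroup G) : Set G))).Normal]
    (hK : IsKleinFour (↥(Subgroup.normalizer ((T : Subgroup G) : Set G)) ⧸
      (T : Subgroup G).subgroupOf (Subgroup.normalizer ((T : Subgroup G) : Set G))))
    (hloc : ∀ t ∈ (T : Subgroup G), t ≠ 1 →
      Subgroup.centralizer ({t} : Set G) ≤ Subgroup.normalizer ((T : Subgroup G) : Set G)) :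
    Subgroup.normalizer ((T : Subgroup G) : Set G) = ⊤ := by
  have h : SC9 (T : Subgroup G) := ⟨⟨isSylowIn_top T, hC.ge, hloc⟩, hcard,
    hT.2, hC.le⟩
  generalize (T : Subgroup G) = T at *
  have h36 : Nat.card (normalizer (T : Set G)) = 36 := by
    rw [card_eq_card_quotient_mul_card_subgroup (T.subgroupOf (normalizer (T : Set G))),
      hK.card_four, Nat.card_congr (subgroupOfEquivOfLe le_normalizer).toEquiv, hcard]
  have sq : ∀ g ∈ normalizer (T : Set G), g * g ∈ T := fun g hg =>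
    (QuotientGroup.eq_one_iff (N := T.subgroupOf (normalizer (T : Set G)))
      (⟨g, hg⟩ * ⟨g, hg⟩)).1 (by rw [QuotientGroup.mk_mul, IsKleinFour.mul_self])
  obtain ⟨s, hs, h1, hn⟩ : ∃ s ∈ normalizer (T : Set G), s ∉ T ∧ ¬ ∀ x ∈ T, s * x * s⁻¹ = x⁻¹ := by
    by_contra hc
    push Not at hc
    haveI : Nontrivial (normalizer (T : Set G) ⧸ T.subgroupOf (normalizer (T : Set G))) :=
      Finite.one_lt_card_iff_nontrivial.1 (by rw [hK.card_four]; norm_num)
    obtain ⟨x, hx⟩ := exists_ne (1 : normalizer (T : Set G) ⧸ T.subgroupOf (normalizer (T : Set G)))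
    refine IsKleinFour.not_isCyclic (isCyclic_iff_exists_zpowers_eq_top.2 ⟨x, eq_top_iff.2
      fun y _ => by_contra fun hy => ?_⟩)
    obtain ⟨x, rfl⟩ := QuotientGroup.mk_surjective x
    obtain ⟨y, rfl⟩ := QuotientGroup.mk_surjective y
    have e1 := hc x x.2 fun e => hx ((QuotientGroup.eq_one_iff x).2 e)
    have e2 := hc y y.2 fun e => hy (by
      rw [(QuotientGroup.eq_one_iff (N := T.subgroupOf _) y).2 e]; exact one_mem _)
    refine hy ((QuotientGroup.eq (s := T.subgroupOf _) (a := x) (b := y)).2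
      (h.cent fun t ht => ?_) ▸ mem_zpowers _)
    change t * ((x : G)⁻¹ * y) = (x : G)⁻¹ * y * t
    calc _ = (x : G)⁻¹ * (x * t * (x : G)⁻¹) * y := by group
      _ = _ := by rw [e1 t ht, ← e2 t ht]; group
  obtain ⟨⟨a, ha, a1, sa⟩, b, hb, b1, sb⟩ := split h.tl h.cent hs (sq s hs) h1 hn
  have k : ∀ g ∈ normalizer (T : Set G), ∀ x ∈ T,
      s * (g * x * g⁻¹) * s⁻¹ = g * (s * x * s⁻¹) * g⁻¹ := fun g hg x hx => by
    have m : (g * s)⁻¹ * (s * g) ∈ T :=
      (QuotientGroup.eq (s := T.subgroupOf (normalizer (T : Set G))) (a := ⟨g, hg⟩ * ⟨s, hs⟩)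
        (b := ⟨s, hs⟩ * ⟨g, hg⟩)).1 (by
          rw [QuotientGroup.mk_mul, QuotientGroup.mk_mul, mul_comm_of_exponent_two hK.exponent_two])
    calc _ = g * s * ((g * s)⁻¹ * (s * g) * x) * (s * g)⁻¹ := by group
      _ = _ := by rw [← h.tl.ab m x hx]; group
  have nb := ne_inv3 (h.exp b hb) b1
  refine (h.n36' h36 ha hb a1 b1 (fun e => nb (by rw [← sb, ← e, sa]))
    (fun e => nb (by rw [← e, ← sa, e, ← conj_inv, sb, inv_inv])) fun y hy hc => ?_).resolve_right
    fun ⟨e⟩ => ?_
  · rcases hc with c | c <;> obtain ⟨g, rfl⟩ := isConj_iff.1 c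
    · have := fix_mem3 hcard h.exp ha a1 sa hb b1 sb hy (by rw [k g (h.tl.ti ha a1 hy) a ha, sa])
      have : g * a * g⁻¹ ≠ 1 := mt conj_eq_one_iff.1 a1
      tauto
    · have := inv_mem3 h.tl hcard h.exp ha a1 sa hb b1 sb hy (by
        rw [k g (h.tl.ti hb b1 hy) b hb, sb, conj_inv])
      have : g * b * g⁻¹ ≠ 1 := mt conj_eq_one_iff.1 b1
      tauto
  · have c : Commute a (s ^ 3) := (show Commute a s from
      (mul_inv_eq_iff_eq_mul.1 sa).symm).pow_right 3
    have o : orderOf (s ^ 3) = 2 := Inv.two_of_mul_self (fun e => h1 (by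
      rw [pow_three', mul_eq_one_iff_inv_eq] at e
      exact e ▸ inv_mem (sq s hs))) (by rw [← (Commute.refl s).mul_pow, h.exp _ (sq s hs)])
    refine no6 e (a * s ^ 3) ?_
    rw [c.orderOf_mul_eq_mul_orderOf_of_coprime] <;>
      rw [orderOf_eq_prime (h.exp a ha) a1, o]
    norm_num

end Cfsg.Agent.S3805
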