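import Mathlib
import Cfsg.Statements.S3806
import Cfsg.Agent.Inv.MCl3

set_option autoImplicit false
open Cfsg

namespace Cfsg.Agent.S3806

open Inv.Rg Subgroup H23.Kr
open scoped commutatorElement

theorem relIndex_le {S : Type*} [Group S] {p k : ℕ} (h : SectionalPRankLE p k S) {X Y : Subgroup S} [Y.Normal]
    (h1 : ∀ a ∈ X, ∀ b ∈ X, ⁅a, b⁆ ∈ Y) (h2 : ∀ a ∈ X, a ^ p ∈ Y) : Y.relIndex X ≤ p ^ k := by
  have := h X (Y.subgroupOf X) ⊤ ⟨⟨?_⟩⟩ ?_
  · rwa [card_top] at this
  · rintro ⟨a, -⟩ ⟨b, -⟩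
    obtain ⟨a, rfl⟩ := QuotientGroup.mk'_surjective _ a
    obtain ⟨b, rfl⟩ := QuotientGroup.mk'_surjective _ b
    refine Subtype.ext (commutatorElement_eq_one_iff_mul_comm.1 ?_)
    rw [← map_commutatorElement]
    exact (QuotientGroup.eq_one_iff _).2 (h1 a a.2 b b.2)
  · intro a _
    obtain ⟨a, rfl⟩ := QuotientGroup.mk'_surjective _ a
    rw [← map_pow]
    exact (QuotientGroup.eq_one_iff _).2 (h2 a a.2)

/-- Let p be a prime and S a finite p-group of order pⁿ (n ≥ 2) of maximal nilpotency class n − 1 whose sectional p-rank is exactly k (every section has p-rank at most k, and some section has p-rank k). If p ≥ k + 2 then the order of S is at most p^(2k). -/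
theorem result {S : Type*} [Group S] [Finite S] (p : ℕ) [Fact p.Prime] (hS : IsPGroup p S) [Group.IsNilpotent S]
    (n : ℕ) (hn : 2 ≤ n) (hcard : Nat.card S = p ^ n) (hmax : Group.nilpotencyClass S = n - 1)
    (k : ℕ) (hk : 1 ≤ k) (hsr : Cfsg.SectionalPRankLE p k S ∧ ¬ Cfsg.SectionalPRankLE p (k - 1) S)
    (hpk : k + 2 ≤ p) : Nat.card S ≤ p ^ (2 * k) := by
  have hp : p.Prime := Fact.out
  by_contra hc
  rw [hcard, not_le, Nat.pow_lt_pow_iff_right hp.one_lt] at hc
  have h := MCl.of_cls hcard (by omega) hmax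
  rcases hk.eq_or_lt with rfl | h2
  · have := relIndex_le hsr.1 (X := ⊤) (Y := Γ S 2) (fun a _ b _ => Γ_comm_top (mem_Γ_one a) b)
      fun a _ => h.pow_mem le_rfl (mem_Γ_one a)
    rw [relIndex_top_right, h.index le_rfl hn, Nat.pow_le_pow_iff_right hp.one_lt] at this
    omega
  · obtain ⟨w, hw, hw'⟩ := h.exists_notMem h2 (by omega)
    have h1 := relIndex_le hsr.1 (X := Γ S k) (Y := Γ S (k + k + 1)) (fun a ha b hb => by
      obtain ⟨i, hi⟩ := h.mk_eq h2 hw hw' ha
      obtain ⟨j, hj⟩ := h.mk_eq h2 hw hw' hb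
      rw [← lie_mk_eq_zero ha hb, hi, hj]
      simp) fun a ha => Γ_antitone (by omega) (h.pow_mem_Γ h2 ha)
    have h3 := relIndex_mul_index (Γ_antitone (G := S) (show k ≤ k + k + 1 by omega))
    rw [h.index h2 (by omega), h.index (by omega) (by omega), show p ^ (k + k + 1) = p ^ (k + 1) * p ^ k by ring] at h3
    rw [Nat.eq_of_mul_eq_mul_right (pow_pos hp.pos _) h3, Nat.pow_le_pow_iff_right hp.one_lt] at h1
    omega

end Cfsg.Agent.S3806
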