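import Mathlib
import Cfsg.Statements.S3807
import Cfsg.Agent.PGrp.IndexP
-- import your own Cfsg.Agent.* helpers here

set_option autoImplicit false
open Cfsg

namespace Cfsg.Agent.S3807

/-- Let S be a non-abelian finite p-group with an abelian subgroup A of index p. Then [S : Z(S)] = p·#[S,S], and either [S,S] has order p, S/Z(S) is elementary abelian of order p², and S has exactly p + 1 abelian subgroups of index p; or [S,S] has order at least p² and A is the only abelian subgroup of index p in S. -/
theorem result {S : Type*} [Group S] [Finite S] (p : ℕ) [Fact p.Prime] (hS : IsPGroup p S) (hna : ¬ IsMulCommutative S)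
    (A : Subgroup S) (hA : IsMulCommutative ↥A) (hAi : A.index = p) :
    (Subgroup.center S).index = p * Nat.card (commutator S) ∧
      ((Nat.card (commutator S) = p ∧ Cfsg.IsElementaryAbelian p (⊤ : Subgroup (S ⧸ Subgroup.center S)) ∧
          Nat.card (S ⧸ Subgroup.center S) = p ^ 2 ∧
          Nat.card {B : Subgroup S // IsMulCommutative ↥B ∧ B.index = p} = p + 1) ∨
        (p ^ 2 ≤ Nat.card (commutator S) ∧ ∀ B : Subgroup S, IsMulCommutative ↥B → B.index = p → B = A)) := by
  have hp : p.Prime := Fact.out
  have h1 := PGrp.index_center_of_abelian_index_prime hS hna hA hAi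
  refine ⟨h1, ?_⟩
  by_cases hc : Nat.card (commutator S) = p
  · left
    obtain ⟨h2, h3⟩ := PGrp.pow_mem_center_of_card_commutator hS hc
    rw [hc, ← sq] at h1
    refine ⟨hc, ⟨?_, ?_⟩, h1, ?_⟩
    · rw [PGrp.isMulCommutative_iff_forall]
      intro a _ b _
      exact (Subgroup.Normal.quotient_commutative_iff_commutator_le.mpr h2).is_comm.comm a b
    · intro a _
      obtain ⟨x, rfl⟩ := QuotientGroup.mk_surjective a
      rw [← QuotientGroup.mk_pow, QuotientGroup.eq_one_iff]
      exact h3 x
    · rw [← PGrp.card_index_eq_prime_ge h1 h2 h3]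
      refine Nat.card_congr (Equiv.subtypeEquivRight fun M => ⟨fun h =>
        ⟨PGrp.center_le_of_index_prime hp hna h.1 h.2, h.2⟩, fun h => ⟨?_, h.2⟩⟩)
      refine Core.isMulCommutative_of_relIndex_prime h.1 (Subgroup.center_le_centralizer _) ?_
      have := Subgroup.relIndex_mul_index h.1
      rw [h1, h.2, sq] at this
      rw [Nat.eq_of_mul_eq_mul_right hp.pos this]
      exact hp
  · right
    obtain ⟨k, hk⟩ := PGrp.exists_card_eq_pow hS (commutator S)
    have hk2 : 2 ≤ k := by
      by_contra h
      interval_cases k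
      · exact hna ((commutator_eq_bot_iff S).mp (Subgroup.card_eq_one.mp hk))
      · exact hc (by rw [hk, pow_one])
    have h2 : p ^ 2 ≤ Nat.card (commutator S) := hk ▸ Nat.pow_le_pow_right hp.pos hk2
    refine ⟨h2, fun B hB hBi => ?_⟩
    by_contra hne
    have hsup : A ⊔ B = ⊤ := by
      rcases PGrp.eq_or_eq_top_of_index_prime hp hAi (le_sup_left : A ≤ A ⊔ B) with h | h
      · rcases PGrp.eq_or_eq_top_of_index_prime hp hBi (le_sup_right.trans h.le) with h' | h'
        · exact absurd h'.symm hne
        · rw [h', Subgroup.index_top] at hAi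
          exact absurd hAi hp.one_lt.ne
      · exact h
    have h3 : A ⊓ B ≤ Subgroup.center S := by
      rw [← Subgroup.centralizer_univ, ← Subgroup.coe_top, ← hsup, PGrp.centralizer_sup]
      exact inf_le_inf (Subgroup.le_centralizer_iff_isMulCommutative.mpr hA)
        (Subgroup.le_centralizer_iff_isMulCommutative.mpr hB)
    have h4 := Subgroup.index_antitone h3
    have h5 := Subgroup.index_inf_le (H := A) (K := B)
    rw [hAi, hBi] at h5
    have h6 : p * p ^ 2 ≤ p * p := ((Nat.mul_le_mul_left p h2).trans h1.ge).trans (h4.trans h5)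
    have := hp.one_lt
    nlinarith

end Cfsg.Agent.S3807
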