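import Mathlib
import Cfsg.Statements.S3808
import Cfsg.Agent.PGrp.IndexP
-- import your own Cfsg.Agent.* helpers here

set_option autoImplicit false
open Cfsg

namespace Cfsg.Agent.S3808

/-- Let S be a finite p-group with an extraspecial subgroup Q of index p. Then either Z(S) = Z(Q), or S = Q·Z(S) and Z(S) has order p². -/
theorem result {S : Type*} [Group S] [Finite S] (p : ℕ) [Fact p.Prime] (hS : IsPGroup p S) (Q : Subgroup S) (hQ : Cfsg.IsExtraspecial p ↥Q) (hQi : Q.index = p) :
    Subgroup.center S = (Subgroup.center ↥Q).map Q.subtype ∨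
      (Q ⊔ Subgroup.center S = ⊤ ∧ Nat.card (Subgroup.center S) = p ^ 2) := by
  have hp : p.Prime := Fact.out
  obtain ⟨h1, h2, h3, h4⟩ := PGrp.isExtraspecial_iff.mp hQ
  rw [BG.Rank.map_center_subtype]
  have := PGrp.normal_of_index_eq_prime hS hQi
  have hZ : Q ⊓ Subgroup.centralizer (Q : Set S) ≤ Subgroup.center S :=
    PGrp.le_center_of_card_eq_prime hS _ h2
  have hZ' : Q ⊓ Subgroup.center S = Q ⊓ Subgroup.centralizer (Q : Set S) :=
    le_antisymm (inf_le_inf_left _ (Subgroup.center_le_centralizer _)) (le_inf inf_le_left hZ)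
  rcases PGrp.eq_or_eq_top_of_index_prime hp hQi (le_sup_left : Q ≤ Q ⊔ Subgroup.center S) with h | h
  · left
    rw [← hZ', inf_eq_right.mpr (le_sup_right.trans h.le)]
  · refine Or.inr ⟨h, ?_⟩
    have h5 := PGrp.card_sup_mul_card_inf (N := Q) (H := Subgroup.center S)
      Subgroup.le_normalizer_of_normal
    rw [h, hZ', h2, Subgroup.card_top, ← Q.card_mul_index, hQi, mul_assoc] at h5
    rw [← Nat.eq_of_mul_eq_mul_left Nat.card_pos h5, sq]

end Cfsg.Agent.S3808
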