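import Mathlib
import Cfsg.Statements.S3809
import Cfsg.Agent.PGrp.IndexP
import Cfsg.Agent.PGrp.Extra
-- import your own Cfsg.Agent.* helpers here

set_option autoImplicit false
open Cfsg

namespace Cfsg.Agent.S3809

/-- Let S be a finite p-group with an extraspecial subgroup of index p. Then S has order p^(2+2n) for some n ≥ 1, derived length at most 3, and exponent dividing p³. -/
theorem result {S : Type*} [Group S] [Finite S] (p : ℕ) [Fact p.Prime] (hS : IsPGroup p S) (Q : Subgroup S) (hQ : Cfsg.IsExtraspecial p ↥Q) (hQi : Q.index = p) :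
    (∃ n : ℕ, 1 ≤ n ∧ Nat.card S = p ^ (2 + 2 * n)) ∧ derivedSeries S 3 = ⊥ ∧ ∀ x : S, x ^ (p ^ 3) = 1 := by
  have hp : p.Prime := Fact.out
  obtain ⟨h1, h2, h3, h4⟩ := PGrp.isExtraspecial_iff.mp hQ
  have := PGrp.normal_of_index_eq_prime hS hQi
  obtain ⟨m, -, hm, -, hc⟩ := PGrp.exists_cext_of_isExtraspecial hQ
  refine ⟨⟨m, hm, by rw [← Q.card_mul_index, hc, hQi]; ring⟩, ?_, fun x => ?_⟩
  · have e1 : derivedSeries S 1 ≤ Q := PGrp.commutator_le_of_index_prime hp hQi
    have e2 : derivedSeries S 2 ≤ Q ⊓ Subgroup.centralizer (Q : Set S) :=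
      h3 ▸ Subgroup.commutator_mono e1 e1
    rw [derivedSeries_succ, ← Core.le_centralizer_iff_commutator_eq_bot]
    exact (e2.trans inf_le_right).trans (Subgroup.centralizer_le (e2.trans inf_le_left))
  · have e1 : x ^ p ∈ Q := hQi ▸ Subgroup.pow_index_mem Q x
    have e2 : (x ^ p) ^ p ∈ Q ⊓ Subgroup.centralizer (Q : Set S) := ⟨Q.pow_mem e1 p, h4 _ e1⟩
    have e3 := congrArg Subtype.val (pow_card_eq_one' (x := (⟨_, e2⟩ :
      ↥(Q ⊓ Subgroup.centralizer (Q : Set S)))))
    rw [h2] at e3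
    rw [show p ^ 3 = p * p * p by ring, pow_mul, pow_mul]
    exact e3

end Cfsg.Agent.S3809
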