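import Mathlib
import Cfsg.Statements.S3810
import Cfsg.Agent.PGrp.IndexP
-- import your own Cfsg.Agent.* helpers here

set_option autoImplicit false
open Cfsg

namespace Cfsg.Agent.S3810

/-- Let S be a finite p-group with an extraspecial subgroup of index p. Then S has an abelian subgroup of index p if and only if S has order p⁴. -/
theorem result {S : Type*} [Group S] [Finite S] (p : ℕ) [Fact p.Prime] (hS : IsPGroup p S) (Q : Subgroup S) (hQ : Cfsg.IsExtraspecial p ↥Q) (hQi : Q.index = p) :
    (∃ A : Subgroup S, IsMulCommutative ↥A ∧ A.index = p) ↔ Nat.card S = p ^ 4 := by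
  have hp : p.Prime := Fact.out
  constructor
  · rintro ⟨A, hA, hAi⟩
    obtain ⟨⟨h1, h2, h3⟩, h4⟩ := hQ
    have hna : ¬ IsMulCommutative Q := fun h => by
      rw [← h3, (commutator_eq_bot_iff Q).mpr h, Subgroup.card_bot] at h4
      exact hp.one_lt.ne h4
    have := PGrp.normal_of_index_eq_prime hS hAi
    have h5 : (A.subgroupOf Q).index ∣ p := hAi ▸ Subgroup.relIndex_dvd_index_of_normal A Q
    rcases (Nat.dvd_prime hp).mp h5 with h | h
    · exact absurd (PGrp.isMulCommutative_of_le (Subgroup.relIndex_eq_one.mp h) hA) hna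
    · have h6 := PGrp.index_center_of_abelian_index_prime h1 hna (A := A.subgroupOf Q)
        inferInstance h
      rw [← Q.card_mul_index, ← (Subgroup.center Q).card_mul_index, h6, h3, h4, hQi]
      ring
  · intro h
    obtain ⟨N, hN, -, hc⟩ := PGrp.exists_normal_le_card_eq hS ⊤ 2 (by
      rw [Subgroup.card_top, h]; exact Nat.pow_le_pow_right hp.pos (by norm_num))
    have hNc : IsMulCommutative N := PGrp.isMulCommutative_of_card_le_sq (hS.to_subgroup N) hc.le
    have h1 := PGrp.index_centralizer_le_of_card_eq_sq hS N hc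
    obtain ⟨M, -, h2, h3, h4⟩ := PGrp.exists_normal_between_card_eq hS N
      (Subgroup.centralizer (N : Set S)) (Subgroup.le_centralizer_iff_isMulCommutative.mpr hNc) 1 (by
        have := (Subgroup.centralizer (N : Set S)).card_mul_index
        refine Nat.le_of_mul_le_mul_right ?_ hp.pos
        calc Nat.card N * p ^ 1 * p = Nat.card S := by rw [hc, h]; ring
          _ ≤ _ := by rw [← this]; exact Nat.mul_le_mul_left _ h1)
    refine ⟨M, Core.isMulCommutative_of_relIndex_prime h2 (Subgroup.le_centralizer_iff.mp h3) ?_, ?_⟩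
    · have := PGrp.card_eq_card_mul_relIndex h2
      rw [h4, pow_one] at this
      rw [← Nat.eq_of_mul_eq_mul_left Nat.card_pos this]
      exact hp
    · have := M.card_mul_index
      rw [h4, hc, h, show p ^ 4 = p ^ 2 * p ^ 1 * p by ring] at this
      exact Nat.eq_of_mul_eq_mul_left (by have := hp.pos; positivity) this

end Cfsg.Agent.S3810
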