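import Mathlib
import Cfsg.Statements.S3824
import Cfsg.Agent.FGS.Kazarin
import Cfsg.Agent.FGS.Solv
import Cfsg.Agent.FGS.Basic2
import Cfsg.Agent.Core.MinNormal

set_option autoImplicit false
open Cfsg

namespace Cfsg.Agent.S3824

open Subgroup Cfsg.Agent.FGS

/-- Every finite group having an abelian subgroup whose index is a power of 2 is solvable. -/
theorem result {G : Type*} [Group G] [Finite G]
    (A : Subgroup G) (hA : IsMulCommutative A) (hidx : ∃ k : ℕ, A.index = 2 ^ k) : Group.IsSolvable G := by
  revert A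
  refine Core.induction_on_card (P := fun G _ _ => ∀ A : Subgroup G, IsMulCommutative A → (∃ k : ℕ, A.index = 2 ^ k) → Group.IsSolvable G) (fun G _ _ ih A hA ⟨k, hk⟩ => ?_) G
  by_cases h0 : A = ⊥
  · subst h0
    rw [index_bot] at hk
    haveI := (IsPGroup.of_card hk).isNilpotent
    infer_instance
  obtain ⟨⟨x, hx⟩, hx1⟩ := ne_bot_iff_exists_ne_one.mp h0
  have hx1' : x ≠ 1 := fun h => hx1 (Subtype.ext h)
  obtain ⟨j, hj⟩ := exists_pow_of_dvd Nat.prime_two (hk ▸ index_dvd_of_le (le_centralizer_of_comm hA hx))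
  have hR := kazarin Nat.prime_two G x j hj
  haveI := solvableRadical_normal (G := G)
  haveI := solvableRadical_solvable (G := G)
  have hne : solvableRadical G ≠ ⊥ := fun h => hx1' (by rw [h] at hR; exact hR)
  have hq : Group.IsSolvable (G ⧸ solvableRadical G) := by
    refine ih _ ?_ (A.map (QuotientGroup.mk' _)) ?_ ?_
    · rw [card_eq_card_quotient_mul_card_subgroup (solvableRadical G)]
      exact lt_mul_of_one_lt_right Nat.card_pos ((one_lt_card_iff_ne_bot _).mpr hne)
    · infer_instance
    · exact exists_pow_of_dvd Nat.prime_two (hk ▸ index_map_dvd A (QuotientGroup.mk'_surjective _))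
  exact (Group.isSolvable_iff_subgroup_quotient (solvableRadical G)).mpr ⟨inferInstance, hq⟩

end Cfsg.Agent.S3824
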