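import Mathlib
import Cfsg.Statements.S3862
import Cfsg.Agent.FGS.MinNPC
import Cfsg.Agent.FGS.Comm
import Cfsg.Agent.PGrp.Frattini

set_option autoImplicit false
open Cfsg

namespace Cfsg.Agent.S3862

open Subgroup Cfsg.Agent.FGS
open scoped commutatorElement

/-- If every 2-element of the finite group G that is conjugate to its inverse lies in the centre of G, then G has a normal 2-complement. -/
theorem result {G : Type*} [Group G] [Finite G] (h : ∀ x : G, (∃ j : ℕ, orderOf x = 2 ^ j) → IsConj x x⁻¹ → x ∈ Subgroup.center G) : Cfsg.HasNormalPComplement 2 G := by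
  refine npc_induction (p := 2) (P := fun G _ => ∀ x : G, (∃ j : ℕ, orderOf x = 2 ^ j) → IsConj x x⁻¹ → x ∈ Subgroup.center G) ?_ ?_ G h
  · intro G _ _ H h x ⟨j, hj⟩ hc
    have := h x ⟨j, by rw [orderOf_coe, hj]⟩ (H.subtype.map_isConj hc)
    rw [mem_center_iff] at this ⊢
    exact fun y => Subtype.ext (this y)
  intro G _ _ q Q g hm h
  haveI := hm.normal
  have hsq : ∀ u ∈ Q, u ^ 2 ∈ center G := fun u hu =>
    hm.frattini_le_center ⟨⟨u, hu⟩ ^ 2, PGrp.pow_mem_frattini hm.pgroup _, rfl⟩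
  have hcm : ∀ u ∈ Q, ∀ v ∈ Q, ⁅u, v⁆ ∈ center G := fun u hu v hv =>
    hm.commutator_le_center (commutator_mem_commutator hu hv)
  -- an element `x = [u, g]` outside the centre
  obtain ⟨u, hu, hx⟩ : ∃ u ∈ Q, ⁅u, g⁆ ∉ center G := by
    by_contra! hc
    apply hm.not_le_center
    rw [← hm.commutator_zpowers, Subgroup.commutator_comm, commutator_le_iff_le_comap, zpowers_le,
      mem_comap, mem_centralizer_iff]
    rintro _ ⟨v, hv, rfl⟩
    rw [← commutatorElement_eq_one_iff_mul_comm, ← map_commutatorElement]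
    exact (QuotientGroup.eq_one_iff _).mpr (hc v hv)
  have hv : g * u⁻¹ * g⁻¹ ∈ Q := hm.normal.conj_mem _ (inv_mem hu) g
  have hxe : ⁅u, g⁆ = u * (g * u⁻¹ * g⁻¹) := by rw [commutatorElement_def]; group
  have hxQ : ⁅u, g⁆ ∈ Q := hxe ▸ mul_mem hu hv
  have hx2 : ⁅u, g⁆ ^ 2 ∈ ⁅Q, Q⁆ := by
    have h1 : (g * u⁻¹ * g⁻¹) ^ 2 = (u ^ 2)⁻¹ := by
      have := mem_center_iff.mp (inv_mem (hsq u hu)) g
      calc (g * u⁻¹ * g⁻¹) ^ 2 = g * (u ^ 2)⁻¹ * g⁻¹ := by rw [conj_pow]; group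
        _ = (u ^ 2)⁻¹ := by rw [this]; group
    set v := g * u⁻¹ * g⁻¹ with hvd
    have h2 : (u * v) ^ 2 = u * ⁅v, u⁆ * u⁻¹ * (u ^ 2 * v ^ 2) := by
      rw [commutatorElement_def]; simp only [pow_two]; group
    rw [hxe, h2, h1, mul_inv_cancel, mul_one]
    exact (inferInstance : (⁅Q, Q⁆).Normal).conj_mem _ (commutator_mem_commutator hv hu) u
  set x := ⁅u, g⁆ with hxd
  clear_value x
  let W : Subgroup G :=
    { carrier := {w | ∃ y ∈ Q, w = ⁅y, x⁆}
      one_mem' := ⟨1, one_mem _, by simp⟩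
      mul_mem' := by
        rintro _ _ ⟨a, ha, rfl⟩ ⟨b, hb, rfl⟩
        refine ⟨a * b, mul_mem ha hb, ?_⟩
        have := mem_center_iff.mp (hcm b hb x hxQ)
        calc ⁅a, x⁆ * ⁅b, x⁆ = ⁅b, x⁆ * a * a⁻¹ * ⁅a, x⁆ := by rw [this ⁅a, x⁆]; group
          _ = a * ⁅b, x⁆ * a⁻¹ * ⁅a, x⁆ := by rw [this a]
          _ = ⁅a * b, x⁆ := by simp only [commutatorElement_def]; group
      inv_mem' := by
        rintro _ ⟨a, ha, rfl⟩
        refine ⟨a⁻¹, inv_mem ha, ?_⟩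
        have := mem_center_iff.mp (inv_mem (hcm a ha x hxQ)) a⁻¹
        calc ⁅a, x⁆⁻¹ = ⁅a, x⁆⁻¹ * a⁻¹ * a := by group
          _ = a⁻¹ * ⁅a, x⁆⁻¹ * a := by rw [this]
          _ = ⁅a⁻¹, x⁆ := by simp only [commutatorElement_def]; group }
  have hWZ : W ≤ center G := by
    rintro _ ⟨a, ha, rfl⟩
    exact hcm a ha x hxQ
  haveI : W.Normal := ⟨fun w hw a => by
    rw [mem_center_iff.mp (hWZ hw) a]; simpa using hw⟩
  have hS : Q ⊓ (centralizer (Q.map (QuotientGroup.mk' W) : Set (G ⧸ W))).comap (QuotientGroup.mk' W) = Q := by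
    haveI : (Q.map (QuotientGroup.mk' W)).Normal := hm.normal.map _ (QuotientGroup.mk'_surjective W)
    refine hm.eq_of_not_le_center inf_le_left fun hc => hx (hc (mem_inf.mpr ⟨hxQ, ?_⟩))
    rw [mem_comap, mem_centralizer_iff]
    rintro _ ⟨v, hv, rfl⟩
    rw [← commutatorElement_eq_one_iff_mul_comm, ← map_commutatorElement]
    exact (QuotientGroup.eq_one_iff _).mpr ⟨v, hv, rfl⟩
  have hQW : ⁅Q, Q⁆ ≤ W := commutator_le_iff_le_comap.mpr (hS.ge.trans inf_le_right)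
  obtain ⟨y, -, hy⟩ := hQW (inv_mem hx2)
  refine hx (h x (exists_orderOf_eq_of_mem hm.pgroup hxQ) (isConj_iff.mpr ⟨y, ?_⟩))
  calc y * x * y⁻¹ = ⁅y, x⁆ * x := by rw [commutatorElement_def]; group
    _ = x⁻¹ := by rw [← hy]; group

end Cfsg.Agent.S3862
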