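import Mathlib
import Cfsg.Statements.S3869
import Cfsg.Agent.FGS.PClosed
import Cfsg.Agent.Core.Coprime2
import Cfsg.Agent.Core.Product
import Cfsg.Agent.Transfer.Wielandt

set_option autoImplicit false
open Cfsg

namespace Cfsg.Agent.S3869

open Subgroup Cfsg.Agent.FGS

/-- Let p and q be distinct primes and G a finite non-abelian group with a normal elementary abelian q-subgroup A that is a minimal normal subgroup of G and has index p. Then A has order q^e with e the multiplicative order of q modulo p, and G is minimal non-p-closed: its Sylow p-subgroups are not normal, while in every proper subgroup and in every proper quotient of G the Sylow p-subgroups are normal. -/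
theorem result {G : Type*} [Group G] [Finite G] {p q : ℕ} [Fact p.Prime] (hq : q.Prime) (hpq : q ≠ p)
    (hna : ¬ IsMulCommutative G) (A : Subgroup G) [A.Normal] (hA : Cfsg.IsElementaryAbelian q A) (hidx : A.index = p)
    (hmin : ∀ B : Subgroup G, B.Normal → B ≤ A → B = ⊥ ∨ B = A) :
    Nat.card ↥A = q ^ orderOf (q : ZMod p) ∧ ¬ Cfsg.IsPClosed p G ∧ (∀ H : Subgroup G, H ≠ ⊤ → Cfsg.IsPClosed p ↥H) ∧
      ∀ (N : Subgroup G) [N.Normal], N ≠ ⊥ → Cfsg.IsPClosed p (G ⧸ N) := by
  have hp : p.Prime := Fact.out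
  haveI : Fact q.Prime := ⟨hq⟩
  have hco : IsCoatom A := isCoatom_of_index_prime (hidx ▸ hp)
  have hAq := Core.IsElementaryAbelian.isPGroup hA
  have hpA : ¬ p ∣ Nat.card A := Transfer.not_dvd_card_of_isPGroup hp hpq.symm hAq
  have hcm : ∀ a ∈ A, ∀ b ∈ A, a * b = b * a := fun a ha b hb => Core.comm_of_isMulCommutative hA.1 ha hb
  have hAc : A ≤ centralizer (A : Set G) := fun a ha => mem_centralizer_iff.mpr fun b hb => hcm b hb a ha
  have hC : ∀ g : G, g ∉ A → g ∉ centralizer (A : Set G) := by
    intro g hg hc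
    have h1 : centralizer (A : Set G) = ⊤ := by
      rw [eq_top_iff, ← sup_zpowers_eq_top_of_isCoatom hco hg]
      exact sup_le hAc (zpowers_le.mpr hc)
    have h2 := Core.isMulCommutative_of_relIndex_prime (Z := A) (K := ⊤) le_top
      (fun a ha => mem_centralizer_iff.mpr fun b _ => (mem_centralizer_iff.mp (h1.ge (mem_top b)) a ha).symm)
      (by rw [relIndex_top_right, hidx]; exact hp)
    exact hna ⟨⟨fun a b => Core.comm_of_isMulCommutative h2 (mem_top a) (mem_top b)⟩⟩
  obtain ⟨x, hx⟩ := exists_prime_orderOf_dvd_card' p (hidx ▸ A.index_dvd_card)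
  have hxA : x ∉ A := fun h => hpA (hx ▸ A.orderOf_dvd_natCard h)
  have hnorm : ∀ H : Subgroup G, ¬ H ≤ A → ∀ B : Subgroup G, B ≤ A → H ≤ normalizer (B : Set G) → B.Normal := by
    intro H hH B hB hn
    rw [← normalizer_eq_top_iff, eq_top_iff, ← sup_eq_top_of_isCoatom hco hH]
    exact sup_le (hAc.trans ((centralizer_le hB).trans (centralizer_le_normalizer _))) hn
  refine ⟨?_, ?_, ?_, ?_⟩
  · refine card_of_irred hq hA ((normalizer_eq_top A).ge (mem_top x))
      (by rw [← hx, pow_orderOf_eq_one]; exact one_mem _) (hC x hxA) fun B hB h => ?_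
    exact hmin B (hnorm (zpowers x) (by rwa [zpowers_le]) B hB (zpowers_le.mpr (mem_normalizer_fintype h))) hB
  · intro h
    refine hC x hxA (mem_centralizer_of_isPClosed (k := 1) (by rw [hx, pow_one]) hpA
      ((normalizer_eq_top A).ge (mem_top x)) ?_)
    rw [sup_zpowers_eq_top_of_isCoatom hco hxA]
    obtain ⟨P⟩ : Nonempty (Sylow p G) := inferInstance
    haveI := h P
    exact isPClosed_of_normal (P.subtype le_top) (by rw [Sylow.coe_subtype]; infer_instance)
  · intro H hH
    by_cases hHA : H ≤ A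
    · exact isPClosed_of_not_dvd fun h => hpA (h.trans (card_dvd_of_le hHA))
    rcases hmin (H ⊓ A) (hnorm H hHA _ inf_le_right (fun h hh => mem_normalizer_fintype fun y hy =>
      ⟨H.mul_mem (H.mul_mem hh hy.1) (H.inv_mem hh), Normal.conj_mem inferInstance y hy.2 h⟩)) inf_le_right with h | h
    · refine isPClosed_of_isPGroup (IsPGroup.of_card (n := 1) ?_)
      have h1 := Core.index_eq_relIndex_of_sup_eq_top (sup_eq_top_of_isCoatom hco hHA)
      rw [pow_one, ← hidx, h1, ← inf_relIndex_right, inf_comm, h, relIndex_bot_left]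
    · exact absurd ((sup_eq_right.mpr (h.ge.trans inf_le_left)).symm.trans (sup_eq_top_of_isCoatom hco hHA)) hH
  · intro N _ hN
    rcases hmin (N ⊓ A) inferInstance inf_le_right with h | h
    · exfalso
      obtain ⟨⟨g, hg⟩, hg1⟩ := ne_bot_iff_exists_ne_one.mp hN
      refine hC g (fun hgA => hg1 (Subtype.ext (h.le ⟨hg, hgA⟩))) ?_
      exact Core.le_centralizer_of_disjoint (disjoint_iff.mpr h) hg
    · obtain ⟨k, hk⟩ := (Nat.dvd_prime_pow hp (m := 1) (i := N.index)).mp
        (by rw [pow_one, ← hidx]; exact index_dvd_of_le (h.ge.trans inf_le_left))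
      exact isPClosed_of_isPGroup (IsPGroup.of_card hk.2)

end Cfsg.Agent.S3869
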