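import Mathlib
import Cfsg.Statements.S3868
import Cfsg.Agent.S3869
import Cfsg.Agent.Core.SylowOf

set_option autoImplicit false
open Cfsg

namespace Cfsg.Agent.S3868

open Subgroup Cfsg.Agent.FGS

/-- Structure of the non-simple minimal non-p-closed groups. Call a finite group p-closed when its Sylow p-subgroups are normal, and minimal non-p-closed when it is not p-closed but every proper subgroup and every proper quotient is. If such a group G is not simple, then there is a prime q ≠ p such that G has order p · q^e, where e is the multiplicative order of q modulo p, and G has a normal subgroup A of order q^e that is elementary abelian and is a minimal normal subgroup of G (so G is the semidirect product of A by a group of order p acting irreducibly). -/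
theorem result {G : Type*} [Group G] [Finite G] {p : ℕ} [Fact p.Prime]
    (hnc : ¬ Cfsg.IsPClosed p G) (hsub : ∀ H : Subgroup G, H ≠ ⊤ → Cfsg.IsPClosed p ↥H)
    (hquo : ∀ (N : Subgroup G) [N.Normal], N ≠ ⊥ → Cfsg.IsPClosed p (G ⧸ N)) (hns : ¬ IsSimpleGroup G) :
    ∃ q : ℕ, q.Prime ∧ q ≠ p ∧ Nat.card G = p * q ^ orderOf (q : ZMod p) ∧
      ∃ A : Subgroup G, A.Normal ∧ Nat.card ↥A = q ^ orderOf (q : ZMod p) ∧ Cfsg.IsElementaryAbelian q A ∧
        ∀ B : Subgroup G, B.Normal → B ≤ A → B = ⊥ ∨ B = A := by
  have hp : p.Prime := Fact.out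
  have hpG : p ∣ Nat.card G := by
    by_contra h; exact hnc (isPClosed_of_not_dvd h)
  have hO : ∀ N : Subgroup G, N.Normal → IsPGroup p N → N = ⊥ := by
    intro N _ hN
    by_contra h
    exact hnc (isPClosed_of_quotient N hN (hquo N h))
  have hN' : ∀ N : Subgroup G, N.Normal → N ≠ ⊤ → ¬ p ∣ Nat.card N := by
    intro N _ hN hd
    obtain ⟨P⟩ : Nonempty (Sylow p N) := inferInstance
    haveI := hsub N hN P
    haveI := P.characteristic_of_normal this
    have h1 := hO ((P : Subgroup N).map N.subtype) inferInstance (P.isPGroup'.map _)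
    exact (Core.isSylowOf_map_subtype P).ne_bot hd h1
  haveI : Nontrivial G := by
    by_contra h
    rw [not_nontrivial_iff_subsingleton] at h
    rw [Nat.card_unique] at hpG
    exact hp.one_lt.ne' (Nat.dvd_one.mp hpG)
  obtain ⟨N, hNn, hN0, hN1⟩ : ∃ N : Subgroup G, N.Normal ∧ N ≠ ⊥ ∧ N ≠ ⊤ := by
    by_contra! h
    exact hns ⟨fun N hN => by by_cases h0 : N = ⊥; exact Or.inl h0; exact Or.inr (h N hN h0)⟩
  obtain ⟨A, hAn, hA0, hAN, hmin⟩ := Core.exists_minimal_normal_le N hN0
  have hpA : ¬ p ∣ Nat.card A := fun h => hN' N hNn hN1 (h.trans (card_dvd_of_le hAN))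
  obtain ⟨x, hx⟩ := exists_prime_orderOf_dvd_card' p hpG
  have hxc : x ∉ centralizer (A : Set G) := by
    intro hc
    have h1 : centralizer (A : Set G) = ⊤ := by
      by_contra h
      exact hN' _ inferInstance h (hx ▸ (centralizer (A : Set G)).orderOf_dvd_natCard hc)
    obtain ⟨P⟩ : Nonempty (Sylow p G) := inferInstance
    have hs := QuotientGroup.mk'_surjective A
    have h2 := (hquo A hA0 (P.mapSurjective hs)).comap (QuotientGroup.mk' A)
    rw [Sylow.coe_mapSurjective, comap_map_eq, QuotientGroup.ker_mk'] at h2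
    have h3 : (P : Subgroup G) ⊔ A = ⊤ := by
      by_contra h
      exact hN' _ h2 h ((P.dvd_card_of_dvd_card hpG).trans (card_dvd_of_le le_sup_left))
    refine hnc (isPClosed_of_normal P ?_)
    rw [← normalizer_eq_top_iff, eq_top_iff, ← h3]
    refine sup_le le_normalizer (le_trans ?_ (centralizer_le_normalizer _))
    exact le_centralizer_iff.mp (h1.ge.trans' le_top)
  have hcop : (Nat.card (zpowers x)).Coprime (Nat.card A) := by
    rw [Nat.card_zpowers, hx]; exact (Nat.Prime.coprime_iff_not_dvd hp).mpr hpA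
  have hxn : zpowers x ≤ normalizer (A : Set G) := by rw [normalizer_eq_top]; exact le_top
  obtain ⟨q, hq, hqA, hsup⟩ : ∃ q : ℕ, q.Prime ∧ IsPGroup q A ∧ A ⊔ zpowers x = ⊤ := by
    by_contra! h
    apply hxc
    have : A ≤ centralizer (zpowers x : Set G) := by
      refine Core.le_of_forall_isSylowOf_le A _ fun q hq _ => ?_
      haveI := Fact.mk hq
      obtain ⟨Q, hQ, hQn⟩ := Core.exists_invariant_isSylowOf (zpowers x) A hxn hcop (Or.inl inferInstance) q
      refine ⟨Q, hQ, le_centralizer_iff.mp (zpowers_le.mpr ?_)⟩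
      refine mem_centralizer_of_isPClosed (p := p) (k := 1) (by rw [hx, pow_one])
        (fun h => hpA (h.trans (card_dvd_of_le hQ.le))) (hQn (mem_zpowers x)) (hsub _ fun ht => ?_)
      have h1 := Core.sup_inf_of_le_left hQn hQ.le
      rw [ht, top_inf_eq, (disjoint_of_coprime_natCard hcop).eq_bot, sup_bot_eq] at h1
      exact h q hq (h1 ▸ hQ.isPGroup) (h1 ▸ ht)
    exact le_centralizer_iff.mp this (mem_zpowers x)
  haveI := Fact.mk hq
  have hqp : q ≠ p := by
    rintro rfl
    exact hA0 (hO A hAn hqA)
  haveI := hqA.isNilpotent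
  obtain ⟨r, hr, hA⟩ := Core.minimal_normal_elementary A inferInstance hA0 hmin
  have hrq : r = q := by
    by_contra h
    haveI := Fact.mk hr
    exact hA0 (disjoint_self.mp (IsPGroup.disjoint_of_ne r q h A A (Core.IsElementaryAbelian.isPGroup hA) hqA))
  subst hrq
  have hidx : A.index = p := by
    rw [Core.index_eq_relIndex_of_sup_eq_top hsup, ← inf_relIndex_right, inf_comm,
      (disjoint_of_coprime_natCard hcop).eq_bot, relIndex_bot_left, Nat.card_zpowers, hx]
  have hna : ¬ IsMulCommutative G := fun h => hxc (mem_centralizer_iff.mpr fun a _ => h.is_comm.comm a x)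
  have hc := (S3869.result hq hqp hna A hA hidx hmin).1
  exact ⟨r, hq, hqp, by rw [← A.index_mul_card, hidx, hc], A, hAn, hc, hA, hmin⟩

end Cfsg.Agent.S3868
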