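import Mathlib
import Cfsg.Statements.S3870
import Cfsg.Agent.Core.SylowOf
import Cfsg.Agent.FGS.Basic2
import Cfsg.Agent.FGS.Sylow

set_option autoImplicit false
open Cfsg

namespace Cfsg.Agent.S3870

open Subgroup

/-- Let G be a finite simple group whose Sylow p-subgroups are not normal but such that every proper subgroup of G has a normal Sylow p-subgroup. Then any two distinct Sylow p-subgroups of G intersect trivially, and for every Sylow p-subgroup P the normalizer of every non-identity subgroup of P lies in the normalizer of P. -/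
theorem result {G : Type*} [Group G] [Finite G] [IsSimpleGroup G] {p : ℕ} [Fact p.Prime]
    (hnc : ¬ Cfsg.IsPClosed p G) (hsub : ∀ H : Subgroup G, H ≠ ⊤ → Cfsg.IsPClosed p ↥H) :
    (∀ P Q : Sylow p G, P ≠ Q → (P : Subgroup G) ⊓ (Q : Subgroup G) = ⊥) ∧
      ∀ (P : Sylow p G) (R : Subgroup G), R ≤ P → R ≠ ⊥ →
        Subgroup.normalizer (R : Set G) ≤ Subgroup.normalizer ((P : Subgroup G) : Set G) := by
  have hcl : ∀ H : Subgroup G, H ≠ ⊤ → ∀ T, Core.IsSylowOf p T H → H ≤ normalizer (T : Set G) := by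
    intro H hH T hT
    have := hsub H hH hT.toSylow
    rw [hT.coe_toSylow] at this
    exact (normal_subgroupOf_iff_le_normalizer hT.le).mp this
  have hne : ∀ (P : Sylow p G) (R : Subgroup G), R ≤ P → R ≠ ⊥ → normalizer (R : Set G) ≠ ⊤ := by
    intro P R hR h1 h
    have h2 := (IsSimpleGroup.eq_bot_or_eq_top_of_normal R (normalizer_eq_top_iff.mp h)).resolve_left h1
    refine hnc fun Q => ?_
    have : (Q : Subgroup G) = ⊤ := Q.is_maximal' (h2 ▸ P.isPGroup'.to_le hR) le_top ▸ rfl
    rw [this]; infer_instance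
  have key : ∀ (n : ℕ) (P : Sylow p G) (R : Subgroup G), R.index = n → R ≤ P → R ≠ ⊥ →
      ∀ Q : Sylow p G, R ≤ Q → P = Q := by
    intro n
    induction n using Nat.strong_induction_on with
    | _ n ih =>
    intro P R hn hR h1 Q hQ
    rcases hR.eq_or_lt with e | e
    · exact Sylow.ext (P.is_maximal' Q.isPGroup' (e ▸ hQ)).symm
    rcases hQ.eq_or_lt with e' | e'
    · exact Sylow.ext (Q.is_maximal' P.isPGroup' (e' ▸ hR))
    obtain ⟨T, hT⟩ := Core.exists_isSylowOf p (normalizer (R : Set G))
    have h2 : ∀ S : Sylow p G, (S : Subgroup G) ⊓ normalizer (R : Set G) ≤ T := fun S =>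
      hT.le_of_le_normalizer' (S.isPGroup'.to_le inf_le_left) inf_le_right
        (inf_le_right.trans (hcl _ (hne P R hR h1) T hT))
    obtain ⟨S, hS⟩ := hT.isPGroup.exists_le_sylow
    have h3 : ∀ P : Sylow p G, R < P → P = S := fun P e => by
      have h4 := Core.lt_inf_normalizer_of_nilpotent P.isPGroup'.isNilpotent e
      exact ih _ (hn ▸ index_strictAnti h4) P _ rfl inf_le_left (ne_bot_of_gt h4) S ((h2 P).trans hS)
    rw [h3 P e, h3 Q e']
  refine ⟨fun P Q h => by_contra fun h1 => h (key _ P _ rfl inf_le_left h1 Q inf_le_right),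
    fun P R hR h1 g hg => ?_⟩
  refine Sylow.smul_eq_iff_mem_normalizer.mp (key _ P R rfl hR h1 (g • P) fun x hx => ?_).symm
  exact FGS.mem_smul_sylow_iff.mpr (hR (Core.inv_conj_mem_of_le_normalizer le_rfl hg hx))

end Cfsg.Agent.S3870
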