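import Mathlib
import Cfsg.Statements.S3872
import Cfsg.Agent.Inv.Reg
import Cfsg.Agent.Inv.Ess5
import Cfsg.Agent.PGrp.Class

set_option autoImplicit false
open Cfsg

namespace Cfsg.Agent.S3872

open Inv.Rg Subgroup
open scoped commutatorElement

/-- Say that a finite group is p-exponent closed when its elements of order dividing p form a subgroup. Let G be a finite p-group that is not p-exponent closed, but all of whose proper subgroups and proper quotients are. Then G is generated by two elements, has nilpotency class at least p, has exponent p², has cyclic center, and has order at least p^(p+1). -/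
theorem result {G : Type*} [Group G] [Finite G] {p : ℕ} [Fact p.Prime] (hG : IsPGroup p G)
    (hnc : ¬ (∃ H : Subgroup G, (H : Set G) = {g : G | g ^ p = 1})) (hsub : ∀ K : Subgroup G, K ≠ ⊤ → (∃ H : Subgroup ↥K, (H : Set ↥K) = {g : ↥K | g ^ p = 1}))
    (hquo : ∀ (N : Subgroup G) [N.Normal], N ≠ ⊥ → (∃ H : Subgroup (G ⧸ N), (H : Set (G ⧸ N)) = {g : (G ⧸ N) | g ^ p = 1})) :
    (∃ x y : G, Subgroup.closure ({x, y} : Set G) = ⊤) ∧ (⊤ : Subgroup G).lowerCentralSeries (p - 1) ≠ ⊥ ∧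
      Monoid.exponent G = p ^ 2 ∧ IsCyclic ↥(Subgroup.center G) ∧ p ^ (p + 1) ≤ Nat.card G := by
  have hp : p.Prime := Fact.out
  obtain ⟨x, y, hx, hy, hxy⟩ : ∃ x y : G, x ^ p = 1 ∧ y ^ p = 1 ∧ (x * y) ^ p ≠ 1 := by
    by_contra h
    push Not at h
    exact hnc ⟨⟨⟨⟨{g | g ^ p = 1}, fun ha hb => h _ _ ha hb⟩, one_pow _⟩,
      fun {a} (ha : a ^ p = 1) => show a⁻¹ ^ p = 1 by rw [inv_pow, ha, inv_one]⟩, rfl⟩
  have hK : pr x y = ⊤ := by
    by_contra h
    obtain ⟨H, hH⟩ := hsub _ h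
    have h1 : (⟨x, mem_pr_left x y⟩ : pr x y) ∈ (H : Set (pr x y)) := hH.ge (Subtype.ext hx)
    have h2 : (⟨y, mem_pr_right x y⟩ : pr x y) ∈ (H : Set (pr x y)) := hH.ge (Subtype.ext hy)
    exact hxy (congrArg Subtype.val (hH.le (H.mul_mem h1 h2)))
  have hq : ∀ z ∈ center G, z ≠ 1 → ∀ g : G, g ^ p ∈ zpowers z := fun z hz h1 g => by
    haveI := PGrp.normal_of_le_center (zpowers_le.2 hz)
    obtain ⟨H, hH⟩ := hquo (zpowers z) (by rwa [Ne, zpowers_eq_bot])
    have h2 : (pr x y).map (QuotientGroup.mk' (zpowers z)) ≤ H := by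
      rw [map_pr]
      exact pr_le (hH.ge (show _ ^ p = 1 by rw [← map_pow, hx, map_one]))
        (hH.ge (show _ ^ p = 1 by rw [← map_pow, hy, map_one]))
    exact (QuotientGroup.eq_one_iff _).1 (hH.le (h2 ⟨g, hK.ge trivial, rfl⟩))
  have hcl : (⊤ : Subgroup G).lowerCentralSeries (p - 1) ≠ ⊥ := fun h =>
    hxy ((om ⊤ p (reg_of_class (hG.to_subgroup _) h).e1).mul_mem ⟨trivial, hx⟩ ⟨trivial, hy⟩).2
  obtain ⟨z, -, hz, hzp⟩ := PGrp.exists_mem_center_orderOf_eq hG ⊤ (fun h => hcl (by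
    rw [eq_bot_iff, ← h]; exact le_top))
  have hz1 : z ≠ 1 := fun h => hp.one_lt.ne (by rw [← hzp, h, orderOf_one])
  refine ⟨⟨x, y, hK⟩, hcl, ?_, ?_, ?_⟩
  · have h1 : Monoid.exponent G ∣ p ^ 2 := Monoid.exponent_dvd_of_forall_pow_eq_one fun g => by
      obtain ⟨k, hk⟩ := mem_zpowers_iff.1 (hq z hz hz1 g)
      rw [pow_two, pow_mul, ← hk, ← zpow_natCast, ← zpow_mul, mul_comm, zpow_mul, zpow_natCast, ← hzp,
        pow_orderOf_eq_one, one_zpow]
    obtain ⟨i, hi, e⟩ := (Nat.dvd_prime_pow hp).1 h1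
    by_contra hne
    have : i ≤ 1 := by
      by_contra h
      exact hne (by rw [e, show i = 2 by omega])
    exact hxy (PGrp.pow_eq_one_of_dvd (Monoid.pow_exponent_eq_one _) (e ▸ (pow_dvd_pow p this).trans (by simp)))
  · refine PGrp.isCyclic_of_comm_of_card_omegaOne_le (hG.to_subgroup _) inferInstance ?_
    have h1 : omegaOne p (center G) ≤ zpowers z := PGrp.omegaOne_le_iff.2 fun w hw hwp => by
      by_cases h : w = 1
      · exact h ▸ one_mem _
      have h2 : Nat.card (zpowers w) = p := by rw [Nat.card_zpowers, orderOf_eq_prime hwp h]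
      rcases Inv.Es.eq_bot_or_eq_of_card h2 (inf_le_left : zpowers w ⊓ zpowers z ≤ _) with h3 | h3
      · exact (hxy (mem_bot.1 (h3.le ⟨hq w hw h _, hq z hz hz1 _⟩))).elim
      · exact (h3.ge (mem_zpowers w)).2
    exact (card_le_of_le h1).trans (by rw [Nat.card_zpowers, hzp])
  · by_contra h
    obtain ⟨n, hn⟩ := hG.exists_card_eq
    refine hcl (PGrp.lowerCentralSeries_eq_bot_of_card_le (hG.to_subgroup _) ?_ (by have := hp.two_le; omega))
    rw [card_top, Nat.sub_add_cancel hp.one_le, hn]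
    rw [hn, not_le, Nat.pow_lt_pow_iff_right hp.one_lt] at h
    exact Nat.pow_le_pow_right hp.pos (by omega)

end Cfsg.Agent.S3872
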