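import Mathlib
import Cfsg.Statements.S3873
import Cfsg.Agent.FGS.PClosed
import Cfsg.Agent.Core.SylowOf
import Cfsg.Agent.Core.MinNormal

set_option autoImplicit false
open Cfsg

namespace Cfsg.Agent.S3873

open Subgroup

/-- Say that a finite group is p-exponent closed when its elements of order dividing p form a subgroup. Let G be a finite group that is not p-exponent closed, but all of whose proper subgroups and proper quotients are, and suppose G is neither simple nor a p-group. Then there is a prime q ≠ p such that G has order p · q^e, where e is the multiplicative order of q modulo p, and G has a normal elementary abelian subgroup of order q^e that is a minimal normal subgroup of G. -/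
theorem result {G : Type*} [Group G] [Finite G] {p : ℕ} [Fact p.Prime]
    (hnc : ¬ (∃ H : Subgroup G, (H : Set G) = {g : G | g ^ p = 1})) (hsub : ∀ K : Subgroup G, K ≠ ⊤ → (∃ H : Subgroup ↥K, (H : Set ↥K) = {g : ↥K | g ^ p = 1}))
    (hquo : ∀ (N : Subgroup G) [N.Normal], N ≠ ⊥ → (∃ H : Subgroup (G ⧸ N), (H : Set (G ⧸ N)) = {g : (G ⧸ N) | g ^ p = 1}))
    (hns : ¬ IsSimpleGroup G) (hnp : ¬ IsPGroup p G) :
    ∃ q : ℕ, q.Prime ∧ q ≠ p ∧ Nat.card G = p * q ^ orderOf (q : ZMod p) ∧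
      ∃ A : Subgroup G, A.Normal ∧ Nat.card ↥A = q ^ orderOf (q : ZMod p) ∧ Cfsg.IsElementaryAbelian q A ∧
        ∀ B : Subgroup G, B.Normal → B ≤ A → B = ⊥ ∨ B = A := by
  have hp : p.Prime := Fact.out
  have cl : ∀ K : Subgroup G, K ≠ ⊤ → ∀ a ∈ K, ∀ b ∈ K, a ^ p = 1 → b ^ p = 1 → (a * b) ^ p = 1 := by
    intro K hK a ha b hb h1 h2
    obtain ⟨H, hH⟩ := hsub K hK
    have m : ∀ g : K, g ∈ H ↔ g ^ p = 1 := fun g => by rw [← SetLike.mem_coe, hH]; rfl
    exact congrArg Subtype.val ((m _).1 (H.mul_mem ((m ⟨a, ha⟩).2 (Subtype.ext h1))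
      ((m ⟨b, hb⟩).2 (Subtype.ext h2))))
  obtain ⟨x, y, hx, hy, hxy⟩ : ∃ x y : G, x ^ p = 1 ∧ y ^ p = 1 ∧ (x * y) ^ p ≠ 1 := by
    by_contra! h
    exact hnc ⟨⟨⟨⟨{g | g ^ p = 1}, fun {a b} ha hb => h a b ha hb⟩, one_pow p⟩, fun {a} ha => by
      show a⁻¹ ^ p = 1
      rw [inv_pow, show a ^ p = 1 from ha, inv_one]⟩, rfl⟩
  have gen : ∀ K : Subgroup G, x ∈ K → y ∈ K → K = ⊤ := fun K h1 h2 => by
    by_contra h; exact hxy (cl K h x h1 y h2 hx hy)
  have hpow : ∀ M : Subgroup G, M.Normal → M ≠ ⊥ → ∀ g, g ^ p ∈ M := by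
    intro M hM hM1 g
    obtain ⟨H, hH⟩ := hquo M hM1
    have m : ∀ g : G ⧸ M, g ∈ H ↔ g ^ p = 1 := fun g => by rw [← SetLike.mem_coe, hH]; rfl
    have := gen (H.comap (QuotientGroup.mk' M))
      ((m _).2 (by rw [← map_pow, hx, map_one])) ((m _).2 (by rw [← map_pow, hy, map_one]))
    have h2 : g ∈ H.comap (QuotientGroup.mk' M) := this ▸ mem_top g
    have h3 := (m _).1 h2
    rwa [← map_pow, QuotientGroup.mk'_apply, QuotientGroup.eq_one_iff] at h3
  have hx1 : x ≠ 1 := by rintro rfl; exact hxy (by simpa using hy)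
  haveI : Nontrivial G := ⟨⟨x, 1, hx1⟩⟩
  obtain ⟨M, hM, hM1, hM2⟩ : ∃ M : Subgroup G, M.Normal ∧ M ≠ ⊥ ∧ M ≠ ⊤ := by
    by_contra! h
    exact hns ⟨fun M hM => by by_contra! h'; exact h'.2 (h M hM h'.1)⟩
  obtain ⟨N, hN, hN1, hNM, hmin⟩ := Core.exists_minimal_normal_le M hM1
  have hNt : N ≠ ⊤ := fun h => hM2 (top_le_iff.1 (h ▸ hNM))
  have hE : ∀ n ∈ N, n ^ p = 1 → n = 1 := by
    let E : Subgroup G := ⟨⟨⟨{g | g ∈ N ∧ g ^ p = 1}, fun {a b} ha hb =>
      ⟨N.mul_mem ha.1 hb.1, cl N hNt a ha.1 b hb.1 ha.2 hb.2⟩⟩, N.one_mem, one_pow p⟩,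
      fun {a} ha => ⟨N.inv_mem ha.1, by rw [inv_pow, ha.2, inv_one]⟩⟩
    have hEn : E.Normal := ⟨fun a ha g => ⟨hN.conj_mem a ha.1 g, by rw [conj_pow, ha.2]; simp⟩⟩
    rcases hmin E hEn (fun a ha => ha.1) with h | h
    · intro n h1 h2
      have : n ∈ E := ⟨h1, h2⟩
      rwa [h, mem_bot] at this
    · exfalso; apply hnp
      intro g
      have : g ^ p ∈ E := h ▸ hpow N hN hN1 g
      exact ⟨2, by rw [pow_two, pow_mul]; exact this.2⟩
  have hpN : ¬ p ∣ Nat.card N := fun h => by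
    obtain ⟨a, ha⟩ := exists_prime_orderOf_dvd_card' p h
    have := hE a a.2 (by rw [← ha, ← Subgroup.orderOf_coe, pow_orderOf_eq_one])
    rw [show a = 1 from Subtype.ext this, orderOf_one] at ha
    exact hp.one_lt.ne ha
  obtain ⟨u, hu, huc⟩ : ∃ u : G, u ^ p = 1 ∧ u ∉ centralizer (N : Set G) := by
    by_contra! h
    have hc := gen _ (h x hx) (h y hy)
    obtain ⟨P⟩ : Nonempty (Sylow p G) := inferInstance
    have hq : IsPGroup p (G ⧸ N) := fun g => by
      obtain ⟨g, rfl⟩ := QuotientGroup.mk_surjective g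
      exact ⟨1, by rw [pow_one, ← QuotientGroup.mk_pow, QuotientGroup.eq_one_iff]; exact hpow N hN hN1 g⟩
    obtain ⟨k, hk⟩ := hq.exists_card_eq
    have htop : N ⊔ (P : Subgroup G) = ⊤ := by
      rw [← index_eq_one]
      have h1 : (N ⊔ (P : Subgroup G)).index ∣ p ^ k := hk ▸ index_dvd_of_le le_sup_left
      have h2 : (N ⊔ (P : Subgroup G)).index ∣ (P : Subgroup G).index := index_dvd_of_le le_sup_right
      exact Nat.eq_one_of_dvd_coprimes
        (Nat.Coprime.pow_left k ((Nat.Prime.coprime_iff_not_dvd hp).2 P.not_dvd_index)) h1 h2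
    have hPn : (P : Subgroup G).Normal := by
      rw [← normalizer_eq_top_iff, eq_top_iff, ← htop]
      refine sup_le (le_trans ?_ (centralizer_le_normalizer _)) le_normalizer
      rw [le_centralizer_iff, hc]; exact le_top
    have hP1 : (P : Subgroup G) ≠ ⊥ := fun hb => by
      have hz : IsPGroup p (zpowers x) := IsPGroup.of_card (n := 1) (by
        rw [Nat.card_zpowers, pow_one]; exact orderOf_eq_prime hx hx1)
      have := (hz.to_sup_of_normal_right P.isPGroup')
      have h2 := P.is_maximal' this le_sup_right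
      have h3 : x ∈ (P : Subgroup G) := h2 ▸ (le_sup_left : zpowers x ≤ _) (mem_zpowers x)
      rw [hb, mem_bot] at h3; exact hx1 h3
    apply hN1
    rw [eq_bot_iff]
    intro n hn
    have h1 := hpow P hPn hP1 n
    obtain ⟨j, hj⟩ := P.isPGroup' ⟨_, h1⟩
    have h2 : (n ^ p) ^ p ^ j = 1 := congrArg Subtype.val hj
    have h3 : orderOf n ∣ p ^ (j + 1) := orderOf_dvd_of_pow_eq_one (by rw [pow_succ', pow_mul, h2])
    have h4 : orderOf n ∣ Nat.card N := N.orderOf_dvd_natCard hn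
    exact orderOf_eq_one_iff.1 (Nat.eq_one_of_dvd_coprimes
      (Nat.Coprime.pow_left _ ((Nat.Prime.coprime_iff_not_dvd hp).2 hpN)) h3 h4)
  have hu1 : u ≠ 1 := by rintro rfl; exact huc (one_mem _)
  have huo : orderOf u = p := orderOf_eq_prime hu hu1
  have hcu : Nat.card (zpowers u) = p := by rw [Nat.card_zpowers, huo]
  obtain ⟨q, hq, Q, hQ, hQn, hQc⟩ : ∃ q : ℕ, q.Prime ∧ ∃ Q, Core.IsSylowOf q Q N ∧
      zpowers u ≤ normalizer (Q : Set G) ∧ ¬ Q ≤ centralizer ({u} : Set G) := by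
    by_contra! h
    apply huc
    have := Core.le_of_forall_isSylowOf_le N (centralizer ({u} : Set G)) fun q hq _ => by
      haveI := Fact.mk hq
      obtain ⟨Q, h1, h2⟩ := Core.exists_invariant_isSylowOf (zpowers u) N
        (by rw [normalizer_eq_top]; exact le_top)
        (by rw [hcu]; exact (Nat.Prime.coprime_iff_not_dvd hp).2 hpN)
        (Or.inl (isSolvable_of_comm (fun a b => IsMulCommutative.is_comm.comm a b))) q
      exact ⟨Q, h1, h q hq Q h1 h2⟩
    exact mem_centralizer_iff.2 fun n hn => (mem_centralizer_singleton_iff.1 (this hn))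
  have htop : Q ⊔ zpowers u = ⊤ := by
    by_contra h
    apply hQc
    intro a ha
    have huK : u ∈ Q ⊔ zpowers u := (le_sup_right : zpowers u ≤ _) (mem_zpowers u)
    have haK : a ∈ Q ⊔ zpowers u := (le_sup_left : Q ≤ _) ha
    have h1 := cl _ h (a * u * a⁻¹) (mul_mem (mul_mem haK huK) (inv_mem haK)) u⁻¹ (inv_mem huK)
      (by rw [conj_pow, hu]; simp) (by rw [inv_pow, hu, inv_one])
    have h2 : a * u * a⁻¹ * u⁻¹ ∈ N := by
      have := N.mul_mem (hQ.le ha) (hN.conj_mem _ (N.inv_mem (hQ.le ha)) u)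
      simpa [mul_assoc] using this
    have h3 := hE _ h2 h1
    rw [mem_centralizer_singleton_iff]
    calc a * u = (a * u * a⁻¹ * u⁻¹) * (u * a) := by group
      _ = u * a := by rw [h3, one_mul]
  have dec : ∀ g : G, ∃ a ∈ Q, ∃ k : ℤ, g = a * u ^ k := fun g => by
    have : g ∈ ((Q ⊔ zpowers u : Subgroup G) : Set G) := by rw [htop]; trivial
    rw [coe_mul_of_right_le_normalizer_left _ _ hQn] at this
    obtain ⟨a, ha, b, ⟨k, rfl⟩, rfl⟩ := this
    exact ⟨a, ha, k, rfl⟩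
  have hd : ∀ k : ℤ, u ^ k ∈ N → u ^ k = 1 := fun k hk =>
    hE _ hk (by rw [← zpow_natCast, ← zpow_mul, mul_comm, zpow_mul, zpow_natCast, hu, one_zpow])
  have hNQ : N = Q := le_antisymm (fun n hn => by
    obtain ⟨a, ha, k, rfl⟩ := dec n
    rw [hd k (by simpa using N.mul_mem (N.inv_mem (hQ.le ha)) hn), mul_one]; exact ha) hQ.le
  haveI := Fact.mk hq
  have hNq : IsPGroup q N := hNQ ▸ hQ.isPGroup
  haveI := hNq.isNilpotent
  obtain ⟨r, hr, hel⟩ := Core.minimal_normal_elementary N inferInstance hN1 hmin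
  have hcard := FGS.card_of_irred (p := p) hr hel (x := u) (by rw [normalizer_eq_top]; trivial)
    (by rw [hu]; exact one_mem _) huc (fun B hB hBu => hmin B ⟨fun b hb g => by
      obtain ⟨a, ha, k, rfl⟩ := dec g
      have hun : u ∈ normalizer (B : Set G) := mem_normalizer_fintype hBu
      have h1 := ((mem_normalizer_iff.1 (zpow_mem hun k)) b).1 hb
      have h2 := Core.comm_of_isMulCommutative hel.1 (hQ.le ha) (hB h1)
      have : a * u ^ k * b * (a * u ^ k)⁻¹ = a * (u ^ k * b * (u ^ k)⁻¹) * a⁻¹ := by group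
      rw [this, h2, mul_inv_cancel_right]; exact h1⟩ hB)
  haveI := Fact.mk hr
  refine ⟨r, hr, ?_, ?_, N, hN, hcard, hel, hmin⟩
  · rintro rfl
    exact hpN (Core.prime_dvd_card_of_isPGroup (Core.IsElementaryAbelian.isPGroup hel) hN1)
  · have hc : IsComplement' N (zpowers u) := isComplement'_of_disjoint_and_mul_eq_univ
      (disjoint_iff.2 (inf_eq_bot_of_coprime (by
        rw [hcu]; exact ((Nat.Prime.coprime_iff_not_dvd hp).2 hpN).symm)))
      (Set.eq_univ_of_forall fun g => by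
        obtain ⟨a, ha, k, rfl⟩ := dec g
        exact ⟨a, hQ.le ha, _, ⟨k, rfl⟩, rfl⟩)
    rw [← hc.card_mul, hcard, hcu, mul_comm]

end Cfsg.Agent.S3873
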