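import Mathlib
import Cfsg.Statements.S3875
import Cfsg.Agent.S3868
import Cfsg.Agent.Block.BrRey
import Cfsg.Agent.Classical.PSL2Basic
import Cfsg.Agent.FGS.PClosed

set_option autoImplicit false
open Cfsg

namespace Cfsg.Agent.S3875

open Subgroup Cfsg.Agent.FGS Cfsg.Agent.Classical
open scoped MatrixGroups

theorem card_psl (p : ℕ) [hp : Fact p.Prime] (h2 : p ≠ 2) : Nat.card PSL(2, ZMod p) = p * (p ^ 2 - 1) / 2 := by
  obtain ⟨k, hk⟩ := hp.1.odd_of_ne_two h2
  rw [PSL2Basic.card_PSL_of_card (Nat.card_zmod p), Nat.gcd_eq_left (by omega : 2 ∣ p - 1)]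

theorem lower {p : ℕ} [hp : Fact p.Prime] (h2 : p ≠ 2) {m : ℕ} (hleast : ∀ k : ℕ, IsPrimePow k → k % p = 1 → m ≤ k) (n : ℕ) :
    ∀ (H : Type) [Group H] [Finite H], Nat.card H = n → ¬ IsPClosed p H → min (p * m) (p * (p ^ 2 - 1) / 2) ≤ n := by
  induction n using Nat.strong_induction_on with
  | _ n ih =>
  intro H _ _ hn h
  by_contra! hlt
  have hsub : ∀ K : Subgroup H, K ≠ ⊤ → IsPClosed p K := fun K hK => by
    have : Nat.card K < n := hn ▸ Finite.card_subtype_lt (SetLike.exists_of_lt (lt_top_iff_ne_top.mpr hK)).choose_spec.2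
    by_contra h'
    exact absurd (ih _ this K rfl h') (by omega)
  have hquo : ∀ (N : Subgroup H) [N.Normal], N ≠ ⊥ → IsPClosed p (H ⧸ N) := fun N _ hN => by
    have : Nat.card (H ⧸ N) < n := by
      rw [← hn, card_eq_card_quotient_mul_card_subgroup N]
      exact lt_mul_of_one_lt_right Nat.card_pos (N.one_lt_card_iff_ne_bot.mpr hN)
    by_contra h'
    exact absurd (ih _ this _ rfl h') (by omega)
  rw [lt_min_iff] at hlt
  by_cases hs : IsSimpleGroup H
  · obtain ⟨P, hP⟩ := not_forall.mp h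
    have hc : commutator H = ⊤ := (hs.eq_bot_or_eq_top_of_normal _ inferInstance).resolve_left fun e => hP (by
      have : IsMulCommutative H := (commutator_eq_bot_iff H).mp e
      infer_instance)
    have h3 : p * (p ^ 2 - 1) / 2 ≤ p ^ 3 := (Nat.div_le_self _ _).trans ((Nat.mul_le_mul_left _ (Nat.sub_le _ _)).trans_eq (by ring))
    have := Fintype.ofFinite H
    rcases Block.psl_of_card_lt hc (by_contra fun e => h (isPClosed_of_not_dvd e)) (by omega) P hP (fun N hN e => by
      rcases hs.eq_bot_or_eq_top_of_normal N hN with rfl | rfl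
      · simp at e
      · rw [card_top] at e
        exact h (isPClosed_of_not_dvd fun e' => h2 ((Nat.prime_dvd_prime_iff_eq hp.1 Nat.prime_two).mp (e ▸ e')))) with
      ⟨-, ⟨e⟩⟩ | ⟨k, F, _, _, hF, hk, h3, ⟨e⟩⟩
    · rw [← card_psl p h2, ← Nat.card_congr e.toEquiv] at hlt
      omega
    · have a1 := SLBasic.card_PSL_two (F := F)
      obtain ⟨j, rfl⟩ : ∃ j, k = j + 1 := Nat.exists_eq_succ_of_ne_zero (by rintro rfl; omega)
      obtain ⟨r, hr⟩ : ∃ r, 2 ^ (j + 1) = 2 * r + 2 := ⟨2 ^ j - 1, by have := Nat.one_le_two_pow (n := j); omega⟩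
      rw [Nat.card_eq_fintype_card (α := F), hF, ← Nat.card_congr e.toEquiv, hn, hr, show 2 * r + 2 - 1 = 2 * r + 1 from rfl,
        (Nat.coprime_two_left.mpr ⟨r, rfl⟩ : Nat.gcd _ _ = 1), one_mul,
        show (2 * r + 2) ^ 2 - 1 = (2 * r + 1) * (2 * r + 3) from Nat.sub_eq_of_eq_add (by ring)] at a1
      have a2 := hlt.2
      rw [hk, hr, show (2 * r + 2 + 1) ^ 2 - 1 = 2 * ((r + 1) * (2 * r + 4)) from Nat.sub_eq_of_eq_add (by ring),
        mul_left_comm, Nat.mul_div_cancel_left _ two_pos, a1] at a2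
      have : 1 ≤ r := by omega
      nlinarith [Nat.mul_le_mul_left ((2 * r + 3) * (r + 1)) (show 2 * r + 4 ≤ 2 * (2 * r + 1) by omega)]
  · obtain ⟨q, hq, hqp, e, -⟩ := S3868.result h hsub hquo hs
    have a1 : (q : ZMod p) ≠ 0 := fun e => hqp ((Nat.prime_dvd_prime_iff_eq hp.1 hq).mp ((ZMod.natCast_eq_zero_iff _ _).mp e)).symm
    have := hleast (q ^ orderOf (q : ZMod p)) ((isPrimePow_nat_iff _).mpr ⟨q, _, hq, orderOf_pos_iff.mpr
      (isOfFinOrder_iff_pow_eq_one.mpr ⟨p - 1, Nat.sub_pos_of_lt hp.1.one_lt, ZMod.pow_card_sub_one_eq_one a1⟩), rfl⟩)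
      (((ZMod.natCast_eq_natCast_iff' _ 1 p).mp (by push_cast; exact pow_orderOf_eq_one _)).trans (Nat.mod_eq_of_lt hp.1.one_lt))
    exact absurd (Nat.mul_le_mul_left p this) (by omega)

theorem affine {p : ℕ} [hp : Fact p.Prime] {m : ℕ} (hm : IsPrimePow m) (hm1 : m % p = 1) :
    ∃ (H : Type) (_ : Group H) (_ : Finite H), Nat.card H = p * m ∧ ¬ IsPClosed p H := by
  obtain ⟨q, k, hq, hk, rfl⟩ := (isPrimePow_nat_iff _).mp hm
  have : Fact q.Prime := ⟨hq⟩
  obtain ⟨z, hz⟩ := exists_prime_orderOf_dvd_card' (G := (GaloisField q k)ˣ) p (by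
    rw [Nat.card_units, GaloisField.card q k hk.ne']
    exact (Nat.modEq_iff_dvd' (Nat.one_le_pow _ _ hq.pos)).mp (show 1 % p = _ by rw [hm1, Nat.mod_eq_of_lt hp.1.one_lt]))
  let φ : zpowers z →* MulAut (Multiplicative (GaloisField q k)) := (MulAutMultiplicative _).symm.toMonoidHom.comp
    ((DistribMulAction.toAddAut _ _).comp (zpowers z).subtype)
  have : Finite (Multiplicative (GaloisField q k) ⋊[φ] zpowers z) := Finite.of_equiv _ SemidirectProduct.equivProd.symm
  refine ⟨Multiplicative (GaloisField q k) ⋊[φ] zpowers z, inferInstance, this, ?_, fun h => ?_⟩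
  · rw [SemidirectProduct.card, Nat.card_zpowers, hz, mul_comm]
    exact congrArg _ (GaloisField.card q k hk.ne')
  · let x : Multiplicative (GaloisField q k) ⋊[φ] zpowers z := .inr ⟨z, mem_zpowers z⟩
    obtain ⟨P, hP⟩ := (IsPGroup.of_card (n := 1) (G := zpowers x) (by
      rw [Nat.card_zpowers, orderOf_injective _ SemidirectProduct.inr_injective, ← Subgroup.orderOf_coe, hz, pow_one])).exists_le_sylow
    have a1 := mul_mem (hP (mem_zpowers x)) ((h P).conj_mem _ (inv_mem (hP (mem_zpowers x))) (.inl (.ofAdd 1)))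
    rw [show ∀ y, x * (y * x⁻¹ * y⁻¹) = x * y * x⁻¹ * y⁻¹ from fun y => by group, ← map_inv SemidirectProduct.inr,
      ← SemidirectProduct.inl_aut, ← map_inv, ← map_mul] at a1
    obtain ⟨j, hj⟩ := P.2 ⟨_, a1⟩
    have a2 := congrArg (fun y : P => y.1) hj
    simp only [SubgroupClass.coe_pow, OneMemClass.coe_one, ← map_pow, map_eq_one_iff _ SemidirectProduct.inl_injective] at a2
    have a3 : p ^ j • ((z : GaloisField q k) * 1 + -1) = 0 := a2
    rw [nsmul_eq_mul, mul_eq_zero, mul_one, add_neg_eq_zero, Units.val_eq_one, CharP.cast_eq_zero_iff _ q] at a3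
    rcases a3 with a3 | rfl
    · rw [(Nat.prime_dvd_prime_iff_eq hq hp.1).mp (hq.dvd_of_dvd_pow a3), Nat.mod_eq_zero_of_dvd (dvd_pow_self _ hk.ne')] at hm1
      exact zero_ne_one hm1
    · exact hp.1.ne_one (by simpa using hz.symm)

/-- Let p be an odd prime and let m be the least prime power congruent to 1 modulo p. Then the least order of a finite group whose Sylow p-subgroups are not normal is the smaller of p · m and p(p² − 1)/2: every finite group whose Sylow p-subgroups are not normal has at least that order, and some group of exactly that order has non-normal Sylow p-subgroups. -/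
theorem result (p : ℕ) [Fact p.Prime] (hp : p ≠ 2) (m : ℕ) (hm : IsPrimePow m) (hm1 : m % p = 1)
    (hleast : ∀ k : ℕ, IsPrimePow k → k % p = 1 → m ≤ k) :
    (∀ (H : Type) [Group H] [Finite H], ¬ Cfsg.IsPClosed p H → min (p * m) (p * (p ^ 2 - 1) / 2) ≤ Nat.card H) ∧
      ∃ (H : Type) (_ : Group H) (_ : Finite H), Nat.card H = min (p * m) (p * (p ^ 2 - 1) / 2) ∧ ¬ Cfsg.IsPClosed p H := by
  refine ⟨fun H _ _ => lower hp hleast _ H rfl, ?_⟩
  rcases min_choice (p * m) (p * (p ^ 2 - 1) / 2) with e | e <;> rw [e]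
  · exact affine hm hm1
  · refine ⟨PSL(2, ZMod p), inferInstance, inferInstance, card_psl p hp, fun h => ?_⟩
    obtain ⟨P, hP⟩ := PSL2Basic.exists_sylow_normalizer_eq (F := ZMod p) (p := p) P1.inf
    have := Borel2.index_stabilizer_PSL (F := ZMod p) P1.inf
    rw [← hP, normalizer_eq_top_iff.mpr (h P), index_top, Nat.card_zmod] at this
    exact (Fact.out : p.Prime).ne_zero (by omega)

end Cfsg.Agent.S3875
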