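import Mathlib
import Cfsg.Statements.S3889
import Cfsg.Agent.FGS.Basic2

set_option autoImplicit false
open Cfsg

namespace Cfsg.Agent.S3889

open Subgroup

/-- A finite abelian group that is the union of a family of proper subgroups any two of which intersect trivially is elementary abelian: its exponent is a prime. -/
theorem result {G : Type*} [CommGroup G] [Finite G] (𝓑 : Set (Subgroup G)) (hprop : ∀ B ∈ 𝓑, B ≠ ⊤)
    (hcov : ∀ g : G, ∃ B ∈ 𝓑, g ∈ B) (hdisj : ∀ B ∈ 𝓑, ∀ C ∈ 𝓑, B ≠ C → B ⊓ C = ⊥) :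
    (Monoid.exponent G).Prime := by
  obtain ⟨B, hB, -⟩ := hcov 1
  obtain ⟨g, hg⟩ := FGS.exists_not_mem_of_ne_top (hprop B hB)
  obtain ⟨q, j, hq, -, hj⟩ := FGS.exists_pow_orderOf_prime (x := g) (by rintro rfl; exact hg (one_mem _))
  set a := g ^ j
  have ha1 := FGS.ne_one_of_orderOf_prime hq hj
  have haq : a ^ q = 1 := hj ▸ pow_orderOf_eq_one a
  obtain ⟨A, hA, haA⟩ := hcov a
  have key : ∀ x, x ∉ A → x ^ q = 1 := by
    intro x hx
    obtain ⟨C, hC, hxC⟩ := hcov x
    obtain ⟨D, hD, hxD⟩ := hcov (x * a)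
    have hne : C ≠ D := by
      rintro rfl
      have h1 : a ∈ A ⊓ C := ⟨haA, (mul_mem_cancel_left hxC).mp hxD⟩
      rw [hdisj A hA C hC (by rintro rfl; exact hx hxC)] at h1
      exact ha1 h1
    have h2 : x ^ q ∈ C ⊓ D := ⟨pow_mem hxC q, by simpa [mul_pow, haq] using pow_mem hxD q⟩
    rwa [hdisj C hC D hD hne] at h2
  obtain ⟨y, hy⟩ := FGS.exists_not_mem_of_ne_top (hprop A hA)
  have h1 : Monoid.exponent G ∣ q := Monoid.exponent_dvd_of_forall_pow_eq_one fun x => by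
    by_cases hx : x ∈ A
    · simpa [mul_pow, key y hy] using key (x * y) (fun h => hy ((mul_mem_cancel_left hx).mp h))
    · exact key x hx
  rw [Nat.dvd_antisymm h1 (hj ▸ Monoid.order_dvd_exponent a)]
  exact hq

end Cfsg.Agent.S3889
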