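import Mathlib
import Cfsg.Statements.S3890
import Cfsg.Agent.PGrp.Cover
-- import your own Cfsg.Agent.* helpers here

set_option autoImplicit false
open Cfsg

namespace Cfsg.Agent.S3890

/-- A cover of a group is a finite set of proper subgroups whose union is the whole group; it is minimal when no cover has fewer members, and nilpotent when all its members are nilpotent. Let G be a finite group with trivial center admitting a nilpotent minimal cover 𝓐, and let P be an abelian Sylow p-subgroup of G that is not normal. Then either P is elementary abelian of order greater than p, or P is a Sylow p-subgroup of some member A of 𝓐, the normalizer N of P is a maximal subgroup of G, N meets each of its conjugates by elements outside N in a subgroup of order prime to p, and the centralizer of P equals A. -/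
theorem result {G : Type*} [Group G] [Finite G] (hZ : Subgroup.center G = ⊥) (𝓐 : Finset (Subgroup G))
    (h𝓐 : ((∀ A ∈ 𝓐, A ≠ ⊤) ∧ (∀ g : G, ∃ A ∈ 𝓐, g ∈ A)) ∧ (∀ 𝓑 : Finset (Subgroup G), (∀ A ∈ 𝓑, A ≠ ⊤) ∧ (∀ g : G, ∃ A ∈ 𝓑, g ∈ A) → 𝓐.card ≤ 𝓑.card) ∧ (∀ A ∈ 𝓐, Group.IsNilpotent ↥A)) {p : ℕ} [Fact p.Prime] (P : Sylow p G) (hab : IsMulCommutative ↥(P : Subgroup G))
    (hnn : ¬ (P : Subgroup G).Normal) :
    (Cfsg.IsElementaryAbelian p (P : Subgroup G) ∧ p < Nat.card ↥(P : Subgroup G)) ∨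
    (∃ A ∈ 𝓐, (P : Subgroup G) ≤ A ∧ ¬ p ∣ ((P : Subgroup G).subgroupOf A).index ∧
      IsCoatom (Subgroup.normalizer ((P : Subgroup G) : Set G)) ∧
      (∀ g : G, g ∉ Subgroup.normalizer ((P : Subgroup G) : Set G) →
        ¬ p ∣ Nat.card ↥(Subgroup.normalizer ((P : Subgroup G) : Set G) ⊓
          (Subgroup.normalizer ((P : Subgroup G) : Set G)).map (MulAut.conj g).toMonoidHom)) ∧
      Subgroup.centralizer ((P : Subgroup G) : Set G) = A) := by
  have h : PGrp.NilCover 𝓐 := h𝓐
  have hp : p.Prime := Fact.out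
  by_cases h0 : Cfsg.IsElementaryAbelian p (P : Subgroup G) ∧ p < Nat.card (P : Subgroup G)
  · exact Or.inl h0
  right
  have hP' : IsCyclic (P : Subgroup G) ∨ ¬ Cfsg.IsElementaryAbelian p (P : Subgroup G) := by
    by_cases h1 : Cfsg.IsElementaryAbelian p (P : Subgroup G)
    · left
      obtain ⟨n, hn⟩ := IsPGroup.iff_card.1 P.2
      have h2 : p ^ n ≤ p ^ 1 := by rw [← hn, pow_one]; exact not_lt.1 fun h => h0 ⟨h1, h⟩
      exact isCyclic_of_card_dvd_prime (p := p) (by
        rw [hn]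
        simpa using pow_dvd_pow p ((Nat.pow_le_pow_iff_right hp.one_lt).1 h2))
    · exact Or.inr h1
  have hP0 : (P : Subgroup G) ≠ ⊥ := fun e => hnn (e ▸ inferInstance)
  obtain ⟨A, hA, e⟩ := h.exists_cent hab hZ hP' hP0
  have hle := Subgroup.le_centralizer_iff_isMulCommutative.2 hab
  refine ⟨A, hA, e ▸ hle, fun hd => P.not_dvd_index
    (hd.trans (Subgroup.relIndex_dvd_index_of_le (e ▸ hle))), h.isCoatom hab hZ hP' hnn,
    fun g hg hd => hg ?_, e⟩
  obtain ⟨x, ⟨h1, h2⟩, hx⟩ := FGS.exists_prime_orderOf_mem hp hd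
  have hx' : orderOf x = p ^ 1 := by rw [hx, pow_one]
  have m1 := FGS.mem_sylow_of_mem_normalizer P hx' h1
  have m2 := FGS.mem_sylow_of_mem_normalizer P (x := g⁻¹ * x * g)
    (by rw [← hx']; simpa using (MulAut.conj g⁻¹).orderOf_eq x) (BG.Amb.mem_conj.1 h2)
  exact PGrp.NilCover.mem_norm_of_conj hab (h.unique hab hZ (h.exists_cent_conj hab hZ hP' hP0 g)
    (e ▸ hA) (BG.Amb.mem_conj.2 (hle m2)) (hle m1) (FGS.ne_one_of_orderOf_prime hp hx) hx')

end Cfsg.Agent.S3890
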