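import Mathlib
import Cfsg.Statements.S3893
import Cfsg.Agent.RankOne.SzLie
import Cfsg.Agent.RankOne.SzSub
-- import your own Cfsg.Agent.* helpers here

set_option autoImplicit false
open Cfsg

namespace Cfsg.Agent.S3893

/-- A cover of a group is a finite set of proper subgroups whose union is the whole group; it is minimal when no cover has fewer members, and nilpotent when all its members are nilpotent. The Suzuki groups Sz(q), q = 2^(2m+1) with m ≥ 1, have no nilpotent minimal cover. -/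
theorem result {F : Type*} [Field F] [Fintype F] (m : ℕ) (hm : 1 ≤ m) (hF : Fintype.card F = 2 ^ (2 * m + 1)) :
    ¬ ∃ 𝓐 : Finset (Subgroup ↥(Cfsg.Lie.Sz F (2 ^ (m + 1)))), ((∀ A ∈ 𝓐, A ≠ ⊤) ∧ (∀ g : ↥(Cfsg.Lie.Sz F (2 ^ (m + 1))), ∃ A ∈ 𝓐, g ∈ A)) ∧ (∀ 𝓑 : Finset (Subgroup ↥(Cfsg.Lie.Sz F (2 ^ (m + 1)))), (∀ A ∈ 𝓑, A ≠ ⊤) ∧ (∀ g : ↥(Cfsg.Lie.Sz F (2 ^ (m + 1))), ∃ A ∈ 𝓑, g ∈ A) → 𝓐.card ≤ 𝓑.card) ∧ (∀ A ∈ 𝓐, Group.IsNilpotent ↥A) := by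
  classical
  obtain ⟨_, ⟨Z⟩⟩ := RankOne.Sz.exists_model_lie hF hm
  rintro ⟨𝓐, ⟨h1, h2⟩, h3, h4⟩
  have key : ∀ A ∈ 𝓐, ∀ g ∈ A, g ≠ 1 → ∃ z : Cfsg.Lie.Sz F (2 ^ (m + 1)), z ≠ 1 ∧ z * g = g * z ∧
      A ≤ Subgroup.centralizer {z} := by
    intro A hA g hg hg1
    have := h4 A hA
    have : Nontrivial A := ⟨⟨⟨g, hg⟩, 1, fun h => hg1 (congrArg Subtype.val h)⟩⟩
    obtain ⟨⟨z, hz⟩, hz1⟩ := Subgroup.ne_bot_iff_exists_ne_one.mp (Group.IsNilpotent.center_ne_bot A)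
    refine ⟨z, fun h => hz1 (Subtype.ext (Subtype.ext h)),
      (congrArg Subtype.val (Subgroup.mem_center_iff.mp hz ⟨g, hg⟩)).symm, fun x hx => ?_⟩
    exact Subgroup.mem_centralizer_singleton_iff.mpr
      (congrArg Subtype.val (Subgroup.mem_center_iff.mp hz ⟨x, hx⟩))
  obtain ⟨κ, hκ⟩ := Z.exists_unit_ne_one
  obtain ⟨A, hA, hA1⟩ := h2 (Z.S 0 1)
  obtain ⟨C, hC, hC1⟩ := h2 (Z.M κ)
  have hAQ : A ≤ Z.Q := by
    obtain ⟨z, hz1, hz2, hz3⟩ := key A hA _ hA1 Z.S_zero_one_ne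
    exact hz3.trans (Z.centralizer_le_Q (Z.mem_Q_of_comm (Z.S_mem 0 1) Z.S_zero_one_ne hz2) hz1)
  have hCB : C ≤ Z.B := by
    obtain ⟨z, hz1, hz2, hz3⟩ := key C hC _ hC1 (Z.M_ne_one hκ)
    obtain ⟨l, rfl⟩ := (Z.mem_D z).mp (Z.mem_D_of_comm hκ hz2)
    rw [Z.centralizer_M (by rintro rfl; exact hz1 (map_one _))] at hz3
    exact hz3.trans inf_le_left
  have hne : C ≠ A := by
    rintro rfl
    exact hκ (Z.one_of_M_mem_Q (hAQ hC1))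
  have := h3 (insert Z.B ((𝓐.erase A).erase C)) ⟨?_, ?_⟩
  · have e1 := Finset.card_insert_le Z.B ((𝓐.erase A).erase C)
    have e2 := Finset.card_erase_add_one (Finset.mem_erase.mpr ⟨hne, hC⟩)
    have e3 := Finset.card_erase_add_one hA
    omega
  · intro X hX
    rcases Finset.mem_insert.mp hX with rfl | hX
    · exact Z.B_ne_top
    · exact h1 X (Finset.mem_of_mem_erase (Finset.mem_of_mem_erase hX))
  · intro g
    obtain ⟨X, hX, hg⟩ := h2 g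
    by_cases e1 : X = A
    · exact ⟨Z.B, Finset.mem_insert_self _ _, Z.Q_le_B (hAQ (e1 ▸ hg))⟩
    by_cases e2 : X = C
    · exact ⟨Z.B, Finset.mem_insert_self _ _, hCB (e2 ▸ hg)⟩
    exact ⟨X, Finset.mem_insert_of_mem (Finset.mem_erase.mpr ⟨e2, Finset.mem_erase.mpr ⟨e1, hX⟩⟩), hg⟩

end Cfsg.Agent.S3893
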