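import Cfsg.Statements.S3898
import Cfsg.Agent.H23.Cnt3
-- import your own Cfsg.Agent.* helpers here

set_option autoImplicit false
open Cfsg

namespace Cfsg.Agent.S3898

/-- Let π be a finite set of primes containing 2 and G a finite group. Write k_π(G) for the number of conjugacy classes of G consisting of π-elements (elements all of whose order's prime divisors lie in π) and |G|_π for the π-part of the order of G. If k_π(G) > |G|_π/2, then G has a normal π-complement (a normal subgroup of order prime to π whose index is a π-number) and an abelian Hall subgroup for the set of odd primes in π. -/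
theorem result {G : Type*} [Group G] [Finite G] (π : Finset ℕ) (hπ : ∀ r ∈ π, r.Prime) (h2 : 2 ∈ π)
    (hk : π.prod (fun r => r ^ (Nat.card G).factorization r) < 2 * Nat.card {c : ConjClasses G // ∀ x ∈ c.carrier, ∀ r : ℕ, r.Prime → r ∣ orderOf x → r ∈ π}) :
    (∃ N : Subgroup G, N.Normal ∧ (∀ r : ℕ, r.Prime → r ∣ Nat.card ↥N → r ∉ π) ∧ ∀ r : ℕ, r.Prime → r ∣ N.index → r ∈ π) ∧ ∃ H : Subgroup G, Cfsg.IsPiHall ((↑π : Set ℕ) \ {2}) H ∧ IsMulCommutative ↥H := by

  rw [H23.Cnt.card_eq_kpi (π := π) (P := fun n => ∀ r : ℕ, r.Prime → r ∣ n → r ∈ π) fun _ _ =>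
    Iff.rfl, H23.Cnt.pp_eq_prod π hπ Nat.card_pos.ne'] at hk
  refine ⟨H23.Cnt.exists_normal_compl (H23.Cnt.npc_of_two_mem h2 hπ hk), ?_⟩
  rw [← one_mul (H23.Cnt.pp _ _)] at hk
  have h := H23.Cnt.lt_of_subset (ρ := (π : Set ℕ) \ {2}) Set.sdiff_subset hk
  have h3 : ∀ q ∈ (π : Set ℕ) \ {2}, 3 ≤ q := fun q hq => by
    have := (hπ q hq.1).two_le
    have : q ≠ 2 := hq.2
    omega
  obtain ⟨H, h1, hH⟩ := H23.Cnt.nil_hall (G := G) h3 (by omega)
  have := H23.Cnt.kpi_le_of_nil hH h1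
  rw [H23.Cnt.pp_card h1] at h
  exact ⟨H, h1, H23.Cnt.comm_of_lt (p := 3) (fun s hs e => h3 s (h1.1 s hs e)) (by omega)⟩

end Cfsg.Agent.S3898
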