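import Cfsg.Statements.S3899
import Cfsg.Agent.H23.Cnt3
-- import your own Cfsg.Agent.* helpers here

set_option autoImplicit false
open Cfsg

namespace Cfsg.Agent.S3899

/-- Let π be a finite non-empty set of odd primes with smallest member p and G a finite group. Write k_π(G) for the number of conjugacy classes of G consisting of π-elements (elements all of whose order's prime divisors lie in π) and |G|_π for the π-part of the order of G. If k_π(G) > (p + 1)|G|_π/(2p), then G has a normal π-complement (a normal subgroup of order prime to π whose index is a π-number) and an abelian Hall π-subgroup. -/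
theorem result {G : Type*} [Group G] [Finite G] (π : Finset ℕ) (hπ : ∀ r ∈ π, r.Prime) (h2 : 2 ∉ π) (p : ℕ) (hp : p ∈ π)
    (hmin : ∀ r ∈ π, p ≤ r) (hk : (p + 1) * π.prod (fun r => r ^ (Nat.card G).factorization r) < 2 * p * Nat.card {c : ConjClasses G // ∀ x ∈ c.carrier, ∀ r : ℕ, r.Prime → r ∣ orderOf x → r ∈ π}) :
    (∃ N : Subgroup G, N.Normal ∧ (∀ r : ℕ, r.Prime → r ∣ Nat.card ↥N → r ∉ π) ∧ ∀ r : ℕ, r.Prime → r ∣ N.index → r ∈ π) ∧ ∃ H : Subgroup G, Cfsg.IsPiHall (↑π : Set ℕ) H ∧ IsMulCommutative ↥H := by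

  rw [H23.Cnt.card_eq_kpi (π := π) (P := fun n => ∀ r : ℕ, r.Prime → r ∣ n → r ∈ π) fun _ _ =>
    Iff.rfl, H23.Cnt.pp_eq_prod π hπ Nat.card_pos.ne'] at hk
  obtain ⟨t, rfl⟩ : ∃ t, p = t + 2 := ⟨p - 2, by have := (hπ p hp).two_le; omega⟩
  refine ⟨H23.Cnt.exists_normal_compl fun q hq hq' => ?_, ?_⟩
  · have := Fact.mk hq'
    obtain ⟨Q⟩ := Sylow.nonempty (p := q) (G := G)
    have h := H23.Cnt.lt_of_subset (ρ := {q}) (by simpa using hq) hk
    rw [H23.Cnt.pp_card (H23.Cnt.sylow_hall Q)] at h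
    refine (H23.Cnt.npc_of_lt Q ?_).1
    obtain ⟨u, rfl⟩ := Nat.exists_eq_add_of_le (hmin q hq)
    generalize Nat.card (Q : Subgroup G) = n at *
    nlinarith [Nat.mul_le_mul_left (t + 2 + u) h, Nat.zero_le (u * n)]
  obtain ⟨H, h1, hH⟩ := H23.Cnt.nil_hall (G := G) (π := π) hmin
    (by nlinarith [Nat.zero_le (t * H23.Cnt.pp π (Nat.card G))])
  have h := hk.trans_le (Nat.mul_le_mul_left _ (H23.Cnt.kpi_le_of_nil hH h1))
  rw [H23.Cnt.pp_card h1] at h
  refine ⟨H, h1, H23.Cnt.comm_of_lt (fun s hs e => hmin s (h1.1 s hs e)) ?_⟩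
  rw [show (t + 2) ^ 2 + (t + 2) - 1 = (t + 2) ^ 2 + (t + 1) from rfl]
  generalize Nat.card H = n at *
  nlinarith [Nat.mul_le_mul_left ((t + 2) ^ 2) h, Nat.zero_le (t * t * t * n),
    Nat.zero_le (t * t * n), Nat.zero_le (t * n)]

end Cfsg.Agent.S3899
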