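import Mathlib
import Cfsg.Statements.S3903
import Cfsg.Agent.FGS.MaxCent

set_option autoImplicit false
open Cfsg

namespace Cfsg.Agent.S3903

open Subgroup

/-- Let N be a proper normal subgroup of the finite group G such that every element x of G outside N has prime power order and has centralizer C_G(x) a maximal subgroup of G. Then N is solvable. -/
theorem result {G : Type*} [Group G] [Finite G] (N : Subgroup G) [N.Normal] (hN : N ≠ ⊤)
    (h : ∀ x : G, x ∉ N → IsPrimePow (orderOf x) ∧ IsCoatom (Subgroup.centralizer ({x} : Set G))) : Group.IsSolvable ↥N := by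
  suffices Group.IsSolvable G from inferInstance
  have key : ∀ x : G, x ∉ N → ∃ p k : ℕ, p.Prime ∧ orderOf x = p ^ k ∧
      IsPGroup p (centralizer ({x} : Set G)) := by
    intro x hx
    obtain ⟨p, k, hp, hk0, hk⟩ := (isPrimePow_nat_iff _).mp (h x hx).1
    have := Fact.mk hp
    refine ⟨p, k, hp, hk.symm, Core.isPGroup_iff_isPiSubgroup.mpr fun q hq hd => ?_⟩
    by_contra hqp
    have := Fact.mk hq
    obtain ⟨⟨y, hy⟩, hy'⟩ := exists_prime_orderOf_dvd_card' q hd
    have hyq : orderOf y = q := by simpa using hy'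
    have hc : Commute x y := (mem_centralizer_singleton_iff.mp hy).symm
    have hcop : (orderOf x).Coprime (orderOf y) := by
      rw [← hk, hyq]; exact ((Nat.coprime_primes hp hq).mpr (Ne.symm hqp)).pow_left k
    have h1 : x * y ∉ N := fun h1 => hx (zpowers_le.mpr h1 (FGS.mem_zpowers_mul_left hc hcop))
    obtain ⟨r, j, hr, -, hj⟩ := (isPrimePow_nat_iff _).mp (h _ h1).1
    rw [hc.orderOf_mul_eq_mul_orderOf_of_coprime hcop, ← hk, hyq] at hj
    have e1 : p = r := (Nat.prime_dvd_prime_iff_eq hp hr).mp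
      (hp.dvd_of_dvd_pow (hj ▸ (dvd_pow_self p hk0.ne').mul_right q))
    have e2 : q = r := (Nat.prime_dvd_prime_iff_eq hq hr).mp
      (hq.dvd_of_dvd_pow (hj ▸ dvd_mul_left q _))
    exact hqp (e2.trans e1.symm)
  by_cases h2 : IsPGroup 2 G
  · exact Core.solvable_of_isPGroup h2
  by_cases hodd : ∃ x : G, x ∉ N ∧ ¬ IsPGroup 2 (centralizer ({x} : Set G))
  · obtain ⟨x, hx, hx2⟩ := hodd
    obtain ⟨p, k, hp, -, hP⟩ := key x hx
    have := Fact.mk hp
    refine S4040.result _ (h x hx).2 hP.isNilpotent ?_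
    obtain ⟨j, hj⟩ := IsPGroup.iff_card.mp hP
    rw [hj]
    exact (hp.odd_of_ne_two (by rintro rfl; exact hx2 hP)).pow
  push Not at hodd
  have hsyl : ∀ x : G, x ∉ N → ∃ R : Sylow 2 G, (R : Subgroup G) = centralizer {x} := by
    intro x hx
    obtain ⟨R, hR⟩ := (hodd x hx).exists_le_sylow
    refine ⟨R, ((h x hx).2.le_iff_eq fun ht => h2 ?_).mp hR⟩
    exact (ht ▸ R.isPGroup').of_equiv topEquiv
  obtain ⟨x, hx⟩ : ∃ x, x ∉ N := by
    by_contra hn
    push Not at hn
    exact hN (eq_top_iff.mpr fun x _ => hn x)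
  obtain ⟨P, hP⟩ := hsyl x hx
  set Z : Subgroup G := (P : Subgroup G) ⊓ centralizer ((P : Subgroup G) : Set G) with hZ
  have hconj : ∀ w : G, w ∉ N → ∃ g : G, g⁻¹ * w * g ∈ Z := by
    intro w hw
    obtain ⟨R, hR⟩ := hsyl w hw
    obtain ⟨g, rfl⟩ := MulAction.exists_smul_eq G P R
    refine ⟨g, Transfer.mem_smul_sylow_iff.mp (hR ▸ mem_centralizer_singleton_iff.mpr rfl),
      mem_centralizer_iff.mpr fun y hy => ?_⟩
    have h1 : g * y * g⁻¹ ∈ centralizer {w} :=
      hR ▸ FGS.mem_smul_sylow_iff.mpr (by simpa [mul_assoc] using hy)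
    rw [mem_centralizer_singleton_iff] at h1
    calc y * (g⁻¹ * w * g) = g⁻¹ * (g * y * g⁻¹ * w) * g := by group
      _ = g⁻¹ * w * g * y := by rw [h1]; group
  have hZN : Z ⊔ N = ⊤ := by
    refine FGS.eq_top_of_forall_conj_mem _ fun w => ?_
    by_cases hw : w ∈ N
    · exact ⟨1, mem_sup_right (by simpa using hw)⟩
    · obtain ⟨g, hg⟩ := hconj w hw
      exact ⟨g⁻¹, mem_sup_left (by simpa using hg)⟩
  -- counting
  have hcount : (N : Set G)ᶜ.ncard ≤ ((Z : Set G) \ N).ncard * (P : Subgroup G).index := by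
    rw [index_eq_card, ← Set.ncard_univ, ← Set.ncard_prod]
    refine le_trans (Set.ncard_le_ncard ?_) (Set.ncard_image_le
      (f := fun u : G × (G ⧸ (P : Subgroup G)) => u.2.out * u.1 * u.2.out⁻¹))
    intro w hw
    obtain ⟨g, hg⟩ := hconj w hw
    refine ⟨(g⁻¹ * w * g, (g : G ⧸ (P : Subgroup G))), ⟨⟨hg, fun hn => hw ?_⟩, trivial⟩, ?_⟩
    · simpa [mul_assoc] using Normal.conj_mem inferInstance _ hn g
    · obtain ⟨u, hu⟩ := QuotientGroup.mk_out_eq_mul (P : Subgroup G) g
      have := mem_centralizer_iff.mp hg.2 u u.2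
      simp only [hu]
      calc g * u * (g⁻¹ * w * g) * (g * u)⁻¹ = g * (u * (g⁻¹ * w * g)) * (g * u)⁻¹ := by group
        _ = w := by rw [this]; group
  have e1 : (N : Set G)ᶜ.ncard + Nat.card N = Nat.card G := by
    rw [← Set.ncard_add_ncard_compl (N : Set G), add_comm]; rfl
  have e2 : ((Z : Set G) \ N).ncard + Nat.card (N ⊓ Z : Subgroup G) = Nat.card Z := by
    have := Set.ncard_inter_add_ncard_sdiff_eq_ncard (Z : Set G) N
    rw [add_comm, Set.inter_comm] at this
    exact this
  have e3 := Core.card_inf_mul_relIndex N Z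
  have e4 : N.relIndex Z = N.index := by rw [← relIndex_sup_right, hZN, relIndex_top_right]
  have e5 := N.card_mul_index
  have e6 := (P : Subgroup G).card_mul_index
  have e7 := one_lt_index_of_ne_top hN
  have e8 : 0 < (P : Subgroup G).index := Nat.pos_of_ne_zero index_ne_zero_of_finite
  rw [e4] at e3
  have hPZ : Nat.card (P : Subgroup G) ≤ Nat.card Z := by
    generalize (N : Set G)ᶜ.ncard = a, ((Z : Set G) \ N).ncard = b, Nat.card N = n, Nat.card G = g,
      Nat.card (N ⊓ Z : Subgroup G) = c, Nat.card Z = z, N.index = t, (P : Subgroup G).index = m,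
      Nat.card (P : Subgroup G) = s at *
    obtain ⟨t, rfl⟩ : ∃ t', t = t' + 1 := ⟨t - 1, by omega⟩
    have a1 : a = n * t := by nlinarith
    have a2 : b = c * t := by nlinarith
    have a3 : n ≤ c * m := Nat.le_of_mul_le_mul_right (c := t) (by nlinarith) (by omega)
    exact Nat.le_of_mul_le_mul_right (c := m) (by nlinarith) e8
  have hPc : IsMulCommutative (P : Subgroup G) := by
    rw [← le_centralizer_iff_isMulCommutative]
    exact (eq_of_le_of_card_ge inf_le_left hPZ).ge.trans inf_le_right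
  exact ⟨⟨3, S0556.result (P : Subgroup G) (hP ▸ (h x hx).2)⟩⟩

end Cfsg.Agent.S3903
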