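import Mathlib
import Cfsg.Statements.S3904
import Cfsg.Agent.FGS.MaxCent
import Cfsg.Agent.FGS.Basic2
import Cfsg.Agent.S0556

set_option autoImplicit false
open Cfsg

namespace Cfsg.Agent.S3904

open Subgroup
open scoped commutatorElement

theorem le_center_of_forall {G : Type*} [Group G] {y : G}
    (h : ∀ x : G, x ∉ center G → y ∈ centralizer ({x} : Set G)) : y ∈ center G := by
  rw [mem_center_iff]
  intro x
  by_cases hx : x ∈ center G
  · exact (mem_center_iff.mp hx y).symm
  · exact (mem_centralizer_singleton_iff.mp (h x hx)).symm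

theorem mem_center_of_sup {G : Type*} [Group G] {y : G} {A B : Subgroup G} (h : A ⊔ B = ⊤)
    (hA : A ≤ centralizer {y}) (hB : B ≤ centralizer {y}) : y ∈ center G := by
  rw [← SetLike.mem_coe, ← Set.singleton_subset_iff, ← centralizer_eq_top_iff_subset, eq_top_iff, ← h]
  exact sup_le hA hB

theorem pcase {G : Type*} [Group G] [Finite G] {p : ℕ} [Fact p.Prime]
    (h : ∀ x : G, x ∉ center G → IsCoatom (centralizer ({x} : Set G)))
    (hp : IsPGroup p (G ⧸ center G)) : IsElementaryAbelian p (⊤ : Subgroup (G ⧸ center G)) := by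
  have hnil : Group.IsNilpotent G := Group.of_quotient_center_nilpotent hp.isNilpotent
  have hs := QuotientGroup.mk'_surjective (center G)
  have key : ∀ x : G, x ∉ center G → commutator G ≤ centralizer {x} ∧
      ∀ g : G, g ^ p ∈ centralizer ({x} : Set G) := by
    intro x hx
    have hn := Group.normalizerCondition_of_isNilpotent.normal_of_coatom _ (h x hx)
    refine ⟨S0556.commutator_le_of_coatom _ (h x hx), fun g => ?_⟩
    by_cases hg : g ∈ centralizer ({x} : Set G)
    · exact pow_mem hg p
    by_contra hgp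
    have h1 : centralizer {x} ⊔ zpowers (g ^ p) = ⊤ := (h x hx).2 _
      (lt_of_le_of_ne le_sup_left fun e => hgp (e ▸ mem_sup_right (mem_zpowers _)))
    obtain ⟨c, hc, _, ⟨m, rfl⟩, e⟩ := (Core.mem_sup_of_le_normalizer le_normalizer_of_normal).mp
      (h1 ▸ mem_top g)
    obtain ⟨k, hk⟩ := hp (QuotientGroup.mk' _ g)
    have h2 : g ^ p ^ k ∈ centralizer ({x} : Set G) :=
      center_le_centralizer _ ((QuotientGroup.eq_one_iff _).mp hk)
    have h3 : g ^ (1 - p * m : ℤ) ∈ centralizer ({x} : Set G) := by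
      rw [zpow_sub, zpow_one, zpow_mul, zpow_natCast, mul_inv_eq_iff_eq_mul.mpr e]
      exact hc
    obtain ⟨u, v, huv⟩ : IsCoprime (1 - p * m : ℤ) ((p : ℤ) ^ k) :=
      IsCoprime.pow_right ⟨1, m, by ring⟩
    apply hg
    have := mul_mem (zpow_mem h3 u) (zpow_mem h2 v)
    rwa [← zpow_mul, ← zpow_natCast, ← zpow_mul, ← zpow_add, mul_comm _ u, mul_comm _ v,
      Nat.cast_pow, huv, zpow_one] at this
  refine ⟨Core.isMulCommutative_of_forall fun a _ b _ => ?_, fun a _ => ?_⟩
  · have : commutator G ≤ center G := fun y hy => le_center_of_forall fun x hx => (key x hx).1 hy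
    exact (Normal.quotient_commutative_iff_commutator_le.mpr this).is_comm.comm a b
  · obtain ⟨a, rfl⟩ := hs a
    rw [← map_pow]
    exact (QuotientGroup.eq_one_iff _).mpr (le_center_of_forall fun x hx => (key x hx).2 a)

/-- Let G be a non-abelian finite group in which the centralizer of every non-central element is a maximal subgroup. Then G/Z(G) is either an elementary abelian p-group for some prime p, or a minimal non-abelian group (non-abelian with all proper subgroups abelian) of order p^a · q for distinct primes p, q with a normal Sylow p-subgroup. -/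
theorem result {G : Type*} [Group G] [Finite G] (hna : ¬ IsMulCommutative G)
    (h : ∀ x : G, x ∉ Subgroup.center G → IsCoatom (Subgroup.centralizer ({x} : Set G))) :
    (∃ p : ℕ, p.Prime ∧ Cfsg.IsElementaryAbelian p (⊤ : Subgroup (G ⧸ Subgroup.center G))) ∨
    (¬ IsMulCommutative (G ⧸ Subgroup.center G) ∧ (∀ H : Subgroup (G ⧸ Subgroup.center G), H ≠ ⊤ → IsMulCommutative ↥H) ∧
      ∃ p q a : ℕ, p.Prime ∧ q.Prime ∧ p ≠ q ∧ Nat.card (G ⧸ Subgroup.center G) = p ^ a * q ∧
        ∀ P : Subgroup (G ⧸ Subgroup.center G), Nat.card ↥P = p ^ a → P.Normal) := by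
  have hsolv := FGS.MaxCent.solvable h
  have hs := QuotientGroup.mk'_surjective (center G)
  have hnt : Nontrivial (G ⧸ center G) := by
    by_contra hn
    rw [not_nontrivial_iff_subsingleton] at hn
    exact hna (isMulCommutative_of_isCyclic_quotient_center_self G)
  obtain ⟨N, p, hN, hN1, -, hp, hNe, hmin⟩ :=
    Core.exists_minimal_normal_elementary_le (⊤ : Subgroup (G ⧸ center G)) inferInstance top_ne_bot
  have := Fact.mk hp
  by_cases hpg : IsPGroup p (G ⧸ center G)
  · exact Or.inl ⟨p, hp, pcase h hpg⟩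
  right
  set π := QuotientGroup.mk' (center G) with hπ
  have hone : ∀ x : G, π x = 1 ↔ x ∈ center G := fun x => QuotientGroup.eq_one_iff x
  have hNp : IsPGroup p N := Core.IsElementaryAbelian.isPGroup hNe
  -- every non-central element of the preimage of `N` has the centraliser of a `p`-element
  have hx' : ∀ x : G, π x ∈ N → x ∉ center G → ∃ a : G, ∃ k, π a = π x ∧ a ∉ center G ∧
      orderOf a = p ^ k ∧ centralizer ({x} : Set G) = centralizer {a} := by
    intro x hx hxz
    obtain ⟨j, hj⟩ := FGS.exists_orderOf_eq_of_mem hNp hx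
    obtain ⟨a, ha, hax, k, hk⟩ := FGS.exists_pElement_lift π x hj
    have haz : a ∉ center G := fun hz => hxz (by rw [← hone, ← hax, hone]; exact hz)
    exact ⟨a, k, hax, haz, hk, FGS.MaxCent.eq_of_le h hxz haz (FGS.centralizer_le_of_mem_zpowers ha)⟩
  have hint : ∀ L : Subgroup (G ⧸ center G), N ⊔ L = ⊤ → N ⊓ L = ⊥ ∨ N ≤ L := by
    intro L hL
    have : (N ⊓ L).Normal := Core.normal_of_le_normalizer (hL ▸ sup_le
      (le_trans (fun x hx => mem_centralizer_iff.mpr fun y hy =>
        Core.comm_of_isMulCommutative hNe.1 hy.1 hx) (centralizer_le_normalizer _))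
      (Core.le_normalizer_inf le_normalizer_of_normal le_normalizer))
    exact (hmin _ this inf_le_left).imp id inf_eq_left.mp
  have hmax : ∀ x : G, x ∉ center G → IsCoatom ((centralizer ({x} : Set G)).map π) := fun x hx =>
    Core.isCoatom_map_of_ker_le hs (h x hx) (by
      rw [QuotientGroup.ker_mk']; exact center_le_centralizer _)
  have hmem : ∀ x g : G, π g ∈ (centralizer ({x} : Set G)).map π ↔ g ∈ centralizer ({x} : Set G) := by
    intro x g
    rw [← mem_comap, comap_map_eq_self (by rw [QuotientGroup.ker_mk']; exact center_le_centralizer _)]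
  have hdich : ∀ x : G, x ∉ center G → N ≤ (centralizer ({x} : Set G)).map π ∨
      (N ⊔ (centralizer ({x} : Set G)).map π = ⊤ ∧ N ⊓ (centralizer ({x} : Set G)).map π = ⊥) := by
    intro x hx
    refine or_iff_not_imp_left.mpr fun hn => ?_
    have h1 : N ⊔ (centralizer ({x} : Set G)).map π = ⊤ :=
      (hmax x hx).2 _ (lt_of_le_of_ne le_sup_right fun e => hn (e ▸ le_sup_left))
    exact ⟨h1, (hint _ h1).resolve_right hn⟩
  obtain ⟨⟨x0, hx0⟩, hx01⟩ := ne_bot_iff_exists_ne_one.mp hN1
  obtain ⟨x1, rfl⟩ := hs x0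
  obtain ⟨x, k, hxx, hxz, hxk, -⟩ := hx' x1 hx0 fun hz => hx01 (Subtype.ext ((hone x1).mpr hz))
  have hxN : π x ∈ N := hxx ▸ hx0
  have hpq : ∀ y : G, (orderOf y).Coprime p → π y ∈ N → y ∈ center G := by
    intro y hy hyN
    obtain ⟨j, hj⟩ := FGS.exists_orderOf_eq_of_mem hNp hyN
    rw [← hone, ← orderOf_eq_one_iff]
    exact Nat.eq_one_of_dvd_coprimes (hy.pow_right j) (orderOf_map_dvd π y) hj.dvd
  have hA : ∀ y : G, y ∉ center G → (orderOf y).Coprime p → ¬ N ≤ (centralizer ({y} : Set G)).map π := by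
    intro y hyz hy hle
    have h1 : ∀ u : G, π u ∈ N → u ∉ center G → centralizer ({u} : Set G) = centralizer {y} := by
      intro u hu huz
      obtain ⟨a, j, hau, haz, haj, e⟩ := hx' u hu huz
      rw [e]
      exact FGS.MaxCent.eq_of_coprime h haz hyz
        (mem_centralizer_singleton_iff.mp ((hmem y a).mp (hle (hau ▸ hu)))) (haj ▸ hy.symm.pow_left j)
    have hxy : Commute x y := mem_centralizer_singleton_iff.mp ((hmem y x).mp (hle hxN))
    have hab := FGS.MaxCent.comm_of_two h hxz hyz hxy hxk hy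
    rw [h1 x hxN hxz] at hab
    obtain ⟨g, hg⟩ : ∃ g, g ∉ centralizer ({y} : Set G) := by
      by_contra hn
      push Not at hn
      exact (h y hyz).1 (eq_top_iff.mpr fun x _ => hn x)
    have hg1 : centralizer {y} ⊔ zpowers g = ⊤ := (h y hyz).2 _
      (lt_of_le_of_ne le_sup_left fun e => hg (e ▸ mem_sup_right (mem_zpowers _)))
    have hgz : g ∉ center G := fun hz => hg (center_le_centralizer _ hz)
    have hcz : ∀ u ∈ centralizer ({y} : Set G), u ∈ centralizer ({g} : Set G) → u ∈ center G :=
      fun u hu hug => mem_center_of_sup hg1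
        (fun v hv => mem_centralizer_singleton_iff.mpr (Core.comm_of_isMulCommutative hab hv hu))
        (zpowers_le.mpr (mem_centralizer_singleton_iff.mpr (mem_centralizer_singleton_iff.mp hug).symm))
    rcases hdich g hgz with h2 | ⟨h2, -⟩
    · exact hxz (hcz x (mem_centralizer_singleton_iff.mpr hxy) ((hmem g x).mp (h2 hxN)))
    · obtain ⟨n, hn, _, ⟨c, hc, rfl⟩, e⟩ := (Core.mem_sup_of_le_normalizer le_normalizer_of_normal).mp
        (h2 ▸ mem_top (π y))
      have h3 : π c ∈ (centralizer ({y} : Set G)).map π := by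
        rw [← inv_mul_eq_iff_eq_mul.mpr e]
        exact mul_mem (inv_mem (hle hn)) ((hmem y y).mpr (mem_centralizer_singleton_iff.mpr rfl))
      rw [(hone c).mpr (hcz c ((hmem y c).mp h3) hc), mul_one] at e
      exact hyz (hpq y hy (e ▸ hn))
  obtain ⟨y, hyz, hy⟩ : ∃ y : G, y ∉ center G ∧ (orderOf y).Coprime p := by
    by_contra hn
    push Not at hn
    obtain ⟨j, hj⟩ := FGS.index_eq_pow_of_forall_mem (p := p) (center G) fun y hy => by
      by_contra hz; exact hn y hz hy
    exact hpg (IsPGroup.of_card hj)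
  obtain ⟨hL1, hL2⟩ := (hdich y hyz).resolve_left (hA y hyz hy)
  have hNM : N ≤ (centralizer ({x} : Set G)).map π := by
    refine (hdich x hxz).resolve_right fun h1 => hxz ?_
    rw [← hone, ← mem_bot, ← h1.2]
    exact ⟨hxN, (hmem x x).mpr (mem_centralizer_singleton_iff.mpr rfl)⟩
  have hxy : x ∉ centralizer ({y} : Set G) := fun h1 => hxz (by
    rw [← hone, ← mem_bot, ← hL2]
    exact ⟨hxN, (hmem y x).mpr h1⟩)
  have hMN : (centralizer ({x} : Set G)).map π = N := by
    refine le_antisymm (fun m hm => ?_) hNM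
    obtain ⟨n, hn, _, ⟨u, hu, rfl⟩, e⟩ := (Core.mem_sup_of_le_normalizer le_normalizer_of_normal).mp
        (hL1 ▸ mem_top m)
    have h3 : u ∈ centralizer ({x} : Set G) := by
      rw [← hmem, ← inv_mul_eq_iff_eq_mul.mpr e]
      exact mul_mem (inv_mem (hNM hn)) hm
    obtain ⟨c, d, hc, hd, rfl, hcd, ⟨j, hj⟩, hdp⟩ := FGS.exists_pPart p u
    have hdz : d ∈ center G := by
      by_contra hz
      refine hA d hz hdp ?_
      rw [FGS.MaxCent.eq_of_coprime h hz hxz (mem_centralizer_singleton_iff.mp (zpowers_le.mpr h3 hd))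
        (hxk ▸ hdp.pow_right k)]
      exact hNM
    have hcz : c ∈ center G := by
      by_contra hz
      apply hxy
      rw [← FGS.MaxCent.eq_of_coprime h hz hyz (mem_centralizer_singleton_iff.mp (zpowers_le.mpr hu hc))
        (hj ▸ hy.symm.pow_left j)]
      exact mem_centralizer_singleton_iff.mpr
        (mem_centralizer_singleton_iff.mp (zpowers_le.mpr h3 hc)).symm
    rw [e, (hone _).mpr (mul_mem hcz hdz), mul_one]
    exact hn
  have hco : IsCoatom N := hMN ▸ hmax x hxz
  have hq : N.index.Prime := FGS.index_prime_of_normal_isCoatom hco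
  have hyN : π y ∉ N := fun hn => hyz (hpq y hy hn)
  have hqp : p ≠ N.index := by
    intro e
    exact hyN (FGS.mem_of_coprime_index (e ▸ hy.coprime_dvd_left (orderOf_map_dvd π y)))
  obtain ⟨a, ha⟩ := IsPGroup.iff_card.mp hNp
  refine ⟨fun hc => ?_, fun H hH => ?_, p, N.index, a, hp, hq, hqp, by rw [← ha, card_mul_index],
    fun P hP => ?_⟩
  · refine hxy (mem_centralizer_singleton_iff.mpr (FGS.commute_of_coprime_of_central
      (hxk ▸ hy.symm.pow_left k) ?_))
    rw [← hone, map_mul, map_mul, map_mul, hc.is_comm.comm (π x), map_inv, map_inv]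
    group
  · by_cases hle : H ≤ N
    · exact Core.isMulCommutative_of_le hNe.1 hle
    have h1 : N ⊔ H = ⊤ := FGS.sup_eq_top_of_isCoatom hco hle
    have h2 : N ⊓ H = ⊥ := (hint H h1).resolve_right fun h3 => hH (by rw [← h1, sup_eq_right.mpr h3])
    have h3 := Core.card_inf_mul_relIndex N H
    rw [h2, card_bot, one_mul, ← relIndex_sup_left, h1, relIndex_top_right] at h3
    have := Fact.mk hq
    have := isCyclic_of_prime_card h3.symm
    infer_instance
  · have h1 : P ≤ N := Core.le_of_coprime_index (by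
      rw [hP]; exact ((Nat.coprime_primes hp hq).mpr hqp).pow_left a)
    rw [eq_of_le_of_card_ge h1 (by rw [hP, ha])]
    exact hN

end Cfsg.Agent.S3904
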