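import Mathlib
import Cfsg.Statements.S3921
import Cfsg.Agent.CIT.F10

set_option autoImplicit false
open Cfsg

namespace Cfsg.Agent.S3921


/-- Say that a group has self-centralizing non-cyclic subgroups when every non-cyclic subgroup H satisfies C_G(H) ≤ H. A non-abelian finite simple group has self-centralizing non-cyclic subgroups if and only if it is isomorphic to PSL₂(q) with q = 4, q = 9, or q a prime of the form 2^k + 1 or 2^k − 1. -/
theorem result {G : Type*} [Group G] [Finite G] [IsSimpleGroup G] (hna : ¬ IsMulCommutative G) :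
    (∀ H : Subgroup G, ¬ IsCyclic ↥H → Subgroup.centralizer (H : Set G) ≤ H) ↔ ∃ (F : Type) (_ : Field F) (_ : Fintype F),
      (Fintype.card F = 4 ∨ Fintype.card F = 9 ∨ ((Fintype.card F).Prime ∧ ∃ k : ℕ, Fintype.card F = 2 ^ k + 1 ∨ Fintype.card F = 2 ^ k - 1)) ∧
      Nonempty (G ≃* Matrix.ProjectiveSpecialLinearGroup (Fin 2) F) := by
  constructor
  · intro h
    have h' : CIT.F.NCC G := h
    rcases CIT.F.lst_of_dih hna (h'.ord2 hna) (h'.dihSyl hna) with
      ⟨F, _, _, h1, -, ⟨k, hk⟩, h2⟩ | ⟨F, _, _, h1, h2⟩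
    · exact ⟨F, inferInstance, inferInstance, Or.inr (Or.inr ⟨h1, k, by omega⟩), h2⟩
    · exact ⟨F, inferInstance, inferInstance, Or.inr (Or.inl h1), h2⟩
  · rintro ⟨F, _, _, h1 | h1 | ⟨h1, k, hk⟩, ⟨e⟩⟩
    · obtain ⟨K, _, _, hK, ⟨f⟩⟩ := CIT.F.L2.five_of_four (G := G) ⟨F, _, _, h1, ⟨e⟩⟩
      refine (CIT.F.ncc_psl2 (c := 2) (o := 3) (k := 1) le_rfl hK ?_ (by decide)
        (by norm_num)).equiv f
      rw [CIT.F.ringChar_of_card (p := 5) (k := 1) (by norm_num) hK, hK]
      norm_num
    · refine (CIT.F.ncc_psl2 (c := 4) (o := 5) (k := 2) (by norm_num) h1 ?_ (by decide)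
        (by norm_num)).equiv e
      rw [CIT.F.ringChar_of_card (p := 3) (k := 2) (by norm_num) h1, h1]
      norm_num
    · have h3 := CIT.F.three_primes (CIT.F.not_solv_of_simple hna)
      rw [Nat.card_congr e.toEquiv] at h3
      have h2 : Fintype.card F ≠ 2 := fun h => by
        rw [CIT.F.card_psl2_even (n := 1) le_rfl h] at h3
        norm_num at h3
        revert h3
        decide +kernel
      have h4 : Fintype.card F ≠ 3 := fun h => by
        rw [CIT.F.card_psl2_odd (c := 1) h] at h3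
        norm_num at h3
        revert h3
        decide +kernel
      obtain ⟨c, hc⟩ := h1.odd_of_ne_two h2
      have h5 := h1.two_le
      have h6 : Fintype.card F ∣ ringChar F ^ 2 := by
        rw [CIT.F.ringChar_of_card (k := 1) h1 (pow_one _).symm]
        exact dvd_pow_self _ two_ne_zero
      obtain rfl | rfl | ⟨k, rfl⟩ : k = 0 ∨ k = 1 ∨ ∃ j, k = j + 2 := by
        rcases k with _ | _ | k
        · simp
        · simp
        · exact Or.inr (Or.inr ⟨k, rfl⟩)
      · omega
      · omega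
      have h7 : 2 ^ (k + 2) = 4 * 2 ^ k := by ring
      have h8 : 2 ^ (k + 1) = 2 * 2 ^ k := by ring
      have h9 : 0 < 2 ^ k := by positivity
      rcases hk with hk | hk
      · exact (CIT.F.ncc_psl2 (c := c) (o := c + 1) (k := k + 1) (by omega) hc h6
          ⟨2 ^ k, by omega⟩ (Or.inl ⟨by omega, rfl⟩)).equiv e
      · exact (CIT.F.ncc_psl2 (c := c) (o := c) (k := k + 1) (by omega) hc h6
          ⟨2 ^ k - 1, by omega⟩ (Or.inr ⟨rfl, by omega⟩)).equiv e

end Cfsg.Agent.S3921
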