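import Mathlib
import Cfsg.Statements.S3940
import Cfsg.Agent.FGS.Homog2
import Cfsg.Agent.FGS.S3In
import Cfsg.Agent.FGS.S4G
import Cfsg.Agent.FGS.Solv
import Cfsg.Agent.BG.AmbCore
import Cfsg.Agent.S0333

set_option autoImplicit false
open Cfsg

namespace Cfsg.Agent.S3940

open Subgroup Cfsg.Agent.LocalEven Cfsg.Agent.FGS

/-- All `p'`-subgroups are nilpotent. -/
def NP (p : ℕ) (X : Type*) [Group X] : Prop :=
  ∀ H : Subgroup X, IsPiSubgroup {r | r ≠ p} H → Group.IsNilpotent H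

section
variable {G : Type*} [Group G] [Finite G] {p : ℕ}

omit [Finite G] in
theorem NP.of_inj (h : NP p G) {Y : Type*} [Group Y] (f : Y →* G) (hf : Function.Injective f) :
    NP p Y := by
  intro H hH
  have := h (H.map f) (fun p hp hd => hH p hp (by rwa [card_map_of_injective hf] at hd))
  exact Group.nilpotent_of_mulEquiv (H.equivMapOfInjective f hf).symm

theorem NP.quot (h : NP p G) (h2 : 2 ≠ p) (N : Subgroup G) [N.Normal] : NP p (G ⧸ N) := by
  intro H hH
  have hNH : N ≤ H.comap (QuotientGroup.mk' N) := fun x hx => by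
    rw [mem_comap, QuotientGroup.mk'_apply, (QuotientGroup.eq_one_iff x).2 hx]; exact H.one_mem
  have hr : N.relIndex (H.comap (QuotientGroup.mk' N)) = Nat.card H := by
    have := card_mul_relIndex hNH
    rw [FGS.card_comap_mk'] at this
    exact Nat.eq_of_mul_eq_mul_left Nat.card_pos this
  obtain ⟨L, -, hL, hs, -⟩ := exists_pi_supplement (π := {r | r ≠ p}) Nat.prime_two h2 hNH
    (by simp [normalizer_eq_top])
    (fun r hr' hrπ R hR hle => le_of_not_dvd_relIndex hr' hR hle (by simp [normalizer_eq_top])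
      (fun hd => hrπ (hH r hr' (hr ▸ hd))))
  have hm : L.map (QuotientGroup.mk' N) = H := by
    have := congrArg (Subgroup.map (QuotientGroup.mk' N)) hs
    rwa [Subgroup.map_sup, map_comap_eq_self_of_surjective (QuotientGroup.mk'_surjective N),
      QuotientGroup.map_mk'_self, bot_sup_eq] at this
  haveI := h L hL
  rw [← hm]
  exact Group.nilpotent_of_surjective _ ((QuotientGroup.mk' N).subgroupMap_surjective L)

theorem NP.comm (h : NP p G) {Q R : Subgroup G} {q r : ℕ} (hq : q.Prime) (hr : r.Prime)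
    (hqp : q ≠ p) (hrp : r ≠ p) (hqr : q ≠ r) (hQ : IsPGroup q Q) (hR : IsPGroup r R)
    (hn : R ≤ normalizer (Q : Set G)) {a b : G} (ha : a ∈ Q) (hb : b ∈ R) : a * b = b * a := by
  haveI := Fact.mk hq
  haveI := Fact.mk hr
  exact (BG.Amb.nil_le_cent_of_coprime (h _ (IsPi.sup (IsPi.of_pgroup hq hqp hQ)
    (IsPi.of_pgroup hr hrp hR) hn)) le_sup_right le_sup_left
    (IsPGroup.coprime_card_of_ne r q hqr.symm R Q hR hQ) hb a ha)

theorem NP.not_four [IsSimpleGroup G] (hn : ¬ IsMulCommutative G) (h : NP p G) (h2 : 2 ≠ p)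
    (h3 : 3 ≠ p) : ¬ Gs.Four G := by
  rintro ⟨S, hS⟩
  obtain ⟨x, hx, hx3, htr⟩ := (GsC.fd_top hn S hS).exists_three
  obtain ⟨a, ha, ha1, -⟩ := Gs.exists_ne_two (T := (S : Subgroup G)) (by rw [hS]; norm_num) 1
  obtain ⟨b, hb, hb1, hba⟩ := Gs.exists_ne_two (T := (S : Subgroup G)) (by rw [hS]; norm_num) a
  obtain ⟨y, hy, hy'⟩ := htr a ha b hb ha1 hb1
  rw [← h.comm Nat.prime_two Nat.prime_three h2 h3 (by norm_num) S.isPGroup'
    (isPGroup_zpowers_of_orderOf (k := 1) (by simpa using hx3)) (zpowers_le.2 hx.2) ha hy,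
    mul_inv_cancel_right] at hy'
  exact hba hy'.symm

theorem NP.not_s3 (h : NP p G) (h2 : 2 ≠ p) (h3 : 3 ≠ p) : ¬ HasS3 G := by
  rintro ⟨t, x, ht, hx, e⟩
  have hc' := h.comm Nat.prime_three Nat.prime_two h3 h2 (by norm_num)
    (isPGroup_zpowers_of_orderOf (k := 1) (by simpa using hx))
    (LocalEven.isPGroup_zpowers (x := t) (k := 1) (by simpa [pow_two] using ht))
    (zpowers_le.2 (cj_eq_self_iff.1 (by rw [cj_zpowers, e, zpowers_inv])))
    (mem_zpowers x) (mem_zpowers t)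
  rw [← hc', mul_inv_cancel_right, eq_inv_iff_mul_eq_one, ← pow_two] at e
  have := orderOf_dvd_of_pow_eq_one e
  rw [hx] at this
  norm_num at this

theorem NP.not_s4 (h : NP p G) (hp3 : 3 < p) : ¬ Cfsg.Involves (Equiv.Perm (Fin 4)) G := by
  rintro ⟨K, R, _, ⟨e⟩⟩
  have h1 := (((h.of_inj K.subtype K.subtype_injective).quot (by omega) (R.subgroupOf K)).of_inj
    e.symm.toMonoidHom e.symm.injective)
  refine h1.not_s3 (by omega) (by omega) ⟨Equiv.swap 0 1, Equiv.swap 0 1 * Equiv.swap 1 2,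
    by decide, ?_, by decide⟩
  haveI := Fact.mk Nat.prime_three
  exact orderOf_eq_prime (by decide) (by decide)

omit [Finite G] in
theorem NP.not_sz (h : NP p G) (hp : p.Prime) (hp3 : 3 < p) : ¬ Lie.IsoSuzuki G := by
  classical
  rintro ⟨F, _, _, m, hm, hF, ⟨e⟩⟩
  have e' := e.trans (RankOne.Sz.lieEquiv hF hm)
  have h1 := h.of_inj e'.symm.toMonoidHom e'.symm.injective
  have hp2 : ¬ p ∣ 2 := fun h => by have := Nat.le_of_dvd two_pos h; omega
  have key : ∀ k ∈ ({2 ^ (2 * m + 1) + 2 ^ (m + 1) + 1, 2 ^ (2 * m + 1) - 2 ^ (m + 1) + 1} :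
      Set ℕ), Odd k → 1 < k → p ∣ k := by
    intro k hk ho h1k
    by_contra hd
    obtain ⟨U, -, hU, hc, hN⟩ := S0333.result hm hF k hk
    have hnil := h1 (normalizer (U : Set (Cfsg.Sz F m))) (fun r hr hrd hrp => by
      rw [hN, hrp] at hrd
      rcases (Nat.Prime.dvd_mul hp).1 hrd with h | h
      · exact hp2 (hp.dvd_of_dvd_pow (n := 2) h)
      · exact hd h)
    obtain ⟨t, ht⟩ := exists_prime_orderOf_dvd_card' (G := normalizer (U : Set (Cfsg.Sz F m))) 2
      (by rw [hN]; omega)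
    have : Nontrivial U := Finite.one_lt_card_iff_nontrivial.1 (hU ▸ h1k)
    obtain ⟨u, hu⟩ := exists_ne (1 : U)
    have ht2 : orderOf (t : Cfsg.Sz F m) = 2 := by simpa using ht
    have hcm := BG.Amb.nil_commute_of_coprime hnil (U.le_normalizer u.2) t.2 (by
      rw [ht2]
      refine Nat.Coprime.coprime_dvd_left ?_ (hU ▸ ho).coprime_two_right
      simpa using orderOf_dvd_natCard u)
    have htU : (t : Cfsg.Sz F m) ∈ U :=
      (hc u u.2 (fun h => hu (Subtype.ext h))).le (mem_centralizer_singleton_iff.2 hcm.symm.eq)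
    have := orderOf_dvd_natCard (⟨t, htU⟩ : U)
    rw [← Subgroup.orderOf_coe, ht2, hU] at this
    exact (Nat.not_even_iff_odd.2 ho) (even_iff_two_dvd.2 this)
  have a1 : 2 ^ (2 * m + 1) = 2 ^ m * 2 ^ (m + 1) := by rw [← pow_add]; congr 1; omega
  have a2 : 2 ≤ 2 ^ m := by simpa using Nat.pow_le_pow_right two_pos hm
  have a3 : 2 ^ (m + 1) < 2 ^ (2 * m + 1) := Nat.pow_lt_pow_right (by norm_num) (by omega)
  have e1 : Even (2 ^ (2 * m + 1)) := by rw [pow_succ]; simp
  have e2 : Even (2 ^ (m + 1)) := by rw [pow_succ]; simp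
  have k1 := key _ (Or.inl rfl) ((e1.add e2).add_one) (by omega)
  have k2 := key _ (Or.inr rfl) (((Nat.even_sub a3.le).2 (by simp [e1, e2])).add_one) (by omega)
  have k3 := Nat.dvd_sub k1 k2
  have : 2 ^ (2 * m + 1) + 2 ^ (m + 1) + 1 - (2 ^ (2 * m + 1) - 2 ^ (m + 1) + 1) = 2 ^ (m + 2) := by
    rw [pow_succ 2 (m + 1)]; omega
  exact hp2 (hp.dvd_of_dvd_pow (this ▸ k3))

theorem NP.simple [IsSimpleGroup G] (h : NP p G) (hp : p.Prime) (hp3 : 3 < p) :
    Group.IsSolvable G := by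
  by_cases hn : IsMulCommutative G
  · exact IsSimpleGroup.comm_iff_isSolvable.mp hn.is_comm.comm
  have h2 : 2 ≠ p := by omega
  have h3 : 3 ≠ p := by omega
  rcases gold_s4 hn (h.not_s4 hp3) with h1 | h1 | h1
  · rcases GsC.se_cases h1 with h1 | h1 | h1
    · exact absurd (hasS3_l2e h1) (h.not_s3 h2 h3)
    · exact absurd h1 (h.not_sz hp hp3)
    · exact absurd (hasS3_u3 h1) (h.not_s3 h2 h3)
  · exact absurd h1.2 (h.not_four hn h2 h3)
  · obtain ⟨t, ht⟩ := GsC.exists_inv hn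
    obtain ⟨E, E₀, hE⟩ := h1.shape t ht
    haveI := hE.simple
    exact absurd hE.four ((h.of_inj E₀.subtype E₀.subtype_injective).not_four hE.nab h2 h3)

end

/-- Let p > 3 be a prime and G a finite group in which every subgroup of order prime to p is nilpotent. Then G is solvable. -/
theorem result {G : Type*} [Group G] [Finite G] (p : ℕ) (hp : p.Prime) (hp3 : 3 < p)
    (h : ∀ H : Subgroup G, (Nat.card ↥H).Coprime p → Group.IsNilpotent ↥H) : Group.IsSolvable G := by
  refine FGS.solvable_of_simple (P := fun X _ => NP p X)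
    (fun X _ _ N _ h => h.of_inj N.subtype N.subtype_injective)
    (fun X _ _ N _ h => h.quot (by omega) N) (fun X _ _ _ h => h.simple hp hp3) G fun H hH => ?_
  exact h H ((Nat.Prime.coprime_iff_not_dvd hp).2 fun hd => hH p hp hd rfl).symm

end Cfsg.Agent.S3940
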