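import Mathlib
import Cfsg.Statements.S3994
import Cfsg.Agent.FGS.FrobCount

set_option autoImplicit false
open Cfsg

namespace Cfsg.Agent.S3994

/-- Let G be a finite group and n a positive integer. The number of elements of G whose order is divisible by n is either 0 or divisible by the largest divisor of the order of G that is coprime to n. -/
theorem result {G : Type*} [Group G] [Finite G] (n : ℕ) (hn : 0 < n) :
    Nat.card {g : G // n ∣ orderOf g} = 0 ∨
      (Nat.card G / Nat.gcd (Nat.card G) (n ^ Nat.card G)) ∣ Nat.card {g : G // n ∣ orderOf g} := by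
  right
  have hg := Nat.gcd_dvd_left (Nat.card G) (n ^ Nat.card G)
  refine FGS.dvd_ncard_of_prime_pow (G := G) _ (Nat.div_dvd_of_dvd hg) {g | n ∣ orderOf g}
    fun p k hp hk x hx y h => ?_
  rcases k.eq_zero_or_pos with rfl | hk0
  · obtain ⟨c, hc⟩ := isConj_iff.mp h
    simp only [pow_zero, pow_one] at hc
    change n ∣ orderOf y
    rw [← hc, ← MulAut.conj_apply, MulEquiv.orderOf_eq]
    exact hx
  have hpn : p.Coprime n := by
    refine hp.coprime_iff_not_dvd.mpr fun hpn => ?_
    have h0 : Nat.card G ≠ 0 := Nat.card_pos.ne'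
    have h1 : p ^ (Nat.card G).factorization p ∣ Nat.gcd (Nat.card G) (n ^ Nat.card G) :=
      Nat.dvd_gcd (Nat.ordProj_dvd _ _) ((pow_dvd_pow p (Nat.factorization_lt p h0).le).trans
        (pow_dvd_pow_of_dvd hpn _))
    have h2 := mul_dvd_mul ((dvd_pow_self p hk0.ne').trans hk) h1
    rw [Nat.div_mul_cancel hg, ← pow_succ'] at h2
    exact Nat.pow_succ_factorization_not_dvd h0 hp h2
  obtain ⟨c, hc⟩ := isConj_iff.mp h
  have h1 : orderOf (y ^ p ^ k) = orderOf (x ^ p ^ k) := by
    rw [← hc, ← MulAut.conj_apply, MulEquiv.orderOf_eq]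
  have h2 : orderOf x ∣ p ^ k * orderOf (x ^ p ^ k) :=
    orderOf_dvd_of_pow_eq_one (by rw [pow_mul, pow_orderOf_eq_one])
  exact ((hpn.pow_left k).symm.dvd_of_dvd_mul_left (hx.trans h2)).trans (h1 ▸ orderOf_pow_dvd _)

end Cfsg.Agent.S3994
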