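import Mathlib
import Cfsg.Statements.S4013
import Cfsg.Agent.PGrp.ClassSize
-- import your own Cfsg.Agent.* helpers here

set_option autoImplicit false
open Cfsg

namespace Cfsg.Agent.S4013

/-- Let G be a finite p-group (p prime) and N < M normal subgroups of G such that for some g ∈ M ∖ N the conjugacy class of g is exactly M ∖ N. Then p = 2 and N has index 2 in M. -/
theorem result {G : Type*} [Group G] [Finite G] (p : ℕ) [Fact p.Prime] (hG : IsPGroup p G) (N M : Subgroup G) [N.Normal] [M.Normal] (hNM : N < M) (g : G) (hgM : g ∈ M) (hgN : g ∉ N) (hcl : {h : G | IsConj g h} = (M : Set G) \ (N : Set G)) : p = 2 ∧ N.relIndex M = 2 := by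
  have hp : p.Prime := Fact.out
  have h1 : {h : G | IsConj g h}.ncard = (Subgroup.centralizer ({g} : Set G)).index := by
    rw [← FGS.ncard_carrier]
    congr 1
  rw [hcl, Set.ncard_diff hNM.le] at h1
  change Nat.card M - Nat.card N = _ at h1
  obtain ⟨a, ha⟩ := hG.index (Subgroup.centralizer ({g} : Set G))
  obtain ⟨b, hb⟩ := (hG.to_subgroup M).index (N.subgroupOf M)
  change N.relIndex M = _ at hb
  rw [PGrp.card_eq_card_mul_relIndex hNM.le, hb, ha, ← Nat.mul_sub_one] at h1
  have hb0 : b ≠ 0 := by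
    rintro rfl
    exact hgN (Subgroup.relIndex_eq_one.mp hb hgM)
  obtain ⟨j, -, hj⟩ := (Nat.dvd_prime_pow hp).mp (Dvd.intro_left _ h1)
  have h2 : 1 ≤ p ^ b := Nat.one_le_pow _ _ hp.pos
  have h3 : p ^ b = 2 := by
    rcases Nat.eq_zero_or_pos j with rfl | hj0
    · rw [pow_zero] at hj; omega
    · have h4 : p ∣ p ^ b - 1 := hj ▸ dvd_pow_self p hj0.ne'
      exact absurd (Nat.dvd_one.mp ((Nat.dvd_sub_iff_right h2 (dvd_pow_self p hb0)).mp h4))
        hp.one_lt.ne'
  exact ⟨((Nat.Prime.pow_eq_iff Nat.prime_two).mp h3).1, hb.trans h3⟩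

end Cfsg.Agent.S4013
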