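import Mathlib
import Cfsg.Statements.S4017
import Cfsg.Agent.CIT.F9
import Cfsg.Agent.Max.L2a
import Cfsg.Agent.Transfer.Frobenius
import Cfsg.Agent.Char.Central
import Cfsg.Agent.Core.SylowOf
import Cfsg.Agent.Core.MinNormal

set_option autoImplicit false
open Cfsg

namespace Cfsg.Agent.S4017

open Subgroup
open scoped MatrixGroups

universe u

theorem conj_modEq {G : Type*} [Group G] [Finite G] {p k : ℕ} [Fact p.Prime] {g : G}
    (hg : g ^ p ^ k = 1) {Y : Set G} (h : ∀ y ∈ Y, g * y * g⁻¹ ∈ Y) :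
    Y.ncard ≡ {y ∈ Y | g * y * g⁻¹ = y}.ncard [MOD p] := by
  classical
  cases nonempty_fintype Y
  let f : Function.End Y := fun y => ⟨g * y * g⁻¹, h y y.2⟩
  have h1 : ∀ n : ℕ, ∀ y : Y, (((f ^ n) y : Y) : G) = g ^ n * y * (g ^ n)⁻¹ := by
    intro n
    induction n with
    | zero => intro y; simp; rfl
    | succ n ih =>
      intro y
      rw [pow_succ', pow_succ']
      show g * (((f ^ n) y : Y) : G) * g⁻¹ = _
      rw [ih]; group
  have h2 : f ^ p ^ k = 1 := by
    funext y
    exact Subtype.ext (by rw [h1, hg]; simp; rfl)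
  have h3 := Equiv.Perm.card_fixedPoints_modEq h2
  rw [← Nat.card_eq_fintype_card, ← Nat.card_eq_fintype_card] at h3
  have h4 : Nat.card (Function.fixedPoints f) = {y ∈ Y | g * y * g⁻¹ = y}.ncard :=
    Nat.card_congr
      { toFun := fun y => ⟨y.1.1, y.1.2, congrArg Subtype.val y.2⟩
        invFun := fun y => ⟨⟨y.1, y.2.1⟩, Subtype.ext y.2.2⟩
        left_inv := fun _ => rfl
        right_inv := fun _ => rfl }
  rw [← h4]; exact h3

theorem psl {G : Type*} [Group G] [Finite G] {F : Type} [Field F] [Fintype F]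
    (e : G ≃* PSL(2, F)) (h3 : 3 < Nat.card F) {p : ℕ} (h4 : ∀ g : G, orderOf g ≠ 4)
    (hD : ∀ H : Subgroup G, H ≠ ⊤ → 2 ∣ Nat.card H → ∀ r, r.Prime → r ∣ Nat.card H → r = p ∨ r = 2)
    {T D : Subgroup PGL(2, F)} {k : ℕ} (h : Max.L2.Tor T D k) :
    (∀ r, r.Prime → r ∣ k / Max.L2.dd F → r = p ∨ r = 2) ∧ ¬ 4 ∣ k / Max.L2.dd F := by
  let e' : G ≃* Max.L2.LL F := e.trans (MonoidHom.ofInjective Classical.PSL2Basic.toP_injective)
  constructor
  · have hc : Nat.card (((D ⊓ Max.L2.LL F).subgroupOf (Max.L2.LL F)).map e'.symm.toMonoidHom) =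
        2 * (k / Max.L2.dd F) := by
      rw [card_map_of_injective e'.symm.injective,
        Nat.card_congr (subgroupOfEquivOfLe inf_le_right).toEquiv, h.DL.2]
    intro r hr hd
    refine hD _ (fun ht => ?_) (by rw [hc]; exact dvd_mul_right _ _) r hr
      (by rw [hc]; exact hd.mul_left 2)
    rw [ht, card_top, Nat.card_congr e'.toEquiv] at hc
    have h1 := Max.L2.card_LL (F := F)
    rw [hc, mul_left_comm, Nat.mul_div_cancel' h.dd_dvd] at h1
    have h2 : k ≤ Nat.card F + 1 := by rcases h.k_eq with h | h <;> omega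
    generalize Nat.card F = q at *
    have : q ^ 2 - 1 = (q + 1) * (q - 1) := by simpa using Nat.sq_sub_sq q 1
    rw [this] at h1
    obtain ⟨m, rfl⟩ : ∃ m, q = m + 4 := ⟨q - 4, by omega⟩
    rw [show m + 4 - 1 = m + 3 by omega] at h1
    nlinarith [Nat.zero_le m, Nat.zero_le (m * m), Nat.zero_le (m * m * m)]
  · intro hd
    obtain ⟨a, -, ha, ho⟩ := h.genL
    have h1 : orderOf (e'.symm ⟨a, ha⟩) = k / Max.L2.dd F := by
      rw [MulEquiv.orderOf_eq, ← Subgroup.orderOf_coe, ho]
    exact h4 _ (orderOf_pow_orderOf_div (orderOf_pos _).ne' (h1 ▸ hd))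

theorem simple_case {G : Type u} [Group G] [Finite G] [IsSimpleGroup G] (hn : ¬ IsMulCommutative G)
    {p : ℕ} (hp : p.Prime) (hp2 : p ≠ 2) (h4 : ∀ g : G, orderOf g ≠ 4)
    (hD : ∀ H : Subgroup G, H ≠ ⊤ → 2 ∣ Nat.card H → ∀ r, r.Prime → r ∣ Nat.card H → r = p ∨ r = 2) :
    False := by
  have hs : ∀ t : G, orderOf t = 2 → Group.IsSolvable (centralizer ({t} : Set G)) := by
    intro t ht
    refine Char.burnside_of_primes hp Nat.prime_two (hD _ (fun h => ?_) ?_)
    · have h1 : t ∈ center G := mem_center_iff.2 fun g =>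
        mem_centralizer_singleton_iff.1 (h ▸ mem_top g)
      rcases (inferInstance : (center G).Normal).eq_bot_or_eq_top with h2 | h2
      · rw [h2, mem_bot] at h1; rw [h1] at ht; simp at ht
      · exact hn ⟨⟨fun a b => mem_center_iff.1 (h2 ▸ mem_top b) a⟩⟩
    · rw [← ht]; exact Subgroup.orderOf_dvd_natCard _ (mem_centralizer_singleton_iff.2 rfl)
  rcases CIT.F.abel_simple hn h4 hs with ⟨F, _, _, n, h2, hF, ⟨e⟩⟩ | ⟨F, _, _, h8, h3, ⟨e⟩⟩
  · rw [← Nat.card_eq_fintype_card] at hF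
    have h5 : 2 ^ 2 ≤ 2 ^ n := Nat.pow_le_pow_right (by norm_num) h2
    have h6 : 2 ∣ Nat.card F := hF ▸ dvd_pow_self 2 (by omega)
    obtain ⟨T, D, h⟩ := Max.L2.exists_tor_minus F
    obtain ⟨T', D', h'⟩ := Max.L2.exists_tor_plus F
    have hd : Max.L2.dd F = 1 := Nat.coprime_two_left.2 (Nat.odd_iff.2 (by omega))
    have a := (psl e (by omega) h4 hD h).1
    have b := (psl e (by omega) h4 hD h').1
    rw [hd, Nat.div_one] at a b
    obtain ⟨r, hr, hrd⟩ := Nat.exists_prime_and_dvd (show Nat.card F - 1 ≠ 1 by omega)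
    obtain ⟨s, hs, hsd⟩ := Nat.exists_prime_and_dvd (show Nat.card F + 1 ≠ 1 by omega)
    obtain rfl := (a r hr hrd).resolve_right (by rintro rfl; omega)
    obtain rfl := (b s hs hsd).resolve_right (by rintro rfl; omega)
    have := Nat.dvd_sub hsd hrd
    rw [show Nat.card F + 1 - (Nat.card F - 1) = 2 by omega] at this
    exact hp2 ((Nat.prime_dvd_prime_iff_eq hp Nat.prime_two).1 this)
  · rw [← Nat.card_eq_fintype_card] at h8 h3
    obtain ⟨T, D, h⟩ := Max.L2.exists_tor_minus F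
    obtain ⟨T', D', h'⟩ := Max.L2.exists_tor_plus F
    have hd : Max.L2.dd F = 2 := Nat.gcd_eq_left (by omega)
    have a := psl e h3 h4 hD h
    have b := psl e h3 h4 hD h'
    have hc := Classical.SLBasic.card_PSL_two (F := F)
    rw [← Nat.card_congr e.toEquiv] at hc
    change Max.L2.dd F * _ = _ at hc
    rw [hd] at a b hc
    obtain ⟨m, hm⟩ : ∃ m, Nat.card F = 2 * m + 1 := ⟨Nat.card F / 2, by omega⟩
    rw [hm] at a b hc h3
    rw [show (2 * m + 1 - 1) / 2 = m by omega] at a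
    rw [show (2 * m + 1 + 1) / 2 = m + 1 by omega] at b
    have pw : ∀ n, 2 ≤ n → (∀ r, r.Prime → r ∣ n → r = p ∨ r = 2) → ¬ 4 ∣ n → ¬ p ∣ n → n = 2 := by
      intro n h1 h2 h3 h5
      have := Nat.eq_prime_pow_of_unique_prime_dvd (p := 2) (show n ≠ 0 by omega)
        (fun {r} hr hd => (h2 r hr hd).resolve_left (by rintro rfl; exact h5 hd))
      generalize n.primeFactorsList.length = k at this
      rcases k with _ | _ | k
      · omega
      · simpa using this
      · exact absurd ⟨2 ^ k, by rw [this]; ring⟩ h3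
    have hp1 : p ∣ m + 1 := by
      by_contra h5
      have := pw _ (by omega) b.1 b.2 h5
      omega
    have hm2 := pw m (by omega) a.1 a.2 (fun h5 => hp.one_lt.ne'
      (Nat.dvd_one.1 ((Nat.dvd_add_right h5).1 hp1)))
    subst hm2
    have hp3 : p = 3 := (Nat.prime_dvd_prime_iff_eq hp Nat.prime_three).1 hp1
    have h60 : Nat.card G = 60 := by omega
    haveI : Fact (Nat.Prime 5) := ⟨by norm_num⟩
    obtain ⟨R⟩ : Nonempty (Sylow 5 G) := inferInstance
    have h1 := card_sylow_modEq_one 5 G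
    have h2 := R.card_dvd_index
    have h5 : Nat.card (R : Subgroup G) = 5 := by
      rw [R.card_eq_multiplicity, h60]
      have : (60 : ℕ).factorization 5 = 1 := by
        rw [Nat.factorization_def _ (by norm_num)]; decide +kernel
      rw [this, pow_one]
    have h6 : (R : Subgroup G).index = 12 := by
      have := (R : Subgroup G).card_mul_index; rw [h5, h60] at this; omega
    have h7 := R.card_eq_index_normalizer
    have h9 := (normalizer ((R : Subgroup G) : Set G)).card_mul_index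
    rw [h6] at h2
    have h10 := Nat.le_of_dvd (by norm_num) h2
    change _ = (normalizer ((R : Subgroup G) : Set G)).index at h7
    rw [← h7, h60] at h9
    unfold Nat.ModEq at h1
    have h11 : Nat.card (Sylow 5 G) = 1 ∨ Nat.card (Sylow 5 G) = 6 := by
      interval_cases Nat.card (Sylow 5 G) <;> omega
    rcases h11 with h11 | h11
    · rw [h11, eq_comm, index_eq_one, normalizer_eq_top_iff] at h7
      rcases h7.eq_bot_or_eq_top with h | h
      · rw [h] at h5; simp at h5
      · rw [h, card_top, h60] at h5; omega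
    · rw [h11] at h9
      have h12 : Nat.card (normalizer ((R : Subgroup G) : Set G)) = 10 := by omega
      have := hD (normalizer ((R : Subgroup G) : Set G))
        (fun h => by rw [h, card_top, h60] at h12; omega) (by rw [h12]; norm_num) 5
        (by norm_num) (by rw [h12]; norm_num)
      omega

theorem main {p q : ℕ} (hp : p.Prime) (hq : q.Prime) (hpq : p ≠ q) (hp2 : p ≠ 2)
    (G : Type u) [Group G] [Finite G] : p ∣ Nat.card G → q ∣ Nat.card G →
    (∀ H : Subgroup G, H ≠ ⊤ → ¬ IsPGroup q H → q ∣ Nat.card H → p ∣ Nat.card H) →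
    (q ^ (Nat.card G).factorization q - 1 < p ∨
      (p = q ^ (Nat.card G).factorization q - 1 ∧ ∀ P : Sylow p G, IsMulCommutative P)) →
    ∀ r : ℕ, r.Prime → r ∣ Nat.card G → r = p ∨ r = q := by
  refine Core.induction_on_card (P := fun G _ _ => p ∣ Nat.card G → q ∣ Nat.card G →
    (∀ H : Subgroup G, H ≠ ⊤ → ¬ IsPGroup q H → q ∣ Nat.card H → p ∣ Nat.card H) →
    (q ^ (Nat.card G).factorization q - 1 < p ∨
      (p = q ^ (Nat.card G).factorization q - 1 ∧ ∀ P : Sylow p G, IsMulCommutative P)) →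
    ∀ r : ℕ, r.Prime → r ∣ Nat.card G → r = p ∨ r = q) (fun G _ _ ih => ?_) G
  intro hpG hqG hmix hl r hr hrG
  by_contra! hne
  haveI := Fact.mk hp
  haveI := Fact.mk hq
  -- no `q`-subgroup and `s`-subgroup normalise one another
  have H0 : ∀ (s : ℕ) (A B : Subgroup G), s.Prime → s ≠ p → s ≠ q → IsPGroup q A → IsPGroup s B →
      A ≠ ⊥ → B ≠ ⊥ → ¬ (A ≤ normalizer (B : Set G) ∨ B ≤ normalizer (A : Set G)) := by
    intro s A B hs hsp hsq hA hB hA1 hB1 hn
    haveI := Fact.mk hs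
    obtain ⟨i, hi⟩ := hA.exists_card_eq
    obtain ⟨j, hj⟩ := hB.exists_card_eq
    have hd : Nat.card (A ⊔ B : Subgroup G) ∣ q ^ i * s ^ j := by
      rw [← hi, ← hj]
      rcases hn with h | h
      · rw [sup_comm, mul_comm]; exact Core.card_sup_dvd h
      · exact Core.card_sup_dvd h
    have hpd : ¬ p ∣ Nat.card (A ⊔ B : Subgroup G) := fun h => by
      rcases (Nat.Prime.dvd_mul hp).1 (h.trans hd) with h | h
      · exact hpq ((Nat.prime_dvd_prime_iff_eq hp hq).1 (hp.dvd_of_dvd_pow h))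
      · exact hsp ((Nat.prime_dvd_prime_iff_eq hp hs).1 (hp.dvd_of_dvd_pow h)).symm
    refine hpd (hmix _ (fun h => hpd (by rw [h, card_top]; exact hpG)) (fun h => ?_)
      ((Core.prime_dvd_card_of_isPGroup hA hA1).trans (card_dvd_of_le le_sup_left)))
    exact hB1 (disjoint_self.1 (IsPGroup.disjoint_of_ne s q hsq _ _ hB (h.to_le le_sup_right)))
  have H1 : ∀ A : Subgroup G, IsPGroup q A → A ≠ ⊥ → ∀ s, s.Prime →
      s ∣ Nat.card (normalizer (A : Set G)) → s = p ∨ s = q := by
    intro A hA hA1 s hs hd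
    by_contra! h
    haveI := Fact.mk hs
    obtain ⟨g, hg⟩ := exists_prime_orderOf_dvd_card' s hd
    have hg' : orderOf (g : G) = s := by rw [Subgroup.orderOf_coe, hg]
    refine H0 s A (zpowers (g : G)) hs h.1 h.2 hA
      (IsPGroup.of_card (n := 1) (by rw [Nat.card_zpowers, hg', pow_one])) hA1
      (fun e => hs.one_lt.ne' (by rw [← hg', zpowers_eq_bot.1 e, orderOf_one]))
      (Or.inr (zpowers_le.2 g.2))
  have H2 : ∀ A N : Subgroup G, IsPGroup q A → A ≠ ⊥ → N.Normal → ¬ q ∣ Nat.card N → ∀ s, s.Prime →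
      s ∣ Nat.card N → s = p := by
    intro A N hA hA1 hN hqN s hs hd
    by_contra h
    haveI := Fact.mk hs
    obtain ⟨i, hi⟩ := hA.exists_card_eq
    haveI := hA.isNilpotent
    obtain ⟨R, hR, hAR⟩ := Core.exists_invariant_isSylowOf A N
      (by rw [normalizer_eq_top]; exact le_top)
      (by rw [hi]; exact Nat.Coprime.pow_left _ ((Nat.Prime.coprime_iff_not_dvd hq).2 hqN))
      (Or.inl inferInstance) s
    exact H0 s A R hs h (by rintro rfl; exact hqN hd) hA hR.isPGroup hA1 (hR.ne_bot hd) (Or.inl hAR)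
  obtain ⟨S⟩ : Nonempty (Sylow q G) := inferInstance
  have hS1 : (S : Subgroup G) ≠ ⊥ := S.ne_bot_of_dvd_card hqG
  have hnc : ¬ HasNormalPComplement q G := by
    rintro ⟨P, N, hN, hc⟩
    have h1 : ¬ q ∣ Nat.card N := by rw [← hc.index_eq_card]; exact P.not_dvd_index
    refine hne.1 (H2 S N S.isPGroup' hS1 hN h1 r hr ?_)
    rw [← hc.card_mul, P.card_eq_multiplicity] at hrG
    exact ((Nat.Prime.dvd_mul hr).1 hrG).resolve_right fun h =>
      hne.2 ((Nat.prime_dvd_prime_iff_eq hr hq).1 (hr.dvd_of_dvd_pow h))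
  obtain ⟨Q, hQS, hQ1, s, hs, hsq, -, x, hx, ⟨k, hk⟩, hxc⟩ :=
    Transfer.exists_of_not_hasNormalPComplement S hnc
  have hQ : IsPGroup q Q := S.isPGroup'.to_le hQS
  have hk0 : k ≠ 0 := by
    rintro rfl; rw [pow_zero, orderOf_eq_one_iff] at hk; exact hxc (hk ▸ one_mem _)
  obtain rfl : s = p := (H1 Q hQ hQ1 s hs ((hk ▸ dvd_pow_self s hk0).trans
    (Subgroup.orderOf_dvd_natCard _ hx))).resolve_right hsq
  have hxk : x ^ s ^ k = 1 := by rw [← hk, pow_orderOf_eq_one]
  have hxQ : ∀ y ∈ Q, x * y * x⁻¹ ∈ Q := fun y hy => (mem_normalizer_iff.1 hx y).1 hy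
  have hQle : Nat.card Q ≤ q ^ (Nat.card G).factorization q := by
    rw [← S.card_eq_multiplicity]; exact card_le_of_le hQS
  have big : ∀ Y : Set G, Y ⊆ Q → (1 : G) ∈ Y → (∀ y ∈ Y, x * y * x⁻¹ ∈ Y) →
      (∃ y ∈ Y, x * y * x⁻¹ ≠ y) → {y ∈ Y | x * y * x⁻¹ = y}.ncard + s ≤ Y.ncard ∧
        1 ≤ {y ∈ Y | x * y * x⁻¹ = y}.ncard := by
    rintro Y hY h1 h2 ⟨y, hy, hy'⟩
    have a := conj_modEq hxk h2
    have b : {y ∈ Y | x * y * x⁻¹ = y}.ncard < Y.ncard :=
      Set.ncard_lt_ncard ⟨Set.sep_subset _ _, fun h => hy' (h hy).2⟩ (Set.toFinite _)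
    have c := Nat.le_of_dvd (by omega) ((Nat.modEq_iff_dvd' b.le).1 a.symm)
    exact ⟨by omega, (Set.ncard_pos (Set.toFinite _)).2 ⟨1, h1, by simp⟩⟩
  have hQc : (Q : Set G).ncard = Nat.card Q := rfl
  have b1 := big Q le_rfl Q.one_mem hxQ (by
    by_contra! h
    exact hxc (mem_centralizer_iff.2 fun y hy => (mul_inv_eq_iff_eq_mul.1 (h y hy)).symm))
  obtain ⟨hl1, hl2⟩ := hl.resolve_left (by omega)
  have hQe : Q = S := eq_of_le_of_card_ge hQS (by rw [S.card_eq_multiplicity]; omega)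
  have hfix : ∀ y ∈ Q, x * y * x⁻¹ = y → y = 1 := fun y hy h => by
    have h1 : {y ∈ (Q : Set G) | x * y * x⁻¹ = y}.ncard ≤ 1 := by omega
    exact (Set.ncard_le_one (Set.toFinite _)).1 h1 y ⟨hy, h⟩ 1 ⟨Q.one_mem, by simp⟩
  have ha0 : (Nat.card G).factorization q ≠ 0 :=
    (hq.factorization_pos_of_dvd Nat.card_pos.ne' hqG).ne'
  obtain rfl : q = 2 := by
    by_contra h
    have h1 : Odd (q ^ (Nat.card G).factorization q) := (hq.odd_of_ne_two h).pow
    have h2 := hp.odd_of_ne_two hp2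
    rw [Nat.odd_iff] at h1 h2; omega
  have hexp : ∀ y ∈ Q, y ^ 2 = 1 := by
    obtain ⟨t, ht⟩ := exists_prime_orderOf_dvd_card' 2 (Core.prime_dvd_card_of_isPGroup hQ hQ1)
    have ht2 : (t : G) ^ 2 = 1 := by
      have := pow_orderOf_eq_one t
      rw [ht] at this; exact congrArg Subtype.val this
    have b2 := big {y ∈ (Q : Set G) | y ^ 2 = 1} (Set.sep_subset _ _) ⟨Q.one_mem, by simp⟩
      (fun y hy => ⟨hxQ y hy.1, by rw [conj_pow, hy.2]; simp⟩)
      ⟨t, ⟨t.2, ht2⟩, fun h => by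
        rw [show t = 1 from Subtype.ext (hfix t t.2 h), orderOf_one] at ht; omega⟩
    have := Set.eq_of_subset_of_ncard_le (Set.sep_subset (Q : Set G) (fun y => y ^ 2 = 1))
      (by omega) (Set.toFinite _)
    intro y hy
    exact (this.ge hy).2
  have h4 : ∀ g : G, orderOf g ≠ 4 := fun g hg => by
    have h1 : IsPGroup 2 (zpowers g) := IsPGroup.of_card (n := 2) (by rw [Nat.card_zpowers, hg]; rfl)
    obtain ⟨T, hT⟩ := h1.exists_le_sylow
    obtain ⟨c, hc⟩ := MulAction.exists_smul_eq G T S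
    have h2 : c * g * c⁻¹ ∈ Q := by
      rw [hQe, ← hc, Sylow.coe_subgroup_smul]
      exact smul_mem_pointwise_smul _ _ _ (hT (mem_zpowers g))
    have h3 := hexp _ h2
    rw [conj_pow, conj_eq_one_iff] at h3
    have := orderOf_dvd_of_pow_eq_one h3
    rw [hg] at this; norm_num at this
  have lrg : ∀ (n : ℕ) (C : Prop), n ∣ Nat.card G → C →
      2 ^ n.factorization 2 - 1 < s ∨ (s = 2 ^ n.factorization 2 - 1 ∧ C) := by
    intro n C hn hC
    have h1 : n.factorization 2 ≤ (Nat.card G).factorization 2 :=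
      (Nat.factorization_le_iff_dvd (ne_zero_of_dvd_ne_zero Nat.card_pos.ne' hn)
        Nat.card_pos.ne').2 hn 2
    have h2 := Nat.pow_le_pow_right (show 0 < 2 by norm_num) h1
    rcases (show 2 ^ n.factorization 2 - 1 ≤ s by omega).lt_or_eq with h | h
    · exact Or.inl h
    · exact Or.inr ⟨h.symm, hC⟩
  have hD : ∀ H : Subgroup G, H ≠ ⊤ → 2 ∣ Nat.card H → ∀ r, r.Prime → r ∣ Nat.card H →
      r = s ∨ r = 2 := by
    intro H hH h2 r hr hd
    by_cases hH2 : IsPGroup 2 H
    · obtain ⟨i, hi⟩ := hH2.exists_card_eq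
      exact Or.inr ((Nat.prime_dvd_prime_iff_eq hr hq).1 (hr.dvd_of_dvd_pow (hi ▸ hd)))
    refine ih H (Core.card_lt_of_ne_top H hH) (hmix H hH hH2 h2) h2 (fun K _ hK h2K => ?_)
      (lrg _ _ (card_subgroup_dvd_card H) fun P => ?_) r hr hd
    · rw [← Core.card_map_subtype] at h2K ⊢
      refine hmix _ (fun h => hH (top_le_iff.1 (h ▸ map_subtype_le K))) (fun h => hK ?_) h2K
      exact h.of_equiv (K.equivMapOfInjective _ H.subtype_injective).symm
    · obtain ⟨T, hT⟩ := (P.isPGroup'.map H.subtype).exists_le_sylow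
      exact Core.isMulCommutative_of_forall fun a ha b hb => Subtype.ext
        (Core.comm_of_isMulCommutative (hl2 T) (hT ⟨a, ha, rfl⟩) (hT ⟨b, hb, rfl⟩))
  haveI : Nontrivial G := Finite.one_lt_card_iff_nontrivial.1
    (lt_of_lt_of_le hr.one_lt (Nat.le_of_dvd Nat.card_pos hrG))
  haveI : IsSimpleGroup G := ⟨fun N hN => by
    by_contra! hN'
    by_cases h2 : 2 ∣ Nat.card N
    · have h1 := Core.isSylowOf_sylow_inf_normal S N
      have h3 := h1.frattini_top
      have h5 : Nat.card G ∣ Nat.card N * Nat.card (normalizer ((S ⊓ N : Subgroup G) : Set G)) := by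
        rw [← card_top, ← h3]
        exact Core.card_sup_dvd (by rw [normalizer_eq_top N]; exact le_top)
      rcases (Nat.Prime.dvd_mul hr).1 (hrG.trans h5) with h | h
      · rcases hD N hN'.2 h2 r hr h with h | h
        exacts [hne.1 h, hne.2 h]
      · rcases H1 _ h1.isPGroup (h1.ne_bot h2) r hr h with h | h
        exacts [hne.1 h, hne.2 h]
    have h3 := H2 S N S.isPGroup' hS1 hN h2
    have hNp : IsPGroup s N := IsPGroup.of_card (Nat.eq_prime_pow_of_unique_prime_dvd
      Nat.card_pos.ne' (fun {d} hd h => h3 d hd h))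
    have hxN : x ∉ N := fun h => hxc (mem_centralizer_iff.2 fun y hy => by
      have h5 : x * y * x⁻¹ * y⁻¹ ∈ Q ⊓ N := ⟨Q.mul_mem (hxQ y hy) (Q.inv_mem hy), by
        have := N.mul_mem h (hN.conj_mem _ (N.inv_mem h) y)
        simpa [mul_assoc] using this⟩
      rw [disjoint_iff.1 (IsPGroup.disjoint_of_ne 2 s hsq.symm _ _ hQ hNp), mem_bot,
        mul_inv_eq_one, mul_inv_eq_iff_eq_mul] at h5
      exact h5.symm)
    have dq : ∀ d, d.Prime → d ≠ s → d ∣ Nat.card G → d ∣ Nat.card (G ⧸ N) := fun d hd h1 h5 => by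
      rw [← N.card_mul_index] at h5
      exact ((Nat.Prime.dvd_mul hd).1 h5).resolve_left fun h => h1 (h3 d hd h)
    have := ih (G ⧸ N) ?_ ?_ (dq 2 hq hsq.symm hqG) (fun K hK hK2 h2K => ?_)
      (lrg _ _ (card_quotient_dvd_card N) fun P => ?_) r hr (dq r hr hne.1 hrG)
    · rcases this with h | h
      exacts [hne.1 h, hne.2 h]
    · have h5 := N.card_mul_index
      have h6 : 1 < Nat.card N := (one_lt_card_iff_ne_bot N).2 hN'.1
      have h7 : 0 < N.index := Nat.pos_of_ne_zero index_ne_zero_of_finite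
      change N.index < _
      nlinarith
    · have h5 : orderOf (x : G ⧸ N) ∣ s ^ k := orderOf_dvd_of_pow_eq_one (by
        rw [← QuotientGroup.mk_pow, hxk, QuotientGroup.mk_one])
      obtain ⟨j, -, hj⟩ := (Nat.dvd_prime_pow hs).1 h5
      refine Dvd.dvd.trans ?_ (orderOf_dvd_natCard (x : G ⧸ N))
      rw [hj]; apply dvd_pow_self; rintro rfl
      exact hxN ((QuotientGroup.eq_one_iff x).1 (orderOf_eq_one_iff.1 hj))
    · have h5 : Nat.card K ∣ Nat.card (K.comap (QuotientGroup.mk' N)) := by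
        conv_lhs => rw [← map_comap_eq_self_of_surjective (QuotientGroup.mk'_surjective N) K]
        exact card_map_dvd _ _
      have h6 := hD (K.comap (QuotientGroup.mk' N)) (fun h => hK (by
        rw [← map_comap_eq_self_of_surjective (QuotientGroup.mk'_surjective N) K, h]
        exact map_top_of_surjective _ (QuotientGroup.mk'_surjective N))) (h2K.trans h5)
      by_contra h7
      exact hK2 (IsPGroup.of_card (Nat.eq_prime_pow_of_unique_prime_dvd Nat.card_pos.ne'
        (fun {d} hd h => (h6 d hd (h.trans h5)).resolve_left (by rintro rfl; exact h7 h))))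
    · obtain ⟨T, rfl⟩ := Sylow.mapSurjective_surjective (QuotientGroup.mk'_surjective N) s P
      refine Core.isMulCommutative_of_forall ?_
      rintro _ ⟨a, ha, rfl⟩ _ ⟨b, hb, rfl⟩
      rw [← map_mul, ← map_mul, Core.comm_of_isMulCommutative (hl2 T) ha hb]⟩
  refine simple_case (fun h => hxc (mem_centralizer_iff.2 fun y _ => h.is_comm.comm y x)) hp hp2 h4 hD

/-- Let G be a finite group and let p and q be distinct primes dividing the order of G, with p odd. Suppose that p divides the order of every proper subgroup of G that is neither a q-group nor of order prime to q. Let q^a be the q-part of the order of G. If p > q^a − 1, or if p = q^a − 1 and the Sylow p-subgroups of G are abelian, then p and q are the only primes dividing the order of G. -/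
theorem result {G : Type*} [Group G] [Finite G]
    {p q : ℕ} (hp : p.Prime) (hq : q.Prime) (hpq : p ≠ q) (hp2 : p ≠ 2)
    (hpG : p ∣ Nat.card G) (hqG : q ∣ Nat.card G)
    (hmix : ∀ H : Subgroup G, H ≠ ⊤ → ¬ IsPGroup q H → q ∣ Nat.card H → p ∣ Nat.card H)
    (hlarge : q ^ (Nat.card G).factorization q - 1 < p ∨
      (p = q ^ (Nat.card G).factorization q - 1 ∧ ∀ P : Sylow p G, IsMulCommutative P)) :
    ∀ r : ℕ, r.Prime → r ∣ Nat.card G → r = p ∨ r = q := by
  exact main hp hq hpq hp2 G hpG hqG hmix hlarge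

end Cfsg.Agent.S4017
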