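import Mathlib
import Cfsg.Statements.S4018
import Cfsg.Agent.Inv.Friend
import Cfsg.Agent.Transfer.Abelian
import Cfsg.Agent.FGS.Basic

set_option autoImplicit false
open Cfsg

namespace Cfsg.Agent.S4018

open Subgroup
open scoped Pointwise

structure Gd {G : Type*} [Group G] (B : Subgroup G) (w : G) (n : ℕ) : Prop where
  uniq : ∀ b ∈ B, b ≠ 1 → b * b = 1 → b = w
  mem : w ∈ B
  cen : ∀ b ∈ B, b * w = w * b
  inv : ∀ u, u * w = w * u → u ∉ B → u * u = 1 ∧ ∀ b ∈ B, u * b * u⁻¹ = b⁻¹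
  mul : ∀ u v, u * w = w * u → v * w = w * v → u ∉ B → v ∉ B → u * v ∈ B
  ti : ∀ b ∈ B, b ≠ 1 → ∀ g : G, g * b * g⁻¹ ∈ B → g * w = w * g
  card : Nat.card {u // u * w = w * u ∧ u ∉ B} = n

theorem Gd.comap {G : Type*} [Group G] {B : Subgroup G} {w w' : G} {n : ℕ} (h : Gd B w n)
    (φ : G ≃* G) (hw : φ w' = w) : Gd (B.comap φ.toMonoidHom) w' n := by
  subst hw
  have e : ∀ u : G, u * w' = w' * u ↔ φ u * φ w' = φ w' * φ u := fun u => by
    rw [← map_mul, ← map_mul, φ.injective.eq_iff]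
  refine ⟨fun b hb h1 h2 => φ.injective (h.uniq _ hb (by simpa using h1)
      (by rw [← map_mul, h2, map_one])), h.mem,
    fun b hb => (e b).mpr (h.cen _ hb), fun u hu hu' => ?_, fun u v hu hv hu' hv' => ?_,
    fun b hb h1 g hg => ?_, ?_⟩
  · obtain ⟨h1, h2⟩ := h.inv (φ u) ((e u).mp hu) hu'
    exact ⟨φ.injective (by simpa using h1), fun b hb => φ.injective (by simpa using h2 (φ b) hb)⟩
  · have := h.mul (φ u) (φ v) ((e u).mp hu) ((e v).mp hv) hu' hv'
    simpa using this
  · exact (e g).mpr (h.ti (φ b) hb (by simpa using h1) (φ g) (by simpa using hg))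
  · rw [← h.card]
    exact Nat.card_congr (φ.toEquiv.subtypeEquiv fun u => and_congr (e u) Iff.rfl)

theorem false_of_gd {G : Type*} [Group G] [Finite G] {n : ℕ} (hn : 3 ≤ n) (t : G) (ht1 : t ≠ 1)
    (ht : t * t = 1) (h : ∀ w : G, w ≠ 1 → w * w = 1 → ∃ B, Gd B w n)
    (h2 : ∀ u v : G, u ≠ 1 → u * u = 1 → v ≠ 1 → v * v = 1 → u * v ≠ 1 →
      ∃ y ∈ zpowers (u * v), y ≠ 1 ∧ ∃ w B, w ≠ 1 ∧ w * w = 1 ∧ Gd B w n ∧ y ∈ B) : False := by
  haveI : Nonempty {u : G // u ≠ 1 ∧ u * u = 1} := ⟨⟨t, ht1, ht⟩⟩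
  refine Inv.Friend.false_of_regular (V := {u : G // u ≠ 1 ∧ u * u = 1})
    (fun v u => u.1 * v.1 = v.1 * u.1 ∧ u ≠ v) (fun v w h => ⟨h.1.symm, h.2.symm⟩)
    (fun v h => h.2 rfl) ?_ ?_ hn
  · rintro ⟨u, hu1, hu⟩ ⟨v, hv1, hv⟩ huv
    have huv' : u ≠ v := fun h => huv (Subtype.ext h)
    have hx : u * v ≠ 1 := fun h => huv' (mul_left_cancel (hu.trans h.symm))
    have hui : u⁻¹ = u := inv_eq_of_mul_eq_one_right hu
    have hvi : v⁻¹ = v := inv_eq_of_mul_eq_one_right hv
    refine existsUnique_of_exists_of_unique ?_ ?_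
    · by_cases hc : u * v = v * u
      · refine ⟨⟨u * v, hx, ?_⟩, ⟨?_, fun h => hv1 ?_⟩, ?_, fun h => hu1 ?_⟩
        · calc u * v * (u * v) = u * (v * u) * v := by group
            _ = u * u * (v * v) := by rw [← hc]; group
            _ = 1 := by rw [hu, hv, one_mul]
        · change u * v * u = u * (u * v)
          rw [mul_assoc, hc]
        · simpa using congrArg Subtype.val h
        · change u * v * v = v * (u * v)
          rw [← mul_assoc, hc]
        · simpa using congrArg Subtype.val h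
      · obtain ⟨y, hy, hy1, w, B, hw1, hw, hB, hyB⟩ := h2 u v hu1 hu hv1 hv hx
        obtain ⟨k, rfl⟩ := mem_zpowers_iff.mp hy
        have h3 : u * w = w * u := hB.ti _ hyB hy1 u (by
          have : u * (u * v) * u⁻¹ = (u * v)⁻¹ := by rw [mul_inv_rev, hui, hvi, ← mul_assoc, hu, one_mul]
          rw [← conj_zpow, this, inv_zpow]; exact B.inv_mem hyB)
        have h4 : v * w = w * v := hB.ti _ hyB hy1 v (by
          have : v * (u * v) * v⁻¹ = (u * v)⁻¹ := by rw [mul_inv_rev, hui]; nth_rewrite 2 [hvi]; group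
          rw [← conj_zpow, this, inv_zpow]; exact B.inv_mem hyB)
        refine ⟨⟨w, hw1, hw⟩, ⟨h3.symm, fun h => hc ?_⟩, h4.symm, fun h => hc ?_⟩
        · have : w = u := congrArg Subtype.val h
          rw [← this]; exact h4.symm
        · have : w = v := congrArg Subtype.val h
          rw [← this]; exact h3
    · have key : ∀ w : G, w ≠ 1 → w * w = 1 → w * u = u * w → w ≠ u → w * v = v * w → w ≠ v →
          ∀ w' : G, w' ≠ 1 → w' * w' = 1 → w' * u = u * w' → w' * v = v * w' → w ≠ w' →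
          u * v = w := by
        intro w hw1 hw a1 a2 a3 a4 w' hw1' hw' b1 b3 hne
        obtain ⟨B, hB⟩ := h w hw1 hw
        have c1 : u * v ∈ B := hB.mul u v a1.symm a3.symm (fun h => a2 (hB.uniq u h hu1 hu).symm)
          (fun h => a4 (hB.uniq v h hv1 hv).symm)
        have c2 : w' * (u * v) * w'⁻¹ = u * v := by
          rw [← mul_assoc, b1, mul_assoc u, b3]; group
        have c3 := hB.ti _ c1 hx w' (c2.symm ▸ c1)
        have c4 := (hB.inv w' c3 (fun h => hne (hB.uniq w' h hw1' hw').symm)).2 _ c1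
        exact hB.uniq _ c1 hx (by nth_rewrite 1 [← c2]; rw [c4, inv_mul_cancel])
      rintro ⟨w, hw1, hw⟩ ⟨w', hw1', hw'⟩ ⟨⟨a1, a2⟩, a3, a4⟩ ⟨⟨b1, b2⟩, b3, b4⟩
      by_contra hne
      have hne' : w ≠ w' := fun h => hne (Subtype.ext h)
      exact hne' ((key w hw1 hw a1 (fun h => a2 (Subtype.ext h)) a3 (fun h => a4 (Subtype.ext h))
        w' hw1' hw' b1 b3 hne').symm.trans (key w' hw1' hw' b1 (fun h => b2 (Subtype.ext h)) b3
        (fun h => b4 (Subtype.ext h)) w hw1 hw a1 a3 hne'.symm))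
  · rintro ⟨w, hw1, hw⟩
    obtain ⟨B, hB⟩ := h w hw1 hw
    rw [← hB.card]
    refine Nat.card_congr ⟨fun u => ⟨u.1.1, u.2.1, fun h => u.2.2 (Subtype.ext
      (hB.uniq _ h u.1.2.1 u.1.2.2))⟩, fun u => ⟨⟨u.1, fun h => u.2.2 (h ▸ B.one_mem),
      (hB.inv _ u.2.1 u.2.2).1⟩, u.2.1, fun h => u.2.2 ?_⟩, fun u => rfl, fun u => rfl⟩
    have : u.1 = w := congrArg Subtype.val h
    rw [this]; exact hB.mem

/-- Let G be a finite group with an abelian Sylow 3-subgroup P such that the normalizer of P has order 4·#P, the centralizer C of P has order 2·#P, C meets each of its conjugates by elements outside its normalizer trivially, and every proper subgroup of G of even order has order dividing 4·#P. Then G is not simple. -/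
theorem result {G : Type*} [Group G] [Finite G]
    (P : Sylow 3 G) (hab : IsMulCommutative P)
    (hN : Nat.card (Subgroup.normalizer ((P : Subgroup G) : Set G)) = 4 * Nat.card P)
    (hC : Nat.card (Subgroup.centralizer (P : Set G)) = 2 * Nat.card P)
    (hTI : Cfsg.IsTISubset (Subgroup.centralizer (P : Set G) : Set G))
    (heven : ∀ H : Subgroup G, H ≠ ⊤ → 2 ∣ Nat.card H → Nat.card H ∣ 4 * Nat.card P) :
    ¬ IsSimpleGroup G := by
  classical
  intro hS
  obtain ⟨k, hk⟩ := P.isPGroup'.exists_card_eq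
  set A := centralizer (P : Set G) with hA
  set N := normalizer ((P : Subgroup G) : Set G) with hNd
  have hab' := FGS.isMulCommutative_iff_forall.mp hab
  have hPA : (P : Subgroup G) ≤ A := fun x hx y hy => hab' y hy x hx
  have hAN : A ≤ N := centralizer_le_normalizer _
  have hm : 0 < Nat.card P := Nat.card_pos
  have rel : ∀ H K : Subgroup G, H ≤ K → Nat.card H * H.relIndex K = Nat.card K := fun H K h => by
    rw [← relIndex_bot_left, ← relIndex_bot_left]; exact relIndex_mul_relIndex _ _ _ bot_le h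
  have iPA : (P : Subgroup G).relIndex A = 2 := by
    have := rel _ _ hPA
    rw [hC] at this
    exact Nat.eq_of_mul_eq_mul_left hm (this.trans (mul_comm _ _))
  have iAN : A.relIndex N = 2 := by
    have := rel _ _ hAN
    rw [hC, hN] at this
    exact Nat.eq_of_mul_eq_mul_left (show 0 < 2 * Nat.card P by omega) (by rw [this]; ring)
  have two : ∀ {H K : Subgroup G}, H.relIndex K = 2 → ∀ {a b : G}, a ∈ K → b ∈ K →
      (a * b ∈ H ↔ (a ∈ H ↔ b ∈ H)) := fun h a b ha hb =>
    mul_mem_iff_of_index_two h (a := ⟨a, ha⟩) (b := ⟨b, hb⟩)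
  have hodd : ∀ x ∈ (P : Subgroup G), x * x = 1 → x = 1 := fun x hx h => by
    have h1 : orderOf x ∣ 3 ^ k := hk ▸ orderOf_dvd_natCard _ hx
    have h2 : orderOf x ∣ 2 := orderOf_dvd_of_pow_eq_one (by rw [pow_two, h])
    exact orderOf_eq_one_iff.mp (Nat.eq_one_of_dvd_coprimes (Nat.Coprime.pow_left k (by norm_num)) h1 h2)
  have h4G : 4 ∣ Nat.card G := (Dvd.intro _ hN.symm).trans (card_subgroup_dvd_card N)
  have hnc : ¬ IsMulCommutative G := fun h => by
    have h1 := Group.is_simple_iff_prime_card.mp hS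
    rcases (Nat.dvd_prime h1).mp h4G with h2 | h2
    · omega
    · rw [← h2] at h1; norm_num at h1
  have hZ : center G = ⊥ := (hS.eq_bot_or_eq_top_of_normal _ inferInstance).resolve_right fun h =>
    hnc ⟨⟨fun a b => mem_center_iff.mp (h ▸ mem_top b : b ∈ center G) a⟩⟩
  have hn2 : ¬ IsPGroup 2 G := fun h => by
    haveI := h.center_nontrivial
    rw [hZ] at this
    exact not_nontrivial _ this
  obtain ⟨⟨t, htA⟩, ht⟩ := exists_prime_orderOf_dvd_card' (G := A) 2 (Dvd.intro _ hC.symm)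
  rw [orderOf_mk] at ht
  have ht1 : t ≠ 1 := fun h => by simp [h] at ht
  have htt : t * t = 1 := by rw [← pow_two, ← ht, pow_orderOf_eq_one]
  have htP : t ∉ (P : Subgroup G) := fun h => ht1 (hodd t h htt)
  have hcen : ∀ b ∈ A, b * t = t * b := fun b hb => by
    by_cases h : b ∈ (P : Subgroup G)
    · exact htA b h
    · have h1 := htA _ ((two iPA hb htA).mpr (iff_of_false h htP))
      exact mul_right_cancel (h1.trans (mul_assoc _ _ _).symm)
  have huniq : ∀ b ∈ A, b ≠ 1 → b * b = 1 → b = t := fun b hb h1 h2 => by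
    have h3 := hodd _ ((two iPA hb htA).mpr (iff_of_false (fun h => h1 (hodd b h h2)) htP)) (by
      calc b * t * (b * t) = b * (t * b) * t := by group
        _ = b * b * (t * t) := by rw [← hcen b hb]; group
        _ = 1 := by rw [h2, htt, one_mul])
    exact mul_right_cancel (h3.trans htt.symm)
  have hnormA : ∀ g ∈ N, ∀ b ∈ A, g * b * g⁻¹ ∈ A := fun g hg b hb x hx => by
    have h1 := hb _ ((mem_normalizer_iff''.mp hg x).mp hx)
    calc x * (g * b * g⁻¹) = g * (g⁻¹ * x * g * b) * g⁻¹ := by group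
      _ = _ := by rw [h1]; group
  have hNt : ∀ g ∈ N, g * t = t * g := fun g hg =>
    mul_inv_eq_iff_eq_mul.mp (huniq _ (hnormA g hg t htA) (by simpa using ht1) (by
      calc g * t * g⁻¹ * (g * t * g⁻¹) = g * (t * t) * g⁻¹ := by group
        _ = 1 := by rw [htt]; group))
  have h3el : ∀ x ∈ A, x ^ 3 ^ k = 1 → x ∈ (P : Subgroup G) := fun x hx h => by
    obtain ⟨j, -, hj⟩ := (Nat.dvd_prime_pow Nat.prime_three).mp (orderOf_dvd_of_pow_eq_one h)
    exact FGS.mem_sylow_of_mem_normalizer P hj (hAN hx)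
  have hP3 : ∀ x ∈ (P : Subgroup G), x ^ 3 ^ k = 1 := fun x hx =>
    orderOf_dvd_iff_pow_eq_one.mp (hk ▸ orderOf_dvd_natCard _ hx)
  have hti : ∀ b ∈ A, b ≠ 1 → ∀ g : G, g * b * g⁻¹ ∈ A → g ∈ N := fun b hb h1 g hg => by
    have h2 : g ∈ normalizer (A : Set G) := by
      by_contra h
      exact h1 (hTI g h b hb hg)
    refine mem_normalizer_fintype fun x hx => h3el _ ((mem_normalizer_iff.mp h2 x).mp (hPA hx)) ?_
    rw [conj_pow, hP3 x hx]; group
  have htN : ∀ g : G, g * t = t * g → g ∈ N := fun g hg =>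
    hti t htA ht1 g (by rw [hg]; simpa using htA)
  have h8 : ∀ H : Subgroup G, IsPGroup 2 H → Nat.card H ∣ 4 := fun H hH => by
    obtain ⟨j, hj⟩ := hH.exists_card_eq
    rcases Nat.eq_zero_or_pos j with rfl | hj0
    · simp [hj]
    have h1 := heven H (fun h => hn2 (by subst h; exact hH.of_equiv topEquiv))
      (hj ▸ dvd_pow_self 2 hj0.ne')
    rw [hk, hj] at h1
    rw [hj]
    exact (Nat.Coprime.pow j k (by norm_num)).dvd_of_dvd_mul_right h1
  have hNodd : Odd N.index := by
    rw [← Nat.not_even_iff_odd, even_iff_two_dvd]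
    intro h
    have h1 : 2 ^ 3 ∣ Nat.card G := by
      rw [← N.card_mul_index, hN]
      exact mul_dvd_mul (Dvd.intro _ rfl : 4 ∣ 4 * Nat.card P) h
    obtain ⟨H, hH⟩ := Sylow.exists_subgroup_card_pow_prime 2 h1
    have := h8 H (IsPGroup.of_card hH)
    rw [hH] at this
    norm_num at this
  have hconj : ∀ u : G, u ≠ 1 → u * u = 1 → ∃ g : G, g * u * g⁻¹ = t := fun u h1 h2 => by
    by_contra h
    push Not at h
    obtain ⟨M, hM, hM2, -⟩ := Transfer.thompson_transfer hNodd iAN
      (orderOf_eq_prime (by rw [pow_two, h2]) h1) fun g hg => h g (huniq _ hg (by simpa using h1) (by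
        calc g * u * g⁻¹ * (g * u * g⁻¹) = g * (u * u) * g⁻¹ := by group
          _ = 1 := by rw [h2]; group))
    rcases hS.eq_bot_or_eq_top_of_normal M hM with rfl | rfl
    · rw [index_bot] at hM2
      rw [hM2] at h4G; norm_num at h4G
    · simp at hM2
  obtain ⟨s, hsN, hsA, hss⟩ : ∃ s ∈ N, s ∉ A ∧ s * s = 1 := by
    obtain ⟨S, hS4⟩ := Sylow.exists_subgroup_card_pow_prime (G := N) 2 (n := 2)
      (hN ▸ Dvd.intro _ rfl)
    obtain ⟨s, hs, hsA⟩ : ∃ s ∈ S, (s : G) ∉ A := by
      by_contra h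
      push Not at h
      have h1 : S.map N.subtype ≤ A := by rintro _ ⟨x, hx, rfl⟩; exact h x hx
      have h2 := card_dvd_of_le h1
      rw [card_map_of_injective (subtype_injective _), hS4, hC, hk] at h2
      have h3 : 2 ∣ 3 ^ k := Nat.dvd_of_mul_dvd_mul_left (by norm_num : 0 < 2) h2
      have := Nat.Prime.dvd_of_dvd_pow Nat.prime_two h3
      norm_num at this
    refine ⟨s, s.2, hsA, ?_⟩
    by_contra hss
    have h1 : orderOf (s : G) ∣ 2 ^ 2 := by
      rw [orderOf_coe, ← hS4]; exact orderOf_dvd_natCard _ hs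
    have h2 : orderOf (s : G) = 2 ^ 2 := orderOf_eq_prime_pow (n := 1)
      (by simpa [pow_two] using hss) (orderOf_dvd_iff_pow_eq_one.mp h1)
    obtain ⟨Q, hQ⟩ := FGS.exists_sylow_mem h2
    have h3 : zpowers (s : G) = Q := eq_of_le_of_card_ge (zpowers_le.mpr hQ) (by
      rw [Nat.card_zpowers, h2]; exact Nat.le_of_dvd (by norm_num) (h8 _ Q.isPGroup'))
    have h4 : IsCyclic Q := by rw [← h3]; infer_instance
    have h5 := h4.isComplement' (p := 2) ((Nat.minFac_eq_two_iff _).mpr (Dvd.dvd.trans (by norm_num) h4G))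
    rcases hS.eq_bot_or_eq_top_of_normal _ (MonoidHom.normal_ker (MonoidHom.transferSylow Q _))
      with h6 | h6
    · rw [h6, isComplement'_bot_left] at h5
      exact hn2 (by have := Q.isPGroup'; rw [h5] at this; exact this.of_equiv topEquiv)
    · rw [h6, isComplement'_top_left] at h5
      rw [h5, zpowers_eq_bot] at h3
      simp [h3] at hss
  have hs1 : s ≠ 1 := fun h => hsA (h ▸ A.one_mem)
  have hsi : s⁻¹ = s := inv_eq_of_mul_eq_one_right hss
  have hsP : ∀ y ∈ (P : Subgroup G), s * y = y * s → y = 1 := fun y hy h => by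
    by_contra hy1
    obtain ⟨g, hg⟩ := hconj s hs1 hss
    have h1 : g * y * g⁻¹ ∈ N := htN _ (by
      rw [← hg]
      calc g * y * g⁻¹ * (g * s * g⁻¹) = g * (y * s) * g⁻¹ := by group
        _ = _ := by rw [← h]; group)
    obtain ⟨j, hj⟩ := FGS.exists_orderOf_eq_of_mem P.isPGroup' hy
    have h2 : g * y * g⁻¹ ∈ (P : Subgroup G) := FGS.mem_sylow_of_mem_normalizer P
      (by rw [← hj]; exact (MulAut.conj g).orderOf_eq y) h1
    have h3 := hNt g (hti y (hPA hy) hy1 g (hPA h2))
    apply hsA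
    have : s = t := by
      calc s = g⁻¹ * (g * s * g⁻¹) * g := by group
        _ = g⁻¹ * (t * g) := by rw [hg]; group
        _ = t := by rw [← h3]; group
    exact this ▸ htA
  have hAab : ∀ a ∈ A, ∀ b ∈ A, a * b = b * a := fun a ha b hb => by
    by_cases h : a ∈ (P : Subgroup G)
    · exact hb a h
    · have h1 := hb _ ((two iPA ha htA).mpr (iff_of_false h htP))
      rw [mul_assoc, ← hcen b hb, ← mul_assoc, ← mul_assoc] at h1
      exact mul_right_cancel h1
  have hsinvP : ∀ y ∈ (P : Subgroup G), s * y * s⁻¹ = y⁻¹ := fun y hy => by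
    have h1 := (mem_normalizer_iff.mp hsN y).mp hy
    have h2 := hsP _ ((P : Subgroup G).mul_mem h1 hy) (by
      rw [hsi] at h1 ⊢
      calc s * (s * y * s * y) = (s * s) * y * s * y := by group
        _ = y * (s * y * s) * s := by rw [hss, mul_assoc y (s * y * s), mul_assoc (s * y), hss]; group
        _ = _ := by rw [hab' y hy _ h1])
    exact eq_inv_of_mul_eq_one_left h2
  have hsinv : ∀ y ∈ A, s * y * s⁻¹ = y⁻¹ := fun y hy => by
    by_cases h : y ∈ (P : Subgroup G)
    · exact hsinvP y h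
    · have h1 := hsinvP _ ((two iPA hy htA).mpr (iff_of_false h htP))
      have h2 : t⁻¹ = t := inv_eq_of_mul_eq_one_right htt
      rw [mul_inv_rev, h2, ← hcen _ (A.inv_mem hy)] at h1
      apply mul_right_cancel (b := t)
      rw [← h1]
      calc s * y * s⁻¹ * t = s * y * (s⁻¹ * t) := by group
        _ = _ := by rw [hNt _ (N.inv_mem hsN)]; group
  have hGd : Gd A t (2 * Nat.card P) := by
    refine ⟨huniq, htA, hcen, fun u hu hu' => ?_, fun u v hu hv hu' hv' =>
      (two iAN (htN u hu) (htN v hv)).mpr (iff_of_false hu' hv'),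
      fun b hb h1 g hg => hNt g (hti b hb h1 g hg), ?_⟩
    · have h1 : u * s ∈ A := (two iAN (htN u hu) hsN).mpr (iff_of_false hu' hsA)
      obtain ⟨a, ha, rfl⟩ : ∃ a ∈ A, u = a * s := ⟨u * s, h1, by rw [mul_assoc, hss, mul_one]⟩
      constructor
      · calc a * s * (a * s) = a * (s * a * s⁻¹) := by rw [hsi]; group
          _ = 1 := by rw [hsinv a ha, mul_inv_cancel]
      · intro b hb
        calc a * s * b * (a * s)⁻¹ = a * (s * b * s⁻¹) * a⁻¹ := by group
          _ = _ := by rw [hsinv b hb, hAab a ha _ (A.inv_mem hb)]; group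
    · rw [← hC]
      exact Nat.card_congr ⟨fun u => ⟨u.1 * s, (two iAN (htN _ u.2.1) hsN).mpr
        (iff_of_false u.2.2 hsA)⟩, fun a => ⟨a.1 * s, hNt _ (N.mul_mem (hAN a.2) hsN),
        fun h => hsA (((two iAN (hAN a.2) hsN).mp h).mp a.2)⟩,
        fun u => Subtype.ext (by simp [mul_assoc, hss]), fun u => Subtype.ext (by simp [mul_assoc, hss])⟩
  have hk0 : 3 ≤ 2 * Nat.card P := by
    by_contra h
    have h1 : Nat.card P = 1 := by omega
    have h2 : (P : Subgroup G) = ⊥ := card_eq_one.mp h1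
    have h3 : N ≤ A := fun x _ y hy => by
      have : y = 1 := by simpa [h2] using (show y ∈ (P : Subgroup G) from hy)
      simp [this]
    exact hsA (h3 hsN)
  refine false_of_gd hk0 t ht1 htt (fun w h1 h2 => ?_) fun u v hu1 hu hv1 hv hx => ?_
  · obtain ⟨g, hg⟩ := hconj w h1 h2
    exact ⟨_, hGd.comap (MulAut.conj g) hg⟩
  · have hui : u⁻¹ = u := inv_eq_of_mul_eq_one_right hu
    have hvi : v⁻¹ = v := inv_eq_of_mul_eq_one_right hv
    have hD : closure ({u, v} : Set G) ≠ ⊤ := fun hD => by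
      have h1 : (zpowers (u * v)).Normal := by
        rw [← normalizer_eq_top_iff, eq_top_iff, ← hD, closure_le]
        have key : ∀ w : G, w * (u * v) * w⁻¹ = (u * v)⁻¹ → w ∈ normalizer (zpowers (u * v) : Set G) :=
          fun w hw => mem_normalizer_fintype fun y hy => by
            obtain ⟨i, rfl⟩ := mem_zpowers_iff.mp hy
            rw [← conj_zpow, hw, inv_zpow]
            exact inv_mem (zpow_mem_zpowers _ _)
        rintro _ (rfl | rfl)
        · exact key _ (by rw [mul_inv_rev, hui, hvi, ← mul_assoc, hu, one_mul])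
        · exact key _ (by rw [mul_inv_rev, hui]; nth_rewrite 2 [hvi]; group)
      rcases hS.eq_bot_or_eq_top_of_normal _ h1 with h2 | h2
      · exact hx (zpowers_eq_bot.mp h2)
      · haveI : IsCyclic G := isCyclic_iff_exists_zpowers_eq_top.mpr ⟨_, h2⟩
        exact hnc inferInstance
    have hu2 : u ∈ closure ({u, v} : Set G) := subset_closure (by simp)
    have hv2 : v ∈ closure ({u, v} : Set G) := subset_closure (by simp)
    have h1 := (orderOf_dvd_natCard _ (mul_mem hu2 hv2)).trans (heven _ hD (by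
      rw [← orderOf_eq_prime (p := 2) (by rw [pow_two, hu]) hu1]; exact orderOf_dvd_natCard _ hu2))
    obtain ⟨r, hr, hrd⟩ := Nat.exists_prime_and_dvd (fun h => hx (orderOf_eq_one_iff.mp h))
    haveI := Fact.mk hr
    obtain ⟨⟨y, hy⟩, hyo⟩ := exists_prime_orderOf_dvd_card' (G := zpowers (u * v)) r
      (by rwa [Nat.card_zpowers])
    rw [orderOf_mk] at hyo
    have hy1 : y ≠ 1 := fun h => hr.one_lt.ne' (by rw [← hyo, h, orderOf_one])
    obtain ⟨g, hg⟩ : ∃ g : G, g * y * g⁻¹ ∈ A := by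
      rcases (Nat.Prime.dvd_mul hr).mp (hrd.trans h1) with h2 | h2
      · have h3 : r = 2 := (Nat.prime_dvd_prime_iff_eq hr Nat.prime_two).mp
          (hr.dvd_of_dvd_pow (show r ∣ 2 ^ 2 from h2))
        obtain ⟨g, hg⟩ := hconj y hy1 (by rw [← pow_two, ← h3, ← hyo, pow_orderOf_eq_one])
        exact ⟨g, hg ▸ htA⟩
      · have h3 : r = 3 := (Nat.prime_dvd_prime_iff_eq hr Nat.prime_three).mp
          (hr.dvd_of_dvd_pow (hk ▸ h2))
        obtain ⟨Q, hQ⟩ := FGS.exists_sylow_mem (p := 3) (k := 1) (x := y) (by rw [hyo, h3, pow_one])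
        obtain ⟨g, hg⟩ := MulAction.exists_smul_eq G Q P
        refine ⟨g, hPA ?_⟩
        rw [← hg]
        exact smul_mem_pointwise_smul y (MulAut.conj g) (Q : Subgroup G) hQ
    refine ⟨y, hy, hy1, g⁻¹ * t * g, _, fun h => ht1 ?_, ?_,
      hGd.comap (MulAut.conj g) (by simp [mul_assoc]), hg⟩
    · calc t = g * (g⁻¹ * t * g) * g⁻¹ := by group
        _ = 1 := by rw [h]; group
    · calc g⁻¹ * t * g * (g⁻¹ * t * g) = g⁻¹ * (t * t) * g := by group
        _ = 1 := by rw [htt]; group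

end Cfsg.Agent.S4018
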