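import Mathlib
import Cfsg.Statements.S4019
import Cfsg.Agent.DP.Fin

set_option autoImplicit false
open Cfsg

namespace Cfsg.Agent.S4019

open Cfsg.Agent.Classical in

/-- Let G be a finite group in which, for every prime p, any two p-subgroups of the same order are conjugate. Then G/O(G), O(G) the largest normal subgroup of odd order, is one of: a cyclic 2-group; the one-dimensional affine group over the field with 8 elements; the one-dimensional semi-affine group (affine maps twisted by field automorphisms) over the field with 8 or with 32 elements; a simple group of order 175560; PSL₂(8); the full automorphism group of PSL₂(32); or PSL₂(p), PSL₂(p³), SL₂(p), SL₂(p³) for a prime p ≡ ±3 (mod 8). -/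
theorem result {G : Type*} [Group G] [Finite G]
    (hD : ∀ p : ℕ, p.Prime → ∀ H K : Subgroup G, IsPGroup p H → IsPGroup p K → Nat.card H = Nat.card K →
      ∃ g : G, K = H.map (MulAut.conj g).toMonoidHom) :
    (IsCyclic (G ⧸ Cfsg.oddCore G) ∧ IsPGroup 2 (G ⧸ Cfsg.oddCore G)) ∨
    Nonempty (G ⧸ Cfsg.oddCore G ≃* Cfsg.affineGroup (GaloisField 2 3)) ∨
    Nonempty (G ⧸ Cfsg.oddCore G ≃* Cfsg.semiaffineGroup (GaloisField 2 3)) ∨
    Nonempty (G ⧸ Cfsg.oddCore G ≃* Cfsg.semiaffineGroup (GaloisField 2 5)) ∨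
    Cfsg.IsJ1 (G ⧸ Cfsg.oddCore G) ∨
    Nonempty (G ⧸ Cfsg.oddCore G ≃* Matrix.ProjectiveSpecialLinearGroup (Fin 2) (GaloisField 2 3)) ∨
    Nonempty (G ⧸ Cfsg.oddCore G ≃* MulAut (Matrix.ProjectiveSpecialLinearGroup (Fin 2) (GaloisField 2 5))) ∨
    (∃ (p : ℕ) (_ : Fact p.Prime), (p % 8 = 3 ∨ p % 8 = 5) ∧
      (Nonempty (G ⧸ Cfsg.oddCore G ≃* Matrix.ProjectiveSpecialLinearGroup (Fin 2) (ZMod p)) ∨
       Nonempty (G ⧸ Cfsg.oddCore G ≃* Matrix.ProjectiveSpecialLinearGroup (Fin 2) (GaloisField p 3)) ∨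
       Nonempty (G ⧸ Cfsg.oddCore G ≃* Matrix.SpecialLinearGroup (Fin 2) (ZMod p)) ∨
       Nonempty (G ⧸ Cfsg.oddCore G ≃* Matrix.SpecialLinearGroup (Fin 2) (GaloisField p 3)))) := by
  rcases DP.core_free (G := G ⧸ Cfsg.oddCore G) (fun p hp => by
      haveI := Fact.mk hp
      exact DP.D1.map (hD p hp) _ (QuotientGroup.mk'_surjective _))
    (Core.pPrimeCore_quotient_pPrimeCore 2) with
    h | (h | h | h) | (h | h | h) | ⟨⟨e⟩⟩ | h | ⟨p, F, _, _, hp, h1, h2, -, h⟩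
  · exact .inl h
  · exact .inr (.inl h)
  · exact .inr (.inr (.inl h))
  · exact .inr (.inr (.inr (.inl h)))
  · exact .inr (.inr (.inr (.inr (.inl h.1))))
  · exact .inr (.inr (.inr (.inr (.inr (.inl h)))))
  · exact .inr (.inr (.inr (.inr (.inr (.inr (.inl h))))))
  all_goals refine .inr (.inr (.inr (.inr (.inr (.inr (.inr ?_))))))
  · haveI := Fact.mk Nat.prime_three
    obtain ⟨f⟩ := PSL2Basic.psl_equiv_A4 (F := ZMod 3) (by simp)
    exact ⟨3, inferInstance, .inl rfl, .inl ⟨e.trans f.symm⟩⟩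
  · exact ⟨3, ⟨Nat.prime_three⟩, .inl rfl, .inr (.inr (.inl h))⟩
  haveI := Fact.mk hp
  refine ⟨p, inferInstance, h1, ?_⟩
  rw [← Nat.card_eq_fintype_card] at h2
  rcases h2 with h2 | h2
  · obtain ⟨ι⟩ := Congr.nonempty_ringEquiv_zmod p h2
    exact h.elim (fun ⟨e⟩ => .inl ⟨e.trans (Congr.pslCongr ι.symm)⟩)
      fun ⟨e⟩ => .inr (.inr (.inl ⟨e.trans (Congr.slCongr ι.symm)⟩))
  · obtain ⟨ι⟩ := Congr.nonempty_ringEquiv (h2.trans (GaloisField.card p 3 (by norm_num)).symm)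
    exact h.elim (fun ⟨e⟩ => .inr (.inl ⟨e.trans (Congr.pslCongr ι)⟩))
      fun ⟨e⟩ => .inr (.inr (.inr ⟨e.trans (Congr.slCongr ι)⟩))

end Cfsg.Agent.S4019
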