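import Mathlib
import Cfsg.Statements.S4021
import Cfsg.Agent.DP.Fin

set_option autoImplicit false
open Cfsg

namespace Cfsg.Agent.S4021

open Cfsg.Agent.Classical in

/-- Let G be a finite group in which any two subgroups of the same order are conjugate. Then G/O(G), O(G) the largest normal subgroup of odd order, is one of: a cyclic 2-group; the one-dimensional affine group over the field with 8 elements; the one-dimensional semi-affine group over the field with 8 or with 32 elements; PSL₂(8); the full automorphism group of PSL₂(32); the alternating group of degree 4 or 5; SL₂(3); or SL₂(5). -/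
theorem result {G : Type*} [Group G] [Finite G]
    (hC : ∀ H K : Subgroup G, Nat.card H = Nat.card K → ∃ g : G, K = H.map (MulAut.conj g).toMonoidHom) :
    (IsCyclic (G ⧸ Cfsg.oddCore G) ∧ IsPGroup 2 (G ⧸ Cfsg.oddCore G)) ∨
    Nonempty (G ⧸ Cfsg.oddCore G ≃* Cfsg.affineGroup (GaloisField 2 3)) ∨
    Nonempty (G ⧸ Cfsg.oddCore G ≃* Cfsg.semiaffineGroup (GaloisField 2 3)) ∨
    Nonempty (G ⧸ Cfsg.oddCore G ≃* Cfsg.semiaffineGroup (GaloisField 2 5)) ∨
    Nonempty (G ⧸ Cfsg.oddCore G ≃* Matrix.ProjectiveSpecialLinearGroup (Fin 2) (GaloisField 2 3)) ∨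
    Nonempty (G ⧸ Cfsg.oddCore G ≃* MulAut (Matrix.ProjectiveSpecialLinearGroup (Fin 2) (GaloisField 2 5))) ∨
    Nonempty (G ⧸ Cfsg.oddCore G ≃* alternatingGroup (Fin 4)) ∨
    Nonempty (G ⧸ Cfsg.oddCore G ≃* alternatingGroup (Fin 5)) ∨
    Nonempty (G ⧸ Cfsg.oddCore G ≃* Matrix.SpecialLinearGroup (Fin 2) (ZMod 3)) ∨
    Nonempty (G ⧸ Cfsg.oddCore G ≃* Matrix.SpecialLinearGroup (Fin 2) (ZMod 5)) := by
  have hC' : DP.C1 (G ⧸ Cfsg.oddCore G) := DP.C1.map hC _ (QuotientGroup.mk'_surjective _)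
  rcases DP.core_free (fun p _ H K _ _ => hC' H K) (Core.pPrimeCore_quotient_pPrimeCore 2) with
    h | (h | h | h) | (h | h | h) | h | h | ⟨p, F, _, _, hp, h1, h2, h5, h⟩
  · exact .inl h
  · exact .inr (.inl h)
  · exact .inr (.inr (.inl h))
  · exact .inr (.inr (.inr (.inl h)))
  · exact absurd h.2 hC'.not_wit
  · exact .inr (.inr (.inr (.inr (.inl h))))
  · exact .inr (.inr (.inr (.inr (.inr (.inl h)))))
  all_goals refine .inr (.inr (.inr (.inr (.inr (.inr ?_)))))
  · exact .inl h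
  · exact .inr (.inr (.inl h))
  have h3 := DP.mod_eight h1 h2
  rcases h with ⟨⟨e⟩⟩ | ⟨⟨e⟩⟩
  · obtain ⟨f⟩ := PSL2Basic.psl_equiv_A5 (F := F) (.inr (Nat.card_eq_fintype_card.trans
      ((hC'.map e.toMonoidHom e.surjective).five h3 h5)))
    exact .inr (.inl ⟨e.trans f⟩)
  · haveI := Fact.mk Nat.prime_five
    obtain ⟨ι⟩ := Congr.nonempty_ringEquiv_zmod 5 (Nat.card_eq_fintype_card.trans
      (((hC'.map e.toMonoidHom e.surjective).map _ (QuotientGroup.mk'_surjective _)).five h3 h5))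
    exact .inr (.inr (.inr ⟨e.trans (Congr.slCongr ι.symm)⟩))

end Cfsg.Agent.S4021
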