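import Mathlib
import Cfsg.Statements.S4025
import Cfsg.Agent.DP.Odd

set_option autoImplicit false
open Cfsg

namespace Cfsg.Agent.S4025

open Subgroup Cfsg.Agent.LocalEven Cfsg.Agent.DP Cfsg.Agent.Classical in

/-- Let p be a prime and G a finite group in which any two p-subgroups of the same order are conjugate, and suppose a Sylow p-subgroup P of G is elementary abelian of order pⁿ with n ≥ 3. Let N be the normalizer of P and K the largest normal subgroup of N of order prime to p, and assume N/K is solvable. Then either n = 3 and N/K embeds in the one-dimensional semi-affine group over the field with p³ elements (and for p = 2 it is isomorphic to the affine or the semi-affine group over the field with 8 elements), or n = 5, p = 2 and N/K is isomorphic to the one-dimensional semi-affine group over the field with 32 elements. -/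
theorem result {G : Type*} [Group G] [Finite G]
    {p : ℕ} [Fact p.Prime] (hC : ∀ H K : Subgroup G, IsPGroup p H → IsPGroup p K → Nat.card H = Nat.card K →
      ∃ g : G, K = H.map (MulAut.conj g).toMonoidHom) (P : Sylow p G) (n : ℕ) (hn : 3 ≤ n)
    (hel : Cfsg.IsElementaryAbelian p (P : Subgroup G)) (hcard : Nat.card P = p ^ n)
    (N : Subgroup G) (hN : N = Subgroup.normalizer ((P : Subgroup G) : Set G))
    (hsolv : Group.IsSolvable (↥N ⧸ Cfsg.pPrimeCore p ↥N)) :
    (n = 3 ∧ (∃ f : ↥N ⧸ Cfsg.pPrimeCore p ↥N →* ↥(Cfsg.semiaffineGroup (GaloisField p 3)), Function.Injective f) ∧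
      (p = 2 → Nonempty (↥N ⧸ Cfsg.pPrimeCore p ↥N ≃* Cfsg.semiaffineGroup (GaloisField 2 3)) ∨
               Nonempty (↥N ⧸ Cfsg.pPrimeCore p ↥N ≃* Cfsg.affineGroup (GaloisField 2 3)))) ∨
    (n = 5 ∧ p = 2 ∧ Nonempty (↥N ⧸ Cfsg.pPrimeCore p ↥N ≃* Cfsg.semiaffineGroup (GaloisField 2 5))) := by
  subst hN
  have hs := QuotientGroup.mk'_surjective (pPrimeCore p (normalizer ((P : Subgroup G) : Set G)))
  have k : ∀ H ≤ normalizer ((P : Subgroup G) : Set G), IsPGroup p H → H ≤ P := fun H hH pH =>
    (isSylowIn_top P).le_of_le_normalizer' le_top pH hH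
  have hD := (d1_of_amb (p := p) (M := normalizer ((P : Subgroup G) : Set G)) fun H K hH hK pH pK e =>
    D1.fus hC (isSylowIn_top P) (le_centralizer_iff_isMulCommutative.2 hel.1) (k H hH pH) (k K hK pK)
      e).map _ hs
  have hO := Core.pPrimeCore_quotient_pPrimeCore (G := normalizer ((P : Subgroup G) : Set G)) p
  have hS := ((isSylowIn_of_sylow_le P le_normalizer).subgroupOf le_rfl).map
    (QuotientGroup.mk' (pPrimeCore p (normalizer ((P : Subgroup G) : Set G))))
  rw [subgroupOf_self, map_top_of_surjective _ hs] at hS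
  have hE : IsElementaryAbelian p _ := Core.IsElementaryAbelian.map (N := (P : Subgroup G).subgroupOf
    (normalizer ((P : Subgroup G) : Set G))) ⟨haveI := hel.1; inferInstance,
      fun a ha => Subtype.ext (hel.2 a ha)⟩ (QuotientGroup.mk' (pPrimeCore p _))
  have hn' := (BG.Rank.card_map_of_disjoint_ker (QuotientGroup.mk' (pPrimeCore p
    (normalizer ((P : Subgroup G) : Set G)))) (H := (P : Subgroup G).subgroupOf _) (by
      rw [QuotientGroup.ker_mk']
      exact (Core.disjoint_pPrimeCore_of_isPGroup P.2.comap_subtype).eq_bot)).trans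
    ((card_subgroupOf le_normalizer).trans hcard)
  haveI := Normal.map (normal_in_normalizer (H := (P : Subgroup G))) _ hs
  exact syl_case hD hO hS hE hn' hn

end Cfsg.Agent.S4025
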