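import Mathlib
import Cfsg.Statements.S4027
import Cfsg.Agent.S3861

set_option autoImplicit false
open Cfsg

namespace Cfsg.Agent.S4027

open Subgroup

/-- Let G be a finite group in which every element x of odd order satisfies N_G(⟨x⟩) = C_G(x). Then the Sylow 2-subgroups of G are normal. -/
theorem result {G : Type*} [Group G] [Finite G]
    (hirr : ∀ x : G, (∀ r : ℕ, r.Prime → r ∣ orderOf x → r ≠ 2) →
      Subgroup.normalizer ((Subgroup.zpowers x : Subgroup G) : Set G) ≤ Subgroup.centralizer {x}) (P : Sylow 2 G) :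
    (P : Subgroup G).Normal := by
  refine (S3861.result P).mp fun x hx1 hxo hc => ?_
  obtain ⟨g, hg⟩ := isConj_iff.mp hc
  have hgn : g ∈ normalizer ((zpowers x : Subgroup G) : Set G) := by
    refine Transfer.mem_normalizer_of_conj_mem fun y hy => ?_
    obtain ⟨k, rfl⟩ := mem_zpowers_iff.mp hy
    rw [← conj_zpow, hg]
    exact zpow_mem (inv_mem (mem_zpowers x)) k
  have h5 := mem_centralizer_singleton_iff.mp
    (hirr x (fun r _ hd => by rintro rfl; exact hxo.not_two_dvd_nat hd) hgn)
  rw [h5, mul_inv_cancel_right] at hg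
  have h6 : x ^ 2 = 1 := by rw [pow_two]; nth_rewrite 1 [hg]; simp
  exact hx1 (orderOf_eq_one_iff.mp (Nat.eq_one_of_dvd_coprimes (Nat.coprime_two_right.mpr hxo) dvd_rfl
    (orderOf_dvd_of_pow_eq_one h6)))

end Cfsg.Agent.S4027
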