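import Mathlib
import Cfsg.Statements.S4031
import Cfsg.Agent.GsD.S3Free
import Cfsg.Agent.S0336
import Cfsg.Agent.Classical.PSL2Basic
import Cfsg.Agent.Ab2.S4

set_option autoImplicit false
open Cfsg

namespace Cfsg.Agent.S4031

open Subgroup LocalEven Classical.Congr

/-- Let G be a finite non-abelian simple group in which N_G(⟨x⟩) = C_G(x) for every 3-element x. Then either G is isomorphic to PSL₂(q) with q an odd power of 3, q ≥ 27, or G is simple of the order of a Suzuki group (so 3 does not divide its order). -/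
theorem result {G : Type*} [Group G] [Finite G] [IsSimpleGroup G] (hna : ¬ IsMulCommutative G)
    (hirr : ∀ x : G, (∀ r : ℕ, r.Prime → r ∣ orderOf x → r = 3) →
      Subgroup.normalizer ((Subgroup.zpowers x : Subgroup G) : Set G) ≤ Subgroup.centralizer {x}) :
    (∃ f : ℕ, 1 ≤ f ∧ Nonempty (G ≃* Matrix.ProjectiveSpecialLinearGroup (Fin 2) (GaloisField 3 (2 * f + 1)))) ∨
    Cfsg.IsSuzuki G := by
  have hF : S4F.F3 G := GsD.f3_top.2 fun ⟨g, _, x, _, ⟨k, hk⟩, x1, e⟩ => by
    have h1 := orderOf_dvd_of_pow_eq_one hk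
    have h2 := mem_centralizer_singleton_iff.1 (hirr x (fun r hr h => (Nat.prime_dvd_prime_iff_eq hr
      Nat.prime_three).1 (hr.dvd_of_dvd_pow (h.trans h1))) (cj_eq_self_iff.1
        (by rw [cj_zpowers, e, zpowers_inv] : cj g _ = _)))
    rw [h2, mul_inv_cancel_right, eq_inv_iff_mul_eq_one, ← pow_two] at e
    exact x1 (orderOf_eq_one_iff.1 (Nat.eq_one_of_dvd_coprimes (Nat.Coprime.pow_left k (by norm_num)) h1
      (orderOf_dvd_of_pow_eq_one e)))
  rcases GsD.s3_simple hna hF with h | ⟨F, _, _, n, hn, ⟨e⟩⟩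
  · exact .inr (S0336.result (by_contra fun k => hna ⟨⟨fun a b => by_contra fun e => k ⟨a, b, e⟩⟩⟩)
      (S2755.sz_three h))
  · rw [← Nat.card_eq_fintype_card] at hn
    obtain ⟨φ⟩ := nonempty_ringEquiv (hn.trans (GaloisField.card 3 (2 * n + 1) (by omega)).symm)
    refine .inl ⟨n, Nat.pos_of_ne_zero ?_, ⟨e.trans (pslCongr φ)⟩⟩
    rintro rfl
    obtain ⟨f⟩ := Classical.PSL2Basic.psl_equiv_A4 hn
    have := Ab2.solv_A4
    exact hna ⟨⟨IsSimpleGroup.comm_iff_isSolvable.2 (Group.isSolvable_of_isSolvable_injective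
      (f := (e.trans f).toMonoidHom) (e.trans f).injective)⟩⟩

end Cfsg.Agent.S4031
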