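import Mathlib
import Cfsg.Statements.S4033
import Cfsg.Agent.Part.Cm3
import Cfsg.Agent.S4034

set_option autoImplicit false
open Cfsg

namespace Cfsg.Agent.S4033


/-- Let G be a finite group and p a prime, and suppose the conjugacy classes of p-regular elements of G (elements of order prime to p) have exactly two distinct sizes. Then either G has an abelian p-complement (an abelian subgroup of order prime to p and p-power index), or there are a prime q ≠ p, a Sylow p-subgroup P, a Sylow q-subgroup Q and a central subgroup A such that PQ is a normal subgroup of order #P·#Q and G is the internal direct product PQ × A. -/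
theorem result {G : Type*} [Group G] [Finite G] {p : ℕ} (hp : p.Prime)
    (h2 : Set.ncard (Set.range fun x : {x : G // (orderOf x).Coprime p} => (ConjClasses.mk (x : G)).carrier.ncard) = 2) :
    (∃ H : Subgroup G, IsMulCommutative H ∧ ¬ p ∣ Nat.card H ∧ ∃ k : ℕ, H.index = p ^ k) ∨
    (∃ (q : ℕ) (_ : Fact q.Prime) (P : Sylow p G) (Q : Sylow q G) (A : Subgroup G), q ≠ p ∧
        A ≤ Subgroup.center G ∧ Nat.card ↥((P : Subgroup G) ⊔ (Q : Subgroup G)) = Nat.card P * Nat.card Q ∧
        ((P : Subgroup G) ⊔ (Q : Subgroup G)).Normal ∧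
        ((P : Subgroup G) ⊔ (Q : Subgroup G)) ⊓ A = ⊥ ∧ ((P : Subgroup G) ⊔ (Q : Subgroup G)) ⊔ A = ⊤) := by
  simp only [FGS.ncard_carrier] at h2
  obtain ⟨m, ⟨w, hw⟩, hm⟩ : ∃ m, (∃ w : G, (Subgroup.centralizer ({w} : Set G)).index = m) ∧
      ∀ x : G, (orderOf x).Coprime p → x ∉ Subgroup.center G →
        (Subgroup.centralizer ({x} : Set G)).index = m := by
    obtain ⟨a, b, -, e⟩ := Set.ncard_eq_two.1 h2
    have k := fun (x : G) (hx : (orderOf x).Coprime p) => e.le ⟨⟨x, hx⟩, rfl⟩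
    have k1 := k 1 (by simp)
    beta_reduce at k1
    rw [FGS.index_centralizer_eq_one_iff.2 (one_mem _)] at k1
    rcases k1 with rfl | rfl
    · obtain ⟨w, hw⟩ := e.ge (show b ∈ _ by simp)
      exact ⟨b, ⟨w, hw⟩, fun x hx x1 =>
        (k x hx).resolve_left (mt FGS.index_centralizer_eq_one_iff.1 x1)⟩
    · obtain ⟨w, hw⟩ := e.ge (show a ∈ _ by simp)
      exact ⟨a, ⟨w, hw⟩, fun x hx x1 =>
        (k x hx).resolve_right (mt FGS.index_centralizer_eq_one_iff.1 x1)⟩
  by_cases e : ∀ q : ℕ, q.Prime → q ∣ m → q = p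
  · refine Or.inl ((S4034.result hp).1 fun x hx => ?_)
    rw [FGS.ncard_carrier]
    by_cases x1 : x ∈ Subgroup.center G
    · exact ⟨0, FGS.index_centralizer_eq_one_iff.2 x1⟩
    · exact ⟨_, Nat.eq_prime_pow_of_unique_prime_dvd Subgroup.index_ne_zero_of_finite
        fun {q} hq e' => e q hq (hm x hx x1 ▸ e')⟩
  · push Not at e
    obtain ⟨q, hq, h1, e1⟩ := e
    obtain ⟨P, Q, A, h3⟩ := Part.RG.main ⟨hp, hm⟩ hq e1 h1 hw
    exact Or.inr ⟨q, ⟨hq⟩, P, Q, A, e1, h3⟩

end Cfsg.Agent.S4033
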