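import Mathlib
import Cfsg.Statements.S4036
import Cfsg.Agent.PGrp.ClassSize
-- import your own Cfsg.Agent.* helpers here

set_option autoImplicit false
open Cfsg

namespace Cfsg.Agent.S4036

/-- Let P be a finite abelian p-group and K a group of automorphisms of P (a subgroup of Aut P) whose order is divisible by p. If all non-identity elements of K have the same fixed-point subgroup on P, then K has no non-trivial normal subgroup of order prime to p. -/
theorem result {P : Type*} [CommGroup P] [Finite P] {p : ℕ}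
    [Fact p.Prime] (hP : IsPGroup p P) (K : Subgroup (MulAut P)) (hK : p ∣ Nat.card K)
    (hfix : ∀ x y : MulAut P, x ∈ K → y ∈ K → x ≠ 1 → y ≠ 1 → ∀ v : P, x v = v ↔ y v = v) :
    ∀ N : Subgroup ↥K, N.Normal → ¬ p ∣ Nat.card N → N = ⊥ := by
  classical
  have hp : p.Prime := Fact.out
  intro N hN hpN
  by_contra hne
  have : Fintype N := Fintype.ofFinite N
  have : Fintype P := Fintype.ofFinite P
  let τ : P →* P :=
    { toFun := fun g => ∏ a : N, ((a : K) : MulAut P) g
      map_one' := by simp
      map_mul' := fun x y => by simp [Finset.prod_mul_distrib] }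
  have hτ : ∀ (g : P) (b : N), τ (((b : K) : MulAut P) g) = τ g := by
    intro g b
    change ∏ a : N, ((a : K) : MulAut P) (((b : K) : MulAut P) g) = ∏ a : N, ((a : K) : MulAut P) g
    exact Fintype.prod_equiv (Equiv.mulRight b) _ _ (fun a => rfl)
  have hτ' : ∀ (g : P) (k : K), τ ((k : MulAut P) g) = (k : MulAut P) (τ g) := by
    intro g k
    change ∏ a : N, ((a : K) : MulAut P) ((k : MulAut P) g) =
      (k : MulAut P) (∏ a : N, ((a : K) : MulAut P) g)
    rw [map_prod]
    exact (Fintype.prod_equiv (MulAut.conjNormal k).toEquiv _ _ (fun a => by simp)).symm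
  obtain ⟨x, hx⟩ := exists_prime_orderOf_dvd_card' p hK
  have hx1 : (x : MulAut P) ≠ 1 := fun h =>
    FGS.ne_one_of_orderOf_prime hp hx (Subtype.ext h)
  obtain ⟨b, hb1⟩ := (Subgroup.ne_bot_iff_exists_ne_one.mp hne)
  have hb1' : ((b : K) : MulAut P) ≠ 1 := fun h => hb1 (Subtype.ext (Subtype.ext h))
  have hker : τ.ker ≠ ⊥ := by
    intro h
    apply hb1'
    ext v
    have : v⁻¹ * ((b : K) : MulAut P) v ∈ τ.ker := by simp [MonoidHom.mem_ker, hτ]
    rw [h, Subgroup.mem_bot, inv_mul_eq_one] at this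
    exact this.symm
  let σ : Equiv.Perm τ.ker := Equiv.Perm.subtypePerm (x : MulAut P).toEquiv (fun v => by
    change τ ((x : MulAut P) v) = 1 ↔ τ v = 1
    rw [hτ', EmbeddingLike.map_eq_one_iff])
  have hσ : σ ^ p ^ 1 = 1 := by
    rw [pow_one, Equiv.Perm.subtypePerm_pow]
    ext v
    have : (x : MulAut P) ^ p = 1 := by
      rw [← Subgroup.coe_pow, ← hx, pow_orderOf_eq_one]; rfl
    change ((MulAut.toPerm P (x : MulAut P)) ^ p) v = v
    rw [← map_pow, this, map_one]; rfl
  obtain ⟨v, hv1, hv2⟩ := Equiv.Perm.exists_fixed_point_of_prime' (by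
    rw [← Nat.card_eq_fintype_card]
    exact (hP.to_subgroup τ.ker).card_eq_or_dvd.resolve_left
      (fun h => hker (Subgroup.card_eq_one.mp h))) hσ (a := 1) (Subtype.ext (map_one (x : MulAut P)))
  have hv3 : (x : MulAut P) v = v := congrArg Subtype.val hv1
  have h1 : τ v = (v : P) ^ Nat.card N := by
    change ∏ a : N, ((a : K) : MulAut P) v = _
    rw [Finset.prod_congr rfl (g := fun _ => (v : P)) (fun a _ => by
      by_cases ha : ((a : K) : MulAut P) = 1
      · rw [ha]; rfl
      · exact (hfix _ _ x.2 (a : K).2 hx1 ha v).mp hv3), Finset.prod_const,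
      Nat.card_eq_fintype_card, Finset.card_univ]
  rw [v.2] at h1
  obtain ⟨k, hk⟩ := hP (v : P)
  exact hv2 (Subtype.ext (PGrp.mem_of_pow_mem_of_coprime (N := ⊥)
    (((Nat.Prime.coprime_iff_not_dvd hp).mpr hpN).pow_left k) hk h1.symm))

end Cfsg.Agent.S4036
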