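import Mathlib
import Cfsg.Statements.S4041
import Cfsg.Agent.FGS.CycOut
import Cfsg.Agent.Comp2.Bender
import Cfsg.Agent.Comp2.Quasisimple
import Cfsg.Agent.Transfer.Frobenius

set_option autoImplicit false
open Cfsg

namespace Cfsg.Agent.S4041

open Subgroup Cfsg.Agent.LocalEven Cfsg.Agent.FGS Cfsg.Agent.S4F

universe u

section
variable {G : Type u} [Group G] [Finite G] {K A : Subgroup G}

theorem quot {p : ℕ} [Fact p.Prime] {N : Subgroup G} [N.Normal] [hK : K.Normal] (hN : IsPGroup p N)
    (hle : N ≤ K) (h : K ⊓ centralizer (A : Set G) = ⊥) (hA : HasNormalPComplement p A) :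
    K.map (QuotientGroup.mk' N) ⊓ centralizer (A.map (QuotientGroup.mk' N) : Set (G ⧸ N)) = ⊥ := by
  obtain ⟨S, L, hL, hc⟩ := hA
  have hLA : A ≤ normalizer (L.map A.subtype : Set G) := Comp2.le_normalizer_map_subtype_of_normal L
  have h1 : N ⊓ centralizer (L.map A.subtype : Set G) = ⊥ := by
    by_contra h0
    refine inf_centralizer_ne_bot (S.2.map A.subtype) (hN.to_le inf_le_left) ?_ h0 (eq_bot_iff.2 ?_)
    · exact le_trans (le_inf (by rw [normalizer_eq_top]; exact le_top) ((map_subtype_le _).trans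
        (hLA.trans (normalizer_le_normalizer_centralizer _)))) inf_normalizer_le_normalizer_inf
    · rw [← h]
      rintro x ⟨⟨h1, h2⟩, h3⟩
      refine ⟨hle h1, fun a ha => ?_⟩
      obtain ⟨⟨l, s⟩, e⟩ := hc.2 ⟨a, ha⟩
      rw [show a = l.1.1 * s.1.1 from (congrArg Subtype.val e).symm, mul_assoc,
        h3 s.1.1 ⟨s, s.2, rfl⟩, ← mul_assoc, h2 l.1.1 ⟨l, l.2, rfl⟩, mul_assoc]
  obtain ⟨n, hn⟩ := hN.exists_card_eq
  refine (eq_bot_iff_forall _).2 fun x hx => ?_
  have : x ∈ K.map (QuotientGroup.mk' N) ⊓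
      centralizer ((L.map A.subtype).map (QuotientGroup.mk' N) : Set (G ⧸ N)) :=
    ⟨hx.1, centralizer_le (map_mono (map_subtype_le _)) hx.2⟩
  rw [Core.inf_centralizer_map_mk' _ _ _ hle (by
    rw [hn, card_map_of_injective A.subtype_injective, ← hc.index_eq_card]
    exact ((Nat.Prime.coprime_iff_not_dvd Fact.out).2 S.not_dvd_index).symm.pow_right n)
    (.inr (by haveI := hN.isNilpotent; infer_instance))] at this
  obtain ⟨y, ⟨hy, hy'⟩, rfl⟩ := this
  have : y = 1 := (eq_bot_iff_forall _).1 h y ⟨hy, fun a ha => ?_⟩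
  · rw [this, map_one]
  have e := hx.2 _ ⟨a, ha, rfl⟩
  rw [← mul_inv_eq_iff_eq_mul, ← inv_mul_eq_one]
  refine (eq_bot_iff_forall _).1 h1 _ (mem_inf.2 ⟨?_, ?_⟩)
  · refine (QuotientGroup.eq (s := N)).1 ?_
    change QuotientGroup.mk' N _ = QuotientGroup.mk' N _
    rw [map_mul, map_mul, e, map_inv, mul_inv_cancel_right]
  · exact mul_mem (inv_mem ((mem_normalizer_iff.1
      (normalizer_le_normalizer_centralizer _ (hLA ha)) y).1 hy')) hy'

theorem comp {L : Subgroup G} [hK : K.Normal] (hL : IsComponent L) (hle : L ≤ K)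
    (hZ : L ⊓ centralizer (L : Set G) = ⊥) (h : K ⊓ centralizer (A : Set G) = ⊥) :
    L ⊓ centralizer ((A ⊓ normalizer (L : Set G) : Subgroup G) : Set G) = ⊥ := by
  classical
  haveI := Fintype.ofFinite G
  refine (eq_bot_iff_forall _).2 fun c ⟨hc, hc'⟩ => ?_
  let O := Finset.univ.filter fun y => ∃ a ∈ A, a * c * a⁻¹ = y
  have mO : ∀ y, y ∈ O ↔ ∃ a ∈ A, a * c * a⁻¹ = y := fun y => by simp [O]
  have k : ∀ a ∈ A, a * c * a⁻¹ ≠ c → a * c * a⁻¹ ∈ centralizer (L : Set G) := fun a ha h1 =>
    commutator_eq_bot_iff_le_centralizer.1 (Comp2.component_commutator_eq_bot_of_ne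
      (Comp2.component_conj hL a) hL fun e => h1 (by
        rw [hc' a ⟨ha, cj_eq_self_iff.1 e⟩, mul_inv_cancel_right])) (conj_mem_cj hc)
  have comm : (O : Set G).Pairwise (Function.onFun Commute id) := by
    intro x hx y hy hne
    obtain ⟨a, ha, rfl⟩ := (mO _).1 hx
    obtain ⟨b, hb, rfl⟩ := (mO _).1 hy
    have := k (a⁻¹ * b) (mul_mem (inv_mem ha) hb) (fun e => hne (by
      calc _ = a * (a⁻¹ * b * c * (a⁻¹ * b)⁻¹) * a⁻¹ := by rw [e]
        _ = _ := by group)) c hc
    change _ = _
    calc _ = a * (c * (a⁻¹ * b * c * (a⁻¹ * b)⁻¹)) * a⁻¹ := by simp only [id]; group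
      _ = _ := by rw [this]; simp only [id]; group
  have cO : c ∈ O := (mO _).2 ⟨1, one_mem _, by simp⟩
  have h1 : O.noncommProd id comm = 1 := by
    refine (eq_bot_iff_forall _).1 h _ ⟨K.noncommProd_mem comm fun y hy => ?_, fun a ha => ?_⟩
    · obtain ⟨a, -, rfl⟩ := (mO _).1 hy
      exact hK.conj_mem c (hle hc) a
    · have e : O.map (MulAut.conj a).toEquiv.toEmbedding = O :=
        Finset.eq_of_subset_of_card_le (fun y hy => by
          obtain ⟨_, hx, rfl⟩ := Finset.mem_map.1 hy
          obtain ⟨b, hb, rfl⟩ := (mO _).1 hx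
          exact (mO _).2 ⟨a * b, mul_mem ha hb, by simp [mul_assoc]⟩) (Finset.card_map _).ge
      rw [← mul_inv_eq_iff_eq_mul, ← MulAut.conj_apply, Finset.map_noncommProd]
      unfold Finset.noncommProd
      congr 1
      rw [Multiset.map_id]
      exact congrArg Finset.val e
  rw [← Finset.mul_noncommProd_erase O cO, mul_eq_one_iff_eq_inv] at h1
  refine (eq_bot_iff_forall _).1 hZ c (mem_inf.2 ⟨hc, ?_⟩)
  rw [show c = _ from h1]
  refine inv_mem ((centralizer (L : Set G)).noncommProd_mem _ fun y hy => ?_)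
  obtain ⟨h2, h3⟩ := Finset.mem_erase.1 hy
  obtain ⟨a, ha, rfl⟩ := (mO _).1 h3
  exact k a ha h2

end

theorem main (n : ℕ) : ∀ (G : Type u) [Group G] [Finite G] (K A : Subgroup G), Nat.card K = n →
    A ≤ normalizer (K : Set G) → K ⊓ centralizer (A : Set G) = ⊥ → F3 K →
    (∀ p, p.Prime → p ∣ Nat.card K → HasNormalPComplement p A) → Group.IsSolvable K := by
  induction n using Nat.strong_induction_on with
  | _ n ih =>
  have step : ∀ (G : Type u) [Group G] [Finite G] (K A : Subgroup G) [K.Normal], Nat.card K = n →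
      K ⊓ centralizer (A : Set G) = ⊥ → F3 K →
      (∀ p, p.Prime → p ∣ Nat.card K → HasNormalPComplement p A) → Group.IsSolvable K := by
    intro G _ _ K A _ hn h hF hA
    by_cases h0 : fittingSubgroup G ⊓ K = ⊥
    · by_cases hc : ∀ L : Subgroup G, IsComponent L → ¬ L ≤ K
      · have := Comp2.le_fitting_of_subnormal_of_no_component (Normal.isSubnormal ‹_›) hc
          (by rw [h0]; exact bot_le)
        rw [← inf_eq_right.2 this, h0]; infer_instance
      push Not at hc
      obtain ⟨L, hL, hle⟩ := hc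
      have hZ : L ⊓ centralizer (L : Set G) = ⊥ := eq_bot_iff.2 (h0 ▸ le_inf
        (Comp2.component_inf_centralizer_le_fitting hL) (inf_le_left.trans hle))
      exfalso
      rcases hle.lt_or_eq with hlt | rfl
      · refine Comp2.quasisimple_not_isSolvable hL.2 (ih _ ?_ G L _ rfl inf_le_right
          (comp hL hle hZ h) (hF.sec (PLocal.isSectionOf_of_le hle)) fun p hp hd => ?_)
        · exact hn ▸ lt_of_le_of_ne (card_le_of_le hle) fun e => hlt.ne (eq_of_le_of_card_le hle e.ge)
        · haveI := Fact.mk hp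
          exact Transfer.hasNormalPComplement_of_le inf_le_left (hA p hp (hd.trans (card_dvd_of_le hle)))
      have hb : center L = ⊥ := (eq_bot_iff_forall _).2 fun x hx => Subtype.ext
        ((eq_bot_iff_forall _).1 hZ x ⟨x.2, fun y hy =>
          congrArg Subtype.val (mem_center_iff.1 hx ⟨y, hy⟩)⟩)
      haveI := hL.2.2
      haveI : IsSimpleGroup L := ((QuotientGroup.quotientBot.symm).trans
        (QuotientGroup.quotientMulEquivOfEq hb.symm)).isSimpleGroup
      obtain ⟨x, x1, hx⟩ := ((s3s (Comp2.quasisimple_not_isMulCommutative hL.2) hF).elim co_sz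
        co_l3).fix' hb (A := A.map MulAut.conjNormal) fun p hp hd => by
          haveI := Fact.mk hp
          exact Transfer.hasNormalPComplement_map _ (hA p hp hd)
      exact x1 (Subtype.ext ((eq_bot_iff_forall _).1 h x ⟨x.2, fun a ha =>
        mul_inv_eq_iff_eq_mul.1 (congrArg Subtype.val (hx _ ⟨a, ha, rfl⟩))⟩))
    obtain ⟨x, hx, hp⟩ := Core.exists_mem_prime_orderOf h0
    haveI := Fact.mk hp
    let N := pCore (orderOf x) G ⊓ K
    have xN : x ∈ N := ⟨Comp2.le_pCore_of_le_fitting (zpowers_le.2 hx.1)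
      (IsPGroup.of_card (n := 1) (by simp)) (mem_zpowers x), hx.2⟩
    have hN : IsPGroup (orderOf x) N := isPGroup_pCore.to_le inf_le_left
    haveI := hN.isNilpotent
    let f := (QuotientGroup.mk' N).subgroupMap K
    have hf : Function.Surjective f := MonoidHom.subgroupMap_surjective _ _
    haveI := ih _ (hn ▸ (lt_of_le_of_ne (Nat.card_le_card_of_surjective f hf) fun e =>
      ne_one_of_orderOf_eq rfl (congrArg Subtype.val ((injective_iff_map_eq_one f).1
        (hf.bijective_of_nat_card_le e.ge).1 ⟨x, hx.2⟩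
          (Subtype.ext ((QuotientGroup.eq_one_iff x).2 xN))))))
      (G ⧸ N) (K.map (QuotientGroup.mk' N)) (A.map (QuotientGroup.mk' N)) rfl (by
        haveI := Normal.map ‹K.Normal› _ (QuotientGroup.mk'_surjective N)
        rw [normalizer_eq_top]; exact le_top)
      (quot hN inf_le_right h (hA _ hp (orderOf_dvd_natCard _ hx.2))) (hF.surj f hf) fun p hp hd => by
        haveI := Fact.mk hp
        exact Transfer.hasNormalPComplement_map _ (hA p hp (hd.trans (card_map_dvd _ _)))
    refine solvable_of_ker_le_range (inclusion (inf_le_right : N ≤ K)) f fun y hy => ?_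
    exact ⟨⟨y, (QuotientGroup.eq_one_iff _).1 (congrArg Subtype.val hy)⟩, rfl⟩
  intro G _ _ K A hn hAK h hF hA
  have e := subgroupOfEquivOfLe (le_sup_left : K ≤ K ⊔ A)
  haveI : (K.subgroupOf (K ⊔ A)).Normal :=
    (normal_subgroupOf_iff_le_normalizer le_sup_left).2 (sup_le le_normalizer hAK)
  haveI := step (K ⊔ A : Subgroup G) (K.subgroupOf _) (A.subgroupOf _)
    ((Nat.card_congr e.toEquiv).trans hn) ((eq_bot_iff_forall _).2 fun x hx => Subtype.ext
      ((eq_bot_iff_forall _).1 h x ⟨hx.1, fun a ha =>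
        congrArg Subtype.val (hx.2 ⟨a, mem_sup_right ha⟩ ha)⟩))
    (hF.surj e.symm.toMonoidHom e.symm.surjective) fun p hp hd => by
      haveI := Fact.mk hp
      exact Transfer.hasNormalPComplement_of_mulEquiv (subgroupOfEquivOfLe le_sup_right).symm
        (hA p hp (Nat.card_congr e.toEquiv ▸ hd))
  exact solvable_of_surjective (f := e.toMonoidHom) e.surjective

/-- Let G be a finite group in which the symmetric group of degree 3 is not involved, and let π be the set of primes dividing the order of G. Let a finite group A act on G by automorphisms so that the identity is the only element of G fixed by every element of A, and suppose A has a nilpotent Hall π-subgroup and a normal π-complement (a normal subgroup whose order is divisible by no prime of π and whose index is divisible only by primes of π). Then G is solvable. -/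
theorem result {G A : Type*} [Group G] [Finite G]
    [Group A] [Finite A] (φ : A →* MulAut G) (hfpf : ∀ g : G, (∀ a : A, φ a g = g) → g = 1)
    (hS3 : ¬ Cfsg.Involves (Equiv.Perm (Fin 3)) G)
    (hHall : ∃ H : Subgroup A, Cfsg.IsPiHall {r : ℕ | r.Prime ∧ r ∣ Nat.card G} H ∧ Group.IsNilpotent H)
    (hcomp : ∃ K : Subgroup A, K.Normal ∧ (∀ r : ℕ, r.Prime → r ∣ Nat.card K → ¬ r ∣ Nat.card G) ∧
      ∀ r : ℕ, r.Prime → r ∣ K.index → r ∣ Nat.card G) :
    Group.IsSolvable G := by
  obtain ⟨H, hH, hnil⟩ := hHall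
  obtain ⟨K, _, h1, h2⟩ := hcomp
  haveI : Finite (G ⋊[φ] A) := Finite.of_equiv _ SemidirectProduct.equivProd.symm
  have e := MonoidHom.ofInjective (SemidirectProduct.inl_injective (φ := φ))
  have e' := MonoidHom.ofInjective (SemidirectProduct.inr_injective (φ := φ))
  have hs : Function.Surjective ((QuotientGroup.mk' K).comp H.subtype) := by
    rw [← MonoidHom.range_eq_top, MonoidHom.range_comp, range_subtype, ← index_eq_one]
    by_contra h
    obtain ⟨r, hr, hd⟩ := Nat.exists_prime_and_dvd h
    exact hH.2 r hr ⟨hr, h2 r hr (hd.trans (index_dvd_card _))⟩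
      (hd.trans (index_map_dvd _ (QuotientGroup.mk'_surjective K)))
  haveI := Group.nilpotent_of_surjective _ hs
  haveI := main _ (G ⋊[φ] A) SemidirectProduct.inl.range SemidirectProduct.inr.range rfl
    (by rw [SemidirectProduct.range_inl_eq_ker_rightHom, normalizer_eq_top]; exact le_top)
    ((eq_bot_iff_forall _).2 (by
      rintro _ ⟨⟨g, rfl⟩, hg⟩
      rw [hfpf g fun a => SemidirectProduct.inl_injective (φ := φ) (by
        rw [SemidirectProduct.inl_aut, hg _ ⟨a, rfl⟩, map_inv, mul_inv_cancel_right]), map_one]))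
    ((f3_of hS3).surj e.toMonoidHom e.surjective) fun p hp hd => by
      haveI := Fact.mk hp
      exact Transfer.hasNormalPComplement_of_mulEquiv e' (Transfer.hasNormalPComplement_of_quotient K
        (fun h => h1 p hp h (Nat.card_congr e.toEquiv ▸ hd))
        Transfer.hasNormalPComplement_of_isNilpotent)
  exact solvable_of_surjective (f := e.symm.toMonoidHom) e.symm.surjective

end Cfsg.Agent.S4041
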