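import Mathlib
import Cfsg.Statements.S4044
import Cfsg.Agent.SW.Hall

set_option autoImplicit false
open Cfsg

namespace Cfsg.Agent.S4044

/-- For an integer m ≥ 2 the following are equivalent: (a) every finite group whose order n is divisible by m with gcd(m, n/m) = 1 has a subgroup of order m; (b) m is a prime power, or m ≡ 2 (mod 4), or m ∈ {12, 24, 60}. -/
theorem result (m : ℕ) (hm : 2 ≤ m) :
    (∀ (G : Type) [Group G] [Finite G], m ∣ Nat.card G → m.Coprime (Nat.card G / m) →
        ∃ H : Subgroup G, Nat.card H = m) ↔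
    (IsPrimePow m ∨ m % 4 = 2 ∨ m = 12 ∨ m = 24 ∨ m = 60) := by
  refine ⟨fun h => by_contra fun hn => ?_, fun h G _ _ h1 h2 => ?_⟩
  · simp only [not_or] at hn
    obtain ⟨hp, h4, hn⟩ := hn
    have pm := Nat.minFac_prime (show m ≠ 1 by omega)
    have e := Nat.ordProj_mul_ordCompl_eq_self m m.minFac
    have c := Nat.coprime_ordCompl pm (show m ≠ 0 by omega)
    have v : 0 < m.factorization m.minFac := pm.factorization_pos_of_dvd (by omega) m.minFac_dvd
    have ob : Odd (ordCompl[m.minFac] m) := Nat.odd_iff.2 (by_contra fun k => by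
      have d : 2 ∣ ordCompl[m.minFac] m := by omega
      have := (Nat.minFac_eq_two_iff m).2 (d.trans (Nat.ordCompl_dvd _ _))
      exact (Nat.prime_two.coprime_iff_not_dvd.1 (this ▸ c)) (this ▸ d))
    have := SW.counter (a := ordProj[m.minFac] m) (b := ordCompl[m.minFac] m) (c.pow_left _)
      (Nat.one_lt_pow v.ne' pm.one_lt) (by
        by_contra k
        have := Nat.ordCompl_pos m.minFac (show m ≠ 0 by omega)
        rw [show ordCompl[m.minFac] m = 1 by omega, mul_one] at e
        exact hp ⟨_, _, pm.prime, v, e⟩) ob (by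
        by_cases k : 2 ∣ m
        · exact .inr ((Nat.Coprime.pow_left 2 (Nat.coprime_two_left.2 ob)).dvd_of_dvd_mul_right (by rw [e]; omega))
        · exact .inl (Nat.odd_iff.2 (by
            have := mt (fun d => Dvd.dvd.trans d (Nat.ordProj_dvd m m.minFac)) k
            omega))) (by rw [e]; exact fun G _ _ k => h G k.1 k.2)
    rw [e] at this
    tauto
  have E : SW.Ex m G := ⟨h1, h2⟩
  rcases h with h | h | rfl | rfl | rfl
  · obtain ⟨p, k, hp, -, rfl⟩ := (isPrimePow_nat_iff m).1 h
    have := Fact.mk hp
    exact Sylow.exists_subgroup_card_pow_prime p h1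
  · exact E.solv' (by_contra fun k => E.nd (a := 2) (k := m / 2) Nat.prime_two (by omega) dvd_rfl (by omega)
      (Nat.Coprime.pow_left 2 (Nat.coprime_two_left.2 (Nat.odd_iff.2 (by omega)))) (SW.four_dvd k))
  · have := E.nd (a := 4) (k := 3) Nat.prime_two rfl (by norm_num) (by norm_num) (by norm_num)
    exact E.six (by omega) (E.nd (a := 3) (k := 4) Nat.prime_three rfl (by norm_num) (by norm_num) (by norm_num))
      (by norm_num)
  · exact E.six (E.nd (a := 8) (k := 3) Nat.prime_two rfl (by norm_num) (by norm_num) (by norm_num))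
      (E.nd (a := 3) (k := 8) Nat.prime_three rfl (by norm_num) (by norm_num) (by norm_num)) (by norm_num)
  · exact SW.sixty G E

end Cfsg.Agent.S4044
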