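import Mathlib
import Cfsg.Statements.S4045
import Cfsg.Agent.FGS.Homog2
import Cfsg.Agent.FGS.S3In
import Cfsg.Agent.FGS.S4G
import Cfsg.Agent.Perm.Small
import Cfsg.Agent.Core.Coprime2
import Cfsg.Agent.S0331

set_option autoImplicit false
open Cfsg

namespace Cfsg.Agent.S4045

open Subgroup Cfsg.Agent.FGS

theorem simple_case {G : Type*} [Group G] [Finite G] [IsSimpleGroup G] {π : Set ℕ}
    (hodd : ∀ p ∈ π, p.Prime ∧ p ≠ 2) (hn : ¬ IsMulCommutative G) (h3 : ¬ 3 ∣ Nat.card G)
    (hh : Homog π G) : PiClosed π G := by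
  classical
  by_cases hex : ∃ p, p ∈ π ∧ p ∣ Nat.card G
  swap
  · push Not at hex
    exact piClosed_of_normal (K := ⊤) (fun p _ hd hp => hex p hp (by simpa using hd))
      (fun p hp hd => absurd (by simpa using hd) hp.ne_one)
  exfalso
  obtain ⟨hπ, hd⟩ := Nat.find_spec hex
  have hmin := fun r => @Nat.find_min _ _ hex r
  set p := Nat.find hex
  haveI := Fact.mk (hodd p hπ).1
  obtain ⟨F, _, _, m, hm, hF, ⟨e⟩⟩ := sz_of_gold hn (gold_s4 hn (not_involves_of_three h3)) h3
  have e' := e.trans (RankOne.Sz.lieEquiv hF hm)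
  obtain ⟨P⟩ : Nonempty (Sylow p G) := inferInstance
  have hP : IsCyclic P := by
    have h1 : IsCyclic ((P : Subgroup G).map (e' : G →* Cfsg.Sz F m)) := S0331.result hm hF
      (hodd p hπ).2 (P.mapSurjective (f := e'.toMonoidHom) e'.surjective)
    exact isCyclic_of_surjective _ (e'.subgroupMap (P : Subgroup G)).symm.surjective
  refine Perm.relIndex_centralizer_ne_one hn P hd ?_
  have key := card_dvd_of_injective _ (QuotientGroup.kerLift_injective P.normalizerMonoidHom)
  rw [normalizerMonoidHom_ker, ← index, ← relIndex] at key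
  obtain ⟨k, hk⟩ := P.2.exists_card_eq
  by_contra hne
  obtain ⟨r, hr, hrd⟩ := Nat.exists_prime_and_dvd hne
  have hrp : r ≠ p := by
    rintro rfl
    exact P.not_dvd_index ((hrd.trans (relIndex_dvd_of_le_left _ P.le_centralizer)).trans
      (relIndex_dvd_index_of_le P.le_normalizer))
  have hrG : r ∣ Nat.card G := (hrd.trans (relIndex_dvd_card ..)).trans (card_subgroup_dvd_card _)
  have hlt : r < p := by
    have h1 := hrd.trans key
    rcases eq_zero_or_pos k with h0 | h0
    · rw [hP.card_mulAut, hk, h0, pow_zero, Nat.totient_one] at h1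
      exact absurd (Nat.dvd_one.1 h1) hr.ne_one
    rw [hP.card_mulAut, hk, Nat.totient_prime_pow Fact.out h0] at h1
    rcases (Nat.Prime.dvd_mul hr).1 h1 with h1 | h1
    · exact absurd ((Nat.prime_dvd_prime_iff_eq hr Fact.out).1 (hr.dvd_of_dvd_pow h1)) hrp
    · have := (hodd p hπ).1.two_le
      have := Nat.le_of_dvd (by omega) h1
      omega
  exact Core.not_dvd_relIndex_of_forall_isPGroup_le hr (fun R hR hR' =>
    hh P (IsPi.of_pgroup Fact.out hπ P.isPGroup') r hr (fun h => hmin r hlt ⟨h, hrG⟩) R hR' hR) hrd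

/-- Let π be a set of odd primes and G a finite group of order prime to 3 that is π-homogeneous: N_G(H)/C_G(H) is a π-group for every nontrivial π-subgroup H of G. Then the π'-elements of G (elements whose order is divisible by no prime of π) form a subgroup. -/
theorem result {G : Type*} [Group G] [Finite G] (π : Set ℕ)
    (hodd : ∀ p ∈ π, p.Prime ∧ p ≠ 2) (h3 : ¬ 3 ∣ Nat.card G)
    (hhom : (∀ H : Subgroup G, H ≠ ⊥ → (∀ p : ℕ, p.Prime → p ∣ Nat.card ↥H → p ∈ π) →
        ∀ p : ℕ, p.Prime → p ∣ (Subgroup.centralizer (H : Set G)).relIndex (Subgroup.normalizer (H : Set G)) → p ∈ π)) :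
    (∃ K : Subgroup G, ∀ x : G, x ∈ K ↔ ∀ p : ℕ, p.Prime → p ∣ orderOf x → p ∉ π) := by
  exact FGS.piClosed_induction (π := π) (fun X _ => ¬ 3 ∣ Nat.card X)
    (fun X _ _ H h hd => h (hd.trans (Subgroup.card_subgroup_dvd_card H)))
    (fun X _ _ N _ h hd => h (hd.trans N.card_quotient_dvd_card))
    (fun X _ _ _ hn h hh _ => simple_case hodd hn h hh) G h3 (FGS.homog_of hhom)

end Cfsg.Agent.S4045
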