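import Mathlib
import Cfsg.Statements.S4047
import Cfsg.Agent.SW.PiHom

set_option autoImplicit false
open Cfsg

namespace Cfsg.Agent.S4047

/-- Let π be a set of odd primes and G a finite group whose Sylow 2-subgroups are dihedral or abelian. If N_G(H)/C_G(H) is a π-group for every nontrivial π-subgroup H of G, then the π'-elements of G form a subgroup. -/
theorem result {G : Type*} [Group G] [Finite G] (π : Set ℕ)
    (hodd : ∀ p ∈ π, p.Prime ∧ p ≠ 2) (h2 : ∀ S : Sylow 2 G, IsMulCommutative S ∨ ∃ n : ℕ, Nonempty ((S : Subgroup G) ≃* DihedralGroup n))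
    (hhom : (∀ H : Subgroup G, H ≠ ⊥ → (∀ p : ℕ, p.Prime → p ∣ Nat.card ↥H → p ∈ π) →
        ∀ p : ℕ, p.Prime → p ∣ (Subgroup.centralizer (H : Set G)).relIndex (Subgroup.normalizer (H : Set G)) → p ∈ π)) :
    (∃ K : Subgroup G, ∀ x : G, x ∈ K ↔ ∀ p : ℕ, p.Prime → p ∣ orderOf x → p ∉ π) := by
  have := Fact.mk Nat.prime_two
  obtain ⟨S⟩ : Nonempty (Sylow 2 G) := inferInstance
  exact FGS.piClosed_induction (π := π) (fun X _ => PLocal.AbelianTwo X ∨ SW.PhD X)
    (fun X _ _ H h => h.imp (fun k => k.subgroup H) fun k => k.sub H)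
    (fun X _ _ N _ h => h.imp (fun k => k.quotient N) fun k => k.map _ (QuotientGroup.mk'_surjective N))
    (fun X _ _ _ hn h hh _ => SW.ph_simple hodd hh hn h) G
    ((h2 S).imp (PLocal.AbelianTwo.of_sylow S) fun ⟨_, ⟨e⟩⟩ => SW.PhD.of_sylow S e) (FGS.homog_of hhom)

end Cfsg.Agent.S4047
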