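import Mathlib
import Cfsg.Statements.S4049
import Cfsg.Agent.S3861

set_option autoImplicit false
open Cfsg

namespace Cfsg.Agent.S4049

open Subgroup

/-- Let G be a finite group such that N_G(H)/C_G(H) has odd order for every nontrivial subgroup H of odd order. Then the Sylow 2-subgroups of G are normal. -/
theorem result {G : Type*} [Group G] [Finite G]
    (hhom : ∀ H : Subgroup G, H ≠ ⊥ → ¬ 2 ∣ Nat.card ↥H →
        ¬ 2 ∣ (Subgroup.centralizer (H : Set G)).relIndex (Subgroup.normalizer (H : Set G))) (P : Sylow 2 G) :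
    (P : Subgroup G).Normal := by
  refine (S3861.result P).mp fun x hx1 hxo hc => ?_
  obtain ⟨g, hg⟩ := isConj_iff.mp hc
  have hgn : g ∈ normalizer ((zpowers x : Subgroup G) : Set G) := by
    refine Transfer.mem_normalizer_of_conj_mem fun y hy => ?_
    obtain ⟨k, rfl⟩ := mem_zpowers_iff.mp hy
    rw [← conj_zpow, hg]
    exact zpow_mem (inv_mem (mem_zpowers x)) k
  have h1 := hhom (zpowers x) (by simpa using hx1) (by rw [Nat.card_zpowers]; exact hxo.not_two_dvd_nat)
  have h2 := ((centralizer ((zpowers x : Subgroup G) : Set G)).subgroupOf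
    (normalizer ((zpowers x : Subgroup G) : Set G))).pow_index_mem ⟨g, hgn⟩
  rw [mem_subgroupOf, ← relIndex] at h2
  obtain ⟨m, hm⟩ := Nat.odd_iff.mpr (Nat.two_dvd_ne_zero.mp h1)
  have h3 : g ^ 2 * x = x * g ^ 2 :=
    calc g ^ 2 * x = g * (g * x * g⁻¹) * g := by rw [pow_two]; group
      _ = g * x⁻¹ * g := by rw [hg]
      _ = (g * x * g⁻¹)⁻¹ * g ^ 2 := by rw [pow_two]; group
      _ = x * g ^ 2 := by rw [hg, inv_inv]
  have h4 : g ^ (2 * m + 1) ∈ centralizer ({x} : Set G) := by
    rw [← hm]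
    exact centralizer_le (by simp) h2
  rw [pow_succ, pow_mul] at h4
  have h5 := mem_centralizer_singleton_iff.mp ((Subgroup.mul_mem_cancel_left _
    (pow_mem (mem_centralizer_singleton_iff.mpr h3) m)).mp h4)
  rw [h5, mul_inv_cancel_right] at hg
  have h6 : x ^ 2 = 1 := by rw [pow_two]; nth_rewrite 1 [hg]; simp
  exact hx1 (orderOf_eq_one_iff.mp (Nat.eq_one_of_dvd_coprimes (Nat.coprime_two_right.mpr hxo) dvd_rfl
    (orderOf_dvd_of_pow_eq_one h6)))

end Cfsg.Agent.S4049
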