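import Mathlib
import Cfsg.Statements.S4064
import Cfsg.Agent.CIT.F6
import Cfsg.Agent.S1476
import Cfsg.Agent.S0205
import Cfsg.Agent.Perm.Socle
import Cfsg.Agent.BG.AmbCent
import Cfsg.Agent.RankOne.SzLie

set_option autoImplicit false
open Cfsg

namespace Cfsg.Agent.S4064

open Subgroup
open scoped Pointwise

/-- elementwise form of the hypothesis -/
def CTI (G : Type*) [Group G] : Prop :=
  ∀ x g y : G, y ≠ 1 → y * x = x * y → (g * y * g⁻¹) * x = x * (g * y * g⁻¹) →
    ∀ c, c * x = x * c → (g * c * g⁻¹) * x = x * (g * c * g⁻¹)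

theorem cti_of {G : Type*} [Group G]
    (h : ∀ x : G, Cfsg.IsTISubset (centralizer ({x} : Set G) : Set G)) : CTI G := by
  intro x g y hy h1 h2 c hc
  by_cases hg : g ∈ normalizer (centralizer ({x} : Set G) : Set G)
  · exact mem_centralizer_singleton_iff.1
      ((mem_normalizer_iff.1 hg c).1 (mem_centralizer_singleton_iff.2 hc))
  · exact absurd (h x g hg y (mem_centralizer_singleton_iff.2 h1)
      (mem_centralizer_singleton_iff.2 h2)) hy

theorem CTI.of_inj {G H : Type*} [Group G] [Group H] (h : CTI G) (f : H →* G)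
    (hf : Function.Injective f) : CTI H := by
  intro x g y hy h1 h2 c hc
  apply hf
  have := h (f x) (f g) (f y) (fun e => hy (hf (by rw [e, map_one])))
    (by rw [← map_mul, h1, map_mul]) (by simpa only [map_mul, map_inv] using congrArg f h2) (f c)
    (by rw [← map_mul, hc, map_mul])
  simpa only [map_mul, map_inv] using this

theorem nil_of_engel {H : Type*} [Group H] [Finite H]
    (h : ∀ y g : H, (g * y * g⁻¹) * y = y * (g * y * g⁻¹)) : Group.IsNilpotent H := by
  rw [← Core.fitting_eq_top_iff, eq_top_iff]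
  intro y _
  have hc : IsMulCommutative (normalClosure ({y} : Set H)) := by
    refine isMulCommutative_closure fun a ha b hb => ?_
    obtain ⟨a', ha1, ha2⟩ := Group.mem_conjugatesOfSet_iff.1 ha
    obtain ⟨b', hb1, hb2⟩ := Group.mem_conjugatesOfSet_iff.1 hb
    rw [Set.mem_singleton_iff.1 ha1] at ha2
    rw [Set.mem_singleton_iff.1 hb1] at hb2
    obtain ⟨g, rfl⟩ := isConj_iff.1 ha2
    obtain ⟨k, rfl⟩ := isConj_iff.1 hb2
    have := h y (k⁻¹ * g)
    calc g * y * g⁻¹ * (k * y * k⁻¹) = k * (k⁻¹ * g * y * (k⁻¹ * g)⁻¹ * y) * k⁻¹ := by group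
      _ = k * (y * (k⁻¹ * g * y * (k⁻¹ * g)⁻¹)) * k⁻¹ := by rw [this]
      _ = _ := by group
  exact Core.le_fitting_of_isMulCommutative inferInstance hc (subset_normalClosure rfl)

theorem CTI.cn {G : Type*} [Group G] [Finite G] (h : CTI G) : Cfsg.IsCNGroup G := by
  intro x hx
  refine nil_of_engel fun y g => Subtype.ext ?_
  have hy := mem_centralizer_singleton_iff.1 y.2
  have hg := mem_centralizer_singleton_iff.1 g.2
  have e : (g : G) * x * (g : G)⁻¹ = x := by rw [hg]; group
  exact h y g x hx hy.symm (by rw [e]; exact hy.symm) y rfl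

theorem CTI.sylow {G : Type*} [Group G] [Finite G] (h : CTI G) {p : ℕ} [Fact p.Prime]
    (P : Sylow p G) {y g : G} (hy : y ∈ P) (hy1 : y ≠ 1) (hg : g * y * g⁻¹ ∈ P) :
    ∀ c ∈ P, g * c * g⁻¹ ∈ P := by
  haveI : Nontrivial (P : Subgroup G) := ⟨⟨⟨y, hy⟩, 1, fun e => hy1 (congrArg Subtype.val e)⟩⟩
  haveI := IsPGroup.center_nontrivial P.isPGroup'
  obtain ⟨⟨⟨z, hzP⟩, hz⟩, hz1⟩ := exists_ne (1 : center (P : Subgroup G))
  have hz1' : z ≠ 1 := fun e => hz1 (Subtype.ext (Subtype.ext e))
  have hzc : ∀ c ∈ P, c * z = z * c := fun c hc =>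
    congrArg Subtype.val (mem_center_iff.1 hz ⟨c, hc⟩)
  have hle : (P : Subgroup G) ≤ centralizer ({z} : Set G) := fun c hc =>
    mem_centralizer_singleton_iff.2 (hzc c hc)
  haveI := h.cn z hz1'
  intro c hc
  have hm : g * c * g⁻¹ ∈ centralizer ({z} : Set G) :=
    mem_centralizer_singleton_iff.2 (h z g y hy1 (hzc y hy) (hzc _ hg) c (hzc c hc))
  have h1 := Core.pCore_eq_sylow_of_nilpotent (P.subtype hle)
  have h2 : IsPGroup p (zpowers (⟨g * c * g⁻¹, hm⟩ : centralizer ({z} : Set G))) := by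
    obtain ⟨k, hk⟩ := P.isPGroup' ⟨c, hc⟩
    have hk' : c ^ p ^ k = 1 := congrArg Subtype.val hk
    have h3 : (⟨g * c * g⁻¹, hm⟩ : centralizer ({z} : Set G)) ^ p ^ k = 1 := by
      apply Subtype.ext
      change (g * c * g⁻¹) ^ p ^ k = 1
      rw [conj_pow, hk']; group
    obtain ⟨j, -, hj⟩ := (Nat.dvd_prime_pow (Fact.out : p.Prime)).1 (orderOf_dvd_of_pow_eq_one h3)
    exact IsPGroup.of_card (n := j) (by rw [Nat.card_zpowers, hj])
  have h4 := Core.le_pCore_of_le_fitting h2 (by
    rw [Core.fitting_eq_top_iff.2 inferInstance]; exact le_top)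
  rw [h1] at h4
  exact h4 (mem_zpowers _)

theorem CTI.normal {G : Type*} [Group G] [Finite G] (h : CTI G) {p : ℕ} [Fact p.Prime]
    (P : Sylow p G) (h0 : Cfsg.pCore p G ≠ ⊥) : (P : Subgroup G).Normal := by
  obtain ⟨⟨y, hy⟩, hy1⟩ := ne_bot_iff_exists_ne_one.1 h0
  have hy1' : y ≠ 1 := fun e => hy1 (Subtype.ext e)
  exact ⟨fun c hc g => h.sylow P (Core.pCore_le_sylow P hy) hy1'
    (Core.pCore_le_sylow P ((inferInstance : (Cfsg.pCore p G).Normal).conj_mem _ hy g)) c hc⟩

theorem CTI.ti2 {G : Type*} [Group G] [Finite G] (h : CTI G) : CIT.F.TI2 G := by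
  intro S T x hS hT hx
  obtain ⟨g, rfl⟩ := MulAction.exists_smul_eq G S T
  have h1 : g⁻¹ * x * g⁻¹⁻¹ ∈ S := by
    have := (Subgroup.mem_pointwise_smul_iff_inv_smul_mem).1
      (show x ∈ MulAut.conj g • (S : Subgroup G) from hT)
    have h5 : g⁻¹ * x * g⁻¹⁻¹ ∈ (S : Subgroup G) := by simpa using this
    exact h5
  have h2 := h.sylow S hS hx h1
  have h3 : (S : Subgroup G) ≤ (g • S : Sylow 2 G) := fun c hc =>
    (Subgroup.mem_pointwise_smul_iff_inv_smul_mem (a := MulAut.conj g)).2 (by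
      have h5 : g⁻¹ * c * g⁻¹⁻¹ ∈ (S : Subgroup G) := h2 c hc
      simpa using h5)
  exact Sylow.ext (S.is_maximal' (g • S).isPGroup' h3).symm

theorem CTI.not_sz {G : Type*} [Group G] (h : CTI G) : ¬ Cfsg.Lie.IsoSuzuki G := by
  rintro ⟨F, _, _, m, hm, hF, ⟨e⟩⟩
  obtain ⟨_, ⟨Z⟩⟩ := RankOne.Sz.exists_model_of_equiv_lie hF hm e
  obtain ⟨y, hy⟩ := Z.exists_θ_ne_self
  have hy0 : y ≠ 0 := by rintro rfl; exact hy (map_zero _)
  have h1 := h (Z.S 1 0) (Z.M (Units.mk0 y hy0)) (Z.S 0 1) (by simp [Z.S_eq_one_iff])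
    (Z.S_zero_comm _ _ _) (by rw [Z.M_conj_S, mul_zero]; exact Z.S_zero_comm _ _ _) (Z.S 1 0) rfl
  rw [Z.M_conj_S, Z.S_mul, Z.S_mul] at h1
  have := (Z.S_inj h1).2
  simp at this
  exact hy this

theorem CTI.not_q {n : ℕ} (hn : 2 ≤ n) : ¬ CTI (QuaternionGroup (2 ^ n)) := by
  intro h
  obtain ⟨N, hN, h4⟩ : ∃ N, N = 2 ^ n ∧ 4 ≤ N :=
    ⟨_, rfl, le_trans (by norm_num) (Nat.pow_le_pow_right (by norm_num) hn)⟩
  rw [← hN] at h
  have e : ((N : ZMod (2 * N))) + N = 0 := by
    have : ((2 * N : ℕ) : ZMod (2 * N)) = 0 := ZMod.natCast_self _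
    push_cast at this
    linear_combination this
  have hi : ∀ i : ZMod (2 * N), (QuaternionGroup.a i)⁻¹ = QuaternionGroup.a (-i) := fun _ => rfl
  have h1 := h (QuaternionGroup.xa 0) (QuaternionGroup.a 1) (QuaternionGroup.a N) (by
      rw [QuaternionGroup.one_def]
      intro h2
      have h3 := (ZMod.natCast_eq_zero_iff _ _).1 (QuaternionGroup.a.inj h2)
      have := Nat.le_of_dvd (by omega) h3
      omega)
    (by simp only [QuaternionGroup.a_mul_xa, QuaternionGroup.xa_mul_a]; congr 1; linear_combination -e)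
    (by
      simp only [hi, QuaternionGroup.a_mul_a, QuaternionGroup.a_mul_xa, QuaternionGroup.xa_mul_a]
      congr 1; linear_combination -e) _ rfl
  simp only [hi, QuaternionGroup.a_mul_xa, QuaternionGroup.xa_mul_a, QuaternionGroup.xa_mul_xa] at h1
  have h2 : ((4 : ℕ) : ZMod (2 * N)) = 0 := by
    have := QuaternionGroup.a.inj h1
    push_cast
    linear_combination this
  have := Nat.le_of_dvd (by omega) ((ZMod.natCast_eq_zero_iff _ _).1 h2)
  omega

/-- Let G be a finite group in which the centralizer of every element meets each of its conjugates by elements outside its normalizer trivially. Then G is nilpotent; or G is a Frobenius group with a complement that is cyclic or isomorphic to the direct product of a cyclic group of odd order and the quaternion group of order 8; or G is isomorphic to PSL₂(2ⁿ) for some n ≥ 2. -/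
theorem result {G : Type*} [Group G] [Finite G] (hTI : ∀ x : G, Cfsg.IsTISubset (Subgroup.centralizer ({x} : Set G) : Set G)) :
    Group.IsNilpotent G ∨
    (∃ H : Subgroup G, Cfsg.IsFrobeniusComplement H ∧
      (IsCyclic H ∨ ∃ m : ℕ, Odd m ∧ Nonempty (H ≃* Multiplicative (ZMod m) × QuaternionGroup 2))) ∨
    (∃ n : ℕ, 2 ≤ n ∧ Nonempty (G ≃* Matrix.ProjectiveSpecialLinearGroup (Fin 2) (GaloisField 2 n))) := by
  have h := cti_of hTI
  have hCN := h.cn
  by_cases hs : Group.IsSolvable G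
  · rcases S1476.result hCN with h1 | ⟨K, E, -, -, hE, h1⟩ | ⟨p, hp, h0, A, -, -, -, -, -, hne, ⟨n, hn⟩, -⟩
    · exact Or.inl h1
    · refine Or.inr (Or.inl ⟨E, hE, ?_⟩)
      rcases h1 with h1 | ⟨C, Q, rfl, hc, hC, ho, n, ⟨e⟩⟩
      · exact Or.inl h1
      have hQ : Nat.card Q = 2 ^ (n + 2) := by
        rw [Nat.card_congr e.toEquiv, Nat.card_eq_fintype_card, QuaternionGroup.card]; ring
      have hcop : (Nat.card C).Coprime (Nat.card Q) := by
        rw [hQ]; exact (Nat.coprime_two_right.2 ho).pow_right _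
      rcases n with _ | _ | n
      · left
        have : IsCyclic Q := by
          haveI : IsCyclic (QuaternionGroup (2 ^ 0)) := QuaternionGroup.quaternionGroup_one_isCyclic
          exact isCyclic_of_surjective e.symm.toMonoidHom e.symm.surjective
        exact BG.Amb.cyclic_sup_of_coprime hC this
          (fun a ha => mem_centralizer_iff.2 fun b hb => (hc a ha b hb).symm) hcop
      · right
        obtain ⟨e1⟩ := Perm.nonempty_sup_equiv_prod (Subgroup.disjoint_of_coprime_natCard hcop).eq_bot hc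
        exact ⟨Nat.card C, ho, ⟨e1.trans (MulEquiv.prodCongr (zmodCyclicMulEquiv hC).symm e)⟩⟩
      · exact absurd (h.of_inj (Q.subtype.comp e.symm.toMonoidHom)
          (Q.subtype_injective.comp e.symm.injective)) (CTI.not_q (by omega))
    · exfalso
      haveI := Fact.mk hp
      obtain ⟨P⟩ := (inferInstance : Nonempty (Sylow p G))
      have h1 := Core.pCore_eq_sylow_of_normal P (h.normal P h0)
      have h2 : p ^ n ∣ (P : Subgroup G).index := by
        rw [← hn, ← h1]; exact index_dvd_of_le le_sup_left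
      rcases n with _ | n
      · exact hne (index_eq_one.1 (by simpa using hn))
      · exact P.not_dvd_index ((dvd_pow_self p n.succ_ne_zero).trans h2)
  · have h2 := CIT.F.ord2_of_cn hCN hs
    have h0 : Cfsg.pCore 2 G = ⊥ := by
      by_contra h0
      obtain ⟨P⟩ := (inferInstance : Nonempty (Sylow 2 G))
      haveI := h.normal P h0
      haveI : Group.IsSolvable (G ⧸ (P : Subgroup G)) := S0205.result (by
        rw [← Nat.not_even_iff_odd, even_iff_two_dvd]; exact P.not_dvd_index)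
      haveI := CIT.F.solv_two P.isPGroup'
      exact hs (Group.isSolvable_of_ker_le_range (P : Subgroup G).subtype
        (QuotientGroup.mk' (P : Subgroup G)) (by simp))
    obtain ⟨N, _, _, hn, hq, ht⟩ := h2.exists_socle hs h0
    obtain ⟨H, hH⟩ := (h.ti2.sub N).se hn
    rcases CIT.F.lst_of_se (h2.sub N) hH with h3 | h3
    · have h4 := CIT.F.top_of_l2e h2 hq ht h3
      subst h4
      obtain ⟨F, _, _, n, hn2, hF, ⟨e⟩⟩ := h3
      haveI := Fintype.ofFinite (GaloisField 2 n)
      refine Or.inr (Or.inr ⟨n, hn2, ?_⟩)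
      refine CIT.F.L2.iso (q := 2 ^ n) ⟨F, _, _, hF, ⟨topEquiv.symm.trans e⟩⟩ ?_
      rw [← Nat.card_eq_fintype_card, GaloisField.card 2 n (by omega)]
    · exact absurd h3 (h.of_inj N.subtype N.subtype_injective).not_sz

end Cfsg.Agent.S4064
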