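import Mathlib
import Cfsg.Statements.S4068
import Cfsg.Agent.CIT.F7

set_option autoImplicit false
open Cfsg

namespace Cfsg.Agent.S4068


/-- A finite non-solvable group on which its automorphism group has exactly four orbits is isomorphic to the alternating group of degree 5. -/
theorem result {G : Type*} [Group G] [Finite G] (hns : ¬ Group.IsSolvable G)
    (h4 : Nat.card (MulAction.orbitRel.Quotient (MulAut G) G) = 4) : Nonempty (G ≃* alternatingGroup (Fin 5)) := by
  obtain ⟨s, hs, hs3⟩ := Finset.exists_subset_card_eq (CIT.F.three_primes hns)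
  have hsp : ∀ r ∈ s, r.Prime := fun r hr => Nat.prime_of_mem_primeFactors (hs hr)
  have h1 : ∀ g : G, g ≠ 1 → (orderOf g).Prime := fun g hg => by
    by_contra h2
    have h3 : orderOf g ≠ 1 := fun h => hg (orderOf_eq_one_iff.1 h)
    have := CIT.F.card_le_orbits (G := G) (insert (orderOf g) (insert 1 s)) fun k hk => by
      rcases Finset.mem_insert.1 hk with rfl | hk
      · exact ⟨g, rfl⟩
      rcases Finset.mem_insert.1 hk with rfl | hk
      · exact ⟨1, orderOf_one⟩
      · exact CIT.F.exists_prime_order (hsp k hk) (Nat.dvd_of_mem_primeFactors (hs hk))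
    rw [Finset.card_insert_of_notMem, Finset.card_insert_of_notMem] at this
    · omega
    · exact fun h => Nat.not_prime_one (hsp 1 h)
    · intro h
      rcases Finset.mem_insert.1 h with h | h
      · exact h3 h
      · exact h2 (hsp _ h)
  have h' : CIT.F.Epp G := fun g hg => (h1 g hg).isPrimePow
  have no : ∀ k : ℕ, k = 4 ∨ k = 8 ∨ k = 9 → ¬ ∃ g : G, orderOf g = k := by
    rintro k hk ⟨g, hg⟩
    have h2 : g ≠ 1 := by
      rintro rfl
      rw [orderOf_one] at hg
      omega
    have h3 := h1 g h2
    rw [hg] at h3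
    rcases hk with rfl | rfl | rfl <;> exact absurd h3 (by norm_num)
  have hO : Cfsg.pCore 2 G = ⊥ := by
    by_contra hO
    exact no 4 (Or.inl rfl) (h'.ord2.exists_four hns hO)
  rcases CIT.F.eppo_struct h' hns with h2 | h2 | h2 | h2 | ⟨-, h2 | h2 | h2 | h2 | h2⟩
  · exact CIT.F.L2.a5 (Or.inl (h2.equiv
      ((QuotientGroup.quotientMulEquivOfEq hO).trans QuotientGroup.quotientBot)))
  · exact absurd (CIT.F.exists_dvd_of_quot (CIT.F.L2.ord_even (n := 3) h2 (by norm_num)
      (by norm_num))) (no 9 (by norm_num))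
  · exact absurd (CIT.F.exists_dvd_of_quot (h2.ord (by norm_num) (by norm_num))) (no 4 (by norm_num))
  · exact absurd (CIT.F.exists_dvd_of_quot (h2.ord (by norm_num) (by norm_num))) (no 4 (by norm_num))
  · exact absurd (CIT.F.L2.ord_odd (c := 3) h2 (by norm_num) (by norm_num)) (no 4 (by norm_num))
  · exact absurd (CIT.F.L2.ord_odd (c := 8) h2 (by norm_num) (by norm_num)) (no 9 (by norm_num))
  · exact absurd (CIT.F.L2.ord_odd (c := 4) h2 (by norm_num) (by norm_num)) (no 4 (by norm_num))
  · exact absurd (h2.ord (by norm_num)) (no 4 (by norm_num))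
  · obtain ⟨-, -, -, -, -, h3⟩ := h2
    exact absurd h3 (no 8 (by norm_num))

end Cfsg.Agent.S4068
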