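import Mathlib
import Cfsg.Statements.S4073
import Cfsg.Agent.FGS.SelfN
import Cfsg.Agent.FGS.BHM
import Cfsg.Agent.FGS.Basic2
import Cfsg.Agent.S0205
import Cfsg.Agent.Perm.Small3
import Cfsg.Agent.Classical.PSL2Basic
import Cfsg.Agent.Classical.Congr

set_option autoImplicit false
open Cfsg

namespace Cfsg.Agent.S4073

open Subgroup Cfsg.Agent.FGS Cfsg.Agent.Classical Cfsg.Agent.LocalEven Cfsg.Agent.Classical.SL2Basic
open scoped MatrixGroups

theorem borel {B : Type*} [Group B] [Finite B] {U H : Subgroup B} [U.Normal] (hU : U ≤ centralizer (U : Set B)) (hr : U.index.Prime)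
    (hc : Nat.card U = U.index + 1) (hH : ¬ IsMulCommutative H) : H = ⊤ := by
  have h1 := FGS.isCoatom_of_index_prime hr
  have h2 : ¬ H ≤ U := fun e => hH (le_centralizer_iff_isMulCommutative.mp ((e.trans hU).trans (centralizer_le e)))
  have h3 := sup_eq_top_of_isCoatom h1 h2
  have h4 : (H ⊓ U).Normal := normalizer_eq_top_iff.mp (eq_top_iff.mpr (h3.ge.trans (sup_le
    ((hU.trans (centralizer_le inf_le_right)).trans (centralizer_le_normalizer _))
    (le_normalizer_inf le_normalizer (le_top.trans (normalizer_eq_top U).ge)))))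
  obtain ⟨k, hk, hk'⟩ : ∃ k ∈ H ⊓ U, k ∉ centralizer (H : Set B) := by
    by_contra! e
    exact hH (Core.isMulCommutative_of_relIndex_prime inf_le_left e (by
      rwa [inf_relIndex_left, ← Core.index_eq_relIndex_of_sup_eq_top h3]))
  have h5 : centralizer {k} = U := by
    by_contra e
    exact hk' fun y _ => mem_centralizer_singleton_iff.mp ((h1.2 _ (lt_of_le_of_ne (fun u hu =>
      mem_centralizer_singleton_iff.mpr (hU hk.2 u hu)) (Ne.symm e))).ge (mem_top y))
  have h6 := Set.ncard_le_ncard (show insert 1 {b | IsConj k b} ⊆ (H ⊓ U : Subgroup B) by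
    rintro b (rfl | hb)
    · exact one_mem _
    · obtain ⟨c, rfl⟩ := isConj_iff.mp hb
      exact h4.conj_mem _ hk c)
  rw [Set.ncard_insert_of_notMem fun e => hk' (by rw [isConj_one_left.mp e]; exact one_mem _), ncard_isConj, h5, ← hc] at h6
  rw [← h3, sup_eq_right.mpr ((eq_of_le_of_card_ge inf_le_right h6).ge.trans inf_le_left)]

theorem dih {N : Type*} [Group N] [Finite N] (h : P1Class.IsDih 2 N) {H : Subgroup N} [hn : H.Normal] (hH : ¬ IsMulCommutative H) : H = ⊤ := by
  obtain ⟨D, h1, h2, h3, h4⟩ := h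
  have h5 : ¬ H ≤ D := fun e => hH (le_centralizer_iff_isMulCommutative.mp ((e.trans D.le_centralizer).trans (centralizer_le e)))
  obtain ⟨t, ht, ht'⟩ := SetLike.not_le_iff_exists.mp h5
  rw [← sup_eq_top_of_isCoatom (FGS.isCoatom_of_index_prime (h2 ▸ Nat.prime_two)) h5, eq_comm, sup_eq_right]
  intro d hd
  have a1 := h4 (d * t) fun e => ht' ((mul_mem_cancel_left hd).mp e)
  have a2 : d ^ 2 ∈ H := by
    have := mul_mem (hn.conj_mem t ht d) ht
    rwa [show d * t * d⁻¹ * t = d ^ 2 by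
      calc _ = d * (t * t) * (d * t * (d * t))⁻¹ * d * (t * t) := by group
        _ = _ := by rw [a1, h4 t ht']; simp [pow_two]] at this
  have a3 : (orderOf d).Coprime 2 := ((Nat.Prime.coprime_iff_not_dvd Nat.prime_two).mpr fun e => by
    have := orderOf_pow_orderOf_div (orderOf_pos d).ne' e
    rw [h3 _ (pow_mem hd _) (orderOf_dvd_iff_pow_eq_one.mp this.dvd)] at this
    simp at this).symm
  exact zpowers_le.mpr a2 (mem_zpowers_pow_iff.mpr a3.symm)

theorem psl_selfN {F : Type*} [Field F] [Finite F] [CharP F 2] {n : ℕ} (hF : Nat.card F = 2 ^ n) (hr : (2 ^ n - 1).Prime)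
    [IsSimpleGroup PSL(2, F)] : SelfN PSL(2, F) := fun H hH => by
  have : Fact (Nat.Prime 2) := ⟨Nat.prime_two⟩
  refine le_antisymm ?_ le_normalizer
  set N := normalizer (H : Set PSL(2, F))
  have h0 : ∀ K, H ≤ K → ¬ IsMulCommutative (H.subgroupOf K) := fun K hK e => hH ⟨⟨fun a b => Subtype.ext
    (congrArg (fun x : H.subgroupOf K => (x.1 : PSL(2, F))) (e.is_comm.comm ⟨⟨a, hK a.2⟩, a.2⟩ ⟨⟨b, hK b.2⟩, b.2⟩))⟩⟩
  have hρ : Function.Injective (PSL2Basic.toP.comp N.subtype) := PSL2Basic.toP_injective.comp N.subtype_injective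
  obtain ⟨-, hn⟩ := Nat.prime_of_pow_sub_one_prime (by rintro rfl; exact absurd hr (by decide)) hr
  have hg : Nat.gcd 2 (Nat.card F - 1) = 1 := hF ▸ Nat.coprime_two_left.mpr (Nat.Even.sub_odd Nat.one_le_two_pow
    (Nat.even_pow.mpr ⟨even_two, hn.ne_zero⟩) odd_one)
  have hc := SLBasic.card_PSL_two (F := F)
  rw [hg, one_mul] at hc
  by_cases h2 : 2 ∣ Nat.card N
  · rcases P1Inst.wild_of_injective _ hρ h2 with h | ⟨-, h⟩ | ⟨h, -⟩ | h
    · obtain ⟨P⟩ : Nonempty (Sylow 2 N) := inferInstance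
      have := (Nat.card_eq_one_iff_unique.mp h).1
      have := P.normal_of_subsingleton
      obtain ⟨U, hU⟩ := (P.2.map N.subtype).exists_le_sylow
      obtain ⟨c, hc1, hc2⟩ := (Borel2.isRootSylow_PSL (F := F) 2).exists_of U
      have a1 : N ≤ normalizer ((U : Subgroup PSL(2, F)) : Set PSL(2, F)) := fun g hg => Sylow.smul_eq_iff_mem_normalizer.mp (by_contra fun e =>
        P.ne_bot_of_dvd_card h2 ((Subgroup.map_eq_bot_iff_of_injective _ N.subtype_injective).mp (eq_bot_iff.mpr
          ((le_inf (by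
            rw [sylow_smul_coe, ← cj_eq_of_mem_normalizer (H := (P : Subgroup N).map N.subtype) (le_normalizer_map _
              ⟨⟨g, hg⟩, (normalizer_eq_top _).ge (mem_top _), rfl⟩)]
            exact cj_mono g hU) hU).trans (hc2.inf_eq_bot e).le))))
      have a2 : IsMulCommutative (U : Subgroup PSL(2, F)) := by
        rw [hc1, sylow_smul_coe]
        refine isMulCommutative_cj c ⟨⟨fun a b => Subtype.ext ?_⟩⟩
        obtain ⟨x, hx⟩ := (Borel2.mem_sylPSL 2).mp a.2
        obtain ⟨y, hy⟩ := (Borel2.mem_sylPSL 2).mp b.2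
        rw [coe_mul, coe_mul, ← hx, ← hy, ← QuotientGroup.mk_mul, ← QuotientGroup.mk_mul, ← upper_add, ← upper_add, add_comm]
      have a3 := Borel2.card_stabilizer_PSL (c • (P1.inf : P1.PL F))
      rw [hg, one_mul, ← hc2.normalizer_eq, hF] at a3
      have a4 : Nat.card ((U : Subgroup PSL(2, F)).subgroupOf (normalizer ((U : Subgroup PSL(2, F)) : Set PSL(2, F)))) = 2 ^ n := by
        rw [Nat.card_congr (subgroupOfEquivOfLe le_normalizer).toEquiv, U.card_eq_multiplicity, hc, hF,
          Nat.factorization_mul (by positivity) (Nat.sub_pos_of_lt (Nat.one_lt_pow two_ne_zero (Nat.one_lt_two_pow hn.ne_zero))).ne',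
          Finsupp.add_apply, Nat.factorization_pow_self Nat.prime_two, Nat.factorization_eq_zero_of_not_dvd (Nat.two_dvd_ne_zero.mpr (Nat.odd_iff.mp
            (Nat.Even.sub_odd (Nat.one_le_pow _ _ (by positivity)) (by simp [Nat.even_pow, hn.ne_zero]) odd_one))), add_zero]
      have a5 := ((U : Subgroup PSL(2, F)).subgroupOf (normalizer ((U : Subgroup PSL(2, F)) : Set PSL(2, F)))).card_mul_index
      rw [a4] at a5
      have a6 := Nat.eq_of_mul_eq_mul_left (by positivity) (a5.trans a3)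
      exact a1.trans (subgroupOf_eq_top.mp (borel (fun u hu v hv => Subtype.ext (le_centralizer_iff_isMulCommutative.mpr a2 hu v hv))
        (a6 ▸ hr) (by rw [a6, a4, Nat.sub_add_cancel Nat.one_le_two_pow]) (h0 _ (le_normalizer.trans a1))))
    · exact subgroupOf_eq_top.mp (dih h (h0 _ le_normalizer))
    · exact absurd h (by decide)
    · obtain ⟨P⟩ : Nonempty (Sylow 2 N) := inferInstance
      obtain ⟨h3, -, h4⟩ := h P
      obtain ⟨j, hj⟩ := IsPGroup.iff_card.mp P.2
      have hj0 : j ≠ 0 := by rintro rfl; omega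
      have a0 : Odd ((2 ^ j) ^ 2 - 1) := Nat.Even.sub_odd (Nat.one_le_pow _ _ (by positivity)) (by simp [Nat.even_pow, hj0]) odd_one
      replace h4 := h4.resolve_right fun e => by
        rw [← (P : Subgroup N).card_mul_index, mul_left_comm, hj] at e
        exact (Nat.not_even_iff_odd.mpr a0) ⟨_, by rw [← Nat.eq_of_mul_eq_mul_left (by positivity) e, two_mul]⟩
      have a1 := N.card_subgroup_dvd_card
      rw [h4, hc, hF, hj] at a1
      have a2 := ((Nat.coprime_two_right.mpr a0).pow_right n).dvd_of_dvd_mul_left (Dvd.dvd.trans (Dvd.intro_left _ rfl) a1)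
      rw [← pow_mul, ← pow_mul] at a2
      have a3 := Nat.pow_sub_one_gcd_pow_sub_one 2 (j * 2) (n * 2)
      rw [Nat.gcd_eq_left a2, Nat.gcd_mul_right] at a3
      have a4 : j = Nat.gcd j n := by
        have := Nat.pow_right_injective le_rfl ((tsub_left_inj Nat.one_le_two_pow Nat.one_le_two_pow).mp a3)
        omega
      rcases (Nat.dvd_prime hn).mp (a4.dvd.trans (Nat.gcd_dvd_right j n)) with rfl | rfl
      · omega
      have : H.Normal := normalizer_eq_top_iff.mp (eq_top_of_card_eq _ (by rw [h4, hc, hF, hj]))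
      rcases this.eq_bot_or_eq_top with e | e
      · exact absurd (e ▸ inferInstanceAs (IsMulCommutative (⊥ : Subgroup PSL(2, F)))) hH
      · exact le_top.trans e.ge
  · exfalso
    rcases P1Inst.tame_of_injective _ hρ h2 with h | ⟨D, -, h, -⟩ | ⟨⟨h⟩⟩ | ⟨⟨h⟩⟩ | ⟨⟨h⟩⟩
    · exact h0 N le_normalizer inferInstance
    · exact h2 (h.symm.dvd.trans D.index_dvd_card)
    · exact h2 (by rw [Nat.card_congr h.toEquiv, DicksonSL.card_A4]; decide)
    · exact h2 (by rw [Nat.card_congr h.toEquiv, DicksonSL.card_S4]; decide)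
    · exact h2 (by rw [Nat.card_congr h.toEquiv, DicksonSL.card_A5]; decide)

theorem prime_of {F : Type*} [Field F] [Finite F] (h2 : (2 : F) = 0) (h4 : 4 ≤ Nat.card F) (h : SelfN SL(2, F)) :
    (Nat.card F - 1).Prime := by
  obtain ⟨r, hr, hd⟩ := Nat.exists_prime_and_dvd (n := Nat.card F - 1) (by omega)
  have := Fact.mk hr
  obtain ⟨z, hz⟩ := exists_prime_orderOf_dvd_card' (G := Fˣ) r (by rwa [Nat.card_units])
  let d : Fˣ → SL(2, F) := fun a => mkSL a 0 0 (a⁻¹ : Fˣ) (by simp)
  have hd' : ∀ a, d a ∈ MulAction.stabilizer SL(2, F) (P1.inf : P1.PL F) := fun a => (smul_inf_eq_inf_iff' _).mpr rfl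
  let K := ((powMonoidHom r).comp (eigInf (K := F))).ker.map (Subgroup.subtype _)
  have k1 : ∀ a, d a ∈ K ↔ a ^ r = 1 := fun a => by
    rw [show d a = Subgroup.subtype _ ⟨d a, hd' a⟩ from rfl, mem_map_iff_mem (subtype_injective _), MonoidHom.mem_ker]
    change eigInf _ ^ r = 1 ↔ _
    rw [show eigInf ⟨d a, hd' a⟩ = a from Units.ext (eigInf_coe _)]
  have k2 := h K fun e => by
    have a1 : upper (1 : F) ∈ K := ⟨⟨_, (smul_inf_eq_inf_iff' _).mpr rfl⟩, by
      change eigInf _ ^ r = 1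
      rw [(eigInf_eq_one_iff _).mpr ⟨1, rfl⟩, one_pow], rfl⟩
    have a2 := congrArg (fun g : K => g.1 0 1) (e.is_comm.comm ⟨_, a1⟩ ⟨_, (k1 z).mpr (hz ▸ pow_orderOf_eq_one z)⟩)
    have a3 : (z : F)⁻¹ = z := by simpa [d, upper, SL2Basic.mul_apply] using a2
    have a4 : ((z : F) - 1) ^ 2 = 0 := by
      have : (z : F) * z = 1 := by nth_rw 1 [← a3]; simp
      linear_combination this + (1 - z) * h2
    exact hr.ne_one (by rw [← hz, show z = 1 from Units.ext (sub_eq_zero.mp (pow_eq_zero_iff two_ne_zero |>.mp a4)), orderOf_one] : r = 1)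
  obtain ⟨g, hg⟩ := IsCyclic.exists_ofOrder_eq_natCard (α := Fˣ)
  have := orderOf_dvd_of_pow_eq_one ((k1 g).mp (k2.le (le_normalizer_map _ ⟨⟨_, hd' g⟩, (normalizer_eq_top _).ge (mem_top _), rfl⟩)))
  rw [hg, Nat.card_units] at this
  rwa [Nat.dvd_antisymm this hd]

/-- Let G be a finite non-abelian simple group. Every non-abelian subgroup of G is self-normalizing if and only if G is isomorphic to PSL₂(2ⁿ) for some n ≥ 2 with 2ⁿ − 1 prime (this includes the alternating group of degree 5 as PSL₂(4)). -/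
theorem result {G : Type*} [Group G] [Finite G] [IsSimpleGroup G]
    (hna : ¬ IsMulCommutative G) :
    (∀ H : Subgroup G, ¬ IsMulCommutative H → Subgroup.normalizer (H : Set G) = H) ↔
    ∃ n : ℕ, 2 ≤ n ∧ (2 ^ n - 1).Prime ∧ Nonempty (G ≃* Matrix.ProjectiveSpecialLinearGroup (Fin 2) (GaloisField 2 n)) := by
  have : Fact (Nat.Prime 2) := ⟨Nat.prime_two⟩
  refine ⟨fun h => ?_, fun ⟨n, hn, hr, ⟨e⟩⟩ => ?_⟩
  · have he : Even (Nat.card G) := by
      by_contra ho
      have := S0205.result (G := G) (Nat.not_even_iff_odd.mp ho)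
      exact hna ⟨⟨IsSimpleGroup.comm_iff_isSolvable.mpr this⟩⟩
    have h1 := Perm.not_hasNormalPComplement hna he.two_dvd
    obtain ⟨P⟩ : Nonempty (Sylow 2 G) := inferInstance
    rcases (SelfN.abC h h1).main he with h2 | h2 | ⟨F, _, _, _, O, h4, -, hO, ⟨e⟩⟩
    · exact absurd (Block.hasNormalPComplement_two_of_isCyclic P (h2 P)) h1
    · rcases (h2 P).eq_bot_or_eq_top with e | e
      · exact absurd e (P.ne_bot_of_dvd_card he.two_dvd)
      · have := (P.2.of_equiv ((MulEquiv.subgroupCongr e).trans topEquiv)).isNilpotent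
        exact absurd Transfer.hasNormalPComplement_of_isNilpotent h1
    obtain rfl := eq_bot_iff.mpr (hO.trans ((inferInstance : (center G).Normal).eq_bot_or_eq_top.resolve_right fun e =>
      hna ⟨⟨fun a b => mem_center_iff.mp (e.ge (mem_top b)) a⟩⟩).le)
    replace e := e.trans MulEquiv.prodUnique
    have h2 : (2 : F) = 0 := by simpa using CharP.cast_eq_zero F 2
    obtain ⟨n, -, hn⟩ := FiniteField.card F 2
    have hr := prime_of h2 (by rwa [Nat.card_eq_fintype_card]) (SelfN.congr h e)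
    rw [Nat.card_eq_fintype_card, hn] at hr
    obtain ⟨φ⟩ := Congr.nonempty_ringEquiv (K := F) (F := GaloisField 2 n) (by
      rw [Nat.card_eq_fintype_card, hn, GaloisField.card 2 n n.ne_zero])
    refine ⟨n, ?_, hr, ⟨(e.trans (PSL2Basic.slEquivPSL h2)).trans (Congr.pslCongr φ)⟩⟩
    exact (Nat.pow_le_pow_iff_right one_lt_two).mp (hn ▸ h4)
  · have := e.symm.isSimpleGroup
    exact (psl_selfN (GaloisField.card 2 n (by omega)) hr).congr e.symm

end Cfsg.Agent.S4073
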