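import Mathlib
import Cfsg.Statements.S4075
import Cfsg.Agent.PGrp.ClassSize
import Cfsg.Agent.BG.AmbCore
-- import your own Cfsg.Agent.* helpers here

set_option autoImplicit false
open Cfsg

namespace Cfsg.Agent.S4075

/-- Let G be a finite nilpotent group. Every non-abelian subgroup of G is self-normalizing if and only if G is abelian or G is a minimal non-abelian p-group for some prime p (non-abelian of prime-power order with every proper subgroup abelian). -/
theorem result {G : Type*} [Group G] [Finite G]
    [Group.IsNilpotent G] :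
    (∀ H : Subgroup G, ¬ IsMulCommutative H → Subgroup.normalizer (H : Set G) = H) ↔
    (IsMulCommutative G ∨ (IsPrimePow (Nat.card G) ∧ ¬ IsMulCommutative G ∧ ∀ H : Subgroup G, H ≠ ⊤ → IsMulCommutative H)) := by
  have hnc := Group.normalizerCondition_of_isNilpotent (G := G)
  constructor
  · intro h
    have h1 : ∀ H : Subgroup G, H ≠ ⊤ → IsMulCommutative H := fun H hH => by
      by_contra hn
      exact (hnc H (lt_top_iff_ne_top.mpr hH)).ne' (h H hn)
    by_cases hc : IsMulCommutative G
    · exact Or.inl hc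
    refine Or.inr ⟨?_, hc, h1⟩
    by_contra hn
    apply hc
    have h2 : ∀ (p : ℕ) (_ : Fact p.Prime) (P : Sylow p G), (P : Subgroup G) ≤ Subgroup.center G := by
      intro p _ P x hx
      have hP : (P : Subgroup G) ≠ ⊤ := by
        intro hP
        obtain ⟨k, hk⟩ := P.isPGroup'.exists_card_eq
        rw [hP, Subgroup.card_top] at hk
        rcases Nat.eq_zero_or_pos k with rfl | hk0
        · have := (Nat.card_eq_one_iff_unique.mp hk).1
          exact hc ⟨⟨fun a b => Subsingleton.elim _ _⟩⟩
        · exact hn (hk ▸ (Fact.out : p.Prime).isPrimePow.pow hk0.ne')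
      rw [Subgroup.mem_center_iff]
      intro g
      obtain ⟨a, b, -, -, rfl, hab, ⟨k, hk⟩, hb⟩ := FGS.exists_pPart p g
      obtain ⟨j, hj⟩ := FGS.exists_orderOf_eq_of_mem P.isPGroup' hx
      refine (Commute.mul_left ?_ ?_).eq
      · exact PGrp.isMulCommutative_iff_forall.mp (h1 _ hP) a (FGS.mem_sylow_of_normal P hk) x hx
      · exact BG.Amb.nil_commute_of_coprime (K := ⊤) inferInstance trivial trivial
          (hj ▸ hb.pow_right j)
    have h3 : ∀ x : G, x ∈ Subgroup.center G := fun x => by
      refine FGS.mem_of_forall_prime _ fun p hp => ?_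
      have := Fact.mk hp
      obtain ⟨a, b, -, -, rfl, hab, ⟨k, hk⟩, hb⟩ := FGS.exists_pPart p x
      refine ⟨orderOf b, (Nat.Prime.coprime_iff_not_dvd hp).mp hb.symm, ?_⟩
      obtain ⟨P, hP⟩ := FGS.exists_sylow_mem hk
      rw [hab.mul_pow, pow_orderOf_eq_one, mul_one]
      exact Subgroup.pow_mem _ (h2 p this P hP) _
    exact ⟨⟨fun a b => Subgroup.mem_center_iff.mp (h3 b) a⟩⟩
  · rintro (h | ⟨-, -, h⟩) H hH
    · exact absurd (PGrp.isMulCommutative_iff_forall.mpr fun a _ b _ => h.is_comm.comm a b) hH
    · rw [of_not_not (mt (h H) hH), Subgroup.normalizer_eq_top]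

end Cfsg.Agent.S4075
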