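import Mathlib
import Cfsg.Statements.S4087
import Cfsg.Agent.CIT.F7

set_option autoImplicit false
open Cfsg

namespace Cfsg.Agent.S4087

theorem pf {n : ℕ} {s : Finset ℕ} (h0 : n ≠ 0) (h1 : ∀ p ∈ s, p.Prime ∧ p ∣ n) {k : ℕ}
    (h2 : n ∣ (∏ p ∈ s, p) ^ k) : n.primeFactors = s := by
  ext r
  rw [Nat.mem_primeFactors_of_ne_zero h0]
  refine ⟨fun ⟨h3, h4⟩ => ?_, h1 r⟩
  obtain ⟨p, hp, h5⟩ := (Prime.dvd_finset_prod_iff h3.prime _).1 (h3.dvd_of_dvd_pow (h4.trans h2))
  rwa [(Nat.prime_dvd_prime_iff_eq h3 (h1 p hp).1).1 h5]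


/-- Let G be a finite group in which every non-identity element has prime-power order (its prime graph has no edges). Then the order of G has at most four distinct prime divisors; and if it has exactly four, then either G is isomorphic to PSL(3,4), or G has a normal 2-subgroup N with G/N isomorphic to the Suzuki group over the field with 8 or with 32 elements. -/
theorem result {G : Type*} [Group G] [Finite G] (h : ∀ g : G, g ≠ 1 → IsPrimePow (orderOf g)) :
    (Nat.card G).primeFactors.card ≤ 4 ∧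
    ((Nat.card G).primeFactors.card = 4 →
      (∃ (F : Type) (_ : Field F) (_ : Fintype F), Fintype.card F = 4 ∧
        Nonempty (G ≃* Matrix.ProjectiveSpecialLinearGroup (Fin 3) F)) ∨
      (∃ (N : Subgroup G) (_ : N.Normal), IsPGroup 2 ↥N ∧
        ∃ (F : Type) (_ : Field F) (_ : Fintype F),
          (Fintype.card F = 8 ∧ Nonempty (G ⧸ N ≃* ↥(Cfsg.Lie.Sz F 4))) ∨
          (Fintype.card F = 32 ∧ Nonempty (G ⧸ N ≃* ↥(Cfsg.Lie.Sz F 8))))) := by
  have h' : CIT.F.Epp G := h
  by_cases hs : Group.IsSolvable G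
  · have := S1475.result (G := G) fun g => (em (g = 1)).symm.imp (h g) id
    exact ⟨by omega, fun h1 => by omega⟩
  have hQ := Core.pCore_isPGroup (G := G) 2
  have key : ∀ {n : ℕ} {s : Finset ℕ}, Nat.card (G ⧸ Cfsg.pCore 2 G) = n → 2 ∣ n →
      n.primeFactors = s → (Nat.card G).primeFactors.card = s.card := fun h1 h2 h3 => by
    rw [CIT.F.pf_quot hQ (h1 ▸ h2), h1, h3]
  rcases CIT.F.eppo_struct h' hs with h1 | h1 | h1 | h1 | ⟨-, h1 | h1 | h1 | h1 | h1⟩
  · rw [key h1.card4 (by norm_num) (pf (s := {2, 3, 5}) (k := 2) (by norm_num) (by decide) (by decide))]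
    exact ⟨by decide, fun h2 => absurd h2 (by decide)⟩
  · rw [key h1.card8 (by norm_num) (pf (s := {2, 3, 7}) (k := 3) (by norm_num) (by decide) (by decide))]
    exact ⟨by decide, fun h2 => absurd h2 (by decide)⟩
  · rw [key h1.card1 (by norm_num)
      (pf (s := {2, 5, 7, 13}) (k := 6) (by norm_num) (by decide) (by decide))]
    obtain ⟨F, _, _, h2, h3⟩ := h1
    exact ⟨by decide, fun _ => Or.inr ⟨_, inferInstance, hQ, F, inferInstance, inferInstance,
      Or.inl ⟨h2, h3⟩⟩⟩
  · rw [key h1.card2 (by norm_num)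
      (pf (s := {2, 5, 31, 41}) (k := 10) (by norm_num) (by decide +kernel) (by decide +kernel))]
    obtain ⟨F, _, _, h2, h3⟩ := h1
    exact ⟨by decide, fun _ => Or.inr ⟨_, inferInstance, hQ, F, inferInstance, inferInstance,
      Or.inr ⟨h2, h3⟩⟩⟩
  · rw [h1.card7, pf (s := {2, 3, 7}) (k := 3) (by norm_num) (by decide) (by decide)]
    exact ⟨by decide, fun h2 => absurd h2 (by decide)⟩
  · rw [h1.card17, pf (s := {2, 3, 17}) (k := 4) (by norm_num) (by decide) (by decide)]
    exact ⟨by decide, fun h2 => absurd h2 (by decide)⟩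
  · rw [h1.card, pf (s := {2, 3, 5}) (k := 3) (by norm_num) (by decide) (by decide)]
    exact ⟨by decide, fun h2 => absurd h2 (by decide)⟩
  · rw [h1.card, pf (s := {2, 3, 5, 7}) (k := 6) (by norm_num) (by decide) (by decide)]
    exact ⟨by decide, fun _ => Or.inl h1⟩
  · rw [h1.card, pf (s := {2, 3, 5}) (k := 4) (by norm_num) (by decide) (by decide)]
    exact ⟨by decide, fun h2 => absurd h2 (by decide)⟩

end Cfsg.Agent.S4087
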