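import Mathlib
import Cfsg.Statements.S4113
import Cfsg.Agent.FGS.Basic2

set_option autoImplicit false
open Cfsg

namespace Cfsg.Agent.S4113

/-- Let G be a finite group, M ≤ N non-trivial proper normal subgroups, and H a subgroup with HM = G and H ∩ M = 1. Then every element of G outside N acts fixed-point-freely on M (C_G(x) ≤ N for every x ∈ M, x ≠ 1) if and only if H ∩ gHg⁻¹ ≤ H ∩ N for every g outside H, with H proper and non-trivial and H ∩ N proper in H. -/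
theorem result {G : Type*} [Group G] [Finite G] (N M : Subgroup G) [N.Normal] [M.Normal] (hMN : M ≤ N) (hM1 : M ≠ ⊥) (hN2 : N ≠ ⊤)
    (H : Subgroup G) (hHM : H ⊔ M = ⊤) (hHM' : H ⊓ M = ⊥) :
    (∀ x ∈ M, x ≠ 1 → Subgroup.centralizer ({x} : Set G) ≤ N) ↔
      (H ≠ ⊥ ∧ H ≠ ⊤ ∧ H ⊓ N < H ∧ ∀ g : G, g ∉ H → H ⊓ H.map (MulAut.conj g).toMonoidHom ≤ N) := by
  have hdec : ∀ g : G, ∃ m ∈ M, ∃ h ∈ H, m * h = g := fun g => by
    have : g ∈ ((M ⊔ H : Subgroup G) : Set G) := by rw [sup_comm, hHM]; trivial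
    rw [Subgroup.normal_mul] at this
    exact this
  have hbot : ∀ x ∈ H, x ∈ M → x = 1 := fun x h1 h2 => by
    rw [← Subgroup.mem_bot, ← hHM']; exact Subgroup.mem_inf.mpr ⟨h1, h2⟩
  have hHN : ¬ H ≤ N := fun h => hN2 (top_le_iff.mp (hHM ▸ sup_le h hMN))
  constructor
  · intro hc
    refine ⟨fun h => hHN (h ▸ bot_le), fun h => hM1 (by rw [← hHM', h, top_inf_eq]),
      lt_of_le_of_ne inf_le_left fun h => hHN (inf_eq_left.mp h), fun g hg x hx => ?_⟩
    obtain ⟨m, hm, h, hh, rfl⟩ := hdec g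
    obtain ⟨hx1, y, hy, hxy⟩ := hx
    have hm1 : m ≠ 1 := by rintro rfl; exact hg (by simpa using hh)
    have hxy' : x = m * (h * y * h⁻¹) * m⁻¹ := by rw [← hxy]; simp [mul_assoc]
    have hy' : h * y * h⁻¹ ∈ H := H.mul_mem (H.mul_mem hh hy) (H.inv_mem hh)
    generalize h * y * h⁻¹ = z at hxy' hy'
    have h1 : x * z⁻¹ = 1 := hbot _ (H.mul_mem hx1 (H.inv_mem hy')) (by
      have : x * z⁻¹ = m * (z * m⁻¹ * z⁻¹) := by rw [hxy']; group
      rw [this]
      exact M.mul_mem hm (‹M.Normal›.conj_mem _ (M.inv_mem hm) z))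
    rw [mul_inv_eq_one] at h1
    subst h1
    refine hc m hm hm1 (Subgroup.mem_centralizer_singleton_iff.mpr ?_)
    calc x * m = m * x * m⁻¹ * m := by rw [← hxy']
      _ = m * x := by group
  · rintro ⟨-, -, -, hc⟩ x hx hx1 c hcx
    by_contra hcN
    obtain ⟨m, hm, h, hh, rfl⟩ := hdec c
    have hhN : h ∉ N := fun h' => hcN (N.mul_mem (hMN hm) h')
    have hfpf : ∀ y ∈ M, h * y = y * h → y = 1 := fun y hy hyh => by
      by_contra hy1
      refine hhN (hc y (fun h' => hy1 (hbot y h' hy)) ⟨hh, h, hh, ?_⟩)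
      change y * h * y⁻¹ = h
      rw [← hyh]; group
    let f : M → M := fun u => ⟨u * (h * (u : G)⁻¹ * h⁻¹),
      M.mul_mem u.2 (‹M.Normal›.conj_mem _ (M.inv_mem u.2) h)⟩
    have hf : Function.Injective f := fun u v huv => by
      have h1 : (u : G) * (h * (u : G)⁻¹ * h⁻¹) = v * (h * (v : G)⁻¹ * h⁻¹) := congrArg Subtype.val huv
      have h2 := hfpf ((v : G)⁻¹ * u) (M.mul_mem (M.inv_mem v.2) u.2) (by
        calc h * ((v : G)⁻¹ * u) = (v : G)⁻¹ * (v * (h * (v : G)⁻¹ * h⁻¹)) * h * u := by group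
          _ = _ := by rw [← h1]; group)
      exact Subtype.ext (inv_mul_eq_one.mp h2).symm
    obtain ⟨u, hu⟩ := Finite.surjective_of_injective hf ⟨m, hm⟩
    have hu' : (u : G) * (h * (u : G)⁻¹ * h⁻¹) = m := congrArg Subtype.val hu
    have h3 := Subgroup.mem_centralizer_singleton_iff.mp hcx
    have h4 := hfpf ((u : G)⁻¹ * x * u) (M.mul_mem (M.mul_mem (M.inv_mem u.2) hx) u.2) (by
      calc h * ((u : G)⁻¹ * x * u) = (u : G)⁻¹ * (u * (h * (u : G)⁻¹ * h⁻¹) * h * x) * u := by group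
        _ = (u : G)⁻¹ * (x * (m * h)) * u := by rw [hu', h3]
        _ = _ := by rw [← hu']; group)
    apply hx1
    calc x = u * ((u : G)⁻¹ * x * u) * (u : G)⁻¹ := by group
      _ = 1 := by rw [h4]; group

end Cfsg.Agent.S4113
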