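import Mathlib
import Cfsg.Statements.S4115
import Cfsg.Agent.Inv.TIH
import Cfsg.Agent.S0877

set_option autoImplicit false
universe u
open Cfsg

namespace Cfsg.Agent.S4115

open Subgroup Inv.TIH
open scoped Pointwise

theorem frob_comap {A B : Type*} [Group A] [Group B] (e : A ≃* B) {C : Subgroup B}
    (h : IsFrobeniusComplement C) : IsFrobeniusComplement (C.comap e.toMonoidHom) := by
  refine ⟨fun h' => h.1 (eq_bot_iff.mpr fun x hx => ?_), fun h' => h.2.1 (eq_top_iff.mpr fun x _ => ?_),
    fun g hg => eq_bot_iff.mpr fun x hx => ?_⟩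
  · have : e.symm x ∈ C.comap e.toMonoidHom := by simpa using hx
    rw [h'] at this
    simpa using this
  · have : e.symm x ∈ C.comap e.toMonoidHom := h' ▸ mem_top _
    simpa using this
  · have : e x ∈ C ⊓ MulAut.conj (e g) • C :=
      ⟨hx.1, Core.mem_conj_smul_iff.mpr (by simpa using Core.mem_conj_smul_iff.mp hx.2)⟩
    simpa [h.2.2 (e g) hg] using this

theorem exists_center {p : ℕ} (hp : p.Prime) {E : Type*} [Group E] [Finite E] [Nontrivial E]
    (h : IsElementary p E) : center E ≠ ⊥ := by
  obtain ⟨x, hx, -, k, hk⟩ := h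
  haveI := Fact.mk hp
  by_cases h1 : x = 1
  · rw [h1, zpowers_one_eq_bot, index_bot] at hk
    exact (nontrivial_iff_ne_bot _).mp (IsPGroup.of_card hk).center_nontrivial
  · exact fun h => h1 (mem_bot.mp (h ▸ hx))

/-- Let G be a finite group and H a subgroup that meets each of its conjugates by elements outside N_G(H) trivially and whose order is coprime to its index in N_G(H). Then H has a normal complement in N_G(H) if and only if H has a normal complement in G. Moreover, if H is not normal in G and has a normal complement in N_G(H), then H is isomorphic to a Frobenius complement of some finite Frobenius group. -/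
theorem result {G : Type u} [Group G] [Finite G] (H : Subgroup G)
    (hTI : Cfsg.IsTISubset (H : Set G)) (hHall : (Nat.card H).Coprime (H.subgroupOf (Subgroup.normalizer (H : Set G))).index) :
    ((∃ K : Subgroup (Subgroup.normalizer (H : Set G)), K.Normal ∧ K.IsComplement' (H.subgroupOf (Subgroup.normalizer (H : Set G)))) ↔
      (∃ N : Subgroup G, N.Normal ∧ N.IsComplement' H)) ∧
    (¬ H.Normal → (∃ K : Subgroup (Subgroup.normalizer (H : Set G)), K.Normal ∧ K.IsComplement' (H.subgroupOf (Subgroup.normalizer (H : Set G)))) →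
      ∃ (F : Type u) (_ : Group F) (_ : Finite F) (C : Subgroup F), Cfsg.IsFrobeniusComplement C ∧ Nonempty (H ≃* C)) := by
  have hHall' : (Nat.card H).Coprime (H.relIndex (normalizer (H : Set G))) := hHall
  have hH := hall hTI hHall'
  have key : (∃ K : Subgroup (normalizer (H : Set G)), K.Normal ∧
      K.IsComplement' (H.subgroupOf (normalizer (H : Set G)))) → ∃ N : Subgroup G, N.Normal ∧ N.IsComplement' H := by
    rintro ⟨K, hK, hc⟩
    refine (S0877.result H hH (fun x hx y hy hxy => ?_) (fun E p hp hE hd => ?_)).imp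
      fun N ⟨hN, h1, h2⟩ => ⟨hN, isComplement'_of_disjoint_and_mul_eq_univ (disjoint_iff.mpr h2)
        (by rw [← normal_mul, h1, coe_top])⟩
    · obtain ⟨g, rfl⟩ := isConj_iff.mp hxy
      by_cases h1 : x = 1
      · exact ⟨1, H.one_mem, by simp [h1]⟩
      obtain ⟨⟨k, h⟩, e⟩ := hc.2 ⟨g, mem_norm hTI hx h1 hy⟩
      have e' : (k.1 : G) * h.1 = g := congrArg Subtype.val e
      have hm : (h.1 : G) * x * (h.1 : G)⁻¹ ∈ H := H.mul_mem (H.mul_mem h.2 hx) (H.inv_mem h.2)
      have := commute_of_normal_of_disjoint _ _ hK inferInstance hc.disjoint k.1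
        ⟨_, le_normalizer hm⟩ k.2 hm
      have e2 : (k.1 : G) * (h.1 * x * (h.1 : G)⁻¹) = h.1 * x * (h.1 : G)⁻¹ * k.1 :=
        congrArg Subtype.val this.eq
      refine ⟨h.1, h.2, ?_⟩
      rw [← e', ← mul_inv_eq_iff_eq_mul.mpr e2]
      group
    · by_cases h1 : E = ⊥
      · exact ⟨1, by simp [h1]⟩
      haveI := (nontrivial_iff_ne_bot E).mpr h1
      obtain ⟨z, hz, hq⟩ := Core.exists_mem_prime_orderOf (exists_center hp hE)
      haveI := Fact.mk hq
      have hq' : orderOf z ∣ Nat.card H := (orderOf_dvd_natCard z).trans hd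
      obtain ⟨P, hP⟩ := Core.exists_isSylowOf (orderOf z) H
      obtain ⟨g, -, hg⟩ := (hP.trans le_top (by
        rw [relIndex_top_right]
        exact fun h => hq.one_lt.ne' (Nat.eq_one_of_dvd_coprimes hH hq' h))).exists_conj_le
        (Q := zpowers (z : G)) (IsPGroup.of_card (n := 1) (by simp)) le_top
      have h2 : g * z * g⁻¹ ∈ H := hP.le (Core.conj_smul_le_iff.mp hg _ (mem_zpowers _))
      have h3 : E.map (MulAut.conj g).toMonoidHom ≤ normalizer (H : Set G) := by
        rintro _ ⟨y, hy, rfl⟩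
        refine mem_norm hTI h2 (fun h => hq.one_lt.ne' ?_) ?_
        · rw [orderOf_eq_one_iff]
          exact Subtype.ext (by simpa using h)
        · have e : y * z = z * y := congrArg Subtype.val (mem_center_iff.mp hz ⟨y, hy⟩)
          convert h2 using 1
          change g * y * g⁻¹ * (g * z * g⁻¹) * (g * y * g⁻¹)⁻¹ = _
          calc _ = g * (y * z * y⁻¹) * g⁻¹ := by group
            _ = _ := by rw [e, mul_inv_cancel_right]
      refine ⟨g, fun y hy => ?_⟩
      exact Core.le_of_coprime_index (N := H.subgroupOf (normalizer (H : Set G)))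
        (K := (E.map (MulAut.conj g).toMonoidHom).subgroupOf _) (by
          rw [Core.card_subgroupOf_of_le h3]
          exact hHall.coprime_dvd_left ((Core.card_map_dvd _ _).trans hd))
        (show (⟨y, h3 hy⟩ : normalizer (H : Set G)) ∈ _ from hy)
  refine ⟨⟨key, fun ⟨N, hN, hc⟩ => ⟨N.subgroupOf _, inferInstance, ?_⟩⟩, fun hnn h => ?_⟩
  · refine isComplement'_of_disjoint_and_mul_eq_univ (disjoint_def.mpr fun h1 h2 =>
      Subtype.ext (disjoint_def.mp hc.disjoint h1 h2)) (Set.eq_univ_of_forall fun g => ?_)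
    obtain ⟨⟨k, h⟩, e⟩ := hc.2 g
    have e' : (k : G) = g * (h : G)⁻¹ := eq_mul_inv_of_mul_eq e
    exact ⟨⟨k, e' ▸ mul_mem g.2 (inv_mem (le_normalizer h.2))⟩, k.2, ⟨h, le_normalizer h.2⟩, h.2,
      Subtype.ext e⟩
  · obtain ⟨N, hN, hc⟩ := key h
    haveI := (nontrivial_iff_ne_bot H).mpr (by rintro rfl; exact hnn inferInstance)
    obtain ⟨L, _, _, C, hC, ⟨e⟩⟩ := (isFC hTI (O := N) (hc.index_eq_card ▸ hH) fun h => hnn
      (normalizer_eq_top_iff.mp (eq_top_iff.mpr (hc.sup_eq_top.ge.trans (sup_le h le_normalizer))))).exists_frob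
    have f : ULift.{u} L ≃* L := MulEquiv.ulift
    exact ⟨ULift.{u} L, inferInstance, inferInstance, _, frob_comap f hC,
      ⟨e.trans ((f.symm.subgroupMap C).trans
        (MulEquiv.subgroupCongr (comap_equiv_eq_map_symm' f C).symm))⟩⟩

end Cfsg.Agent.S4115
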