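import Mathlib
import Cfsg.Statements.S4118
import Cfsg.Agent.Inv.TIH
import Cfsg.Agent.Perm.Bin

set_option autoImplicit false
open Cfsg

namespace Cfsg.Agent.S4118

open Subgroup Inv.TIH
theorem not_solv : ¬ Group.IsSolvable (Matrix.SpecialLinearGroup (Fin 2) (ZMod 5)) := fun h => by
  obtain ⟨f, hf, -⟩ := Perm.exists_quot_SL25
  have := Group.isSolvable_of_surjective hf
  exact absurd (IsSimpleGroup.comm_iff_isSolvable.2 this Perm.a5x Perm.a5y)
    (by decide)

/-- Let G be a finite group and H a non-normal subgroup meeting each of its conjugates by elements outside N_G(H) trivially, with the order of H coprime to its index in N_G(H); let π be the set of primes dividing the order of H and suppose G is π-separable (it has a chain of normal subgroups from 1 to G each of whose factors has order divisible only by primes in π or coprime to the order of H). Let O be the largest normal subgroup of G of order coprime to the order of H. Then G = O·N_G(H), O·H is normal in G, and G is solvable if and only if O is solvable and H has no subgroup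 isomorphic to SL₂(5). -/
theorem result {G : Type*} [Group G] [Finite G] (H : Subgroup G)
    (hTI : Cfsg.IsTISubset (H : Set G)) (hnn : ¬ H.Normal)
    (hHall : (Nat.card H).Coprime (H.subgroupOf (Subgroup.normalizer (H : Set G))).index)
    (hsep : ∃ (n : ℕ) (M : Fin (n + 1) → Subgroup G), M 0 = ⊥ ∧ M (Fin.last n) = ⊤ ∧ Monotone M ∧ (∀ i, (M i).Normal) ∧
      ∀ i : Fin n, (∀ q : ℕ, q.Prime → q ∣ (M i.castSucc).relIndex (M i.succ) → q ∣ Nat.card H) ∨
        ((M i.castSucc).relIndex (M i.succ)).Coprime (Nat.card H))
    (O : Subgroup G) (hO : O = sSup {K : Subgroup G | K.Normal ∧ (Nat.card K).Coprime (Nat.card H)}) :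
    O ⊔ Subgroup.normalizer (H : Set G) = ⊤ ∧ (O ⊔ H).Normal ∧
    (Group.IsSolvable G ↔ Group.IsSolvable O ∧
      ∀ K : Subgroup G, K ≤ H → ¬ Nonempty (K ≃* Matrix.SpecialLinearGroup (Fin 2) (ZMod 5))) := by
  obtain ⟨n, M, h0, hn, hm, hN, hs⟩ := hsep
  have hHall' : (Nat.card H).Coprime (H.relIndex (normalizer (H : Set G))) := hHall
  have h1 : H ≠ ⊥ := by rintro rfl; exact hnn inferInstance
  have hOm := core_mem H
  rw [← hO] at hOm
  haveI := hOm.1
  have hmax : ∀ K : Subgroup G, K.Normal → (Nat.card K).Coprime (Nat.card H) → K ≤ O :=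
    fun K h1 h2 => hO ▸ le_sSup (show K ∈ {K : Subgroup G | K.Normal ∧ _} from ⟨h1, h2⟩)
  have htop := sup_eq_top hTI h1 (hall hTI hHall') M h0 hn hm hN hs hmax
  refine ⟨htop, normal_sup htop le_rfl, fun h => ⟨inferInstance, fun K _ ⟨e⟩ => ?_⟩, fun ⟨hs, hSL⟩ => ?_⟩
  · exact not_solv (Core.solvable_of_mulEquiv e inferInstance)
  have hF := isFC hTI hOm.2.symm fun h => hnn (normalizer_eq_top_iff.mp (by rw [← htop, sup_eq_right.mpr h]))
  have hsH : Group.IsSolvable H := by
    by_contra h
    obtain ⟨L, z, f, hd⟩ := hF.exists_nsData h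
    obtain ⟨e⟩ := hd.iso
    exact hSL (L.map H.subtype) (map_subtype_le _) ⟨(L.equivMapOfInjective _ H.subtype_injective).symm.trans e⟩
  obtain ⟨Q, hQ, -, hHQ, hc⟩ := Core.exists_complement_in H _ le_normalizer le_rfl hHall'
  have hc' : (Nat.card Q).Coprime (Nat.card H) := hc ▸ hHall'.symm
  have hsQ : Group.IsSolvable Q := by
    rcases Nat.even_or_odd (Nat.card Q) with h | h
    swap
    · exact S0205.result h
    haveI := hF.isZGroup_of_odd (Nat.coprime_two_left.mp (hc'.coprime_dvd_left h.two_dvd))
    have h2 := commutator_le_cent hQ hc'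
    have h3 : ⁅Q, Q⁆ ≤ Q := Core.commutator_le_of_le_normalizer le_normalizer
    have h4 := normal_sup (K := ⁅Q, Q⁆) htop (hHQ ▸ sup_le
      ((le_centralizer_iff.mp h2).trans (centralizer_le_normalizer _))
      (Core.le_normalizer_commutator le_normalizer le_normalizer))
    have h5 := le_sup_right.trans (hmax _ h4 ((hOm.2.mul_left (Core.coprime_of_le_left hc' h3)).coprime_dvd_left
      (Core.card_sup_dvd le_normalizer_of_normal)))
    haveI : Group.IsSolvable (_root_.commutator Q) := Core.solvable_of_mulEquiv
      ((_root_.commutator Q).equivMapOfInjective _ Q.subtype_injective).symm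
      (Core.solvable_of_le ((Core.map_commutator_subtype Q).le.trans h5) hs)
    exact Group.isSolvable_of_ker_le_range (_root_.commutator Q).subtype Abelianization.of (by
      rw [Abelianization.ker_of, range_subtype])
  have := BG.Amb.solvable_sup hs (hHQ ▸ BG.Amb.solvable_sup hsH hsQ hQ) le_normalizer_of_normal
  rw [htop] at this
  exact Core.solvable_of_mulEquiv topEquiv this

end Cfsg.Agent.S4118
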