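import Mathlib
import Cfsg.Statements.S4130
import Cfsg.Agent.Inv.SqF
import Cfsg.Agent.S4167

set_option autoImplicit false
open Cfsg

namespace Cfsg.Agent.S4130

open Subgroup
open scoped commutatorElement

/-- Let G be a finite group all of whose conjugacy class sizes are square-free. Then G is supersolvable, G/F(G) and the derived subgroup G′ are cyclic of square-free order (F(G) the Fitting subgroup, which is normal), F(G) has nilpotency class at most 2, and G is metabelian. -/
theorem result {G : Type*} [Group G] [Finite G]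
    (h : ∀ x : G, Squarefree (Subgroup.centralizer ({x} : Set G)).index) :
    Cfsg.IsSupersolvable G ∧ (Cfsg.fittingSubgroup G).Normal ∧
    (∀ _h : (Cfsg.fittingSubgroup G).Normal, IsCyclic (G ⧸ Cfsg.fittingSubgroup G) ∧ Squarefree (Cfsg.fittingSubgroup G).index) ∧
    IsCyclic (commutator G) ∧ Squarefree (Nat.card (commutator G)) ∧
    Subgroup.upperCentralSeries ↥(Cfsg.fittingSubgroup G) 2 = ⊤ ∧ commutator ↥(commutator G) = ⊥ := by
  haveI : Group.IsSolvable G := S4167.result fun x hx => by
    have := h x 2 hx
    simp at this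
  obtain ⟨h1, h2⟩ := Inv.SqF.squarefree_commutator h
  haveI h3 : IsCyclic (_root_.commutator G) := Inv.SqF.isCyclic_of_squarefree h1
  have hF := Inv.SqF.fitting_le_centralizer (_root_.commutator G) h1
  have hab : ∀ (N : Subgroup G) [N.Normal], _root_.commutator G ≤ N → IsMulCommutative (G ⧸ N) := by
    intro N _ hN
    refine ⟨⟨fun a b => ?_⟩⟩
    obtain ⟨a, rfl⟩ := QuotientGroup.mk_surjective a
    obtain ⟨b, rfl⟩ := QuotientGroup.mk_surjective b
    rw [← commutatorElement_eq_one_iff_mul_comm]
    exact (QuotientGroup.eq_one_iff ⁅a, b⁆).mpr (hN (commutator_mem_commutator (mem_top a) (mem_top b)))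
  have hcl : ∀ K : Subgroup G, K ≤ centralizer (_root_.commutator G : Set G) →
      Subgroup.upperCentralSeries K 2 = ⊤ := by
    intro K hK
    refine eq_top_iff.mpr fun x _ => ?_
    rw [Subgroup.mem_upperCentralSeries_succ_iff]
    intro y
    rw [Subgroup.upperCentralSeries_one, mem_center_iff]
    intro z
    exact Subtype.ext (hK z.2 _ (commutator_mem_commutator (mem_top (x : G)) (mem_top (y : G)))).symm
  refine ⟨?_, Core.fitting_normal, fun _ => ?_, h3, h1, hcl _ hF, ?_⟩
  · refine Core.isSupersolvable_of_quotient (_root_.commutator G) h3 (Core.isSupersolvable_of_nilpotent ?_)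
    haveI := hab _ le_rfl
    letI : CommGroup (G ⧸ _root_.commutator G) :=
      { (inferInstance : Group (G ⧸ _root_.commutator G)) with mul_comm := mul_comm' }
    infer_instance
  · obtain ⟨⟨d, hd⟩, hd'⟩ := IsCyclic.exists_generator (α := _root_.commutator G)
    have h4 : centralizer (_root_.commutator G : Set G) ≤ fittingSubgroup G :=
      Core.le_fitting inferInstance ⟨⟨2, hcl _ le_rfl⟩⟩
    have h5 : fittingSubgroup G = centralizer {d} := by
      refine le_antisymm (hF.trans (centralizer_le (by simpa using hd))) (le_trans ?_ h4)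
      intro g hg y hy
      obtain ⟨n, hn⟩ := mem_zpowers_iff.mp (hd' ⟨y, hy⟩)
      have hn' : d ^ n = y := congrArg Subtype.val hn
      rw [← hn']
      exact ((show Commute g d from mem_centralizer_singleton_iff.mp hg).zpow_right n).symm.eq
    have h6 : Squarefree (fittingSubgroup G).index := h5 ▸ h d
    haveI := hab _ (Core.le_fitting_of_isMulCommutative inferInstance h2)
    exact ⟨Inv.SqF.isCyclic_of_squarefree h6, h6⟩
  · exact commutator_eq_bot_iff_le_centralizer.mpr fun x _ y _ => mul_comm' y x

end Cfsg.Agent.S4130
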