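import Mathlib
import Cfsg.Statements.S4133
import Cfsg.Agent.GsC.Eight
import Cfsg.Agent.S0799
import Cfsg.Agent.Isaacs.CD3
import Cfsg.Agent.J1.Gen

set_option autoImplicit false
open Cfsg

namespace Cfsg.Agent.S4133

open Subgroup Cfsg.Agent.GW Cfsg.Agent.LocalEven Cfsg.Agent.BG Cfsg.Agent.Gs Cfsg.Agent.GsC
open scoped MatrixGroups

universe u

theorem not_four {X : Type*} [Group X] [Finite X] [IsSimpleGroup X] (hn : ¬ IsMulCommutative X)
    (h : Four X) {H : Subgroup X} (h4 : H.index = 4) : False := by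
  obtain ⟨F, _, _, h1, h2, ⟨e⟩⟩ := four_known hn h
  have h3 := Nat.le_of_dvd (Nat.factorial_pos _)
    (J1.card_dvd_factorial (H := H) (by rintro rfl; simp at h4))
  have h5 := Inv.card_psl2_odd (F := F) (by omega)
  rw [← Nat.card_congr e.toEquiv] at h5
  have := Nat.mul_le_mul h2 (Nat.sub_le_sub_right (Nat.pow_le_pow_left h2 2) 1)
  simp only [h4, Nat.factorial] at h3
  omega

theorem index_eq {X : Type*} [Group X] [Finite X] {H : Subgroup X} (ho : Odd (Nat.card H)) {k : ℕ}
    (hk : H.index ∣ 2 ^ k) (S : Sylow 2 X) : H.index = Nat.card S := by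
  obtain ⟨j, -, hj⟩ := (Nat.dvd_prime_pow Nat.prime_two).1 hk
  rw [hj, card_syl_of S (k := j) (hj ▸ H.index_dvd_card) fun h => ?_]
  rw [← H.card_mul_index, hj, pow_succ'] at h
  exact Gs.not_two_dvd ho (Nat.dvd_of_mul_dvd_mul_right (by positivity) h)

theorem not_even {F : Type*} [Field F] [Fintype F] {n : ℕ} (hn : 2 ≤ n)
    (hF : Fintype.card F = 2 ^ n) [IsSimpleGroup PSL(2, F)] (hc : ¬ IsMulCommutative PSL(2, F))
    (H : Subgroup PSL(2, F)) (h : Nat.card H = (2 ^ n) ^ 2 - 1) : False := by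
  have h4 := CIT.F.four_le_pow hn
  have c := CIT.F.card_psl2_even (by omega) hF
  have ev : 2 ∣ 2 ^ n := dvd_pow_self 2 (by omega)
  have h16 : 4 * 2 ^ n ≤ (2 ^ n) ^ 2 := by rw [sq]; exact Nat.mul_le_mul_right _ h4
  have ev2 : 2 ∣ (2 ^ n) ^ 2 := ev.trans (dvd_pow_self _ two_ne_zero)
  have ho : ¬ 2 ∣ Nat.card H := by omega
  haveI : CharP F 2 := Classical.Congr.charP_of_card (Nat.card_eq_fintype_card.trans hF)
  have g : Nat.gcd 2 (2 ^ n - 1) = 1 := (Nat.coprime_two_left.2 (Nat.odd_iff.2 (by omega)))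
  rcases S0799.result hF 2 H with ⟨k, h1, h2 | ⟨⟨e⟩⟩⟩ | ⟨P, K, h1, ⟨e⟩⟩ | ⟨⟨e⟩⟩ | ⟨⟨e⟩⟩ | ⟨⟨e⟩⟩ |
    ⟨K, _, _, m, h1, h2⟩
  · rw [g, Nat.div_one, Nat.div_one, ← h2.2, h] at h1
    rcases h1 with h1 | h1 <;> have := Nat.le_of_dvd (by omega) h1 <;> omega
  · exact ho (by rw [Nat.card_congr e.toEquiv, DihedralGroup.nat_card]; exact dvd_mul_right _ _)
  · have hP := card_syl_of P (k := n) (c ▸ dvd_mul_right _ _) fun h5 => by
      rw [c, pow_succ] at h5
      have := Nat.dvd_of_mul_dvd_mul_left (by omega) h5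
      omega
    have h2 := card_dvd_of_le h1
    have h3 := card_dvd_of_le (P : Subgroup PSL(2, F)).le_normalizer
    rw [← Nat.card_congr e.toEquiv] at h2
    have h5 := (Nat.Coprime.pow_left n (Nat.coprime_two_left.2 (Nat.odd_iff.2 (by omega))) :
      (2 ^ n).Coprime (Nat.card H)).mul_dvd_of_dvd_of_dvd (hP ▸ h3) h2
    rw [h, ← c] at h5
    rcases (normalizer_eq_top_iff.1 (eq_top_of_le_card _ (Nat.le_of_dvd Nat.card_pos
      h5))).eq_bot_or_eq_top with h6 | h6
    · exact syl_ne_bot hc P h6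
    · rw [h6, card_top, c] at hP
      nlinarith [show 2 ≤ (2 ^ n) ^ 2 - 1 by omega]
  · exact ho (by rw [Nat.card_congr e.toEquiv, alternatingGroup.card_of_card_eq_four (by simp)]
                 norm_num)
  · exact ho (by rw [Nat.card_congr e.toEquiv, Nat.card_perm]; simp [Nat.factorial])
  · have h5 := two_mul_card_alternatingGroup (α := Fin 5)
    rw [← Nat.card_eq_fintype_card, Fintype.card_perm, ← Nat.card_congr e.toEquiv] at h5
    simp only [Fintype.card_fin, Nat.factorial] at h5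
    omega
  · have h3 : 2 ∣ Fintype.card K := Nat.prime_two.dvd_of_dvd_pow (h1 ▸ ev)
    rcases h2 with ⟨⟨e⟩⟩ | ⟨⟨e⟩⟩
    · have h5 := Classical.SLBasic.card_PSL_two (F := K)
      have h6 : 0 < Fintype.card K := Fintype.card_pos
      rw [Nat.card_eq_fintype_card (α := K), (Nat.coprime_two_left.2 (Nat.odd_iff.2 (by omega)) :
        Nat.gcd 2 (Fintype.card K - 1) = 1), ← Nat.card_congr e.toEquiv] at h5
      exact ho (by rw [← one_mul (Nat.card H), h5]; exact h3.mul_right _)
    · rw [Nat.card_congr e.toEquiv, Classical.P1Ident.card_PGL_two,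
        Nat.card_eq_fintype_card (α := K)] at ho
      exact ho (h3.mul_right _)

theorem relIndex_dvd {X : Type*} [Group X] [Finite X] (K N : Subgroup X) [N.Normal] :
    K.relIndex N ∣ K.index := by
  rw [← Core.relIndex_sup_eq_relIndex (le_normalizer_of_normal)]
  exact relIndex_dvd_index_of_le le_sup_right

theorem solv_of_hall (G : Type u) [Group G] [Finite G] : PLocal.AbelianTwo G →
    ∀ (H : Subgroup G) (k : ℕ), Odd (Nat.card H) → H.index ∣ 2 ^ k → Group.IsSolvable G := by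
  refine Core.induction_on_card (P := fun G _ _ => PLocal.AbelianTwo G →
    ∀ (H : Subgroup G) (k : ℕ), Odd (Nat.card H) → H.index ∣ 2 ^ k → Group.IsSolvable G) ?_ G
  intro G _ _ ih hab H k ho hk
  by_cases hn : IsMulCommutative G
  · exact Group.isSolvable_of_comm hn.1.1
  by_cases hs : ∃ N : Subgroup G, N.Normal ∧ N ≠ ⊥ ∧ N ≠ ⊤
  · obtain ⟨N, _, h1, h2⟩ := hs
    haveI := ih N (Core.card_lt_of_ne_top _ h2) (hab.subgroup N) (H.subgroupOf N) k
      (by rw [← inf_subgroupOf_right, card_subgroupOf inf_le_right]; exact odd_of_le ho inf_le_left)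
      ((relIndex_dvd H N).trans hk)
    haveI := ih (G ⧸ N) (Core.card_quotient_lt _ h1) (hab.quotient N) (H.map (QuotientGroup.mk' N)) k
      (ho.of_dvd_nat (card_map_dvd _ _))
      ((index_map_dvd _ (QuotientGroup.mk'_surjective N)).trans hk)
    exact Group.isSolvable_of_ker_le_range N.subtype (QuotientGroup.mk' N) (by simp)
  haveI : Nontrivial G := by
    by_contra h
    rw [not_nontrivial_iff_subsingleton] at h
    exact hn ⟨⟨fun a b => Subsingleton.elim _ _⟩⟩
  haveI : IsSimpleGroup G := ⟨fun N hN => by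
    by_contra h
    exact hs ⟨N, hN, fun e => h (.inl e), fun e => h (.inr e)⟩⟩
  exfalso
  obtain ⟨S⟩ : Nonempty (Sylow 2 G) := inferInstance
  rcases gold_ab' G inferInstance hn hab with ⟨M, hM⟩ | ⟨-, T, hT⟩ | hJ
  · obtain ⟨F, _, _, n, h1, h2, h3, h4, ⟨e⟩⟩ := Ab2.simple_se hn hM S (hab _ S.isPGroup')
    haveI := e.symm.isSimpleGroup
    refine not_even h1 h2 (nab_of_equiv e.symm hn) (H.map e.toMonoidHom) ?_
    have h5 := H.card_mul_index
    rw [index_eq ho hk S, h3, h4, mul_comm] at h5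
    rw [card_map_of_injective e.injective]
    exact Nat.eq_of_mul_eq_mul_left (by positivity) h5
  · exact not_four hn ⟨T, hT⟩ ((index_eq ho hk T).trans hT)
  · obtain ⟨t, ht⟩ := exists_inv hn
    obtain ⟨E, E₀, hE⟩ := hJ.shape t ht
    haveI := hE.simple
    obtain ⟨T, hT⟩ := hE.four
    refine not_four hE.nab hE.four (H := H.subgroupOf E₀) ?_
    have h1 : H.relIndex E₀ ≤ 8 := ((relIndex_le_of_le_right le_top
      (by rw [relIndex_top_right]; exact H.index_ne_zero_of_finite)).trans_eq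
      (relIndex_top_right H)).trans_eq ((index_eq ho hk S).trans (hJ.card S))
    have h2 := (H.subgroupOf E₀).card_mul_index
    have h3 : Odd (Nat.card (H.subgroupOf E₀)) := by
      rw [← inf_subgroupOf_right, card_subgroupOf inf_le_right]; exact odd_of_le ho inf_le_left
    have h4 : 2 ^ 2 ∣ (H.subgroupOf E₀).index := (Nat.Coprime.pow_left 2
      (Nat.coprime_two_left.2 h3)).dvd_of_dvd_mul_left (h2 ▸ (pow_dvd_iff T 2).2 (by rw [hT]; rfl))
    have h5 : ¬ 2 ^ 3 ∣ (H.subgroupOf E₀).index := fun h => by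
      have := (pow_dvd_iff T 3).1 (h.trans (index_dvd_card _))
      omega
    have h6 := (H.subgroupOf E₀).index_ne_zero_of_finite
    rw [relIndex] at h1
    omega


/-- Let G be a finite group all of whose Sylow subgroups are abelian, and let 2^a be the largest power of 2 dividing the size of any conjugacy class of G. If some element has a conjugacy class of size exactly 2^a, then G is solvable. -/
theorem result {G : Type*} [Group G] [Finite G]
    (hA : ∀ (p : ℕ) [Fact p.Prime] (P : Sylow p G), IsMulCommutative (P : Subgroup G))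
    (a : ℕ) (hmax : ∀ y : G, ¬ 2 ^ (a + 1) ∣ (Subgroup.centralizer ({y} : Set G)).index) (hx : ∃ x : G, (Subgroup.centralizer ({x} : Set G)).index = 2 ^ a) :
    Group.IsSolvable G := by
  by_contra hns
  obtain ⟨x, hx⟩ := hx
  obtain ⟨D, hD, hp, h0, hmin⟩ := Isaacs.exists_residual (G := G)
  have hab : PLocal.AbelianTwo G := .of_sylow default (hA 2 _)
  -- `D` centralises `x`
  have hx' : D ≤ cz x := by
    obtain ⟨P, hP⟩ := exists_isSylowIn 2 (cz x)
    obtain ⟨S, hS⟩ := hP.pgrp.exists_le_sylow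
    have h1 : P ≤ (cz x).normalCore := fun s hs g => by
      obtain ⟨c, hc, y, hy, rfl⟩ := Core.exists_mul_of_coprime_index (H := cz x) (K := S)
        (hx ▸ Nat.Coprime.pow_left _ (Nat.prime_two.coprime_iff_not_dvd.2 S.not_dvd_index)) g
      have := Core.comm_of_isMulCommutative (hA 2 S) hy (hS hs)
      rw [show c * y * s * (c * y)⁻¹ = c * (y * s) * y⁻¹ * c⁻¹ by group, this, mul_assoc c,
        mul_inv_cancel_right]
      exact mul_mem (mul_mem hc (hP.le hs)) (inv_mem hc)
    refine (hmin _ (solv_of_hall _ (hab.quotient (cz x).normalCore)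
      ((cz x).map (QuotientGroup.mk' _)) a ?_
      ((index_map_dvd _ (QuotientGroup.mk'_surjective _)).trans hx.dvd))).trans (normalCore_le _)
    rw [← relIndex_ker, QuotientGroup.ker_mk', ← Nat.not_even_iff_odd, even_iff_two_dvd]
    exact hP.not_dvd_of_le h1
  -- the centre of `D` is trivial
  have hZ : center D = ⊥ := by
    by_contra h
    obtain ⟨p, hp', hd⟩ := Nat.exists_prime_and_dvd (mt card_eq_one.1 h)
    haveI := Fact.mk hp'
    obtain ⟨z, hz, hzp⟩ := exists_mem_orderOf_eq hd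
    have h1 : IsPGroup p (zpowers z) := IsPGroup.of_card (n := 1) (by rw [Nat.card_zpowers, hzp, pow_one])
    obtain ⟨P, hP⟩ := h1.exists_le_sylow
    obtain ⟨Q, hQ⟩ := (P.isPGroup'.map D.subtype).exists_le_sylow
    haveI : IsMulCommutative (P : Subgroup D) := ⟨⟨fun u v => Subtype.ext (Subtype.ext
      (Core.comm_of_isMulCommutative (hA p Q) (hQ ⟨_, u.2, rfl⟩) (hQ ⟨_, v.2, rfl⟩)))⟩⟩
    have h2 : _root_.commutator D = ⊤ := map_injective D.subtype_injective (by
      rw [map_subtype_commutator, hp, ← MonoidHom.range_eq_map, range_subtype])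
    exact ne_one_of_orderOf_eq hzp (mem_bot.1 (Transfer.inf_commutator_inf_center_eq_bot
      P.card_coprime_index ▸ ⟨⟨hP (mem_zpowers z), h2 ▸ mem_top z⟩, hz⟩))
  -- a class of even length in `D`
  obtain ⟨y, hy⟩ : ∃ y : D, 2 ∣ (cz y).index := by
    by_contra h
    push Not at h
    obtain ⟨T⟩ : Nonempty (Sylow 2 D) := inferInstance
    have h1 : 𝐂((T : Subgroup D)) = ⊤ := FGS.eq_top_of_forall_conj_mem _ fun y => by
      obtain ⟨P, hP⟩ := exists_isSylowIn 2 (cz y)
      obtain ⟨g, -, e⟩ := (hP.of_not_dvd_relIndex le_top (by rw [relIndex_top_right]; exact h y)).conj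
        (isSylowIn_top T)
      refine ⟨g, le_cz_iff.1 ?_⟩
      rw [← e, ← cj_cz]
      exact cj_mono g hP.le
    have h2 : (T : Subgroup D) = ⊥ := eq_bot_iff.2 fun t ht => hZ ▸ mem_center_iff.2 fun g =>
      ((h1 ▸ mem_top g : g ∈ 𝐂((T : Subgroup D))) t ht).symm
    have h3 : Odd (Nat.card D) := by
      rw [← Nat.not_even_iff_odd, even_iff_two_dvd]
      exact fun h3 => T.ne_bot_of_dvd_card h3 h2
    haveI := solv_of_odd h3
    refine hns (h0 (by_contra fun h4 => ?_))
    haveI := (nontrivial_iff_ne_bot D).2 h4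
    refine (IsSolvable.commutator_lt_top_of_nontrivial (G := D)).ne (map_injective
      D.subtype_injective ?_)
    rw [map_subtype_commutator, hp, ← MonoidHom.range_eq_map, range_subtype]
  refine hmax (x * y) ?_
  have h1 : cz (x * y) = cz x ⊓ cz (y : G) := by
    refine le_antisymm (fun g hg => ?_) (cz_inf_le_cz_mul _ _)
    have h2 := conj_eq_of_mem_cz hg
    have h3 : x⁻¹ * (g * x * g⁻¹) = y * (g * y * g⁻¹)⁻¹ := by
      rw [inv_mul_eq_iff_eq_mul, ← mul_assoc, ← h2]; group
    have h4 : x⁻¹ * (g * x * g⁻¹) ∈ D := h3 ▸ mul_mem y.2 (inv_mem (hD.conj_mem _ y.2 g))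
    have h5 : x⁻¹ * (g * x * g⁻¹) ∈ 𝐂(D) := mul_mem (inv_mem (le_cz_iff.1 hx'))
      ((normal_centralizer (H := D)).conj_mem _ (le_cz_iff.1 hx') g)
    have h6 : (⟨_, h4⟩ : D) ∈ center D := mem_center_iff.2 fun d => Subtype.ext (h5 d d.2)
    rw [hZ, mem_bot] at h6
    have h7 : g ∈ cz x := mem_cz_of_conj (inv_mul_eq_one.1 (congrArg Subtype.val h6)).symm
    exact ⟨h7, mem_cz_of_mul h7 hg⟩
  change _ ∣ (cz _).index
  rw [h1, ← relIndex_mul_index (inf_le_left : cz x ⊓ cz (y : G) ≤ cz x), hx, pow_succ',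
    inf_relIndex_left]
  refine Nat.mul_dvd_mul_right ?_ _
  have h2 : (cz (y : G)).relIndex D = (cz y).index := by
    rw [relIndex]; congr 1; ext d; simp [mem_subgroupOf, mem_cz, Subtype.ext_iff]
  rw [← h2, ← relIndex_subgroupOf hx'] at hy
  exact hy.trans (relIndex_dvd _ _)

end Cfsg.Agent.S4133
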