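import Mathlib
import Cfsg.Statements.S4137
import Cfsg.Agent.Part.R4e
import Cfsg.Agent.Classical.Congr

set_option autoImplicit false
open Cfsg

namespace Cfsg.Agent.S4137


/-- Let G be a finite group with trivial centre and at most three distinct sizes of conjugacy classes other than 1. Then G is solvable or G is isomorphic to PSL₂(2^a) for some a ≥ 1. -/
theorem result {G : Type*} [Group G] [Finite G]
    (hZ : Subgroup.center G = ⊥) (h : Nat.card {n : ℕ | 1 < n ∧ ∃ x : G, (Subgroup.centralizer ({x} : Set G)).index = n} ≤ 3) :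
    Group.IsSolvable G ∨ ∃ a : ℕ, 0 < a ∧ Nonempty (G ≃* Matrix.ProjectiveSpecialLinearGroup (Fin 2) (GaloisField 2 a)) := by
  refine or_iff_not_imp_left.2 fun hs => ?_
  obtain ⟨F, _, _, ⟨a, ha, hF⟩, ⟨e⟩⟩ := Part.rank3 hZ hs
    (S := {n : ℕ | 1 < n ∧ ∃ x : G, (Subgroup.centralizer ({x} : Set G)).index = n})
    ((Set.finite_range fun x : G => (Subgroup.centralizer ({x} : Set G)).index).subset fun _ h => h.2)
    h fun x hx => ⟨by
      have := mt FGS.index_centralizer_eq_one_iff.1 (show x ∉ Subgroup.center G by rwa [hZ, Subgroup.mem_bot])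
      have : (Subgroup.centralizer ({x} : Set G)).index ≠ 0 := Subgroup.index_ne_zero_of_finite
      unfold GW.cz
      omega, x, rfl⟩
  have := Fintype.ofFinite (GaloisField 2 a)
  exact ⟨a, by omega, ⟨e.trans (Classical.Congr.pslCongr (FiniteField.ringEquivOfCardEq (hF.trans
    ((GaloisField.card 2 a (by omega)).symm.trans Nat.card_eq_fintype_card))))⟩⟩

end Cfsg.Agent.S4137
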