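import Mathlib
import Cfsg.Statements.S4146
import Cfsg.Agent.Cam4.D
import Cfsg.Agent.S4127
import Cfsg.Agent.H2.Schmidt

set_option autoImplicit false
open Cfsg

namespace Cfsg.Agent.S4146

/-- Let G be a finite group whose conjugacy class sizes are exactly 1, n, m and nm for coprime integers n, m > 1. Then G is nilpotent and n and m are prime powers. -/
theorem result {G : Type*} [Group G] [Finite G] (n m : ℕ) (hn : 1 < n) (hm : 1 < m) (hcop : n.Coprime m)
    (h : Set.range (fun x : G => (Subgroup.centralizer ({x} : Set G)).index) = ({1, n, m, n * m} : Set ℕ)) :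
    Group.IsNilpotent G ∧ IsPrimePow n ∧ IsPrimePow m := by
  have hy : Cam4.Hyp G n m := by
    refine ⟨hn, hm, hcop, fun g => ?_, ?_, ?_, ?_⟩
    · have : (Cam4.C g).index ∈ ({1, n, m, n * m} : Set ℕ) := h ▸ Set.mem_range_self g
      simpa using this
    · have : n ∈ Set.range (fun x : G => (Subgroup.centralizer ({x} : Set G)).index) := by
        rw [h]; simp
      exact this
    · have : m ∈ Set.range (fun x : G => (Subgroup.centralizer ({x} : Set G)).index) := by
        rw [h]; simp
      exact this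
    · have : n * m ∈ Set.range (fun x : G => (Subgroup.centralizer ({x} : Set G)).index) := by
        rw [h]; simp
      exact this
  obtain ⟨r, s, a, b, x, y, hr, hs, hrx, hsy, hx, hy', ha, hb⟩ := hy.main
  refine ⟨H2.nilpotent_of_forall_hasNormalPComplement fun t ht _ => ?_,
    ⟨r, a, hr.prime, Nat.pos_of_ne_zero (by rintro rfl; simp at ha; omega), ha.symm⟩,
    ⟨s, b, hs.prime, Nat.pos_of_ne_zero (by rintro rfl; simp at hb; omega), hb.symm⟩⟩
  have := Fact.mk ht
  by_cases h1 : t = r
  · subst h1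
    exact S4127.result t a (hy.not_pow_dvd ht ha) ⟨x, hrx, hx.trans ha⟩
  by_cases h2 : t = s
  · subst h2
    exact S4127.result t b (hy.symm.not_pow_dvd ht hb) ⟨y, hsy, hy'.trans hb⟩
  refine S4127.result t 0 (fun g => ?_) ⟨1, ⟨0, by simp⟩, by
    rw [pow_zero]; exact FGS.index_centralizer_eq_one_iff.2 (one_mem _)⟩
  rw [zero_add, pow_one]
  exact hy.ndvd_ix ht
    (fun hd => h1 ((Nat.prime_dvd_prime_iff_eq ht hr).1 (ht.dvd_of_dvd_pow (ha ▸ hd))))
    (fun hd => h2 ((Nat.prime_dvd_prime_iff_eq ht hs).1 (ht.dvd_of_dvd_pow (hb ▸ hd)))) g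

end Cfsg.Agent.S4146
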