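import Mathlib
import Cfsg.Statements.S4147
import Cfsg.Agent.Part.Sg4
import Cfsg.Agent.Classical.PSL2Basic
import Cfsg.Agent.Classical.Congr

set_option autoImplicit false
open Cfsg

namespace Cfsg.Agent.S4147


/-- Let G be a finite group in which every conjugacy class size is divisible by at most two distinct primes. Then G is solvable, or G is the direct product of its centre and a subgroup isomorphic to the alternating group A₅ or to PSL₂(8). -/
theorem result {G : Type*} [Group G] [Finite G]
    (h : ∀ x : G, ((Subgroup.centralizer ({x} : Set G)).index).primeFactors.card ≤ 2) :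
    Group.IsSolvable G ∨ ∃ S : Subgroup G, S.Normal ∧ Subgroup.center G ⊓ S = ⊥ ∧ Subgroup.center G ⊔ S = ⊤ ∧
      (Nonempty (S ≃* alternatingGroup (Fin 5)) ∨ Nonempty (S ≃* Matrix.ProjectiveSpecialLinearGroup (Fin 2) (GaloisField 2 3))) := by
  refine or_iff_not_imp_left.2 fun hs => ?_
  obtain ⟨F, _, _, hF, N, h1, h2, h3, ⟨e⟩⟩ := Part.casolo h hs
  refine ⟨N, h1, h2, h3, hF.imp (fun e1 => ?_) fun e1 => ?_⟩
  · obtain ⟨f⟩ := Classical.PSL2Basic.psl_equiv_A5 (F := F) (Or.inl (Nat.card_eq_fintype_card.trans e1))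
    exact ⟨e.trans f⟩
  · have := Fintype.ofFinite (GaloisField 2 3)
    exact ⟨e.trans (Classical.Congr.pslCongr (FiniteField.ringEquivOfCardEq (by
      rw [e1, ← Nat.card_eq_fintype_card, GaloisField.card 2 3 (by norm_num)]; rfl)))⟩

end Cfsg.Agent.S4147
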