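import Mathlib
import Cfsg.Statements.S4702
import Cfsg.Agent.Perm.Zass5
import Cfsg.Agent.Classical.PSL2Basic
-- import your own Cfsg.Agent.* helpers here

set_option autoImplicit false
open Cfsg

namespace Cfsg.Agent.S4702

/-- Let G be a triply transitive permutation group on a finite set of odd size m ≥ 3 in which only the identity fixes three or more points. Then m = 2^a + 1 for some a ≥ 1 and G is isomorphic to SL(2, 2^a). -/
theorem result {α : Type*} [Fintype α] [DecidableEq α] (hm : 3 ≤ Fintype.card α) (hodd : Odd (Fintype.card α)) (G : Subgroup (Equiv.Perm α)) (h3 : MulAction.IsMultiplyPretransitive G α 3) (hfix : ∀ g : G, 3 ≤ Nat.card (MulAction.fixedBy α g) → g = 1) : ∃ a : ℕ, 1 ≤ a ∧ Fintype.card α = 2 ^ a + 1 ∧ ∃ (F : Type) (_ : Field F) (_ : Fintype F), Fintype.card F = 2 ^ a ∧ Nonempty (G ≃* Matrix.SpecialLinearGroup (Fin 2) F) := by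
  rw [← Nat.card_eq_fintype_card] at hm hodd ⊢
  have h : Perm.Z3 G α := by
    refine ⟨inferInstance, MulAction.isMultiplyPretransitive_of_le' (by norm_num : 2 ≤ 3)
      (by rw [ENat.card_eq_coe_natCard]; exact_mod_cast hm), fun g a b c hab hbc hac ha hb hc => ?_⟩
    refine hfix g ?_
    have h1 : ({a, b, c} : Set α) ⊆ MulAction.fixedBy α g := by
      rintro x (rfl | rfl | rfl) <;> assumption
    have h2 := Set.ncard_le_ncard h1
    rw [Set.ncard_eq_three.2 ⟨a, b, c, hab, hac, hbc, rfl⟩] at h2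
    exact h2
  obtain ⟨a, b, hab⟩ := Finite.one_lt_card_iff_nontrivial.mp (show 1 < Nat.card α by omega)
  obtain ⟨K, _, _, hK, ⟨e⟩⟩ := h.sharp_odd hab hodd (h.card_two_of_three h3 hm hab)
  obtain ⟨p, hp, n, hp', hn⟩ := FiniteField.card' K
  rw [Nat.card_eq_fintype_card (α := K), hn] at hK
  have h2 : p = 2 := by
    refine (hp'.eq_two_or_odd').resolve_right fun ho => ?_
    have := ho.pow (n := n)
    rw [Nat.odd_iff] at this hodd
    omega
  subst h2
  have h0 : (2 : K) = 0 := by simpa using CharP.cast_eq_zero K 2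
  exact ⟨n, n.2, hK, K, inferInstance, inferInstance, hn,
    ⟨e.trans ((Classical.PSL2Basic.slEquivPSL h0).trans (Classical.PSL2Basic.pslEquivPGL h0)).symm⟩⟩

end Cfsg.Agent.S4702
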