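import Mathlib
import Cfsg.Statements.S4150
import Cfsg.Agent.S0713
import Cfsg.Agent.S4702
import Cfsg.Agent.Perm.PrimeDegree
import Cfsg.Agent.Perm.Small3
import Cfsg.Agent.FGS.A8
import Cfsg.Agent.FGS.Bert
import Cfsg.Agent.Max.SymIdx

set_option autoImplicit false
open Cfsg

namespace Cfsg.Agent.S4150

open Equiv Equiv.Perm MulAction Subgroup SubMulAction

variable {α : Type} [Fintype α] [DecidableEq α] {G : Subgroup (Perm α)}

theorem card_ofFix (g : Perm α) : Nat.card (ofFixingSubgroup G (g.support : Set α)ᶜ) = g.support.card := by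
  classical
  rw [Nat.card_eq_fintype_card, Fintype.card_subtype]
  apply congr_arg
  ext x
  simp [mem_ofFixingSubgroup_iff]

theorem prim_fix {g : Perm α} (hc : g.IsCycle) (hp : g.support.card.Prime) (hg : g ∈ G) :
    IsPreprimitive (fixingSubgroup G (g.support : Set α)ᶜ) (ofFixingSubgroup G (g.support : Set α)ᶜ) :=
  have := isPretransitive_of_isCycle_mem hc hg
  IsPreprimitive.of_prime_card (card_ofFix g ▸ hp)

theorem multi (hG : IsPreprimitive G α) {g : Perm α} (hc : g.IsCycle) (hp : g.support.card.Prime) (hg : g ∈ G) {n : ℕ}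
    (hn : g.support.card + (n + 1) = Fintype.card α) : IsMultiplyPretransitive G α (n + 2) := by
  have h1 := Set.ncard_add_ncard_compl (g.support : Set α)
  rw [Set.ncard_coe_finset, Nat.card_eq_fintype_card] at h1
  have h2 := hp.two_le
  have := hG.isMultiplyPreprimitive (n := n) (by omega) (by rw [Nat.card_eq_fintype_card]; omega) (prim_fix hc hp hg)
  infer_instance

theorem index_fix {k : ℕ} (h : IsMultiplyPretransitive G α k) {s : Set α} (hs : s.ncard = k) :
    (fixingSubgroup G s).index = (Fintype.card α).choose k * k.factorial := by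
  subst hs
  rw [h.index_of_fixingSubgroup_eq, Nat.card_eq_fintype_card]

theorem dvd_of_multi {k : ℕ} (h : IsMultiplyPretransitive G α k) (hk : k ≤ Fintype.card α) :
    (Fintype.card α).choose k * k.factorial ∣ Nat.card G := by
  obtain ⟨s, -, hs⟩ := Set.exists_subset_card_eq (s := (Set.univ : Set α)) (n := k)
    (by rwa [Set.ncard_univ, Nat.card_eq_fintype_card])
  exact index_fix h hs ▸ index_dvd_card _

theorem sharp {k : ℕ} (h : IsMultiplyPretransitive G α k) (hc : Nat.card G = (Fintype.card α).choose k * k.factorial)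
    (g : G) (hg : k ≤ Nat.card (fixedBy α g)) : g = 1 := by
  obtain ⟨s, h1, hs⟩ := Set.exists_subset_card_eq (s := fixedBy α g) (n := k) hg
  have h2 := (fixingSubgroup G s).card_mul_index
  rw [index_fix h hs, ← hc, Nat.mul_eq_right Nat.card_pos.ne', card_eq_one] at h2
  exact mem_bot.mp (h2 ▸ (mem_fixingSubgroup_iff G).mpr fun y hy => h1 hy)

theorem card_fixedBy (g : G) : Nat.card (fixedBy α g) = Fintype.card (Function.fixedPoints (g : Perm α)) :=
  (Nat.card_eq_fintype_card (α := Function.fixedPoints (g : Perm α)))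

theorem card_fix_add (g : Perm α) : Fintype.card (Function.fixedPoints g) + g.support.card = Fintype.card α := by
  rw [card_fixedPoints, sum_cycleType, Nat.sub_add_cancel g.support.card_le_univ]

theorem index_alt (hA : G ≤ alternatingGroup α) (h5 : 5 ≤ Fintype.card α) (h : ¬ alternatingGroup α ≤ G) :
    2 * (Nat.card G * (G.subgroupOf (alternatingGroup α)).index) = (Fintype.card α).factorial ∧
      Fintype.card α ≤ (G.subgroupOf (alternatingGroup α)).index := by
  have h1 := Max.two_mul_card_alt (Ω := α) (by rw [Nat.card_eq_fintype_card]; omega)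
  have := alternatingGroup.isSimpleGroup (α := α) (by rw [Nat.card_eq_fintype_card]; omega)
  rw [Nat.card_eq_fintype_card (α := α)] at h1
  refine ⟨?_, Max.le_index_of_simple (by omega) h1 fun e => h (subgroupOf_eq_top.mp e)⟩
  rw [← h1, ← (G.subgroupOf (alternatingGroup α)).card_mul_index, Nat.card_congr (subgroupOfEquivOfLe hA).toEquiv]

theorem deg7 (h : Fintype.card α = 7) (h3 : IsMultiplyPretransitive G α 3) (hA : G ≤ alternatingGroup α) :
    alternatingGroup α ≤ G := by
  by_contra hc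
  obtain ⟨h1, h2⟩ := index_alt hA (by omega) hc
  obtain ⟨k, hk⟩ := dvd_of_multi h3 (by omega)
  rw [hk, h] at h1
  rw [h] at h2
  norm_num [Nat.choose, Nat.factorial] at h1
  have h4 : k = 1 := by
    have : k * (G.subgroupOf (alternatingGroup α)).index = 12 := by nlinarith
    rcases k with _ | _ | k
    · omega
    · rfl
    · nlinarith
  obtain ⟨a, -, ha, -⟩ := S4702.result (by omega) (h ▸ by decide) G h3 (sharp h3 (by rw [hk, h4, mul_one]))
  have : a < 3 := (Nat.pow_lt_pow_iff_right (a := 2) (by norm_num)).mp (by omega)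
  interval_cases a <;> omega

theorem deg6 (h : Fintype.card α = 6) (h2 : IsMultiplyPretransitive G α 2) (hA : G ≤ alternatingGroup α)
    (hc : ¬ alternatingGroup α ≤ G) : Nonempty (G ≃* alternatingGroup (Fin 5)) := by
  obtain ⟨h1, h3⟩ := index_alt hA (by omega) hc
  obtain ⟨k, hk⟩ := dvd_of_multi h2 (by omega)
  rw [hk, h] at h1
  rw [h] at h3
  norm_num [Nat.choose, Nat.factorial] at h1
  have h4 : k * (G.subgroupOf (alternatingGroup α)).index = 12 := by nlinarith
  have h5 : k ≠ 1 := by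
    rintro rfl
    obtain ⟨t, ht⟩ := exists_prime_orderOf_dvd_card' (G := G) 2 (by rw [hk, h]; decide)
    have h6 : (t : Perm α) ^ 2 = 1 := by rw [← Subgroup.coe_pow, ← ht, pow_orderOf_eq_one]; rfl
    have h7 := sign_of_pow_two_eq_one h6
    have h8 : ¬ 2 ≤ Nat.card (fixedBy α t) := fun e => by simp [sharp h2 (hk.trans (mul_one _)) t e] at ht
    have h9 := two_dvd_card_support h6
    have := card_fix_add (t : Perm α)
    rw [card_fixedBy] at h8
    rw [mem_alternatingGroup.mp (hA t.2), h, show Fintype.card (Function.fixedPoints (t : Perm α)) = 0 by omega] at h7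
    exact absurd h7 (by decide)
  have h6 : k = 2 := by
    rcases k with _ | _ | _ | k
    · omega
    · omega
    · rfl
    · nlinarith
  subst h6
  have := alternatingGroup.isSimpleGroup (α := α) (by rw [Nat.card_eq_fintype_card]; omega)
  have h7 : Nat.card (G.subgroupOf (alternatingGroup α)) = 60 := by
    rw [Nat.card_congr (subgroupOfEquivOfLe hA).toEquiv, hk, h]; decide
  rcases FGS.alt_or_sym_of_inj (n := 5) ((Max.card_other _).trans (by omega)) _
    (Max.cosetRes_injective (Max.core_eq_bot fun e => hc (subgroupOf_eq_top.mp e))) (by rw [h7]; decide) with ⟨-, ⟨e⟩⟩ | ⟨e, -⟩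
  · exact ⟨(subgroupOfEquivOfLe hA).symm.trans e⟩
  · rw [h7] at e; exact absurd e (by decide)

theorem five (h : Fintype.card α = 13) (hG : IsPreprimitive G α) (h3 : IsMultiplyPretransitive G α 3)
    (h5 : 5 ∣ Nat.card G) : alternatingGroup α ≤ G := by
  have : Fact (Nat.Prime 5) := ⟨by norm_num⟩
  by_contra hc
  have h1 : ∀ g ∈ G, g.IsCycle → g.support.card ≠ 5 := fun g hg h1 h2 =>
    hc (S0713.result G hG (by norm_num) (by omega) (by omega) h1 h2 hg)
  have h2 : ¬ 5 ^ 2 ∣ Nat.card G := fun e => by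
    obtain ⟨K, hK⟩ := Sylow.exists_subgroup_card_pow_prime 5 e
    obtain ⟨c, hc⟩ := (exists_with_cycleType_iff α (m := {5})).mpr (by simp [h])
    have h4 : c.IsCycle := card_cycleType_eq_one.mp (by rw [hc]; rfl)
    have h6 : c.support.card = 5 := by rw [← sum_cycleType, hc]; rfl
    obtain ⟨g, hg⟩ := Perm.exists_conj_mem_sylow (Sylow.ofCard (p := 5) (K.map G.subtype) (by
      rw [card_map_of_injective G.subtype_injective, hK, Nat.card_perm, Nat.card_eq_fintype_card, h,
        show Nat.factorial 13 = 5 ^ 2 * 249080832 by decide, Nat.factorization_mul (by norm_num) (by norm_num)]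
      rw [Finsupp.add_apply, Nat.factorization_eq_zero_of_not_dvd (show ¬ 5 ∣ 249080832 by norm_num),
        Nat.Prime.factorization_pow this.out, Finsupp.single_eq_same]))
      (x := c) (k := 1) (by rw [h4.orderOf, h6]; rfl)
    exact h1 _ (map_subtype_le K hg) h4.conj (by rw [card_support_conj, h6])
  obtain ⟨z, hz⟩ := exists_prime_orderOf_dvd_card' (G := G) 5 h5
  have hz' : orderOf (z : Perm α) = 5 := by rw [Subgroup.orderOf_coe, hz]
  have h4 : (z : Perm α).support.card = 10 := by
    obtain ⟨n, hn⟩ := cycleType_prime_order (hz' ▸ this.out)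
    have h6 := sum_cycleType (z : Perm α)
    have h7 := (z : Perm α).support.card_le_univ
    rw [hn, hz', Multiset.sum_replicate, smul_eq_mul] at h6
    have : n ≠ 0 := by
      rintro rfl
      exact h1 z z.2 (card_cycleType_eq_one.mp (by rw [hn]; rfl)) (by omega)
    omega
  set s : Set α := ((z : Perm α).support : Set α)ᶜ with hs
  have h6 : s.ncard = 3 := by
    have := Set.ncard_add_ncard_compl ((z : Perm α).support : Set α)
    rw [Set.ncard_coe_finset, Nat.card_eq_fintype_card, ← hs] at this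
    omega
  have hm : ∀ x, x ∈ s ↔ (z : Perm α) x = x := by intro x; simp [hs]
  obtain ⟨a, b, c, hab, hac, hbc, e⟩ := Set.ncard_eq_three.mp h6
  obtain ⟨g, hg⟩ := Perm.multi_set h3 (by rw [Nat.card_eq_fintype_card]; omega) s h6.le (swap a b * swap a c : Perm α)
    (Equiv.injective _).injOn
  have ha : a ∈ s := by simp [e]
  have hb : b ∈ s := by simp [e]
  have hc' : c ∈ s := by simp [e]
  have g1 : (g : Perm α) a = c := (hg a ha).trans (by simp [swap_apply_of_ne_of_ne hac.symm hbc.symm])
  have g2 : (g : Perm α) b = a := (hg b hb).trans (by simp [swap_apply_of_ne_of_ne hab.symm hbc])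
  have g3 : (g : Perm α) c = b := (hg c hc').trans (by simp)
  obtain ⟨l, i, hl⟩ := Perm.exists_conj_eq_pow (H := fixingSubgroup G s) (p := 5) (fun e => h2 (e.trans (card_subgroup_dvd_card _)))
    (a := ⟨z, (mem_fixingSubgroup_iff G).mpr fun y hy => (hm y).mp hy⟩)
    (b := ⟨g * z * g⁻¹, (mem_fixingSubgroup_iff G).mpr fun y hy => by
      have : ∃ w ∈ s, (g : Perm α) w = y := by
        rcases e ▸ hy with rfl | rfl | rfl
        exacts [⟨b, hb, g2⟩, ⟨c, hc', g3⟩, ⟨a, ha, g1⟩]
      obtain ⟨w, h7, rfl⟩ := this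
      change (g : Perm α) ((z : Perm α) ((g : Perm α)⁻¹ _)) = _
      simp [(hm w).mp h7]⟩)
    (by rw [← Subgroup.orderOf_coe]; exact hz) (by rw [← Subgroup.orderOf_coe]; exact ((MulAut.conj g).orderOf_eq z).trans hz)
  obtain ⟨u, hu⟩ : ∃ u : G, u = l * g := ⟨_, rfl⟩
  have l1 := (mem_fixingSubgroup_iff G).mp l.2
  have u0 : u * z * u⁻¹ = z ^ i := by
    have := congrArg Subtype.val hl
    simp only [Subgroup.coe_mul, InvMemClass.coe_inv, SubmonoidClass.coe_pow] at this
    rw [← this, hu]; group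
  have u1 : (u : Perm α) a = c := by rw [hu, Subgroup.coe_mul, Perm.mul_apply, g1]; exact l1 c hc'
  have u2 : (u : Perm α) b = a := by rw [hu, Subgroup.coe_mul, Perm.mul_apply, g2]; exact l1 a ha
  have u3 : (u : Perm α) c = b := by rw [hu, Subgroup.coe_mul, Perm.mul_apply, g3]; exact l1 b hb
  have u4 : ∀ k, u ^ k * z * (u ^ k)⁻¹ = z ^ i ^ k := fun k => by
    induction k with
    | zero => simp
    | succ k ih => rw [pow_succ' u, pow_succ' i, pow_mul, ← u0, conj_pow, ← ih]; group
  have u5 : Commute (u ^ 4) z := by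
    have h7 : ¬ 5 ∣ i := fun e => by
      rw [← hz, orderOf_dvd_iff_pow_eq_one, ← u0, conj_eq_one_iff] at e
      simp [e] at hz
    have h8 : i ^ 4 ≡ 1 [MOD 5] := Nat.ModEq.pow_totient ((Nat.Prime.coprime_iff_not_dvd this.out).mpr h7).symm
    have := u4 4
    rw [(pow_eq_pow_iff_modEq (x := z)).mpr (hz ▸ h8), pow_one] at this
    exact mul_inv_eq_iff_eq_mul.mp this
  have u6 : 3 ∣ orderOf (u ^ 4) := by
    have h7 : ((u : Perm α) ^ 3) a = a := by simp [pow_succ, u1, u2, u3]
    have h8 : ((u : Perm α) ^ (4 * orderOf (u ^ 4))) a = a := by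
      rw [← Subgroup.coe_pow, pow_mul, pow_orderOf_eq_one]; rfl
    rw [← Nat.div_add_mod' (4 * _) 3, add_comm, pow_add, mul_comm _ 3, pow_mul, Perm.mul_apply,
      pow_apply_eq_self_of_apply_eq_self h7] at h8
    by_contra h9
    have : 4 * orderOf (u ^ 4) % 3 = 1 ∨ 4 * orderOf (u ^ 4) % 3 = 2 := by omega
    rcases this with e | e <;> rw [e] at h8 <;> simp [pow_succ, u1, u3, hab.symm, hac.symm] at h8
  obtain ⟨w, w1, w2⟩ : ∃ w : G, orderOf w = 3 ∧ Commute w z :=
    ⟨_, orderOf_pow_orderOf_div (orderOf_pos _).ne' u6, u5.pow_left _⟩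
  have w3 : orderOf (w : Perm α) = 3 := by rw [Subgroup.orderOf_coe, w1]
  have w4 : Commute (w : Perm α) (z : Perm α) := w2.map G.subtype
  have w5 : (w : Perm α).support ⊆ (z : Perm α).supportᶜ := fun x hx => Finset.mem_compl.mpr fun hx' => by
    have a1 : (w : Perm α) ^ 3 = 1 := w3 ▸ pow_orderOf_eq_one _
    have a2 : (z : Perm α) ^ 5 = 1 := hz' ▸ pow_orderOf_eq_one _
    have a3 : ¬ period ((w : Perm α) * z) x ∣ 10 := fun e => mem_support.mp hx (by
      have := pow_smul_eq_iff_period_dvd.mpr e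
      rwa [w4.mul_pow, show 10 = 5 * 2 from rfl, pow_mul (z : Perm α), a2, show 5 * 2 = 3 * 3 + 1 from rfl, pow_succ,
        pow_mul, a1, one_pow, one_pow, one_mul, mul_one] at this)
    have a4 : ¬ period ((w : Perm α) * z) x ∣ 6 := fun e => mem_support.mp hx' (by
      have := pow_smul_eq_iff_period_dvd.mpr e
      rwa [w4.mul_pow, show 6 = 3 * 2 from rfl, pow_mul (w : Perm α), a1, show 3 * 2 = 5 + 1 from rfl, pow_succ (z : Perm α),
        a2, one_pow, one_mul, one_mul] at this)
    have a5 : period ((w : Perm α) * z) x ∣ 15 := pow_smul_eq_iff_period_dvd.mp (by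
      rw [w4.mul_pow, show 15 = 3 * 5 from rfl, pow_mul (w : Perm α), a1, mul_comm 3, pow_mul, a2]; simp)
    have a6 : period ((w : Perm α) * z) x ≤ 13 := h ▸ Function.minimalPeriod_le_card
    generalize period ((w : Perm α) * z) x = n at *
    interval_cases n <;> omega
  have w6 := Finset.card_le_card w5
  rw [Finset.card_compl, h, h4] at w6
  have w7 := isCycle_of_prime_order (σ := (w : Perm α)) (w3 ▸ Nat.prime_three) (by omega)
  exact hc (alternatingGroup_le_of_isPreprimitive_of_isThreeCycle_mem hG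
    (card_support_eq_three_iff.mp (w7.orderOf ▸ w3)) w.2)

theorem deg13 (h : Fintype.card α = 13) (hG : IsPreprimitive G α) (hA : G ≤ alternatingGroup α) {g : Perm α}
    (hc : g.IsCycle) (hp : g.support.card = 11) (hg : g ∈ G) : alternatingGroup α ≤ G := by
  have : Fact (Nat.Prime 11) := ⟨by norm_num⟩
  have h3 := multi hG hc (hp ▸ this.out) hg (n := 1) (by omega)
  by_cases h5 : 5 ∣ Nat.card G
  · exact five h hG h3 h5
  exfalso
  set s : Set α := (g.support : Set α)ᶜ with hs
  have h6 : s.ncard = 2 := by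
    have := Set.ncard_add_ncard_compl (g.support : Set α)
    rw [Set.ncard_coe_finset, Nat.card_eq_fintype_card, ← hs] at this
    omega
  have h1 : Nat.card (ofFixingSubgroup G s) = 11 := (card_ofFix g).trans hp
  have := isPretransitive_of_isCycle_mem hc hg
  have : FaithfulSMul (fixingSubgroup G s) (ofFixingSubgroup G s) := ⟨fun {a b} e => Subtype.ext (Subtype.ext (Equiv.ext fun x => by
    by_cases hx : x ∈ s
    · exact ((mem_fixingSubgroup_iff G).mp a.2 x hx).trans ((mem_fixingSubgroup_iff G).mp b.2 x hx).symm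
    · exact congrArg Subtype.val (e ⟨x, hx⟩)))⟩
  obtain ⟨P⟩ : Nonempty (Sylow 11 (fixingSubgroup G s)) := inferInstance
  have h2 := Perm.prime_degree_card_sylow h1 P
  obtain ⟨d, d1, d2, d3⟩ := Perm.prime_degree_card_normalizer h1 _ h2
  have d4 : ¬ 5 ∣ d := fun e => h5 (((e.mul_left 11).trans (d3 ▸ card_subgroup_dvd_card _)).trans (card_subgroup_dvd_card _))
  have d5 := Nat.le_of_dvd (by norm_num) d1
  by_cases d6 : d = 1
  · have a1 := Perm.prime_degree_card_eq_of_self_normalizing h1 P (relIndex_eq_one.mp (d6 ▸ d2))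
    have a2 := (fixingSubgroup G s).card_mul_index
    rw [index_fix (isMultiplyPretransitive_of_le (n := 3) (by norm_num) (by rw [Nat.card_eq_fintype_card]; omega)) h6, a1] at a2
    obtain ⟨a, -, ha, -⟩ := S4702.result (by omega) (h ▸ by decide) G h3 (sharp h3 (by rw [← a2, h]; decide))
    have : a < 4 := (Nat.pow_lt_pow_iff_right (a := 2) (by norm_num)).mp (by omega)
    interval_cases a <;> omega
  obtain ⟨t, t1, t2⟩ := Perm.exists_mem_orderOf_prime _ Nat.prime_two (d3 ▸ Dvd.dvd.mul_left (by interval_cases d <;> omega) 11)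
  obtain ⟨τ, a1, a2⟩ := Perm.exists_zpowers_eq_of_card_prime _ h2
  obtain ⟨e, he⟩ := Perm.exists_coord h1 τ a1
  obtain ⟨i, hi⟩ : t * τ * t⁻¹ ∈ Submonoid.powers τ := mem_powers_iff_mem_zpowers.mpr (a2 ▸ (t1 τ).mp (a2 ▸ mem_zpowers τ))
  have a3 := Perm.affine_of_conj he hi.symm
  have a4 : ((t : G) : Perm α) ^ 2 = 1 := by
    rw [← Subgroup.coe_pow, ← Subgroup.coe_pow, ← t2, pow_orderOf_eq_one]; rfl
  have a5 := sign_of_pow_two_eq_one a4
  have a6 := two_dvd_card_support a4
  have a7 := card_fix_add ((t : G) : Perm α)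
  have a8 : s ⊆ Function.fixedPoints ((t : G) : Perm α) := (mem_fixingSubgroup_iff G).mp t.2
  have a9 := Set.ncard_diff_add_ncard_of_subset a8
  rw [h6, ← Nat.card_coe_set_eq (Function.fixedPoints _), Nat.card_eq_fintype_card] at a9
  by_cases b1 : 1 < (Function.fixedPoints ((t : G) : Perm α) \ s).ncard
  · obtain ⟨u, v, hu, hv, huv⟩ := (Set.one_lt_ncard_iff (Set.toFinite _)).mp b1
    have b2 := a3 ⟨u, hu.2⟩
    have b3 := a3 ⟨v, hv.2⟩
    rw [show t • (⟨u, hu.2⟩ : ofFixingSubgroup G s) = ⟨u, hu.2⟩ from Subtype.ext hu.1] at b2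
    rw [show t • (⟨v, hv.2⟩ : ofFixingSubgroup G s) = ⟨v, hv.2⟩ from Subtype.ext hv.1] at b3
    have b4 : (i : ZMod 11) = 1 := mul_right_cancel₀ (b := e ⟨u, hu.2⟩ - e ⟨v, hv.2⟩)
      (sub_ne_zero.mpr fun e' => huv (congrArg Subtype.val (e.injective e'))) (by linear_combination b3 - b2)
    have b5 : t = 1 := Perm.eq_one_of_forall_smul (α := ofFixingSubgroup G s) fun x => e.injective (by
      rw [a3, b4]; rw [b4] at b2; linear_combination -b2)
    simp [b5] at t2
  rw [mem_alternatingGroup.mp (hA (t : G).2), h,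
    show Fintype.card (Function.fixedPoints ((t : G) : Perm α)) = 3 by omega] at a5
  exact absurd a5 (by decide)

theorem support_eq {x : Perm α} {p : ℕ} (hp : p.Prime) (hx : orderOf x = p) (h : Fintype.card α < 2 * p) :
    x.IsCycle ∧ x.support.card = p :=
  have := isCycle_of_prime_order' (hx ▸ hp) (hx ▸ h)
  ⟨this, this.orderOf ▸ hx⟩

theorem prim {x y : Perm α} {p q : ℕ} (hp : p.Prime) (hq : q.Prime) (hx : orderOf x = p) (hy : orderOf y = q) (hpq : p < q)
    (h : Fintype.card α ≤ 2 * p) (hf : ∀ a, x a = a → y a ≠ a) : IsPreprimitive (closure {x, y} : Subgroup (Perm α)) α := by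
  have := Fact.mk hp
  obtain ⟨h1, h2⟩ := support_eq hq hy (by omega)
  have hxG : x ∈ closure ({x, y} : Set (Perm α)) := subset_closure (by simp)
  have hyG : y ∈ closure ({x, y} : Set (Perm α)) := subset_closure (by simp)
  have h3 : ∀ a, ∃ g : (closure {x, y} : Subgroup (Perm α)), y (g • a) ≠ g • a := fun a => by
    by_contra! hc
    have a1 : x a ≠ a := fun e => hf a e (by simpa using hc 1)
    have a2 : orbit (zpowers x) a ⊆ (y.support : Set α)ᶜ := by
      rintro _ ⟨g, rfl⟩
      exact fun e => mem_support.mp e (hc ⟨g, zpowers_le.mpr hxG g.2⟩)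
    have a3 := Set.ncard_le_ncard a2
    have a4 := Set.ncard_add_ncard_compl (y.support : Set α)
    rw [Set.ncard_coe_finset, Nat.card_eq_fintype_card] at a4
    have a5 : (orbit (zpowers x) a).ncard ∣ p := by
      rw [← index_stabilizer, ← hx, ← Nat.card_zpowers]; exact index_dvd_card _
    rcases (Nat.dvd_prime hp).mp a5 with e | e
    · obtain ⟨b, hb⟩ := Set.ncard_eq_one.mp e
      have b1 : x a ∈ orbit (zpowers x) a := ⟨⟨x, mem_zpowers x⟩, rfl⟩
      exact a1 ((hb ▸ b1 : x a ∈ ({b} : Set α)).trans (hb ▸ mem_orbit_self a : a ∈ ({b} : Set α)).symm)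
    · omega
  have : IsPretransitive (closure {x, y} : Subgroup (Perm α)) α := ⟨fun a b => by
    obtain ⟨g, hg⟩ := h3 a
    obtain ⟨k, hk⟩ := h3 b
    obtain ⟨i, hi⟩ := h1.exists_pow_eq hg hk
    exact ⟨k⁻¹ * ⟨y, hyG⟩ ^ i * g, by rw [mul_smul, mul_smul, inv_smul_eq_iff]; exact hi⟩⟩
  have := prim_fix h1 (h2 ▸ hq) hyG
  refine IsPreprimitive.of_card_lt (f := ofFixingSubgroup_equivariantMap (closure {x, y} : Subgroup (Perm α)) (y.support : Set α)ᶜ) ?_
  rw [← Nat.card_coe_set_eq, Nat.card_range_of_injective ofFixingSubgroup_equivariantMap_injective, card_ofFix,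
    Nat.card_eq_fintype_card]
  omega

theorem main {x y : Perm α} {p q : ℕ} (hp : p.Prime) (hq : q.Prime) (hx : orderOf x = p) (hy : orderOf y = q) (hpq : p < q)
    (h : Fintype.card α ≤ 2 * p) (hf : ∀ a, x a = a → y a ≠ a) (hA : closure {x, y} ≤ alternatingGroup α)
    (hs : (p = 3 ∧ q = 5) ∨ (p = 5 ∧ q = 7) ∨ (Fintype.card α < 2 * p ∧ ((p = 11 ∧ q = 13) ∨ p + 3 ≤ q))) :
    ∃ d : ℕ, 5 ≤ d ∧ Nonempty ((closure {x, y} : Subgroup (Perm α)) ≃* alternatingGroup (Fin d)) := by
  have h0 := prim hp hq hx hy hpq h hf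
  obtain ⟨h1, h2⟩ := support_eq hq hy (by omega)
  have h3 := h2 ▸ y.support.card_le_univ
  have h4 := hp.two_le
  have hxG : x ∈ closure ({x, y} : Set (Perm α)) := subset_closure (by simp)
  have hyG : y ∈ closure ({x, y} : Set (Perm α)) := subset_closure (by simp)
  by_cases hc : alternatingGroup α ≤ closure {x, y}
  · exact ⟨Fintype.card α, by omega, ⟨(MulEquiv.subgroupCongr (le_antisymm hA hc)).trans
      (Fintype.equivFin α).altCongrHom⟩⟩
  have h5 : ¬ q + 3 ≤ Fintype.card α := fun e => hc (S0713.result _ h0 hq (by omega) e h1 h2 hyG)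
  by_cases h6 : Fintype.card α < 2 * p
  · obtain ⟨a1, a2⟩ := support_eq hp hx h6
    have a3 : ¬ p + 3 ≤ Fintype.card α := fun e => hc (S0713.result _ h0 hp (by omega) e a1 a2 hxG)
    refine (hc ?_).elim
    rcases hs with ⟨rfl, rfl⟩ | ⟨rfl, rfl⟩ | ⟨-, ⟨rfl, rfl⟩ | e⟩
    · exact alternatingGroup_le_of_isPreprimitive_of_isThreeCycle_mem h0 (card_support_eq_three_iff.mp a2) hxG
    · exact deg7 (by omega) (multi h0 a1 (a2 ▸ hp) hxG (n := 1) (by omega)) hA
    · exact deg13 (by omega) h0 hA a1 a2 hxG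
    · omega
  · exact ⟨5, le_rfl, deg6 (by omega) (multi h0 h1 (h2 ▸ hq) hyG (n := 0) (by omega)) hA hc⟩

theorem main' {m p q : ℕ} (hp : p.Prime) (hq : q.Prime) (hpq : p < q) (h : m ≤ 2 * p)
    (hs : (p = 3 ∧ q = 5) ∨ (p = 5 ∧ q = 7) ∨ (m < 2 * p ∧ ((p = 11 ∧ q = 13) ∨ p + 3 ≤ q)))
    (x y : alternatingGroup (Fin m)) (hx : orderOf x = p) (hy : orderOf y = q) :
    ∃ d : ℕ, 5 ≤ d ∧ Nonempty (closure ({x, y} : Set (alternatingGroup (Fin m))) ≃* alternatingGroup (Fin d)) := by
  let P : Fin m → Prop := fun a => x.1 a ≠ a ∨ y.1 a ≠ a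
  have key : ∀ g : Perm (Fin m), (∀ a, g a ≠ a → P a) → ∃ g' : Perm (Subtype P), ofSubtype g' = g := fun g hg =>
    ⟨g.subtypePerm fun a => by
      by_cases e : g a = a
      · rw [e]
      · exact iff_of_true (hg _ fun e' => e (g.injective e')) (hg a e), ofSubtype_subtypePerm _ hg⟩
  obtain ⟨x', hx'⟩ := key x fun _ => Or.inl
  obtain ⟨y', hy'⟩ := key y fun _ => Or.inr
  have h1 : Fintype.card (Subtype P) ≤ m := (Fintype.card_subtype_le P).trans (by simp)
  have h2 : ∀ g : Perm (Subtype P), orderOf (ofSubtype g) = orderOf g := orderOf_injective _ ofSubtype_injective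
  obtain ⟨d, h3, ⟨e⟩⟩ := main (x := x') (y := y') hp hq (by rw [← h2, hx', Subgroup.orderOf_coe, hx])
    (by rw [← h2, hy', Subgroup.orderOf_coe, hy]) hpq (h1.trans h) (fun a h4 h5 => a.2.elim
      (fun h6 => h6 (by rw [← hx', ofSubtype_apply_coe, h4])) fun h6 => h6 (by rw [← hy', ofSubtype_apply_coe, h5]))
    ((closure_le _).mpr (by
      rintro g (e | e) <;> refine mem_alternatingGroup.mpr ?_ <;> rw [← sign_ofSubtype, e]
      · rw [hx']; exact x.2
      · rw [hy']; exact y.2)) (by omega)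
  refine ⟨d, h3, ⟨((((closure {x, y}).equivMapOfInjective _ (subtype_injective _)).trans (MulEquiv.subgroupCongr ?_)).trans
    ((closure {x', y'}).equivMapOfInjective ofSubtype ofSubtype_injective).symm).trans e⟩⟩
  simp only [MonoidHom.map_closure, Set.image_pair, hx', hy', coe_subtype]

/-- Let m ≥ 5. Then there are primes p < q with m/2 ≤ p and q ≤ m such that any two elements x, y of the alternating group of degree m with x of order p and y of order q generate a subgroup isomorphic to an alternating group of some degree d ≥ 5. -/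
theorem result (m : ℕ) (hm : 5 ≤ m) :
    ∃ p q : ℕ, p.Prime ∧ q.Prime ∧ m ≤ 2 * p ∧ p < q ∧ q ≤ m ∧
      ∀ x y : alternatingGroup (Fin m), orderOf x = p → orderOf y = q →
        ∃ d : ℕ, 5 ≤ d ∧ Nonempty (Subgroup.closure ({x, y} : Set (alternatingGroup (Fin m))) ≃* alternatingGroup (Fin d)) := by
  by_cases h1 : m ≤ 6
  · exact ⟨3, 5, by norm_num, by norm_num, h1, by omega, hm, main' (by norm_num) (by norm_num) (by omega) h1 (by omega)⟩
  by_cases h2 : m ≤ 10
  · exact ⟨5, 7, by norm_num, by norm_num, h2, by omega, by omega, main' (by norm_num) (by norm_num) (by omega) h2 (by omega)⟩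
  by_cases h3 : m ≤ 12
  · exact ⟨7, 11, by norm_num, by norm_num, by omega, by omega, by omega,
      main' (by norm_num) (by norm_num) (by omega) (by omega) (by omega)⟩
  by_cases h4 : m ≤ 16
  · exact ⟨11, 13, by norm_num, by norm_num, by omega, by omega, by omega,
      main' (by norm_num) (by norm_num) (by omega) (by omega) (by omega)⟩
  obtain ⟨p, q, hp, hq, a1, a2, a3⟩ := FGS.exists_two_primes m (by omega)
  exact ⟨p, q, hp, hq, a1.le, by omega, a3, main' hp hq (by omega) a1.le (by omega)⟩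

end Cfsg.Agent.S4150
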