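import Mathlib
import Cfsg.Statements.S4151
import Cfsg.Agent.Inv.TIH

set_option autoImplicit false
open Cfsg

namespace Cfsg.Agent.S4151

open Subgroup Inv.TIH

/-- Let G be a finite group and H a non-normal subgroup meeting each of its conjugates by elements outside N_G(H) trivially, with the order of H coprime to its index in N_G(H), such that G is π-separable for π the set of primes dividing the order of H (G has a chain of normal subgroups from 1 to G each of whose factors has order divisible only by primes dividing the order of H or coprime to it). Suppose a Sylow 2-subgroup of H is abelian and Q is a complement of H in N_G(H). Then C_H(Q), the subgroup of elements of H commuting with Q, has order coprime to its index in G and has a normal complement in G. -/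
theorem result {G : Type*} [Group G] [Finite G] (H : Subgroup G)
    (hTI : Cfsg.IsTISubset (H : Set G)) (hnn : ¬ H.Normal)
    (hHall : (Nat.card H).Coprime (H.subgroupOf (Subgroup.normalizer (H : Set G))).index)
    (hsep : ∃ (n : ℕ) (M : Fin (n + 1) → Subgroup G), M 0 = ⊥ ∧ M (Fin.last n) = ⊤ ∧ Monotone M ∧ (∀ i, (M i).Normal) ∧
      ∀ i : Fin n, (∀ q : ℕ, q.Prime → q ∣ (M i.castSucc).relIndex (M i.succ) → q ∣ Nat.card H) ∨
        ((M i.castSucc).relIndex (M i.succ)).Coprime (Nat.card H))
    (h2 : ∀ P : Sylow 2 H, IsMulCommutative (P : Subgroup H))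
    (Q : Subgroup G) (hQ : Q ≤ Subgroup.normalizer (H : Set G)) (hQH : Q ⊓ H = ⊥) (hQH' : Q ⊔ H = Subgroup.normalizer (H : Set G)) :
    (Nat.card ↥(H ⊓ Subgroup.centralizer (Q : Set G))).Coprime (H ⊓ Subgroup.centralizer (Q : Set G)).index ∧
    ∃ N : Subgroup G, N.Normal ∧ N.IsComplement' (H ⊓ Subgroup.centralizer (Q : Set G)) := by
  obtain ⟨n, M, h0, hn, hm, hN, hs⟩ := hsep
  have hHall' : (Nat.card H).Coprime (H.relIndex (normalizer (H : Set G))) := hHall
  have h1 : H ≠ ⊥ := by rintro rfl; exact hnn inferInstance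
  have hOm := core_mem H
  have hH := hall hTI hHall'
  have htop := sup_eq_top hTI h1 hH M h0 hn hm hN hs
    (fun K h1 h2 => le_sSup (show K ∈ {K : Subgroup G | K.Normal ∧ _} from ⟨h1, h2⟩))
  generalize sSup {K : Subgroup G | K.Normal ∧ (Nat.card K).Coprime (Nat.card H)} = O at hOm htop
  haveI := hOm.1
  have hF := isFC hTI hOm.2.symm fun h => hnn (normalizer_eq_top_iff.mp (by rw [← htop, sup_eq_right.mpr h]))
  haveI := hF.isZGroup_of_two fun P => hF.isCyclic_of_comm (h2 P)
  have hc : (Nat.card Q).Coprime (Nat.card H) := by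
    have := Core.card_sup_of_disjoint hQ (disjoint_iff.mpr (inf_comm Q H ▸ hQH))
    rw [sup_comm, hQH', ← Core.card_mul_relIndex (le_normalizer (H := H))] at this
    exact Nat.eq_of_mul_eq_mul_left Nat.card_pos this ▸ hHall'.symm
  have h3 := coprime_comm hF hQ hc
  have h4 := Core.commutator_sup_centralizer Q H hQ hc (Or.inr inferInstance)
  have hHD : H ≤ normalizer ((⁅H, Q⁆ : Subgroup G) : Set G) := normalizer_commutator_ge_left H Q
  have hQD : Q ≤ normalizer ((⁅H, Q⁆ : Subgroup G) : Set G) := Core.le_normalizer_commutator hQ le_normalizer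
  have h5 : H ≤ normalizer ((⁅H, Q⁆ ⊔ Q : Subgroup G) : Set G) := by
    refine h4.ge.trans (sup_le (Core.le_normalizer_of_le le_sup_left) (Core.le_normalizer_sup
      (inf_le_left.trans hHD) (inf_le_right.trans (centralizer_le_normalizer _))))
  haveI := normal_sup (K := ⁅H, Q⁆ ⊔ Q) htop (hQH' ▸ sup_le (Core.le_normalizer_of_le le_sup_right) h5)
  set C := H ⊓ centralizer (Q : Set G)
  have h6 : (Nat.card C).Coprime (Nat.card (O ⊔ (⁅H, Q⁆ ⊔ Q) : Subgroup G)) :=
    (Nat.Coprime.mul_right (Core.coprime_of_le_left hOm.2.symm inf_le_left)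
      ((h3.mul_right (Core.coprime_of_le_left hc.symm inf_le_left)).coprime_dvd_right
        (Core.card_sup_dvd hQD))).coprime_dvd_right (Core.card_sup_dvd le_normalizer_of_normal)
  have h7 : IsComplement' (O ⊔ (⁅H, Q⁆ ⊔ Q)) C := by
    refine isComplement'_of_disjoint_and_mul_eq_univ (Core.disjoint_of_coprime h6.symm) ?_
    rw [← normal_mul, sup_assoc, sup_right_comm, h4, sup_comm H, hQH', htop, coe_top]
  exact ⟨h7.index_eq_card ▸ h6, _, inferInstance, h7⟩

end Cfsg.Agent.S4151
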