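import Mathlib
import Cfsg.Statements.S4159
import Cfsg.Agent.FGS.FT
import Cfsg.Agent.FGS.SylowNum
import Cfsg.Agent.S3861

set_option autoImplicit false
open Cfsg

namespace Cfsg.Agent.S4159

open Subgroup
open scoped Pointwise

/-- Let G be a finite group such that in every subgroup H of G, any two conjugacy classes of H of size greater than 1 have non-coprime sizes. Then G is solvable. -/
theorem result {G : Type*} [Group G] [Finite G]
    (h : ∀ (H : Subgroup G) (x y : H), 1 < (Subgroup.centralizer ({x} : Set H)).index → 1 < (Subgroup.centralizer ({y} : Set H)).index →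
      ¬ ((Subgroup.centralizer ({x} : Set H)).index).Coprime (Subgroup.centralizer ({y} : Set H)).index) : Group.IsSolvable G := by
  obtain ⟨P⟩ : Nonempty (Sylow 2 G) := inferInstance
  have hP : (P : Subgroup G).Normal := by
    refine (S3861.result P).mp fun x hx1 hxo hc => ?_
    obtain ⟨g, hg⟩ := isConj_iff.mp hc
    obtain ⟨a, b, -, ⟨j, rfl⟩, hab, -, ⟨k, hk⟩, hb⟩ := FGS.exists_pPart 2 g
    have h1 : g ^ 2 ∈ centralizer ({x} : Set G) := by
      rw [mem_centralizer_singleton_iff]
      calc g ^ 2 * x = g * (g * x * g⁻¹) * g := by rw [pow_two]; group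
        _ = g * x⁻¹ * g := by rw [hg]
        _ = (g * x * g⁻¹)⁻¹ * g ^ 2 := by rw [pow_two]; group
        _ = x * g ^ 2 := by rw [hg, inv_inv]
    have h2 : g ^ j ∈ centralizer ({x} : Set G) := by
      refine Core.mem_of_pow_mem_of_coprime (n := 2) ?_ hb.symm
      rw [← zpow_natCast, ← zpow_mul, mul_comm, zpow_mul, zpow_natCast]
      exact zpow_mem h1 j
    have h3 : a * x * a⁻¹ = x⁻¹ := by
      have h4 := mem_centralizer_singleton_iff.mp h2
      simp only at hab
      generalize g ^ j = b at hab h4
      rw [← hg, hab, mul_assoc a b, h4]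
      group
    have hne : a * x ≠ x * a := fun e => hx1 (S3861.eq_one_of_real (g := 1) (by simp) hxo
      (by rw [← h3, e]; group))
    have hn : zpowers a ≤ normalizer (zpowers x : Set G) := by
      rw [zpowers_le]
      refine mem_normalizer_fintype fun y hy => ?_
      obtain ⟨i, rfl⟩ := hy
      simp only
      rw [← conj_zpow, h3]
      exact zpow_mem (inv_mem (mem_zpowers x)) i
    set H := zpowers x ⊔ zpowers a
    have hxH : x ∈ H := mem_sup_left (mem_zpowers x)
    have haH : a ∈ H := mem_sup_right (mem_zpowers a)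
    have hlt : ∀ u v : H, (u : G) * v ≠ v * u → 1 < (centralizer ({u} : Set H)).index := by
      intro u v huv
      refine Nat.one_lt_iff_ne_zero_and_ne_one.mpr ⟨index_ne_zero_of_finite, fun e => huv ?_⟩
      exact congrArg Subtype.val (mem_center_iff.mp (FGS.index_centralizer_eq_one_iff.mp e) v).symm
    refine h H ⟨x, hxH⟩ ⟨a, haH⟩ (hlt _ ⟨a, haH⟩ hne.symm) (hlt _ ⟨x, hxH⟩ hne) ?_
    rw [FGS.index_centralizer_subgroup, FGS.index_centralizer_subgroup]
    have hc := Core.card_sup_dvd hn
    have h5 : (centralizer ({x} : Set G)).relIndex H ∣ 2 ^ k := by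
      refine (relIndex_dvd_of_le_left H (zpowers_le.mpr (FGS.self_mem_centralizer x))).trans ?_
      rw [← Core.card_mul_relIndex (le_sup_left : zpowers x ≤ H), Nat.card_zpowers a, hk] at hc
      exact Nat.dvd_of_mul_dvd_mul_left Nat.card_pos hc
    have h6 : (centralizer ({a} : Set G)).relIndex H ∣ orderOf x := by
      refine (relIndex_dvd_of_le_left H (zpowers_le.mpr (FGS.self_mem_centralizer a))).trans ?_
      rw [← Core.card_mul_relIndex (le_sup_right : zpowers a ≤ H), Nat.card_zpowers x, mul_comm (orderOf x)] at hc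
      exact Nat.dvd_of_mul_dvd_mul_left Nat.card_pos hc
    exact (((Nat.coprime_two_left.mpr hxo).pow_left k).coprime_dvd_left h5).coprime_dvd_right h6
  exact (Group.isSolvable_iff_subgroup_quotient (P : Subgroup G)).mpr
    ⟨Core.solvable_of_isPGroup P.isPGroup',
      S0205.result (Nat.odd_iff.mpr (Nat.two_dvd_ne_zero.mp P.not_dvd_index))⟩

end Cfsg.Agent.S4159
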