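import Mathlib
import Cfsg.Statements.S4169
import Cfsg.Agent.PGrp.ClassSize
-- import your own Cfsg.Agent.* helpers here

set_option autoImplicit false
open Cfsg

namespace Cfsg.Agent.S4169

/-- Let P be a finite p-group whose conjugacy classes have exactly two sizes (1 and one other value). Then P has nilpotency class at most 3. -/
theorem result {P : Type*} [Group P] [Finite P] {p : ℕ} [Fact p.Prime] (hP : IsPGroup p P)
    (m : ℕ) (hm : 1 < m) (h : ∀ x : P, (Subgroup.centralizer ({x} : Set P)).index = 1 ∨ (Subgroup.centralizer ({x} : Set P)).index = m) :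
    upperCentralSeries P 3 = ⊤ := by
  have := hP.isNilpotent
  obtain ⟨A, -, hA1, hA2, hA3⟩ := PGrp.exists_scn_ge (⊥ : Subgroup P) inferInstance
  have h1 := PGrp.upperCentralSeries_three_of_commutator_le (M := ⊤) hA3.le (by
    rw [Subgroup.commutator_le]
    exact fun x _ t ht => PGrp.commutator_symm_mem
      (PGrp.commutator_mem_center_of_two_sizes h hA2 ht x))
  rw [← Subgroup.lowerCentralSeries_eq_bot_iff_upperCentralSeries_eq_top,
    ← Subgroup.map_eq_bot_iff_of_injective _ (Subgroup.subtype_injective _),
    Subgroup.top_subtype_lowerCentralSeries,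
    Subgroup.lowerCentralSeries_eq_bot_iff_upperCentralSeries_eq_top] at h1
  exact h1

end Cfsg.Agent.S4169
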