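import Mathlib
import Cfsg.Agent.Core.SylowOf
import Cfsg.Agent.Core.Cores
import Cfsg.Agent.Core.Fitting
import Cfsg.Agent.Core.MinNormal
import Cfsg.Agent.Core.Product
import Cfsg.Agent.Comp2.MinNormal
import Cfsg.Agent.Comp2.GenFitting
import Cfsg.Agent.PGrp.Frattini
import Cfsg.Agent.Transfer.Residual
import Cfsg.Agent.S0081
import Cfsg.Agent.S0051
import Cfsg.Agent.S0088
import Cfsg.Statements.S4172
-- import your own Cfsg.Agent.* helpers here

set_option autoImplicit false
open Cfsg

namespace Cfsg.Agent.S4172

open Subgroup Cfsg.Agent.Core Cfsg.Agent.Comp2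
open scoped Pointwise commutatorElement

section
variable {G : Type*} [Group G] [Finite G] {p : ℕ} [hp : Fact p.Prime]

theorem cyc (P : Subgroup G) (hgen : (frattini P).index = p ^ 2) (A : Subgroup G)
    (h : ¬ A ⊓ P ≤ (frattini P).map P.subtype) : ∃ x ∈ P, P ≤ (A ⊓ P) ⊔ zpowers x := by
  set R := A.subgroupOf P ⊔ frattini P with hR
  have hne : frattini P ≠ R := fun e => h fun y hy =>
    ⟨⟨y, hy.2⟩, e ▸ mem_sup_left (show (⟨y, hy.2⟩ : P) ∈ A.subgroupOf P from hy.1), rfl⟩
  have hle : frattini P ≤ R := le_sup_right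
  have h1 := relIndex_mul_index hle
  rw [hgen] at h1
  have h2 : (frattini P).relIndex R ≠ 1 := fun e => hne (le_antisymm hle (relIndex_eq_one.1 e))
  obtain ⟨k, hk, hk'⟩ := (Nat.dvd_prime_pow hp.out).1 (Dvd.intro_left _ h1)
  have key : ∃ x : P, R ⊔ zpowers x = ⊤ := by
    interval_cases k
    · exact ⟨1, by rw [index_eq_one.1 hk', top_sup_eq]⟩
    · rw [pow_one] at hk'
      have hRt : R ≠ ⊤ := fun e => hp.out.one_lt.ne (by rw [← hk', e, index_top])
      obtain ⟨x, -, hx⟩ := SetLike.exists_of_lt (lt_top_iff_ne_top.2 hRt)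
      rcases eq_or_eq_of_relIndex_prime (H := R) (M := R ⊔ zpowers x) (K := ⊤)
        (by rw [relIndex_top_right, hk']; exact hp.out) le_sup_left le_top with e | e
      · exact absurd (e ▸ mem_sup_right (mem_zpowers x)) hx
      · exact ⟨x, e⟩
    · rw [hk'] at h1
      exact absurd (Nat.eq_of_mul_eq_mul_right (pow_pos hp.out.pos 2) (h1.trans (one_mul _).symm)) h2
  obtain ⟨x, hx⟩ := key
  rw [hR, sup_right_comm] at hx
  have h3 := frattini_nongenerating hx
  refine ⟨x, x.2, fun y hy => ?_⟩
  have : y ∈ (⊤ : Subgroup P).map P.subtype := ⟨⟨y, hy⟩, mem_top _, rfl⟩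
  rwa [← h3, Subgroup.map_sup, subgroupOf_map_subtype, MonoidHom.map_zpowers] at this

theorem comm_le {P A : Subgroup G} {x : G} (hx : x ∈ P) (hn : P ≤ normalizer (A : Set G))
    (h : P ≤ (A ⊓ P) ⊔ zpowers x) : ⁅P, P⁆ ≤ A := by
  have h' : P ≤ A ⊔ zpowers x := h.trans (sup_le_sup_right inf_le_left _)
  have hz : zpowers x ≤ normalizer (A : Set G) := (zpowers_le.2 hx).trans hn
  rw [commutator_le]
  intro s hs t ht
  obtain ⟨a, ha, u, hu, rfl⟩ := (Core.mem_sup_of_le_normalizer hz).1 (h' hs)
  obtain ⟨b, hb, v, hv, rfl⟩ := (Core.mem_sup_of_le_normalizer hz).1 (h' ht)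
  have huv : u * v = v * u := comm_of_isMulCommutative inferInstance hu hv
  have e : ⁅a * u, b * v⁆ = a * (u * b * u⁻¹) * ((u * v * u⁻¹) * a⁻¹ * v⁻¹) * b⁻¹ := by
    rw [commutatorElement_def]; group
  rw [e, huv, mul_inv_cancel_right]
  exact A.mul_mem (A.mul_mem (A.mul_mem ha (conj_mem_of_le_normalizer hz hu hb))
    (conj_mem_of_le_normalizer hz hv (A.inv_mem ha))) (A.inv_mem hb)

theorem tate (P : Sylow p G) (A : Subgroup G) (hn : (P : Subgroup G) ≤ normalizer (A : Set G))
    (h : A ⊓ P ≤ (frattini ↥(P : Subgroup G)).map (P : Subgroup G).subtype) : HasNormalPComplement p A := by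
  set L := A ⊔ (P : Subgroup G) with hL
  haveI : (A.subgroupOf L).Normal := normal_subgroupOf_of_le_normalizer (sup_le le_normalizer hn)
  let P' : Sylow p L := P.subtype le_sup_right
  have h1 := Cfsg.Agent.S0081.result P' (A.subgroupOf L) (by
    rintro ⟨y, hyL⟩ ⟨hy1, hy2⟩
    obtain ⟨z, hz, hzy⟩ := h ⟨hy1, hy2⟩
    let e : (P' : Subgroup L) ≃* (P : Subgroup G) := subgroupOfEquivOfLe le_sup_right
    have := frattini_le_comap_frattini_of_surjective (φ := e.symm.toMonoidHom) e.symm.surjective hz
    exact ⟨_, this, Subtype.ext hzy⟩)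
  obtain ⟨R, hR, h2, h3⟩ := Transfer.hasNormalPComplement_iff_exists_normal.1 h1
  let e : A.subgroupOf L ≃* A := subgroupOfEquivOfLe le_sup_left
  haveI : (R.map e.toMonoidHom).Normal := hR.map _ e.surjective
  apply Transfer.hasNormalPComplement_of_normal (R.map e.toMonoidHom)
  · rwa [Subgroup.card_map_of_injective e.injective]
  · exact h3.of_equiv (QuotientGroup.congr R _ e rfl)

theorem not_le_comp (P : Sylow p G) (hcore : pPrimeCore p G = ⊥) {A K : Subgroup G}
    (hn : (P : Subgroup G) ≤ normalizer (A : Set G)) (hK : IsComponent K) (hKA : K ≤ A) :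
    ¬ A ⊓ P ≤ (frattini ↥(P : Subgroup G)).map (P : Subgroup G).subtype := by
  intro h
  obtain ⟨R, hR, h2, h3⟩ := Transfer.hasNormalPComplement_iff_exists_normal.1 (tate P A hn h)
  have h4 : K.subgroupOf A ≤ R := le_of_perfect_of_isSolvable_quotient
    (component_commutator_self (component_subgroupOf hK hKA)) (solvable_of_isPGroup h3)
  have h5 : (Nat.card K).Coprime p := by
    rw [← card_subgroupOf_of_le hKA]
    exact (((Nat.Prime.coprime_iff_not_dvd hp.out).2 h2).symm).coprime_dvd_left (card_dvd_of_le h4)
  exact component_ne_bot hK (le_bot_iff.1 (hcore ▸ le_pPrimeCore_of_isSubnormal hK.1 h5))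

theorem not_le_normal (P : Sylow p G) (hcore : pPrimeCore p G = ⊥)
    (hfrat : ((frattini ↥(P : Subgroup G)).map (P : Subgroup G).subtype).normalCore = ⊥)
    {A : Subgroup G} [A.Normal] (hA : A ≠ ⊥) :
    ¬ A ⊓ P ≤ (frattini ↥(P : Subgroup G)).map (P : Subgroup G).subtype := by
  intro h
  obtain ⟨R, hR, h2, h3⟩ := Transfer.hasNormalPComplement_iff_exists_normal.1
    (tate P A le_normalizer_of_normal h)
  have h4 : R ≤ pPrimeCore p A := le_pPrimeCore hR ((Nat.Prime.coprime_iff_not_dvd hp.out).2 h2).symm
  rw [pPrimeCore_eq_subgroupOf, hcore, bot_subgroupOf, le_bot_iff] at h4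
  subst h4
  have h5 : IsPGroup p A := h3.of_equiv QuotientGroup.quotientBot
  have h6 : A ≤ P := h5.le_sylow_of_normal P
  rw [inf_eq_left.2 h6] at h
  exact hA (le_bot_iff.1 (hfrat ▸ normal_le_normalCore.2 h))

theorem mem_zp {x y z : G} (hy : y ∈ zpowers x) (hz : z ∈ zpowers x) (hy' : y ^ p = 1)
    (hz' : z ^ p = 1) (hz1 : z ≠ 1) : y ∈ zpowers z := by
  set R := powKer (zpowers x) inferInstance p with hR
  haveI : IsCyclic R := Subgroup.isCyclic_of_le (H' := zpowers x) fun a ha => (mem_powKer.1 ha).1
  have h1 : Nat.card R ∣ p := by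
    rw [← IsCyclic.exponent_eq_card]
    exact Monoid.exponent_dvd_of_forall_pow_eq_one fun a => Subtype.ext (mem_powKer.1 a.2).2
  have h2 : zpowers z = R := eq_of_le_of_card_le (zpowers_le.2 (mem_powKer.2 ⟨hz, hz'⟩)) (by
    rw [Nat.card_zpowers, orderOf_eq_prime hz' hz1]; exact Nat.le_of_dvd hp.out.pos h1)
  rw [h2]; exact mem_powKer.2 ⟨hy, hy'⟩

end

set_option maxHeartbeats 400000 in
/-- Let p be a prime and G a finite group with a non-commutative Sylow p-subgroup P whose Frattini subgroup has index p² in P (P is generated by two elements). Suppose G has no nontrivial normal subgroup of order prime to p and the Frattini subgroup of P contains no nontrivial normal subgroup of G. Then the generalized Fitting subgroup F*(G) is the unique minimal normal subgroup of G, the image of P in G/F*(G) is cyclic, and if F*(G) is not commutative then P permutes the components of G transitively by conjugation. -/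
theorem result {G : Type*} [Group G] [Finite G] (p : ℕ) [Fact p.Prime] (P : Sylow p G) (hna : ¬ IsMulCommutative (P : Subgroup G)) (hgen : (frattini ↥(P : Subgroup G)).index = p ^ 2) (hcore : Cfsg.pPrimeCore p G = ⊥) (hfrat : ((frattini ↥(P : Subgroup G)).map (P : Subgroup G).subtype).normalCore = ⊥) [hFn : (Cfsg.generalizedFittingSubgroup G).Normal] :
    (Cfsg.generalizedFittingSubgroup G ≠ ⊥ ∧ ∀ K : Subgroup G, K.Normal → K ≠ ⊥ → Cfsg.generalizedFittingSubgroup G ≤ K) ∧
      IsCyclic ↥((P : Subgroup G).map (QuotientGroup.mk' (Cfsg.generalizedFittingSubgroup G))) ∧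
      (¬ IsMulCommutative (Cfsg.generalizedFittingSubgroup G) → ∀ K L : Subgroup G, Cfsg.IsComponent K → Cfsg.IsComponent L → ∃ x ∈ (P : Subgroup G), L = K.map (MulAut.conj x).toMonoidHom) := by
  classical
  have hp : p.Prime := Fact.out
  have hPP : ⁅(P : Subgroup G), (P : Subgroup G)⁆ ≠ ⊥ := fun e =>
    hna (isMulCommutative_iff_commutator_eq_bot.2 e)
  have hcyc : ∀ A : Subgroup G, A.Normal → A ≠ ⊥ →
      ∃ x ∈ (P : Subgroup G), (P : Subgroup G) ≤ (A ⊓ P) ⊔ zpowers x := fun A _ hA =>
    cyc (P : Subgroup G) hgen A (not_le_normal P hcore hfrat hA)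
  have hcm : ∀ A : Subgroup G, A.Normal → A ≠ ⊥ → ⁅(P : Subgroup G), (P : Subgroup G)⁆ ≤ A := by
    intro A hA h0
    obtain ⟨x, hx, h⟩ := hcyc A hA h0
    exact comm_le hx le_normalizer_of_normal h
  have htop : (⊤ : Subgroup G) ≠ ⊥ := fun e => hPP (le_bot_iff.1 (e ▸ le_top))
  haveI : Nontrivial G := by
    by_contra h
    rw [not_nontrivial_iff_subsingleton] at h
    exact htop (Subsingleton.elim _ _)
  obtain ⟨N, hN, hN0, -, hmin⟩ := exists_minimal_normal_le (⊤ : Subgroup G) htop
  have hNle : ∀ K : Subgroup G, K.Normal → K ≠ ⊥ → N ≤ K := by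
    intro K hK h0
    rcases hmin (K ⊓ N) inferInstance inf_le_right with e | e
    · exact absurd (le_bot_iff.1 (e ▸ le_inf (hcm K hK h0) (hcm N hN hN0))) hPP
    · exact e ▸ inf_le_left
  have hF0 : generalizedFittingSubgroup G ≠ ⊥ := genFitting_ne_bot
  have main : generalizedFittingSubgroup G ≤ N ∧ ∀ K L : Subgroup G, IsComponent K → IsComponent L →
      ∃ x ∈ (P : Subgroup G), L = K.map (MulAut.conj x).toMonoidHom := by
    by_cases hF : fittingSubgroup G = ⊥
    · have tr : ∀ K L : Subgroup G, IsComponent K → IsComponent L →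
          ∃ x ∈ (P : Subgroup G), L = K.map (MulAut.conj x).toMonoidHom := by
        intro K L hK hL
        by_contra hne
        push Not at hne
        set A := ⨆ x : (P : Subgroup G), K.map (MulAut.conj (x : G)).toMonoidHom with hA
        have hKA : K ≤ A := le_iSup_of_le (1 : (P : Subgroup G)) (by
          intro y hy; exact ⟨y, hy, by simp⟩)
        have hPA : (P : Subgroup G) ≤ normalizer (A : Set G) := by
          intro g hg
          apply mem_normalizer_fintype
          intro a ha
          have : A ≤ A.comap (MulAut.conj g).toMonoidHom := by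
            conv_lhs => rw [hA]
            refine iSup_le fun x => ?_
            rintro _ ⟨k, hk, rfl⟩
            exact le_iSup (fun x : (P : Subgroup G) => K.map (MulAut.conj (x : G)).toMonoidHom)
              ⟨g * x, mul_mem hg x.2⟩ ⟨k, hk, by simp [mul_assoc]⟩
          exact this ha
        have hEA : layer G ≤ normalizer (A : Set G) := by
          intro g hg
          apply mem_normalizer_fintype
          intro a ha
          have : A ≤ A.comap (MulAut.conj g).toMonoidHom := by
            conv_lhs => rw [hA]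
            refine iSup_le fun x => ?_
            intro k hk
            exact le_iSup (fun x : (P : Subgroup G) => K.map (MulAut.conj (x : G)).toMonoidHom)
              x (conj_mem_of_le_normalizer (layer_le_normalizer (component_conj hK x)) hg hk)
          exact this ha
        have hAE : A ≤ layer G := iSup_le fun x => component_le_layer (component_conj hK x)
        have hLB : L ≤ centralizer (A : Set G) := by
          rw [le_centralizer_iff]
          refine iSup_le fun x => ?_
          rw [← commutator_eq_bot_iff_le_centralizer]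
          exact component_commutator_eq_bot_of_ne (component_conj hK x) hL (hne x x.2).symm
        clear_value A
        have hPB : (P : Subgroup G) ≤ normalizer ((centralizer (A : Set G) : Subgroup G) : Set G) :=
          le_normalizer_centralizer hPA
        obtain ⟨x, hx, h1⟩ := cyc (P : Subgroup G) hgen A (not_le_comp P hcore hPA hK hKA)
        obtain ⟨y, hy, h2⟩ := cyc (P : Subgroup G) hgen (centralizer (A : Set G))
          (not_le_comp P hcore hPB hL hLB)
        have h3 := le_inf (comm_le hx hPA h1) (comm_le hy hPB h2)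
        have h4 : A ⊓ centralizer (A : Set G) ≤ fittingSubgroup G := by
          apply le_fitting_of_isSubnormal
          · exact isSubnormal_of_le_normalizer (inf_le_left.trans hAE)
              (Core.le_normalizer_inf hEA (le_normalizer_centralizer hEA))
              (Normal.isSubnormal inferInstance)
          · exact nilpotent_of_commutator_le_centralizer (by
              rw [isMulCommutative_iff_commutator_eq_bot.1
                (isMulCommutative_of_forall (N := A ⊓ centralizer (A : Set G))
                  fun a ha b hb => mem_centralizer_iff.1 hb.2 a ha.1)]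
              exact bot_le)
        exact hPP (le_bot_iff.1 (hF ▸ h3.trans h4))
      refine ⟨?_, tr⟩
      have hE := genFitting_eq_layer_of_fitting_eq_bot hF
      rw [hE, layer_le_iff]
      intro L hL
      by_contra hLN
      have : ⁅layer G, N⁆ = ⊥ := by
        rw [commutator_layer_eq_bot_iff]
        intro K hK
        refine (component_le_or_commutator_eq_bot_of_normal hK N).resolve_left fun hKN => hLN ?_
        obtain ⟨x, -, rfl⟩ := tr K L hK hL
        rintro _ ⟨k, hk, rfl⟩
        exact hN.conj_mem k (hKN hk) x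
      apply hN0
      rw [eq_bot_iff, ← hF]
      refine le_trans (le_inf (hNle _ inferInstance (hE ▸ hF0)) ?_)
        layer_inf_centralizer_layer_le_fitting
      rw [le_centralizer_iff, ← commutator_eq_bot_iff_le_centralizer]
      exact this
    · have hFQ := fitting_eq_pCore p hcore
      have hNQ : N ≤ pCore p G := hFQ ▸ hNle _ inferInstance hF
      have hNP : N ≤ P := hNQ.trans (Core.pCore_le_sylow P)
      obtain ⟨x, hx, hPx⟩ := hcyc N hN hN0
      rw [inf_eq_left.2 hNP] at hPx
      have hE : layer G = ⊥ := by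
        by_contra hE
        have hNE := hNle _ inferInstance hE
        have hNC : N ≤ centralizer (layer G : Set G) :=
          (hNle _ inferInstance hF).trans fitting_le_centralizer_layer
        have hS := isSylowOf_sylow_inf_normal P (layer G)
        have hNS : N ≤ (P : Subgroup G) ⊓ layer G := le_inf hNP hNE
        have hcomm : IsMulCommutative ((P : Subgroup G) ⊓ layer G : Subgroup G) := by
          apply isMulCommutative_of_forall
          intro s hs t ht
          obtain ⟨a, ha, u, hu, rfl⟩ :=
            (Core.mem_sup_of_le_normalizer le_normalizer_of_normal).1 (hPx hs.1)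
          obtain ⟨b, hb, v, hv, rfl⟩ :=
            (Core.mem_sup_of_le_normalizer le_normalizer_of_normal).1 (hPx ht.1)
          have hu' : u ∈ layer G := (mul_mem_cancel_left (hNE ha)).1 hs.2
          have hv' : v ∈ layer G := (mul_mem_cancel_left (hNE hb)).1 ht.2
          have c1 : Commute u v := comm_of_isMulCommutative inferInstance hu hv
          have c2 : Commute u b := mem_centralizer_iff.1 (hNC hb) u hu'
          have c3 : Commute v a := mem_centralizer_iff.1 (hNC ha) v hv'
          have c4 : Commute b a := mem_centralizer_iff.1 (hNC ha) b (hNE hb)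
          exact ((c4.symm.mul_right c3.symm).mul_left (c2.mul_right c1)).eq
        have h1 := Cfsg.Agent.S0088.result (((P : Subgroup G) ⊓ layer G).subgroupOf (layer G))
          (by infer_instance) (by
            rw [card_subgroupOf_of_le inf_le_right]; exact hS.coprime_relIndex)
        apply hN0
        rw [eq_bot_iff]
        intro n hn
        have h2 : (⟨n, hNE hn⟩ : layer G) ∈ (⊥ : Subgroup (layer G)) := by
          rw [← h1]
          refine ⟨⟨hNS hn, ?_⟩, ?_⟩
          · have : n ∈ (commutator (layer G)).map (layer G).subtype := by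
              rw [map_commutator_subtype, layer_commutator_self]; exact hNE hn
            obtain ⟨m, hm, e⟩ := this
            have : m = ⟨n, hNE hn⟩ := Subtype.ext e
            exact this ▸ hm
          · exact mem_center_iff.2 fun g => Subtype.ext (mem_centralizer_iff.1 (hNC hn) g g.2)
        exact congrArg Subtype.val (mem_bot.1 h2)
      refine ⟨?_, fun K L hK _ => absurd hK (layer_eq_bot_iff.1 hE K)⟩
      rw [genFitting_eq_fitting_iff.2 hE, hFQ]
      set Q := pCore p G with hQ
      have hQP : Q ≤ P := Core.pCore_le_sylow P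
      have hΦ : (frattini Q).map Q.subtype = ⊥ := le_bot_iff.1
        (hfrat ▸ normal_le_normalCore.2 (PGrp.map_frattini_mono P.2 hQP))
      have hQe := (PGrp.map_frattini_le_iff (Core.pCore_isPGroup p)).1 hΦ.le
      have hQc : IsMulCommutative Q := isMulCommutative_iff_commutator_eq_bot.2 (le_bot_iff.1 hQe.1)
      by_contra hQN
      obtain ⟨q, hq, hqN⟩ := SetLike.not_le_iff_exists.1 hQN
      obtain ⟨a, ha, y, hy, rfl⟩ :=
        (Core.mem_sup_of_le_normalizer le_normalizer_of_normal).1 (hPx (hQP hq))
      have hyQ : y ∈ Q := (mul_mem_cancel_left (hNQ ha)).1 hq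
      have hyN : y ∉ N := fun h => hqN (N.mul_mem ha h)
      have hd : zpowers x ⊓ N = ⊥ := by
        rw [eq_bot_iff]
        intro z hz
        by_contra hz1
        exact hyN ((zpowers_le.2 hz.2) (mem_zp hy hz.1 (mem_bot.1 (hQe.2 y hyQ))
          (mem_bot.1 (hQe.2 z (hNQ hz.2))) hz1))
      haveI : IsMulCommutative N := isMulCommutative_of_le hQc hNQ
      obtain ⟨H, hH⟩ := Cfsg.Agent.S0051.result N (P : Subgroup G) hNP
        (coprime_of_isPGroup (P.2.to_le hNP)
          ((Nat.Prime.coprime_iff_not_dvd hp).2 P.not_dvd_index).symm).symm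
        (zpowers x) (zpowers_le.2 hx) hd (le_antisymm (sup_le hNP (zpowers_le.2 hx)) hPx)
      have hn : (H ⊓ Q).Normal := by
        apply normal_of_le_normalizer
        rw [← hH.sup_eq_top]
        refine sup_le ?_ (Core.le_normalizer_inf le_normalizer le_normalizer_of_normal)
        exact (hNQ.trans ((le_centralizer_iff_isMulCommutative.2 hQc).trans
          (centralizer_le (SetLike.coe_subset_coe.2 inf_le_right)))).trans
          (centralizer_le_normalizer _)
      have h0 : H ⊓ Q = ⊥ := by
        by_contra h0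
        exact hN0 (hH.disjoint.eq_bot_of_le ((hNle _ hn h0).trans inf_le_left))
      obtain ⟨n, hn', h, hh, rfl⟩ := (Core.mem_sup_of_le_normalizer le_normalizer_of_normal).1
        (hH.sup_eq_top ▸ mem_top y : y ∈ N ⊔ H)
      have : h ∈ H ⊓ Q := ⟨hh, (mul_mem_cancel_left (hNQ hn')).1 hyQ⟩
      rw [h0, mem_bot] at this
      exact hyN (by rw [this, mul_one]; exact hn')
  refine ⟨⟨hF0, fun K hK h0 => main.1.trans (hNle K hK h0)⟩, ?_, fun _ => main.2⟩
  obtain ⟨x, hx, h⟩ := hcyc _ hFn hF0
  have : (P : Subgroup G).map (QuotientGroup.mk' (generalizedFittingSubgroup G)) =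
      zpowers (QuotientGroup.mk' (generalizedFittingSubgroup G) x) := by
    apply le_antisymm
    · refine (map_mono h).trans ?_
      rw [Subgroup.map_sup, MonoidHom.map_zpowers, (Subgroup.map_eq_bot_iff _).2
        (by rw [QuotientGroup.ker_mk']; exact inf_le_left), bot_sup_eq]
    · exact zpowers_le.2 ⟨x, hx, rfl⟩
  rw [this]
  infer_instance

end Cfsg.Agent.S4172
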