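import Cfsg.Statements.S4193
import Cfsg.Agent.S3861
import Cfsg.Agent.S3862
import Cfsg.Agent.S3863
import Cfsg.Agent.S0205
import Cfsg.Agent.BG.AmbHall
import Cfsg.Agent.Transfer.SylowConj
import Cfsg.Agent.Transfer.Residual
import Cfsg.Agent.FGS.NilMax
-- import your own Cfsg.Agent.* helpers here

set_option autoImplicit false
open Cfsg

namespace Cfsg.Agent.S4193

/-- Let G be a finite group in which the conjugacy classes of all non-central real elements (elements conjugate to their inverses) have sizes with the same 2-part, and suppose G has a Sylow 2-subgroup S such that every element of S that is conjugate in S to its inverse lies in the centre of S. Then G is solvable and the subgroup generated by the 2-elements of G (the smallest normal subgroup of odd index) has a normal 2-complement. -/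
theorem result {G : Type*} [Group G] [Finite G] (a : ℕ) (h : ∀ x : G, IsConj x x⁻¹ → x ∉ Subgroup.center G → ((Subgroup.centralizer ({x} : Set G)).index).factorization 2 = a) (S : Sylow 2 G) (hS : ∀ s : ↥(S : Subgroup G), IsConj s s⁻¹ → s ∈ Subgroup.center ↥(S : Subgroup G)) : Group.IsSolvable G ∧ Cfsg.HasNormalPComplement 2 ↥(Subgroup.closure {g : G | ∃ k : ℕ, orderOf g = 2 ^ k}) := by

  by_cases hc : ∀ x : G, (∃ j : ℕ, orderOf x = 2 ^ j) → IsConj x x⁻¹ → x ∈ Subgroup.center G
  · have h1 := S3862.result hc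
    refine ⟨?_, Transfer.hasNormalPComplement_subgroup h1 _⟩
    obtain ⟨N, _, h2, h3⟩ := Transfer.hasNormalPComplement_iff_exists_normal.1 h1
    have := S0205.result (G := N) (Nat.odd_iff.2 (by omega))
    have := h3.isNilpotent
    exact solvable_of_ker_le_range N.subtype (QuotientGroup.mk' N) (by simp)
  push Not at hc
  obtain ⟨x, ⟨j, hj⟩, hx, hz⟩ := hc
  obtain ⟨t, ⟨i, hi⟩, ht⟩ := S3863.exists_two hx
  obtain ⟨g, hg⟩ := Transfer.exists_conj_mem_sylow S (A := Subgroup.zpowers x ⊔ Subgroup.zpowers t)
    ((FGS.isPGroup_zpowers hj).to_sup_of_normal_left' (FGS.isPGroup_zpowers hi)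
      (Subgroup.zpowers_le.2 (BG.Amb.mem_normalizer_iff_conj.2 (by
        rw [BG.Amb.conj_zpowers, ht, Subgroup.zpowers_inv]))))
  have h1 := hS ⟨_, hg x (Subgroup.mem_sup_left (Subgroup.mem_zpowers x))⟩ (isConj_iff.2
    ⟨⟨_, hg t (Subgroup.mem_sup_right (Subgroup.mem_zpowers t))⟩, Subtype.ext (by
      change g * t * g⁻¹ * (g * x * g⁻¹) * (g * t * g⁻¹)⁻¹ = (g * x * g⁻¹)⁻¹
      calc _ = g * (t * x * t⁻¹) * g⁻¹ := by group
        _ = _ := by rw [ht]; group)⟩)
  have h2 : a = 0 := by
    rw [← h x hx hz, ← FGS.index_centralizer_conj g]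
    exact Nat.factorization_eq_zero_of_not_dvd (FGS.not_dvd_index_of_sylow_le S fun y hy =>
      Subgroup.mem_centralizer_singleton_iff.2
        (congrArg Subtype.val (Subgroup.mem_center_iff.1 h1 ⟨y, hy⟩)))
  have h3 := (S3861.result S).1 fun y hy1 hy hr => by
    refine hy1 (orderOf_eq_one_iff.1 (Nat.eq_one_of_dvd_coprimes (Nat.coprime_two_left.2 hy)
      (orderOf_dvd_of_pow_eq_one ((S3863.result y hr).2.1 ?_)) dvd_rfl))
    by_cases e : y ∈ Subgroup.center G
    · rw [FGS.index_centralizer_eq_one_iff.2 e]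
      exact odd_one
    · have := h y hr e
      rw [h2, Nat.factorization_eq_zero_iff] at this
      exact Nat.not_even_iff_odd.1 fun e => ((this.resolve_left (not_not.2 Nat.prime_two)).resolve_right
        Subgroup.index_ne_zero_of_finite) e.two_dvd
  refine ⟨?_, Transfer.hasNormalPComplement_of_isPGroup (S.2.to_le ((Subgroup.closure_le _).2
    fun y ⟨k, hk⟩ => FGS.mem_sylow_of_normal S hk))⟩
  have := S0205.result (G := G ⧸ (S : Subgroup G)) (Nat.odd_iff.2 (by
    have := S.not_dvd_index
    change (S : Subgroup G).index % 2 = 1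
    omega))
  have := S.2.isNilpotent
  exact solvable_of_ker_le_range (S : Subgroup G).subtype (QuotientGroup.mk' (S : Subgroup G)) (by simp)

end Cfsg.Agent.S4193
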