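import Mathlib
import Cfsg.Statements.S4212
import Cfsg.Agent.FGS.FrobCount
import Cfsg.Agent.Perm.Conj

set_option autoImplicit false
open Cfsg

namespace Cfsg.Agent.S4212

/-- Let `G` be a finite group of order `g`, `c` an element whose conjugacy class has `h` elements, and `n` a natural number. Then the number of elements `x` of `G` with `x^n` conjugate to `c` is a multiple of `gcd(hn, g)`. -/
theorem result {G : Type*} [Group G] [Finite G] (c : G) (n : ℕ) : Nat.gcd (Nat.card {y : G // IsConj c y} * n) (Nat.card G) ∣ Nat.card {x : G // IsConj c (x ^ n)} := by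
  classical
  have := Fintype.ofFinite G
  have h1 : Nat.card {x : G // IsConj c (x ^ n)} =
      {y | IsConj c y}.ncard * {x : G | x ^ n = c}.ncard := by
    change Nat.card {x : G | IsConj c (x ^ n)} = _
    rw [Nat.card_coe_set_eq, Set.ncard_eq_toFinset_card', Finset.card_eq_sum_card_fiberwise
      (f := fun x => x ^ n) (t := {y | IsConj c y}.toFinset) (fun x hx => by simpa using hx),
      Finset.sum_const_nat, ← Set.ncard_eq_toFinset_card']
    intro y hy
    obtain ⟨g, rfl⟩ := isConj_iff.mp (show IsConj c y from (Set.mem_toFinset (s := {y | IsConj c y})).mp hy)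
    rw [Set.ncard_eq_toFinset_card']
    symm
    refine Finset.card_bij (fun x _ => g * x * g⁻¹) (fun x hx => ?_) (fun x _ y _ e => by simpa using e)
      fun y hy => ⟨g⁻¹ * y * g⁻¹⁻¹, ?_, by simp [mul_assoc]⟩
    · simp only [Finset.mem_filter, Set.mem_toFinset, Set.mem_ofPred_eq] at hx ⊢
      rw [conj_pow, hx]
      exact ⟨isConj_iff.mpr ⟨g, rfl⟩, rfl⟩
    · simp only [Finset.mem_filter, Set.mem_toFinset, Set.mem_ofPred_eq] at hy ⊢
      rw [conj_pow, hy.2]
      group
  have h2 := FGS.gcd_dvd_ncard (G := Subgroup.centralizer {c}) n {⟨c, FGS.self_mem_centralizer c⟩} (by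
    rintro _ rfl y h
    obtain ⟨g, rfl⟩ := isConj_iff.mp h
    refine Subtype.ext ?_
    change g * c * (g : G)⁻¹ = c
    rw [Subgroup.mem_centralizer_singleton_iff.mp g.2, mul_inv_cancel_right])
  have h3 : {x : G | x ^ n = c} = Subtype.val '' {x : Subgroup.centralizer {c} |
      x ^ n ∈ ({⟨c, FGS.self_mem_centralizer c⟩} : Set (Subgroup.centralizer {c}))} := by
    ext x
    refine ⟨fun h => ⟨⟨x, Subgroup.mem_centralizer_singleton_iff.mpr ?_⟩, Subtype.ext h, rfl⟩, ?_⟩
    · rw [← show x ^ n = c from h, ← pow_succ, ← pow_succ']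
    · rintro ⟨x, h, rfl⟩
      exact congrArg Subtype.val h
  rw [h1, h3, Set.ncard_image_of_injective _ Subtype.val_injective,
    ← Perm.ncard_conj_mul_card_centralizer c]
  change Nat.gcd (Nat.card {y | IsConj c y} * n) _ ∣ _
  rw [Nat.card_coe_set_eq, Nat.gcd_mul_left]
  exact mul_dvd_mul_left _ h2

end Cfsg.Agent.S4212
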