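import Mathlib
import Cfsg.Statements.S4213
import Cfsg.Agent.FGS.FrobCount
import Cfsg.Agent.Core.MinNormal

set_option autoImplicit false
open Cfsg

namespace Cfsg.Agent.S4213

open Subgroup

theorem eq_of_card {G : Type*} [Group G] [Finite G] {n : ℕ} (hc : Nat.card {x : G // x ^ n = 1} = n)
    (H : Subgroup G) (h : ∀ x ∈ H, x ^ n = 1) (hH : n ≤ Nat.card H) :
    ∃ H : Subgroup G, H.Normal ∧ (H : Set G) = {x : G | x ^ n = 1} := by
  have e : (H : Set G) = {x : G | x ^ n = 1} := Set.eq_of_subset_of_ncard_le h (by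
    rw [← Nat.card_coe_set_eq, ← Nat.card_coe_set_eq]
    exact hc.trans_le hH)
  refine ⟨H, ⟨fun x hx g => ?_⟩, e⟩
  rw [← SetLike.mem_coe, e, Set.mem_ofPred_eq, conj_pow, h x hx, mul_one, mul_inv_cancel]

theorem card_comap_mk {G : Type*} [Group G] [Finite G] (K : Subgroup G) [K.Normal] (S : Set (G ⧸ K)) :
    Nat.card (QuotientGroup.mk' K ⁻¹' S) = Nat.card K * Nat.card S :=
  QuotientGroup.card_preimage_mk K S

theorem aux.{u} (G : Type u) [Group G] [Finite G] : Group.IsSolvable G → ∀ n : ℕ, n ∣ Nat.card G →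
    Nat.card {x : G // x ^ n = 1} = n →
    ∃ H : Subgroup G, H.Normal ∧ (H : Set G) = {x : G | x ^ n = 1} := by
  refine Core.induction_on_card (P := fun G _ _ => Group.IsSolvable G → ∀ n : ℕ, n ∣ Nat.card G →
    Nat.card {x : G // x ^ n = 1} = n →
    ∃ H : Subgroup G, H.Normal ∧ (H : Set G) = {x : G | x ^ n = 1}) (fun G _ _ ih => ?_) G
  intro hs n hn hc
  rcases subsingleton_or_nontrivial G with hG | hG
  · exact ⟨⊤, inferInstance, by ext x; simp [Subsingleton.elim x 1]⟩
  obtain ⟨K, p, hK, hne, -, hp, hE, -⟩ := Core.exists_minimal_normal_elementary_le (⊤ : Subgroup G)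
    inferInstance top_ne_bot
  have := Fact.mk hp
  have hn0 : 0 < n := Nat.pos_of_dvd_of_pos hn Nat.card_pos
  have hlt : Nat.card (G ⧸ K) < Nat.card G := by
    rw [card_eq_card_quotient_mul_card_subgroup K]
    exact (Nat.lt_mul_iff_one_lt_right Nat.card_pos).mpr ((one_lt_card_iff_ne_bot K).mpr hne)
  obtain ⟨u, hu⟩ := Nat.gcd_dvd_left n (Nat.card K)
  have hg : 0 < Nat.gcd n (Nat.card K) := Nat.gcd_pos_of_pos_left _ hn0
  have hu0 : 0 < u := Nat.pos_of_ne_zero (by rintro rfl; omega)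
  have huq : u ∣ Nat.card (G ⧸ K) := by
    have h1 : n ∣ Nat.gcd n (Nat.card K) * Nat.card (G ⧸ K) := by
      rw [← Nat.gcd_mul_right]
      exact Nat.dvd_gcd (dvd_mul_right _ _)
        (by rwa [mul_comm, ← card_eq_card_quotient_mul_card_subgroup])
    nth_rewrite 1 [hu] at h1
    exact Nat.dvd_of_mul_dvd_mul_left hg h1
  have hle : u ≤ Nat.card {y : G ⧸ K // y ^ u = 1} := by
    have : Nonempty {y : G ⧸ K // y ^ u = 1} := ⟨⟨1, one_pow _⟩⟩
    exact Nat.le_of_dvd Nat.card_pos (FGS.dvd_card_pow_eq_one huq)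
  by_cases hpn : p ∣ n
  · have h1 : ∀ x : G, (QuotientGroup.mk' K x) ^ u = 1 → x ^ n = 1 := fun x hx => by
      obtain ⟨m, hm⟩ := Nat.dvd_gcd hpn
        (Core.prime_dvd_card_of_isPGroup (Core.IsElementaryAbelian.isPGroup hE) hne)
      rw [hu, hm, mul_comm, pow_mul, pow_mul,
        hE.2 _ ((QuotientGroup.eq_one_iff _).mp (by rwa [← map_pow] at hx)), one_pow]
    have h2 : Nat.card K * Nat.card {y : G ⧸ K // y ^ u = 1} ≤ n := by
      refine (card_comap_mk K {y | y ^ u = 1}).symm.trans_le (le_of_le_of_eq ?_ hc)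
      exact Nat.card_le_card_of_injective (fun x => ⟨x.1, h1 _ x.2⟩) fun x y e =>
        Subtype.ext (congrArg (fun z : {x : G // x ^ n = 1} => z.1) e)
    have h3 : n ≤ Nat.card K * u :=
      hu.trans_le (Nat.mul_le_mul_right _ (Nat.gcd_le_right _ Nat.card_pos))
    obtain ⟨H, -, hH⟩ := ih (G ⧸ K) hlt inferInstance u huq
      (le_antisymm (Nat.le_of_mul_le_mul_left (h2.trans h3) Nat.card_pos) hle)
    refine eq_of_card hc (H.comap (QuotientGroup.mk' K)) (fun x hx => h1 x (hH.le hx)) ?_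
    refine h3.trans ((Nat.mul_le_mul_left _ ?_).trans (card_comap_mk K H).ge)
    rw [hH]
    exact hle
  · obtain ⟨k, hk⟩ := IsPGroup.iff_card.mp (Core.IsElementaryAbelian.isPGroup hE)
    have hcop : n.Coprime (Nat.card K) := hk ▸ (hp.coprime_iff_not_dvd.mpr hpn).symm.pow_right k
    rw [hcop, one_mul] at hu
    subst hu
    have h2 : Nat.card {y : G ⧸ K // y ^ n = 1} ≤ n := by
      refine le_of_le_of_eq ?_ hc
      refine Nat.card_le_card_of_surjective (fun x => ⟨QuotientGroup.mk' K x.1, by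
        rw [← map_pow, x.2, map_one]⟩) ?_
      rintro ⟨y, hy⟩
      obtain ⟨x, rfl⟩ := QuotientGroup.mk'_surjective K y
      obtain ⟨a, ha, ⟨b, hb⟩⟩ : ∃ a, a ≡ 1 [MOD n] ∧ Nat.card K ∣ a := by
        obtain ⟨a, h1, h2⟩ := Nat.chineseRemainder hcop 1 0
        exact ⟨a, h1, Nat.modEq_zero_iff_dvd.mp h2⟩
      refine ⟨⟨x ^ a, ?_⟩, Subtype.ext ?_⟩
      · have : x ^ n ∈ K := (QuotientGroup.eq_one_iff _).mp (by rwa [← map_pow] at hy)
        rw [← pow_mul, mul_comm, pow_mul, hb, pow_mul]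
        rw [show (x ^ n) ^ Nat.card K = 1 from congrArg Subtype.val
          (pow_card_eq_one' (x := (⟨_, this⟩ : K))), one_pow]
      · change QuotientGroup.mk' K (x ^ a) = _
        rw [map_pow, pow_eq_pow_iff_modEq.mpr (ha.of_dvd (orderOf_dvd_of_pow_eq_one hy)), pow_one]
    obtain ⟨H, -, hH⟩ := ih (G ⧸ K) hlt inferInstance n huq (le_antisymm h2 hle)
    have h3 : Nat.card H = n := by
      refine Eq.trans ?_ (le_antisymm h2 hle)
      change Nat.card (H : Set (G ⧸ K)) = _
      rw [hH]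
      rfl
    set M := H.comap (QuotientGroup.mk' K)
    have hKM : K ≤ M := fun x hx => by
      rw [mem_comap, QuotientGroup.mk'_apply, (QuotientGroup.eq_one_iff _).mpr hx]
      exact one_mem _
    have h4 : Nat.card M = Nat.card K * n := h3 ▸ card_comap_mk K H
    have h5 : Nat.card (K.subgroupOf M) = Nat.card K := Nat.card_congr (subgroupOfEquivOfLe hKM).toEquiv
    have h6 : (K.subgroupOf M).index = n :=
      Nat.eq_of_mul_eq_mul_left Nat.card_pos (h5 ▸ (card_mul_index _).trans h4)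
    obtain ⟨L, hL⟩ := exists_right_complement'_of_coprime (N := K.subgroupOf M)
      (by rw [h5, h6]; exact hcop.symm)
    have h7 : Nat.card L = n := hL.symm.index_eq_card.symm.trans h6
    refine eq_of_card hc (L.map M.subtype) ?_ (by rw [card_subtype, h7])
    rintro _ ⟨x, hx, rfl⟩
    rw [← map_pow, ← h7, show x ^ Nat.card L = 1 from congrArg Subtype.val
      (pow_card_eq_one' (x := (⟨_, hx⟩ : L))), map_one]

/-- If `G` is a finite solvable group and `n` divides the order of `G` and exactly `n` elements `x` of `G` satisfy `x^n = 1`, then these elements form a normal subgroup. -/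
theorem result {G : Type*} [Group G] [Finite G] [Group.IsSolvable G] (n : ℕ) (hn : n ∣ Nat.card G) (hcount : Nat.card {x : G // x ^ n = 1} = n) : ∃ H : Subgroup G, H.Normal ∧ (H : Set G) = {x : G | x ^ n = 1} := by
  exact aux G inferInstance n hn hcount

end Cfsg.Agent.S4213
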