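import Mathlib
import Cfsg.Agent.GC.MN5
import Cfsg.Statements.S4233
-- import your own Cfsg.Agent.* helpers here

set_option autoImplicit false
open Cfsg

namespace Cfsg.Agent.S4233

open Subgroup Cfsg.Agent.GC Cfsg.Agent.GC.MN Cfsg.Agent.Classical Cfsg.Agent.Classical.SL2Basic
open scoped MatrixGroups

local instance : Fact (Nat.Prime 13) := ⟨by norm_num⟩

def y13 : SL(2, ZMod 13) := mkSL 0 1 12 2 (by decide)

theorem y13_pow : y13 ^ 13 = 1 := by decide +kernel

theorem y13_ne : ¬ (y13 = 1 ∨ y13 = -1) := by decide +kernel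

theorem y13_inv : y13 * (s13 * y13) = s13 := by decide +kernel

/-- Let G be a finite non-solvable group in which every subgroup H that is not subnormal and whose order has at most two prime divisors has a normalizer N_G(H) that is a maximal subgroup of G. Then G is the internal direct product of normal subgroups K and S with K isomorphic to PSL(2, 13) or to SL(2, 13), S abelian, and the orders of K and S coprime. -/
theorem result {G : Type*} [Group G] [Finite G] (hG : ¬ Group.IsSolvable G)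
    (h : ∀ H : Subgroup G, ¬ H.IsSubnormal →
      (∃ p q : ℕ, p.Prime ∧ q.Prime ∧ ∀ r : ℕ, r.Prime → r ∣ Nat.card H → r = p ∨ r = q) →
      IsCoatom (Subgroup.normalizer (H : Set G))) :
    ∃ K S : Subgroup G, K.Normal ∧ S.Normal ∧ K ⊓ S = ⊥ ∧ K ⊔ S = ⊤ ∧
      (Nonempty (K ≃* Matrix.ProjectiveSpecialLinearGroup (Fin 2) (ZMod 13)) ∨
        Nonempty (K ≃* Matrix.SpecialLinearGroup (Fin 2) (ZMod 13))) ∧
      IsMulCommutative S ∧ (Nat.card K).Coprime (Nat.card S) := by
  have h : Hyp G := h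
  haveI := @FGS.solvableRadical_normal G _ _
  have hQ : ∀ N : Subgroup (G ⧸ solvableRadical G), N.Normal → Group.IsSolvable N → N = ⊥ := fun N _ k =>
    eq_bot_iff.2 (FGS.solvableRadical_quotient (G := G) ▸ FGS.le_solvableRadical k)
  haveI : Nontrivial (G ⧸ solvableRadical G) := QuotientGroup.nontrivial_iff.2 fun k =>
    hG (FGS.solvableRadical_eq_top_iff.1 k)
  have hξ := QuotientGroup.mk'_surjective (solvableRadical G)
  set ξ := QuotientGroup.mk' (solvableRadical G)
  obtain ⟨ε⟩ := (h.mm hξ hQ (by rw [QuotientGroup.ker_mk']; exact FGS.solvableRadical_solvable)).ident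
  haveI := Matrix.ProjectiveSpecialLinearGroup.rank_two_simple (F := ZMod 13) (by simp)
  haveI := ε.isSimpleGroup
  let π := ε.symm.toMonoidHom.comp (QuotientGroup.mk' (center SL(2, ZMod 13)))
  have hπ : ∀ g k, π g = π k ↔ g = k ∨ g = -k := fun g k => by rw [← mk_eq_mk_iff]; exact ε.symm.injective.eq_iff
  have hπ' : Function.Surjective π := ε.symm.surjective.comp (QuotientGroup.mk'_surjective _)
  obtain ⟨η, e, hc⟩ := h.eta hξ hQ hπ
  have e' : ∀ g, ξ (η g) = π g := DFunLike.congr_fun e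
  have dec : ∀ g : G, ∃ k, ∃ r ∈ ξ.ker, g = η k * r := fun g => by
    obtain ⟨k, hk⟩ := hπ' (ξ g)
    exact ⟨k, (η k)⁻¹ * g, by simp [e', hk], by simp⟩
  haveI := Fact.mk Nat.prime_two
  obtain ⟨P⟩ : Nonempty (Sylow 2 ξ.ker) := inferInstance
  have hP : ∀ a ∈ (P : Subgroup ξ.ker), (a : G) ∈ η.range := fun a ha => by
    obtain ⟨k, hk⟩ := P.isPGroup' ⟨a, ha⟩
    exact h.two hξ hQ hπ e hc a.2 (congrArg (fun u : (P : Subgroup ξ.ker) => ((u : ξ.ker) : G)) hk)
  haveI : (P : Subgroup ξ.ker).Normal := ⟨fun a ha g => by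
    rwa [show g * a = a * g from Subtype.ext (hc (hP a ha) g g.2), mul_inv_cancel_right]⟩
  obtain ⟨T, hT⟩ := exists_right_complement'_of_coprime P.card_coprime_index
  have hd : ∀ r ∈ ξ.ker, ∃ k, ∃ c ∈ T.map ξ.ker.subtype, r = η k * c := fun r hr => by
    obtain ⟨⟨a, c⟩, k⟩ := hT.existsUnique ⟨r, hr⟩ |>.exists
    obtain ⟨l, hl⟩ := hP a a.2
    exact ⟨l, c, ⟨c, c.2, rfl⟩, by rw [hl]; exact (congrArg Subtype.val k).symm⟩
  have hS : T.map ξ.ker.subtype ≤ ξ.ker := map_subtype_le T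
  have h2 : ¬ 2 ∣ Nat.card (T.map ξ.ker.subtype) := by
    rw [Core.card_map_subtype, ← hT.symm.index_eq_card]; exact P.not_dvd_index
  generalize T.map ξ.ker.subtype = S at hd hS h2
  have hn : ∀ X : Subgroup G, (∀ k, η k ∈ nz X) → S ≤ nz X → X.Normal := fun X k1 k2 =>
    Core.normal_of_le_normalizer fun g _ => by
      obtain ⟨k, r, hr, rfl⟩ := dec g
      obtain ⟨l, c, hc, rfl⟩ := hd r hr
      exact mul_mem (k1 k) (mul_mem (k1 l) (k2 hc))
  have hco : (Nat.card η.range).Coprime (Nat.card S) := Nat.coprime_of_dvd fun p hp h3 h4 => by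
    haveI := Fact.mk hp
    obtain ⟨r, hr⟩ := exists_prime_orderOf_dvd_card' (G := S) p h4
    have h5 : (r : G) ^ p ^ 1 = 1 := by rw [pow_one, ← hr, ← orderOf_coe, pow_orderOf_eq_one]
    have h6 : (r : G) ≠ 1 := fun k => hp.ne_one (by rw [← hr, ← orderOf_coe, k, orderOf_one])
    have h7 : p ∣ 2 ^ 3 * 3 * 7 * 13 := by
      have := h3.trans (card_range_dvd η)
      rwa [SLBasic.card_SL_two, Nat.card_zmod] at this
    simp only [hp.dvd_mul] at h7
    rcases h7 with ((k | k) | k) | k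
    · exact h2 ((Nat.prime_dvd_prime_iff_eq hp Nat.prime_two).1 (hp.dvd_of_dvd_pow k) ▸ h4)
    · obtain rfl := (Nat.prime_dvd_prime_iff_eq hp Nat.prime_three).1 k
      exact h6 (h.odd hξ hQ hπ e hc hp (by decide) (hS r.2) h5 (y := mkSL 0 1 12 12 (by decide)) (s := s13)
        (by decide +kernel) (by decide +kernel) (by decide +kernel))
    · obtain rfl := (Nat.prime_dvd_prime_iff_eq hp (by norm_num)).1 k
      exact h6 (h.odd hξ hQ hπ e hc hp (by decide) (hS r.2) h5 (y := mkSL 0 1 12 7 (by decide)) (s := s13)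
        (by decide +kernel) (by decide +kernel) (by decide +kernel))
    · obtain rfl := (Nat.prime_dvd_prime_iff_eq hp (by norm_num)).1 k
      exact h6 (h.odd hξ hQ hπ e hc hp (by decide) (hS r.2) h5 y13_pow y13_ne y13_inv)
  refine ⟨η.range, S, hn _ (fun k => le_normalizer ⟨k, rfl⟩)
    ((hS.trans (le_centralizer_iff.1 hc)).trans (centralizer_le_normalizer _)),
    hn _ (fun k => centralizer_le_normalizer _ (centralizer_le hS (hc ⟨k, rfl⟩))) le_normalizer,
    disjoint_iff.1 (Core.disjoint_of_coprime hco), eq_top_iff.2 fun g _ => ?_, ?_, ?_, hco⟩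
  · obtain ⟨k, r, hr, rfl⟩ := dec g
    obtain ⟨l, c, hc, rfl⟩ := hd r hr
    exact mul_mem (mem_sup_left ⟨k, rfl⟩) (mul_mem_sup ⟨l, rfl⟩ hc)
  · by_cases k : η (-1) = 1
    · refine .inl ⟨(MulEquiv.ofBijective (ξ.comp η.range.subtype) ⟨(injective_iff_map_eq_one _).2 ?_, fun q => ?_⟩).trans ε⟩
      · rintro ⟨_, g, rfl⟩ hg
        rcases (hπ g 1).1 ((e' g).symm.trans (hg.trans (map_one π).symm)) with rfl | rfl
        exacts [Subtype.ext (map_one η), Subtype.ext k]
      · obtain ⟨g, rfl⟩ := hπ' q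
        exact ⟨⟨η g, g, rfl⟩, e' g⟩
    · refine .inr ⟨(MonoidHom.ofInjective ((injective_iff_map_eq_one _).2 fun g hg => ?_)).symm⟩
      rcases (hπ g 1).1 (by rw [← e', hg, map_one, map_one]) with rfl | rfl
      exacts [rfl, absurd hg k]
  · by_contra k
    obtain ⟨Q, -, -, ⟨f⟩, -⟩ := S4211.result k fun H => ⟨fun a ha g =>
      Transfer.mem_of_forall_prime_pow_mem (H := H.comap (MulAut.conj g).toMonoidHom) fun p hp _ c hc' ⟨j, hj⟩ => by
        obtain ⟨i, hi⟩ := h.ded hξ hQ hπ e hc hp (hS c.2) (k := j)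
          (by rw [← hj, ← orderOf_coe, pow_orderOf_eq_one]) (hS g.2)
        have : g * c * g⁻¹ = c ^ i := Subtype.ext hi.symm
        exact (this ▸ zpow_mem (zpowers_le.2 ha hc') i : g * c * g⁻¹ ∈ H)⟩
    refine h2 (dvd_trans ?_ (card_subgroup_dvd_card Q))
    rw [Nat.card_congr f.toEquiv, Nat.card_eq_fintype_card, QuaternionGroup.card]
    decide

end Cfsg.Agent.S4233
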