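import Mathlib
import Cfsg.Statements.S4235
import Cfsg.Agent.Part.Two
import Cfsg.Agent.Perm.Zass2
import Cfsg.Agent.Classical.PSL2Basic
import Cfsg.Agent.FGS.Super

set_option autoImplicit false
open scoped Pointwise
open Cfsg

namespace Cfsg.Agent.S4235

open Subgroup Core

theorem solv_norm {G : Type*} [Group G] [Finite G] (S : Sylow 2 G) :
    Group.IsSolvable (normalizer ((S : Subgroup G) : Set G)) := by
  have : Fact (Nat.Prime 2) := ⟨Nat.prime_two⟩
  set N := normalizer ((S : Subgroup G) : Set G)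
  have : ((S : Subgroup G).subgroupOf N).Normal := normal_in_normalizer
  have : Group.IsSolvable ((S : Subgroup G).subgroupOf N) :=
    solvable_subgroupOf (solvable_of_isPGroup S.isPGroup')
  have : Group.IsSolvable (N ⧸ (S : Subgroup G).subgroupOf N) := S0205.result
    (Nat.not_even_iff_odd.1 fun e => (isSylowOf_sylow_of_le S le_normalizer).not_dvd e.two_dvd)
  exact solvable_of_ker_le_range ((S : Subgroup G).subgroupOf N).subtype 
    (QuotientGroup.mk' ((S : Subgroup G).subgroupOf N)) (by simp)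

theorem solv_burn {G : Type*} [Group G] [Finite G] (S : Sylow 2 G)
    (h : normalizer ((S : Subgroup G) : Set G) ≤ centralizer (S : Subgroup G)) :
    Group.IsSolvable G := by
  have : Fact (Nat.Prime 2) := ⟨Nat.prime_two⟩
  have : Group.IsSolvable (MonoidHom.transferSylow S h).ker := S0205.result
    (Nat.not_even_iff_odd.1 fun e => MonoidHom.not_dvd_card_ker_transferSylow S h e.two_dvd)
  have : Group.IsSolvable S := solvable_of_isPGroup S.isPGroup'
  exact solvable_of_ker_le_range (MonoidHom.transferSylow S h).ker.subtype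
    (MonoidHom.transferSylow S h) (by simp)

/-- Let G be a finite group. Call a subgroup maximal solvable if it is solvable and not properly contained in a solvable subgroup. Suppose F assigns to each maximal solvable subgroup M a normal subgroup F(M) of M such that: every element of M outside F(M) centralizes no non-identity element of F(M); F(M) meets each conjugate g F(M) g⁻¹ with g outside M trivially; and F(M) is nontrivial unless M is abelian. Then G is solvable, or G is isomorphic to SL(2, K) for a finite field K of characteristic 2 with at least 4 elements, or G is isomorphic to a Suzuki group. -/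
theorem result {G : Type*} [Group G] [Finite G] (F : Subgroup G → Subgroup G)
    (h : ∀ M : Subgroup G, (Group.IsSolvable M ∧ ∀ M' : Subgroup G, M < M' → ¬ Group.IsSolvable M') →
      F M ≤ M ∧ M ≤ Subgroup.normalizer (F M : Set G) ∧
      (∀ a ∈ M, a ∉ F M → ∀ x ∈ F M, x * a = a * x → x = 1) ∧
      (∀ g : G, g ∉ M → F M ⊓ (MulAut.conj g • F M) = ⊥) ∧
      (F M ≠ ⊥ ∨ IsMulCommutative M)) :
    Group.IsSolvable G ∨
      (∃ (K : Type) (_ : Field K) (_ : Fintype K), (∃ n : ℕ, 2 ≤ n ∧ Fintype.card K = 2 ^ n) ∧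
        Nonempty (G ≃* Matrix.SpecialLinearGroup (Fin 2) K)) ∨
      Cfsg.Lie.IsoSuzuki G := by
  have : Fact (Nat.Prime 2) := ⟨Nat.prime_two⟩
  by_cases hs : Group.IsSolvable G
  · exact Or.inl hs
  refine Or.inr ?_
  have : Nontrivial G := by
    by_contra e
    rw [not_nontrivial_iff_subsingleton] at e
    exact hs inferInstance
  have step : ∀ S : Sylow 2 G, ∃ M K : Subgroup G, (S : Subgroup G) ≤ M ∧ M ≠ ⊤ ∧ K ≠ ⊥ ∧
      (∀ N : Subgroup G, N.Normal → Group.IsSolvable N → N ≤ M) ∧ K ≤ M ∧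
      M ≤ normalizer (K : Set G) ∧ (∀ a ∈ M, ∀ x ∈ K, x ≠ 1 → x * a = a * x → a ∈ K) ∧
      ∀ g x : G, x ≠ 1 → x ∈ K → g * x * g⁻¹ ∈ K → g ∈ M := fun S => by
    obtain ⟨M, hM, hm⟩ := Finite.exists_le_maximal (p := fun M : Subgroup G => Group.IsSolvable M)
      (solv_norm S)
    obtain ⟨h1, h2, h3, h4, h5⟩ := h M ⟨hm.1, fun M' h h' => h.not_ge (hm.2 h' h.le)⟩
    refine ⟨M, F M, le_normalizer.trans hM, ?_, h5.resolve_right fun e => hs (solv_burn S
      fun a ha b hb => comm_of_isMulCommutative e (hM (le_normalizer hb)) (hM ha)),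
      fun N hN h => ?_, h1, h2, fun a ha x hx h0 e => ?_, fun g x h0 hx hg => ?_⟩
    · rintro rfl
      exact hs (solvable_of_mulEquiv topEquiv hm.1)
    · exact le_sup_left.trans (hm.2 (FGS.solvable_sup_of_normal h hm.1) le_sup_right)
    · by_contra e'
      exact h0 (h3 a ha e' x hx e)
    · by_contra e
      have h6 : g * x * g⁻¹ ∈ (⊥ : Subgroup G) := h4 g e ▸ ⟨hg, FGS.mem_conj_iff.2 (by
        simpa [mul_assoc] using hx)⟩
      exact h0 (conj_eq_one_iff.1 h6)
  have hF : fittingSubgroup G = ⊥ := by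
    by_contra e
    obtain ⟨M, K, -, h1, h2, h3, h4, h5, h6, h7⟩ := step default
    obtain ⟨V, p, hV, h0, -, -, hab, -⟩ :=
      exists_minimal_normal_elementary_le (fittingSubgroup G) fitting_solvable e
    have := hab.1
    have hVM := h3 V hV solvable_of_isMulCommutative
    obtain ⟨⟨v, hv⟩, hv1⟩ := ne_bot_iff_exists_ne_one.1 h0
    have hv1 : v ≠ 1 := fun e => hv1 (Subtype.ext e)
    by_cases h8 : V ⊓ K = ⊥
    · obtain ⟨⟨x, hx⟩, hx1⟩ := ne_bot_iff_exists_ne_one.1 h2
      have h9 : x * v * x⁻¹ * v⁻¹ ∈ V ⊓ K := mem_inf.2 ⟨mul_mem (hV.conj_mem v hv x) (inv_mem hv), by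
        rw [mul_assoc, mul_assoc]
        exact mul_mem hx (by simpa [mul_assoc] using (mem_normalizer_iff.1 (h5 (hVM hv)) _).1 (inv_mem hx))⟩
      rw [h8, mem_bot, mul_inv_eq_one, mul_inv_eq_iff_eq_mul] at h9
      exact hv1 (mem_bot.1 (h8.le ⟨hv, h6 v (hVM hv) x hx (fun e => hx1 (Subtype.ext e)) h9⟩))
    · obtain ⟨⟨x, hx⟩, hx1⟩ := ne_bot_iff_exists_ne_one.1 h8
      have hx1 : x ≠ 1 := fun e => hx1 (Subtype.ext e)
      have h9 : V ≤ K := fun a ha => h6 a (hVM ha) x hx.2 hx1 (comm_of_isMulCommutative hab.1 hx.1 ha)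
      exact h1 (eq_top_iff.2 fun g _ => h7 g v hv1 (h9 hv) (h9 (hV.conj_mem v hv g)))
  obtain ⟨x, y, hx, hy, hxy, hx2, hy2, hc⟩ := Part.twoRank hF
  obtain ⟨S, hS⟩ := (IsPGroup.to_sup_of_normal_right' (GW.pgroup_zp hx2) (GW.pgroup_zp hy2)
    (zpowers_le.2 (centralizer_le_normalizer _ (by
      rintro _ ⟨n, rfl⟩
      exact (Commute.zpow_left hc.symm n).eq)))).exists_le_sylow
  have hxS : x ∈ (S : Subgroup G) := hS (mem_sup_left (mem_zpowers x))
  have hyS : y ∈ (S : Subgroup G) := hS (mem_sup_right (mem_zpowers y))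
  obtain ⟨M, K, hSM, h1, h2, -, h4, h5, h6, h7⟩ := step S
  have hs1 := (isSylowOf_sylow_of_le S hSM).inf_of_normal h4 (hSM.trans h5)
  have h0 : (S : Subgroup G) ⊓ K ≠ ⊥ := fun e => by
    have k : ∀ a ∈ (S : Subgroup G), a ≠ 1 → a * a = 1 → ∀ u ∈ K, a * u * a⁻¹ = u⁻¹ :=
      fun a ha a1 a2 u hu => Perm.inverts_of_fpf a2
        (fun u hu => (mem_normalizer_iff.1 (h5 (hSM ha)) u).1 hu) (fun u hu e' => by
          by_contra u1
          exact a1 (mem_bot.1 (e.le ⟨ha, h6 a (hSM ha) u hu u1 e'.symm⟩))) hu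
    have k2 : IsPGroup 2 K := fun ⟨u, hu⟩ => ⟨1, Subtype.ext (by
      have e3 := k (x * y) (mul_mem hxS hyS) (fun e => hxy (by
        rw [mul_eq_one_iff_eq_inv.1 e, ← mul_eq_one_iff_eq_inv.1 hy2])) (by
        rw [mul_assoc, ← mul_assoc y, ← hc, mul_assoc, hy2, mul_one, hx2]) u hu
      rw [show x * y * u * (x * y)⁻¹ = x * (y * u * y⁻¹) * x⁻¹ by group, k y hyS hy hy2 u hu,
        k x hxS hx hx2 _ (inv_mem hu), inv_inv] at e3
      simpa [sq] using mul_eq_one_iff_eq_inv.2 e3)⟩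
    exact h2 ((hs1.eq_of_le k2 le_rfl inf_le_right).symm.trans e)
  obtain ⟨v, hv, hv1, hv2⟩ := Part.exists_mem_comm_of_normalizer hs1.isPGroup h0 S.isPGroup'
    (le_normalizer_inf le_normalizer (hSM.trans h5))
  have hSK : (S : Subgroup G) ≤ K := fun a ha => h6 a (hSM ha) v hv.2 hv1 (hv2 a ha).symm
  have h8 : ∀ t ∈ M, orderOf t = 2 → t ∈ K := fun t ht ho => by
    obtain ⟨m, hm, e⟩ := Part.exists_conj_mem (isSylowOf_sylow_of_le S hSM) ht (k := 1)
      (by rw [ho, pow_one])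
    exact (mem_normalizer_iff.1 (h5 hm) t).2 (hSK e)
  have h9 : ∀ u ∈ K, u ≠ 1 → ∀ g, g * u = u * g → g ∈ K := fun u hu u1 g e =>
    h6 g (h7 g u u1 hu (by rwa [e, mul_inv_cancel_right])) u hu u1 e.symm
  have hse : IsStronglyEmbedded M := Inv.se_of h1 (hSM hxS) (Part.two_of_sq hx hx2)
    fun t ht ho g hg => h7 g t (Ben.sq_of_two ho).1 (h8 t ht ho)
      (h8 _ hg ((Part.ord_conj g t).trans ho))
  rcases (Part.zass hse hF fun v t s hv _ _ hs hsM hvt hvs => h4 (h9 v
    (h9 s (h8 s hsM hs) (Ben.sq_of_two hs).1 v hvs) hv t hvt.symm)).1 with ⟨k, _, _, ⟨n, hn, e⟩, ⟨f⟩⟩ | h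
  · refine Or.inl ⟨k, inferInstance, inferInstance, ⟨n, hn, e⟩,
      ⟨f.trans (Classical.PSL2Basic.slEquivPSL ?_).symm⟩⟩
    have e2 := FiniteField.cast_card_eq_zero k
    rw [e, Nat.cast_pow, pow_eq_zero_iff (by omega)] at e2
    exact_mod_cast e2
  · exact Or.inr h

end Cfsg.Agent.S4235
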