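import Mathlib
import Cfsg.Agent.S2756
import Cfsg.Agent.S4240
import Cfsg.Statements.S4241
-- import your own Cfsg.Agent.* helpers here

set_option autoImplicit false
open Cfsg

namespace Cfsg.Agent.S4241

open Subgroup Cfsg.Agent.GsD Cfsg.Agent.PLocal

theorem solv {G : Type*} [Group G] [Finite G] {K : Subgroup G}
    (h : ∀ (q : ℕ) [Fact q.Prime], q ≠ 2 → q ∣ Nat.card K → ∃ Q, Core.IsSylowOf q Q K ∧
      (Group.IsNilpotent (K ⊓ normalizer (zOf (jn 0 Q) : Set G) : Subgroup G) ∨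
        ¬ 2 ∣ Nat.card (K ⊓ normalizer (zOf (jn 0 Q) : Set G) : Subgroup G))) : Group.IsSolvable K := by
  have P : Sylow 2 K := default
  have hP : (P : Subgroup K).Normal := S2756.ca (fun q _ hq T x hx x1 g hg e => ?_) P
  · have h1 : Group.IsSolvable (K ⧸ (P : Subgroup K)) :=
      S0205.result (Nat.odd_iff.2 (Nat.two_dvd_ne_zero.1 P.not_dvd_index))
    have h2 := Core.solvable_of_isPGroup P.isPGroup'
    exact Group.isSolvable_of_ker_le_range (P : Subgroup K).subtype (QuotientGroup.mk' (P : Subgroup K)) (by simp)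
  obtain ⟨Q, hQ, hH⟩ := h q hq ((Core.prime_dvd_card_of_isPGroup T.isPGroup' fun e => x1 (mem_bot.1 (e ▸ hx))).trans
    (card_subgroup_dvd_card _))
  obtain ⟨c, hc, ec⟩ := (Core.isSylowOf_map_subtype T).exists_conj_eq hQ
  let f := (MulAut.conj c).toMonoidHom.comp K.subtype
  have hf : Function.Injective f := (MulAut.conj c).injective.comp K.subtype_injective
  have eT : (T : Subgroup K).map f = Q := by rw [← ec, ← map_map]; rfl
  have hK : ∀ y, f y ∈ K := fun y => mul_mem (mul_mem hc y.2) (inv_mem hc)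
  rw [centerThompsonAOf_eq] at hg
  have h1 : f g ∈ normalizer (zOf (jn 0 Q) : Set G) := by
    rw [← eT, ← zj_map f (by rw [(MonoidHom.ker_eq_bot_iff f).2 hf]; exact disjoint_bot_right)]
    exact le_normalizer_map f ⟨g, hg, rfl⟩
  have h2 : f x ∈ normalizer (zOf (jn 0 Q) : Set G) := norm_zj Q (le_normalizer (eT ▸ ⟨x, hx, rfl⟩))
  obtain ⟨k, hk⟩ := T.isPGroup' ⟨x, hx⟩
  refine S2756.not_iv (G := (K ⊓ normalizer (zOf (jn 0 Q) : Set G) : Subgroup G)) hq (fun P => ?_)
    ⟨⟨f g, hK g, h1⟩, trivial, ⟨f x, hK x, h2⟩, trivial, ⟨k, Subtype.ext ?_⟩,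
      fun e => x1 (hf ((congrArg Subtype.val e).trans f.map_one.symm)), Subtype.ext ?_⟩
  · rcases hH with h3 | h3
    · infer_instance
    · have e : P.1 = ⊥ := by_contra fun e =>
        h3 ((Core.prime_dvd_card_of_isPGroup P.isPGroup' e).trans (card_subgroup_dvd_card _))
      rw [e]; infer_instance
  · change f x ^ q ^ k = 1
    rw [← map_pow, show x ^ q ^ k = 1 from congrArg Subtype.val hk, map_one]
  · change f g * f x * (f g)⁻¹ = (f x)⁻¹
    rw [← map_inv, ← map_inv, ← map_mul, ← map_mul, e]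

theorem core {G : Type*} [Group G] [Finite G] {K A : Subgroup G} [K.Normal] (hKA : K ⊔ A = ⊤)
    (hcop : (Nat.card A).Coprime (Nat.card K)) {d : ℕ} (hd : d = 1 ∨ d.Prime) (hdK : d ∣ Nat.card K)
    (h : ∀ H, H < K → A ≤ normalizer (H : Set G) → d ∣ Nat.card H → Group.IsNilpotent H)
    (hmin : ∀ N : Subgroup G, N.Normal → N ≤ K → Group.IsSolvable N → N = ⊥) : Group.IsSolvable K := by
  have hlt : ∀ (q : ℕ) [Fact q.Prime] (Q X : Subgroup G), Core.IsSylowOf q Q K → A ≤ normalizer (Q : Set G) →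
      X ≠ ⊥ → X ≤ Q → normalizer (Q : Set G) ≤ normalizer (X : Set G) →
      d ∣ Nat.card (K ⊓ normalizer (X : Set G) : Subgroup G) →
      Group.IsNilpotent (K ⊓ normalizer (X : Set G) : Subgroup G) := fun q _ Q X hQ hA hX hXQ hn =>
    h _ (lt_of_le_of_ne inf_le_left fun e => hX (hmin X
      (Core.normal_of_le_normalizer (hKA ▸ sup_le (e ▸ inf_le_right) (hA.trans hn))) (hXQ.trans hQ.le)
      (Core.solvable_of_isPGroup (hQ.isPGroup.to_le hXQ))))
      (Core.le_normalizer_inf le_normalizer_of_normal ((hA.trans hn).trans le_normalizer))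
  have hs : ∀ (q : ℕ) [Fact q.Prime] (Q X : Subgroup G), Core.IsSylowOf q Q K → q ∣ Nat.card K →
      normalizer (Q : Set G) ≤ normalizer (X : Set G) → q ∣ Nat.card (K ⊓ normalizer (X : Set G) : Subgroup G) :=
    fun q _ Q X hQ hq hn => (Core.prime_dvd_card_of_isPGroup hQ.isPGroup (hQ.ne_bot hq)).trans
      (card_dvd_of_le (le_inf hQ.le (le_normalizer.trans hn)))
  refine solv fun q _ hq hqK => ?_
  obtain ⟨Q, hQ, hAQ⟩ := Core.exists_invariant_isSylowOf A K le_normalizer_of_normal hcop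
    (FGS.solvable_or_of_coprime hcop) q
  refine ⟨Q, hQ, or_iff_not_imp_right.2 fun h2 => hlt q Q _ hQ hAQ
    (zOf_jn_ne_bot (.inl rfl) hQ.isPGroup (hQ.ne_bot hqK)) (zj_le Q) (norm_zj Q) ?_⟩
  rcases hd with rfl | hd
  · exact one_dvd _
  by_cases hd2 : d = 2
  · exact hd2 ▸ not_not.1 h2
  by_cases hdq : d = q
  · exact hdq ▸ hs q Q _ hQ hqK (norm_zj Q)
  have := Fact.mk hd
  obtain ⟨P, hP, hAP⟩ := Core.exists_invariant_isSylowOf A K le_normalizer_of_normal hcop
    (FGS.solvable_or_of_coprime hcop) d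
  have h3 : HasNormalPComplement d K := FGS.hasNormalPComplement_of_normalizers' hd2 hP fun X hX hXP hn => by
    have := hlt d P X hP hAP hX hXP hn (hs d P X hP hdK hn)
    exact Transfer.hasNormalPComplement_of_isNilpotent
  have hQL : Q ≤ (pResidual d K).map K.subtype := fun x hx => ⟨⟨x, hQ.le hx⟩, Transfer.mem_pResidual_of_coprime (by
    obtain ⟨k, hk⟩ := hQ.isPGroup ⟨x, hx⟩
    exact (((Nat.coprime_primes Fact.out hd).2 (Ne.symm hdq)).pow_left k).coprime_dvd_left
      (orderOf_dvd_of_pow_eq_one (Subtype.ext (congrArg Subtype.val hk :)))), rfl⟩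
  have e := (hQ.of_le hQL (map_subtype_le _)).frattini (map_subtype_le _) le_normalizer_of_normal
  rw [← e] at hdK
  exact (((hd.dvd_mul.1 (hdK.trans (Core.card_sup_dvd le_normalizer_of_normal))).resolve_left (by
    rw [Core.card_map_subtype]; exact Transfer.hasNormalPComplement_iff_not_dvd.mp h3))).trans
    (card_dvd_of_le (inf_le_inf_left _ (norm_zj Q)))

theorem internal {G : Type*} [Group G] [Finite G] {K A : Subgroup G} [K.Normal] (hKA : K ⊔ A = ⊤)
    (hcop : (Nat.card A).Coprime (Nat.card K)) {p : ℕ} (hp : p.Prime) (hpK : p ∣ Nat.card K)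
    (h : ∀ H, H < K → A ≤ normalizer (H : Set G) → p ∣ Nat.card H → Group.IsNilpotent H) : Group.IsSolvable K := by
  obtain ⟨N, -, ⟨hNn, hNK, hNs⟩, hmax⟩ := exists_maximal_ge_of_wellFoundedGT
    (fun N : Subgroup G => N.Normal ∧ N ≤ K ∧ Group.IsSolvable N) ⊥ ⟨inferInstance, bot_le, inferInstance⟩
  have hsu := QuotientGroup.mk'_surjective N
  set f := QuotientGroup.mk' N
  have hk : f.ker = N := QuotientGroup.ker_mk' N
  have := Normal.map ‹K.Normal› f hsu
  have hcm : (K.map f).comap f = K := comap_map_eq_self (hk.le.trans hNK)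
  obtain ⟨d, hd, hdK, hdH⟩ : ∃ d : ℕ, (d = 1 ∨ d.Prime) ∧ d ∣ Nat.card (K.map f) ∧
      ∀ H : Subgroup (G ⧸ N), d ∣ Nat.card H → p ∣ Nat.card (H.comap f) := by
    by_cases h1 : p ∣ Nat.card N
    · exact ⟨1, .inl rfl, one_dvd _, fun H _ => h1.trans (card_dvd_of_le (hk.ge.trans (ker_le_comap f H)))⟩
    · refine ⟨p, .inr hp, ?_, fun H h2 => h2.trans ?_⟩
      · rw [← Core.card_mul_relIndex hNK] at hpK
        rw [← relIndex_ker, hk]
        exact (hp.dvd_mul.1 hpK).resolve_left h1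
      · conv_lhs => rw [← map_comap_eq_self_of_surjective hsu H]
        exact card_map_dvd _ _
  refine FGS.solvable_of_ker_map f (hk.symm ▸ hNs) (core (K := K.map f) (A := A.map f)
    (by rw [← Subgroup.map_sup, hKA, map_top_of_surjective f hsu])
    ((hcop.coprime_dvd_left (card_map_dvd _ _)).coprime_dvd_right (card_map_dvd _ _)) hd hdK
    (fun H h1 h2 h3 => ?_) fun M hM h1 h2 => ?_)
  · rw [← map_comap_eq_self_of_surjective hsu H]
    refine Core.nilpotent_map (h _ (hcm ▸ (comap_lt_comap_of_surjective hsu).mpr h1) (fun a ha =>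
      mem_normalizer_fintype fun x hx => ?_) (hdH H h3)) f
    simpa using PGrp.conj_mem_of_mem_normalizer (h2 ⟨a, ha, rfl⟩) hx
  · rw [← map_comap_eq_self_of_surjective hsu M, Subgroup.map_eq_bot_iff, hk]
    exact hmax ⟨hM.comap f, hcm ▸ comap_mono h1, FGS.solvable_of_ker_map f (hk.symm ▸ hNs)
      ((map_comap_eq_self_of_surjective hsu M).symm ▸ h2)⟩ (hk.ge.trans (ker_le_comap f M))

/-- Let a finite group A act by automorphisms on a finite group G of order coprime to that of A, and let p be a prime dividing the order of G. If every maximal A-invariant proper subgroup of G whose order is divisible by p is nilpotent, then G is solvable. -/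
theorem result {A G : Type*} [Group A] [Group G] [Finite A] [Finite G] [MulDistribMulAction A G]
    (hcop : (Nat.card A).Coprime (Nat.card G)) (p : ℕ) (hp : p.Prime) (hpG : p ∣ Nat.card G)
    (hmax : ∀ H : Subgroup G, H ≠ ⊤ → (∀ a : A, ∀ x ∈ H, a • x ∈ H) →
      (∀ K : Subgroup G, H < K → (∀ a : A, ∀ x ∈ K, a • x ∈ K) → K = ⊤) → p ∣ Nat.card H → Group.IsNilpotent H) :
    Group.IsSolvable G := by
  let φ := MulDistribMulAction.toMulAut A G
  refine Core.solvable_of_mulEquiv (FGS.sdEquivG φ).symm (internal (FGS.sd_sup φ)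
    (FGS.sd_coprime φ hcop) hp ((FGS.card_sdG φ).symm ▸ hpG) fun H h1 h2 hd => ?_)
  obtain ⟨H, rfl⟩ := FGS.exists_map_inl h1.le
  obtain ⟨M, hHM, ⟨h3, h4⟩, h5⟩ := exists_maximal_ge_of_wellFoundedGT
    (fun M : Subgroup G => M ≠ ⊤ ∧ ∀ a : A, ∀ x ∈ M, a • x ∈ M) H
    ⟨fun h => h1.ne (FGS.map_inl_eq_sdG.mpr h), FGS.sdA_le_normalizer_iff.mp h2⟩
  rw [FGS.card_map_inl] at hd
  refine Core.nilpotent_map (Core.nilpotent_of_le hHM (hmax M h3 h4 (fun L h6 h7 => ?_)
    (hd.trans (card_dvd_of_le hHM)))) _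
  by_contra h8
  exact not_le_of_gt h6 (h5 ⟨h8, h7⟩ h6.le)

end Cfsg.Agent.S4241
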