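import Mathlib
import Cfsg.Statements.S4263
import Cfsg.Agent.FGS.Basic
import Cfsg.Agent.S0008

set_option autoImplicit false
open Cfsg

namespace Cfsg.Agent.S4263

open Subgroup
open scoped Pointwise

theorem isSubnormal_of_nilpotent {G : Type*} [Group G] [Finite G] [Group.IsNilpotent G]
    (H : Subgroup G) : H.IsSubnormal := by
  induction H using WellFoundedGT.induction with
  | ind H ih =>
    by_cases h : H = ⊤
    · rw [h]; exact IsSubnormal.top
    · have hlt := Group.normalizerCondition_of_isNilpotent (G := G) H (lt_top_iff_ne_top.mpr h)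
      exact IsSubnormal.step H _ hlt.le (ih _ hlt) normal_in_normalizer

theorem fitting_normal {G : Type*} [Group G] : (Cfsg.fittingSubgroup G).Normal := by
  exact Subgroup.sSup_normal _ (fun N hN => hN.1)

/-- Let G be a finite group. An element x lies in the Fitting subgroup F(G) if and only if, for every subgroup H of G, the power x^[G : H] lies in H. -/
theorem result {G : Type*} [Group G] [Finite G] (x : G) :
    x ∈ Cfsg.fittingSubgroup G ↔ ∀ H : Subgroup G, x ^ H.index ∈ H := by
  constructor
  · intro hx H
    have hF := fitting_normal (G := G)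
    have hn := Cfsg.Agent.S0008.result (G := G)
    have h1 : (zpowers x).IsSubnormal :=
      IsSubnormal.trans (K := Cfsg.fittingSubgroup G) (zpowers_le.mpr hx)
        (isSubnormal_of_nilpotent _) hF.isSubnormal
    obtain ⟨k, hk⟩ := FGS.relIndex_dvd_index_of_isSubnormal h1 H
    rw [hk, pow_mul]
    refine H.pow_mem ?_ k
    have := (H.subgroupOf (zpowers x)).pow_index_mem ⟨x, mem_zpowers x⟩
    exact this
  · intro h
    refine FGS.mem_of_forall_prime _ fun p hp => ?_
    have := Fact.mk hp
    let P : Sylow p G := default
    refine ⟨(P : Subgroup G).index, P.not_dvd_index, ?_⟩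
    have h1 : x ^ (P : Subgroup G).index ∈ (P : Subgroup G).normalCore := by
      intro b
      have := h (MulAut.conj b⁻¹ • (P : Subgroup G))
      rw [FGS.index_conj, FGS.mem_conj_iff] at this
      simpa using this
    refine le_sSup (s := {N : Subgroup G | N.Normal ∧ Group.IsNilpotent N}) ⟨inferInstance, ?_⟩ h1
    exact (P.isPGroup'.to_le (normalCore_le _)).isNilpotent

end Cfsg.Agent.S4263
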