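import Mathlib
import Cfsg.Statements.S4272
import Cfsg.Agent.JRE.Known
import Cfsg.Agent.JRE.Ward
import Cfsg.Agent.FGS.Walter
import Cfsg.Agent.RankOne.SzModel
import Cfsg.Agent.Comp.J1.Iso

set_option autoImplicit false
open Cfsg

namespace Cfsg.Agent.S4272

open MulAction Cfsg.Agent.Classical Cfsg.Agent.Classical.P1 Cfsg.Agent.Classical.Borel2 Cfsg.Agent.JRE
open scoped MatrixGroups

theorem key {G : Type*} [Group G] [IsSimpleGroup G]
    (hno : ∀ (Ω : Type) [Fintype Ω] [MulAction G Ω] [FaithfulSMul G Ω], ¬ IsMultiplyPretransitive G Ω 2)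
    {Ω : Type*} [Finite Ω] [MulAction G Ω] {a : Ω} {t : G} (ht : t • a ≠ a)
    (h : ∀ c, c ≠ a → ∃ g : G, g • a = a ∧ g • t • a = c) : False := by
  obtain ⟨n, ⟨e⟩⟩ := Finite.exists_equiv_fin Ω
  let _ : MulAction G (Fin n) := e.symm.mulAction G
  have hs : ∀ (g : G) (x : Ω), g • e x = e (g • x) := fun g x => by
    change e (g • e.symm (e x)) = _
    rw [e.symm_apply_apply]
  have : FaithfulSMul G (Fin n) := (faithfulSMul_iff).2 fun g hg => by
    rcases (toPermHom G Ω).normal_ker.eq_bot_or_eq_top with k | k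
    · exact Subgroup.mem_bot.1 (k ▸ (Equiv.ext fun x => e.injective ((hs g x).symm.trans (hg _)) :
        g ∈ (toPermHom G Ω).ker))
    · exact absurd (congrArg (· a) (show toPermHom G Ω t = 1 from k.ge (Subgroup.mem_top t))) ht
  refine hno (Fin n) (RankOne.two_transitive_of (a := e a) (t := t) rfl fun c hc => ?_)
  obtain ⟨g, h1, h2⟩ := h (e.symm c) fun k => hc (by rw [← k, e.apply_symm_apply])
  exact ⟨g, by rw [hs, h1], by rw [hs, hs, h2, e.apply_symm_apply]⟩

theorem psl {G : Type*} [Group G] [IsSimpleGroup G]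
    (hno : ∀ (Ω : Type) [Fintype Ω] [MulAction G Ω] [FaithfulSMul G Ω], ¬ IsMultiplyPretransitive G Ω 2)
    {F : Type*} [Field F] [Finite F] (e : G ≃* PSL(2, F)) : False := by
  let _ : MulAction G (PL F) := MulAction.compHom _ e.toMonoidHom
  have hs : ∀ (g : SL(2, F)) (x : PL F), e.symm g • x = g • x := fun g x => by
    change e (e.symm g) • x = _
    rw [e.apply_symm_apply, mk_smul_PSL]
  refine key hno (a := (inf : PL F)) (t := e.symm (wSL F)) (by rw [hs, wSL_smul_inf]; exact pt_ne_inf 0) fun c hc => ?_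
  obtain ⟨z, rfl⟩ := (inf_or_pt c).resolve_left hc
  exact ⟨e.symm (SL2Basic.upper z), by rw [hs, upper_smul_inf], by rw [hs, hs, wSL_smul_inf, upper_smul_pt, zero_add]⟩

/-- Let G be a finite non-abelian simple group whose Sylow 2-subgroups are abelian. If G admits no faithful doubly transitive action on a finite set, then G has order 175560 (the order of the first Janko group). -/
theorem result {G : Type*} [Group G] [Finite G] [IsSimpleGroup G] (hG : ¬ IsMulCommutative G) (P : Sylow 2 G) (hP : IsMulCommutative (P : Subgroup G)) (hno : ∀ (Ω : Type) [Fintype Ω] [MulAction G Ω] [FaithfulSMul G Ω], ¬ MulAction.IsMultiplyPretransitive G Ω 2) : Nat.card G = 175560 := by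
  rcases FGS.walter hG (fun _ => Ab2.two_comm P hP) with ⟨F, _, _, -, -, -, ⟨e⟩⟩ | h | h
  · exact (psl hno e).elim
  · obtain ⟨F, _, _, -, -, ⟨e⟩⟩ := GsC.four_known hG h
    exact (psl hno e).elim
  obtain ⟨t, a, b, ρ, E, E₀, T, h⟩ := exists_jr h
  obtain ⟨F, _, _, e, ⟨m, -, hq, -⟩ | ⟨-, ⟨f⟩⟩⟩ := known_of_bot h (jr_bot h)
  · obtain ⟨P, H, j, B⟩ := ward h (jr_bot h) hq e
    have jn : j ∉ P ⊔ H := fun k => by
      have h1 := B.cardP
      rw [show P = ⊥ from eq_bot_iff.2 fun u hu => B.opp u hu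
        (mul_mem (mul_mem (inv_mem k) (Subgroup.mem_sup_left hu)) k), Subgroup.card_bot, ← pow_mul] at h1
      exact absurd (Nat.pow_eq_one.1 h1.symm) (by omega)
    refine (key hno (a := ((1 : G) : G ⧸ (P ⊔ H))) (t := j) (fun k => jn ?_) fun c hc => ?_).elim
    · simpa using QuotientGroup.eq.1 k.symm
    obtain ⟨g, rfl⟩ := QuotientGroup.mk_surjective c
    obtain ⟨u, hu, b, hb, rfl⟩ := (B.bruhat g).resolve_left fun k => hc (QuotientGroup.eq.2 (by simpa using k)).symm
    exact ⟨u, QuotientGroup.eq.2 (by simpa using Subgroup.mem_sup_left hu), QuotientGroup.eq.2 (by simpa [mul_assoc] using hb)⟩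
  · exact (Nat.card_congr f.toEquiv).trans Comp.J1.cardJ.2.1

end Cfsg.Agent.S4272
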