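import Mathlib
import Cfsg.Statements.S4321
import Cfsg.Agent.H23.SingCl
-- import your own Cfsg.Agent.* helpers here

set_option autoImplicit false
open Cfsg

namespace Cfsg.Agent.S4321

/-- Let `G` be a finite group and `p` a prime not dividing the order of the centre of `G`. Consider the primes dividing the size of some conjugacy class of a `p`-singular element (an element of order divisible by `p`), two of them adjacent when their product divides such a class size. Then any two distinct such primes are joined by a path with at most 3 edges (the graph is connected of diameter at most 3). -/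
theorem result {G : Type*} [Group G] [Finite G] (p : ℕ) [Fact p.Prime]
    (hZ : ¬ p ∣ Nat.card ↥(Subgroup.center G)) (r s : ℕ) (hr : (r.Prime ∧ ∃ x : G, p ∣ orderOf x ∧ r ∣ (Subgroup.centralizer ({x} : Set G)).index)) (hs : (s.Prime ∧ ∃ x : G, p ∣ orderOf x ∧ s ∣ (Subgroup.centralizer ({x} : Set G)).index)) (hrs : r ≠ s) :
    (∃ x : G, p ∣ orderOf x ∧ r * s ∣ (Subgroup.centralizer ({x} : Set G)).index) ∨ (∃ t : ℕ, (t.Prime ∧ ∃ x : G, p ∣ orderOf x ∧ t ∣ (Subgroup.centralizer ({x} : Set G)).index) ∧ t ≠ r ∧ t ≠ s ∧ (∃ x : G, p ∣ orderOf x ∧ r * t ∣ (Subgroup.centralizer ({x} : Set G)).index) ∧ (∃ x : G, p ∣ orderOf x ∧ t * s ∣ (Subgroup.centralizer ({x} : Set G)).index)) ∨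
      (∃ t u : ℕ, (t.Prime ∧ ∃ x : G, p ∣ orderOf x ∧ t ∣ (Subgroup.centralizer ({x} : Set G)).index) ∧ (u.Prime ∧ ∃ x : G, p ∣ orderOf x ∧ u ∣ (Subgroup.centralizer ({x} : Set G)).index) ∧ t ≠ r ∧ u ≠ s ∧ t ≠ u ∧ (∃ x : G, p ∣ orderOf x ∧ r * t ∣ (Subgroup.centralizer ({x} : Set G)).index) ∧ (∃ x : G, p ∣ orderOf x ∧ t * u ∣ (Subgroup.centralizer ({x} : Set G)).index) ∧ (∃ x : G, p ∣ orderOf x ∧ u * s ∣ (Subgroup.centralizer ({x} : Set G)).index)) := by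

  obtain ⟨hr, x, hx, hrx⟩ := hr
  obtain ⟨hs, y, hy, hsy⟩ := hs
  obtain ⟨z, hz, h1, h2⟩ := H23.SingCl.main hZ hx hy
  obtain ⟨t, ht, htz, htx⟩ := Nat.Prime.not_coprime_iff_dvd.mp h1
  obtain ⟨u, hu, huz, huy⟩ := Nat.Prime.not_coprime_iff_dvd.mp h2
  have md : ∀ {a b n : ℕ}, a.Prime → b.Prime → a ≠ b → a ∣ n → b ∣ n → a * b ∣ n := fun ha hb hab h3 h4 =>
    ((Nat.coprime_primes ha hb).mpr hab).mul_dvd_of_dvd_of_dvd h3 h4
  by_cases e1 : t = r
  · subst e1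
    by_cases e2 : u = s
    · subst e2
      exact .inl ⟨z, hz, md ht hu hrs htz huz⟩
    · by_cases e3 : u = t
      · subst e3
        exact .inl ⟨y, hy, md ht hs hrs huy hsy⟩
      · exact .inr (.inl ⟨u, ⟨hu, y, hy, huy⟩, e3, e2, ⟨z, hz, md ht hu (Ne.symm e3) htz huz⟩,
          ⟨y, hy, md hu hs e2 huy hsy⟩⟩)
  · by_cases e4 : t = s
    · subst e4
      exact .inl ⟨x, hx, md hr ht hrs hrx htx⟩
    · by_cases e2 : u = s
      · subst e2
        exact .inr (.inl ⟨t, ⟨ht, x, hx, htx⟩, e1, e4, ⟨x, hx, md hr ht (Ne.symm e1) hrx htx⟩,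
          ⟨z, hz, md ht hu e4 htz huz⟩⟩)
      · by_cases e3 : t = u
        · subst e3
          exact .inr (.inl ⟨t, ⟨ht, x, hx, htx⟩, e1, e4, ⟨x, hx, md hr ht (Ne.symm e1) hrx htx⟩,
            ⟨y, hy, md ht hs e4 huy hsy⟩⟩)
        · exact .inr (.inr ⟨t, u, ⟨ht, x, hx, htx⟩, ⟨hu, y, hy, huy⟩, e1, e2, e3,
            ⟨x, hx, md hr ht (Ne.symm e1) hrx htx⟩, ⟨z, hz, md ht hu e3 htz huz⟩, ⟨y, hy, md hu hs e2 huy hsy⟩⟩)

end Cfsg.Agent.S4321
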