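import Mathlib
import Cfsg.Statements.S4339
import Cfsg.Agent.SylN.C
import Cfsg.Agent.S4341
import Cfsg.Agent.FGS.SylowNum2
import Cfsg.Agent.Core.PSolvable
-- import your own Cfsg.Agent.* helpers here

set_option autoImplicit false
set_option backward.isDefEq.respectTransparency false
open Cfsg

namespace Cfsg.Agent.S4339

universe u

theorem simple_one {p : ℕ} [hp : Fact p.Prime] (G : Type u) [Group G] [Finite G] [IsSimpleGroup G]
    (h : IsPSolvable p G) : Nat.card (Sylow p G) = 1 := by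
  obtain ⟨n, H, h0, h1, -, hN, hi⟩ := h
  obtain ⟨P⟩ : Nonempty (Sylow p G) := inferInstance
  have hidx : Nat.card (Sylow p G) = (Subgroup.normalizer ((P : Subgroup G) : Set G)).index :=
    P.card_eq_index_normalizer
  have : ∃ i : Fin n, H i.castSucc = ⊥ ∧ H i.succ = ⊤ := by
    by_contra hc
    have : ∀ i, H i = ⊥ := fun i => Fin.induction h0
      (fun i ih => (hN i.succ).eq_bot_or_eq_top.resolve_right fun e => hc ⟨i, ih, e⟩) i
    exact bot_ne_top ((this _).symm.trans h1)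
  obtain ⟨i, e1, e2⟩ := this
  have h2 := hi i
  rw [e1, e2, Subgroup.relIndex_bot_left, Subgroup.card_top] at h2
  rw [hidx, Subgroup.index_eq_one, Subgroup.normalizer_eq_top_iff]
  rcases h2 with ⟨m, hm⟩ | hm
  · have : (⊤ : Subgroup G) = P :=
      P.is_maximal' ((IsPGroup.of_card hm).to_subgroup ⊤) le_top
    rw [← this]; infer_instance
  · obtain ⟨j, hj⟩ := IsPGroup.iff_card.1 P.isPGroup'
    have : (P : Subgroup G) = ⊥ := Subgroup.card_eq_one.1 (Nat.eq_one_of_dvd_coprimes (hm.pow_right j)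
      (Subgroup.card_subgroup_dvd_card _) (hj ▸ dvd_rfl))
    rw [this]; infer_instance

theorem fwd {p : ℕ} [hp : Fact p.Prime] (G : Type u) [Group G] [Finite G] (h : IsPSolvable p G) :
    Nat.card (Sylow p G) % p = 1 ∧
      (Nat.card (Sylow p G) < p ^ 2 → ∃ q k : ℕ, q.Prime ∧ Nat.card (Sylow p G) = q ^ k) := by
  have hp1 := hp.out.one_lt
  have hge : ∀ a : ℕ, a % p = 1 → a = 1 ∨ p < a := fun a ha => by
    by_contra hc
    rcases (by omega : a < p ∨ a = p) with h | h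
    · rw [Nat.mod_eq_of_lt h] at ha; omega
    · rw [h, Nat.mod_self] at ha; omega
  have hmul : ∀ a b : ℕ, (a % p = 1 ∧ (a < p ^ 2 → ∃ q k : ℕ, q.Prime ∧ a = q ^ k)) →
      (b % p = 1 ∧ (b < p ^ 2 → ∃ q k : ℕ, q.Prime ∧ b = q ^ k)) →
      ((a * b) % p = 1 ∧ (a * b < p ^ 2 → ∃ q k : ℕ, q.Prime ∧ a * b = q ^ k)) := by
    rintro a b ⟨ha, ha'⟩ ⟨hb, hb'⟩
    refine ⟨by rw [Nat.mul_mod, ha, hb, Nat.mod_eq_of_lt hp1], fun hlt => ?_⟩
    rcases hge a ha with rfl | h1
    · rw [one_mul] at hlt ⊢; exact hb' hlt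
    rcases hge b hb with rfl | h2
    · rw [mul_one] at hlt ⊢; exact ha' hlt
    nlinarith
  have hone : 1 % p = 1 ∧ (1 < p ^ 2 → ∃ q k : ℕ, q.Prime ∧ 1 = q ^ k) :=
    ⟨Nat.mod_eq_of_lt hp1, fun _ => ⟨2, 0, Nat.prime_two, rfl⟩⟩
  refine FGS.sylow_number_induction (p := p) (C := fun G _ => Finite G ∧ IsPSolvable p G)
    (fun G _ H ⟨_, h⟩ => ⟨inferInstance, Core.IsPSolvable.subgroup h H⟩)
    (fun G _ N _ ⟨_, h⟩ => ⟨inferInstance, Core.IsPSolvable.quotient h N⟩)
    (Q := fun a => a % p = 1 ∧ (a < p ^ 2 → ∃ q k : ℕ, q.Prime ∧ a = q ^ k)) hmul ?_ ?_ G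
    ⟨inferInstance, h⟩
  · intro n h0 h
    rw [← Nat.prod_factorization_pow_eq_self h0]
    refine Finset.prod_induction _
      (fun a => a % p = 1 ∧ (a < p ^ 2 → ∃ q k : ℕ, q.Prime ∧ a = q ^ k)) hmul hone fun l hl => ?_
    have hl' := Nat.prime_of_mem_primeFactors (Nat.support_factorization n ▸ hl)
    exact ⟨by rw [h l hl', Nat.mod_eq_of_lt hp1], fun _ => ⟨l, _, hl', rfl⟩⟩
  · intro G _ _ _ h
    rw [simple_one G h.2]; exact hone

theorem bwd {p : ℕ} [hp : Fact p.Prime] (hM : ¬ (3 < p ∧ ∃ k : ℕ, p + 1 = 2 ^ k)) {q : ℕ}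
    (hq : q.Prime) (G : Type u) [Group G] [Finite G] : Nat.card (Sylow p G) < p ^ 2 →
      (∃ k, Nat.card (Sylow p G) = q ^ k) → IsPSolvable p G := by
  refine Core.induction_on_card (P := fun G _ _ => Nat.card (Sylow p G) < p ^ 2 →
      (∃ k, Nat.card (Sylow p G) = q ^ k) → IsPSolvable p G) ?_ G
  intro G _ _ ih hn ⟨k, hk⟩
  obtain ⟨P⟩ : Nonempty (Sylow p G) := inferInstance
  rcases subsingleton_or_nontrivial G with hs | hs
  · exact Core.isPSolvable_of_coprime (by rw [Nat.card_unique]; exact Nat.coprime_one_left _)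
  by_cases hK : ∃ K : Subgroup G, K.Normal ∧ K ≠ ⊥ ∧ K ≠ ⊤
  · obtain ⟨K, hKn, h1, h2⟩ := hK
    have h3 := S4341.result p K P _ rfl
      (hn := Subgroup.normal_subgroupOf_of_le_normalizer inf_le_right)
    have hd1 : Nat.card (Sylow p K) ∣ Nat.card (Sylow p G) := by
      rw [h3]; exact (dvd_mul_left _ _).mul_right _
    have hd2 : Nat.card (Sylow p (G ⧸ K)) ∣ Nat.card (Sylow p G) := by
      rw [h3]; exact (dvd_mul_right _ _).mul_right _
    have hc := K.card_mul_index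
    have hc1 : 1 < Nat.card K := (Subgroup.one_lt_card_iff_ne_bot K).2 h1
    have hc2 : 1 < K.index := Subgroup.one_lt_index_of_ne_top h2
    refine Core.IsPSolvable.extension K
      (ih K (by nlinarith) ((Nat.le_of_dvd Nat.card_pos hd1).trans_lt hn) ?_)
      (ih (G ⧸ K) (by rw [← Subgroup.index_eq_card]; nlinarith)
        ((Nat.le_of_dvd Nat.card_pos hd2).trans_lt hn) ?_)
    · obtain ⟨j, -, hj⟩ := (Nat.dvd_prime_pow hq).1 (hk ▸ hd1); exact ⟨j, hj⟩
    · obtain ⟨j, -, hj⟩ := (Nat.dvd_prime_pow hq).1 (hk ▸ hd2); exact ⟨j, hj⟩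
  · have : IsSimpleGroup G := ⟨fun K hKn => by
      by_contra hc
      exact hK ⟨K, hKn, fun e => hc (Or.inl e), fun e => hc (Or.inr e)⟩⟩
    have h1 : Nat.card (Sylow p G) = 1 := by
      by_contra h1
      exact SylN.simple_case hM hn h1 hq hk
    have hidx : Nat.card (Sylow p G) = (Subgroup.normalizer ((P : Subgroup G) : Set G)).index :=
      P.card_eq_index_normalizer
    rw [hidx, Subgroup.index_eq_one, Subgroup.normalizer_eq_top_iff] at h1
    rcases h1.eq_bot_or_eq_top with e | e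
    · have h2 := P.not_dvd_index
      rw [e, Subgroup.index_bot] at h2
      exact Core.isPSolvable_of_coprime ((hp.out.coprime_iff_not_dvd).2 h2).symm
    · have h2 := P.isPGroup'
      rw [e] at h2
      exact Core.isPSolvable_of_isPGroup (h2.of_equiv Subgroup.topEquiv)

/-- Let G be a finite group and p a prime such that it is not the case that p > 3 with p + 1 a power of 2. If the number of Sylow p-subgroups of G is less than p², then G is p-solvable if and only if that number is a power of a prime (possibly 1). -/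
theorem result {G : Type*} [Group G] [Finite G]
    (p : ℕ) [Fact p.Prime] (hp : ¬ (3 < p ∧ ∃ k : ℕ, p + 1 = 2 ^ k)) (hn : Nat.card (Sylow p G) < p ^ 2) :
    Cfsg.IsPSolvable p G ↔ ∃ q k : ℕ, q.Prime ∧ Nat.card (Sylow p G) = q ^ k := by
  exact ⟨fun h => (fwd G h).2 hn, fun ⟨q, k, hq, hk⟩ => bwd hp hq G hn ⟨k, hk⟩⟩

end Cfsg.Agent.S4339
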