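import Mathlib
import Cfsg.Statements.S4348
import Cfsg.Agent.FGS.Sylow
import Cfsg.Agent.Core.Cores

set_option autoImplicit false
open Cfsg

namespace Cfsg.Agent.S4348

/-- Let G be a finite group, p a prime and P a Sylow p-subgroup of G, and let O_p(G) be the largest normal p-subgroup of G. If P/O_p(G) is cyclic, then some element of p-power order of G lies in exactly one Sylow p-subgroup. -/
theorem result {G : Type*} [Group G] [Finite G]
    (p : ℕ) [Fact p.Prime] (P : Sylow p G)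
    [hn : ((Cfsg.pCore p G).subgroupOf (P : Subgroup G)).Normal]
    (hc : IsCyclic ((P : Subgroup G) ⧸ (Cfsg.pCore p G).subgroupOf (P : Subgroup G))) :
    ∃ x : G, (∃ k : ℕ, orderOf x = p ^ k) ∧ ∃! Q : Sylow p G, x ∈ Q := by
  obtain ⟨y, hy⟩ := IsCyclic.exists_generator (α := (P : Subgroup G) ⧸ (Cfsg.pCore p G).subgroupOf (P : Subgroup G))
  obtain ⟨x, rfl⟩ := QuotientGroup.mk_surjective y
  refine ⟨x, FGS.exists_orderOf_eq_of_mem P.isPGroup' x.2, P, x.2, fun Q hQ => ?_⟩
  refine (Sylow.ext (P.is_maximal' Q.isPGroup' fun z hz => ?_))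
  obtain ⟨n, hn⟩ := hy (QuotientGroup.mk ⟨z, hz⟩)
  have h1 : ((x ^ n)⁻¹ * ⟨z, hz⟩ : P) ∈ (Cfsg.pCore p G).subgroupOf (P : Subgroup G) := by
    rw [← QuotientGroup.eq]; simpa using hn
  have h2 := Core.pCore_le_sylow Q (Subgroup.mem_subgroupOf.mp h1)
  have h3 := (Q : Subgroup G).mul_mem ((Q : Subgroup G).zpow_mem hQ n) h2
  simpa using h3

end Cfsg.Agent.S4348
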