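import Mathlib
import Cfsg.Statements.S4349
import Cfsg.Agent.SymNil.Picky

set_option autoImplicit false
open Cfsg

namespace Cfsg.Agent.S4349

open Cfsg.Agent.SymNil Equiv Equiv.Perm

theorem card_eq {n : ℕ} {x : Perm (Fin n)} {a : Fin n} {j : ℕ} (h1 : (x ^ 2 ^ (j + 1)) a = a)
    (h2 : (x ^ 2 ^ j) a ≠ a) : a ∈ x.support ∧ (x.cycleOf a).support.card = 2 ^ (j + 1) := by
  have h : a ∈ x.support := mem_support.2 fun e => h2 (pow_apply_eq_self_of_apply_eq_self e _)
  have e := fun k => (x.isCycleOn_support_cycleOf a).pow_apply_eq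
    (mem_support_cycleOf_iff.2 ⟨SameCycle.refl _ _, h⟩) (n := k)
  exact ⟨h, Nat.dvd_antisymm ((e _).1 h1) ((level_iff h1 h2 _).1 ((e _).2 dvd_rfl))⟩

/-- Let n ≥ 2 and let x be an element of 2-power order of the symmetric group of degree n. Then x lies in exactly one Sylow 2-subgroup if and only if x has at most two fixed points and the nontrivial cycles of x have pairwise different lengths. -/
theorem result (n : ℕ) (hn : 2 ≤ n)
    (x : Equiv.Perm (Fin n)) (hx : ∃ k : ℕ, orderOf x = 2 ^ k) :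
    (∃! P : Sylow 2 (Equiv.Perm (Fin n)), x ∈ P) ↔ (n ≤ x.support.card + 2 ∧ x.cycleType.Nodup) := by
  have h2 : ∃ k, x ^ 2 ^ k = 1 := let ⟨k, hk⟩ := hx; ⟨k, hk ▸ pow_orderOf_eq_one x⟩
  have hc := Finset.card_compl_add_card x.support
  rw [Fintype.card_fin] at hc
  constructor
  · intro h
    have c := cnd_of_unique h2 h
    refine ⟨by_contra fun hn => ?_, ?_⟩
    · obtain ⟨a, b, d, ha, hb, hd, h1, h3, h4⟩ := Finset.two_lt_card_iff.1 (show 2 < x.supportᶜ.card by omega)
      have := c.fix a b d (by simpa using ha) (by simpa using hb) (by simpa using hd)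
      tauto
    · rw [cycleType_def, Multiset.nodup_map_iff_inj_on (Finset.nodup _)]
      intro f hf g hg e
      rw [← Finset.mem_def] at hf hg
      obtain ⟨a, ha⟩ := (mem_cycleFactorsFinset_iff.1 hf).1.nonempty_support
      obtain ⟨b, hb⟩ := (mem_cycleFactorsFinset_iff.1 hg).1.nonempty_support
      have ha' := mem_cycleFactorsFinset_support_le hf ha
      have hb' := mem_cycleFactorsFinset_support_le hg hb
      obtain ⟨k, hk⟩ := h2
      obtain ⟨i, a1, a2⟩ := exists_level (mem_support.1 ha') (k := k) (by simp [hk])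
      obtain ⟨j, b1, b2⟩ := exists_level (mem_support.1 hb') (k := k) (by simp [hk])
      rw [cycle_is_cycleOf ha hf, cycle_is_cycleOf hb hg] at e ⊢
      simp only [Function.comp, (card_eq a1 a2).2, (card_eq b1 b2).2] at e
      obtain rfl : i = j := by simpa using e
      obtain ⟨t, rfl⟩ := c.cyc i a b a1 a2 b1 b2
      exact SameCycle.cycleOf_eq ⟨t, by simp⟩
  · rintro ⟨h1, h3⟩
    have c : Cnd x := ⟨h2, fun a b d ha hb hd => by_contra fun hn => by
        push Not at hn
        have := Finset.two_lt_card_iff.2 ⟨a, b, d, (by simpa using ha : a ∈ x.supportᶜ),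
          by simpa using hb, by simpa using hd, hn⟩
        omega,
      fun j a b a1 a2 b1 b2 => by
        obtain ⟨a3, a4⟩ := card_eq a1 a2
        obtain ⟨b3, b4⟩ := card_eq b1 b2
        obtain ⟨i, -, hi⟩ := ((sameCycle_iff_cycleOf_eq_of_mem_support a3 b3).2
          (Multiset.inj_on_of_nodup_map h3 _ (cycleOf_mem_cycleFactorsFinset_iff.2 a3) _
            (cycleOf_mem_cycleFactorsFinset_iff.2 b3) (a4.trans b4.symm))).exists_pow_eq'
        exact ⟨i, hi⟩⟩
    obtain ⟨k, hk⟩ := hx
    obtain ⟨P, hP⟩ := (IsPGroup.of_card (G := Subgroup.zpowers x) (p := 2) (n := k)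
      (by rw [Nat.card_zpowers, hk])).exists_le_sylow
    refine ⟨P, hP (Subgroup.mem_zpowers x), fun Q hQ => Sylow.ext ?_⟩
    have := Cnd.sup _ _ rfl c hQ (hP (Subgroup.mem_zpowers x)) Q.isPGroup' P.isPGroup'
    exact (Q.is_maximal' this le_sup_left).symm.trans (P.is_maximal' this le_sup_right)

end Cfsg.Agent.S4349
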