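import Mathlib
import Cfsg.Statements.S4356
import Cfsg.Agent.Max.L2g

set_option autoImplicit false
open Cfsg

namespace Cfsg.Agent.S4356

open scoped Pointwise
open Cfsg.Agent.Max.L2 Cfsg.Agent.Classical.PSL2Basic Cfsg.Agent.Classical.P1Ident
  Cfsg.Agent.Classical.Congr Cfsg.Agent.Classical.P1
open Cfsg.Agent.Classical.Borel2 Cfsg.Agent.Classical.DicksonSL Matrix
open scoped MatrixGroups

/-- `G` has a redundant Sylow `p`-subgroup. -/
def Red (p : ℕ) (G : Type*) [Group G] : Prop :=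
  ∃ Q : Sylow p G, ∀ x : G, (∃ k : ℕ, orderOf x = p ^ k) → ∃ P : Sylow p G, P ≠ Q ∧ x ∈ P

section
variable {G : Type*} [Group G] [Finite G] {p : ℕ} [Fact p.Prime]

omit [Finite G] in
theorem ord_of_mem {Q : Sylow p G} {x : G} (h : x ∈ Q) : ∃ k : ℕ, orderOf x = p ^ k := by
  simpa using IsPGroup.iff_orderOf.1 Q.isPGroup' ⟨x, h⟩

theorem not_red_root {X : Type*} [MulAction G X] {U : Sylow p G} {x : X} (h : IsRootSylow U x) :
    ¬ Red p G := by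
  rintro ⟨Q, hQ⟩
  obtain ⟨c, -, h1⟩ := h.exists_of Q
  obtain ⟨u, hu, h2⟩ := h1.exists_ne_one
  obtain ⟨P, h3, h4⟩ := hQ u (ord_of_mem hu)
  exact h2 (Subgroup.mem_bot.1 (h.inf_eq_bot h3 ▸ Subgroup.mem_inf.2 ⟨h4, hu⟩))

omit [Finite G] in
theorem not_red_cyc (h : ∀ Q : Sylow p G, IsCyclic Q) : ¬ Red p G := by
  rintro ⟨Q, hQ⟩
  obtain ⟨x, hx⟩ := (Subgroup.isCyclic_iff_exists_zpowers_eq_top (Q : Subgroup G)).1 (h Q)
  obtain ⟨P, h3, h4⟩ := hQ x (ord_of_mem (hx.le (Subgroup.mem_zpowers x)))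
  exact h3 (Sylow.ext (Q.is_maximal' P.isPGroup' (hx.ge.trans (Subgroup.zpowers_le.2 h4))))

variable {F : Type*} [Field F] [Finite F]

theorem k_eq {T D T' D' : Subgroup PGL(2, F)} {k k' : ℕ} (hT : Tor T D k) (hT' : Tor T' D' k')
    (h : 4 ∣ k) (h' : 4 ∣ k') : k = k' := by
  have := Finite.one_lt_card (α := F)
  rcases hT.k_eq with e | e <;> rcases hT'.k_eq with e' | e' <;> omega

theorem tor4 (h2 : (2 : F) ≠ 0) : ∃ (T D : Subgroup PGL(2, F)) (k : ℕ), Tor T D k ∧ 4 ∣ k := by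
  haveI := NeZero.mk h2
  obtain ⟨T, D, k, hT, -, hk⟩ := inv_tor h2 (A0_le_LL qi_mem_A0) KP_std.u1 KP_std.uu
  exact ⟨T, D, k, hT, hk⟩

theorem red_of (h2 : (2 : F) ≠ 0) (f : G →* PGL(2, F)) (hr : f.range = LL F)
    (hk : IsPGroup 2 f.ker) {T D : Subgroup PGL(2, F)} {k : ℕ} (hT : Tor T D k) (h4 : 4 ∣ k)
    (hn : ¬ ∃ j, k = 2 ^ j) : Red 2 G := by
  have hd : dd F = 2 := gcd_eq_two h2
  obtain ⟨Q⟩ : Nonempty (Sylow 2 G) := inferInstance
  refine ⟨Q, fun x ⟨n, hx⟩ => ?_⟩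
  suffices ∃ P P' : Sylow 2 G, P ≠ P' ∧ x ∈ P ∧ x ∈ P' by
    obtain ⟨P, P', h1, h3, h5⟩ := this
    by_cases e : P = Q
    exacts [⟨P', e ▸ h1.symm, h5⟩, ⟨P, e, h3⟩]
  obtain ⟨m, hm⟩ : ∃ m, orderOf (f x) = 2 ^ m :=
    ((Nat.dvd_prime_pow Nat.prime_two).1 (hx ▸ orderOf_map_dvd f x)).imp fun _ h => h.2
  have hL : ∀ x, f x ∈ LL F := fun x => hr ▸ ⟨x, rfl⟩
  obtain ⟨T', D', hT', hx'⟩ : ∃ T' D', Tor T' D' k ∧ f x ∈ T' := by
    by_cases h1 : f x = 1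
    · exact ⟨T, D, hT, h1 ▸ one_mem _⟩
    obtain ⟨c, hc⟩ := CharP.exists F
    haveI : Fact c.Prime := ⟨CharP.char_is_prime F c⟩
    have m0 : m ≠ 0 := by rintro rfl; exact h1 (by simpa using hm)
    have h3 : 2 ∣ orderOf (f x) := hm ▸ dvd_pow_self 2 m0
    obtain ⟨T', D', k', hT', h5⟩ := exists_tor (p := c) (a := f x) fun e => by
      obtain rfl := (Nat.prime_dvd_prime_iff_eq Nat.prime_two Fact.out).1
        (h3.trans (orderOf_dvd_iff_pow_eq_one.2 e))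
      exact h2 (by simpa using CharP.cast_eq_zero F 2)
    have h6 := h3.trans (hT'.orderOf_dvd_L h5 (hL x))
    have h7 := hT'.dd_dvd
    rw [hd] at h6 h7
    obtain rfl := k_eq hT hT' h4 (by omega)
    exact ⟨T', D', hT', h5⟩
  obtain ⟨s', hs, hsL, hs'⟩ := hT'.exL
  obtain ⟨s, rfl⟩ : s' ∈ f.range := hr ▸ hsL
  obtain ⟨t', ht, htL, t1, t2⟩ : ∃ t ∈ T', t ∈ LL F ∧ t ≠ 1 ∧ Odd (orderOf t) := by
    obtain ⟨a, ha, haL, ho⟩ := hT'.genL
    obtain ⟨i, j, h5, h6⟩ := Nat.exists_eq_two_pow_mul_odd (orderOf_pos a).ne'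
    have h7 : orderOf (a ^ 2 ^ i) = j := by
      rw [orderOf_pow_of_dvd (by positivity) ⟨j, h6⟩, h6, Nat.mul_div_cancel_left _ (by positivity)]
    refine ⟨a ^ 2 ^ i, pow_mem ha _, pow_mem haL _, fun e => hn ⟨i + 1, ?_⟩, h7 ▸ h5⟩
    rw [e, orderOf_one] at h7
    rw [hd, h6, ← h7] at ho
    omega
  obtain ⟨t, rfl⟩ : t' ∈ f.range := hr ▸ htL
  have h5 : DP (f x) (f s) (2 ^ m) := ⟨hm, hT'.inv hs hs' hx', hT'.sq _ hs hs',
    fun e => hs' ((Subgroup.zpowers_le.2 hx') e)⟩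
  obtain ⟨P, hP⟩ := ((IsPGroup.of_card (n := m + 1) (h5.card.trans (by ring))).comap_of_ker_isPGroup
    f hk).exists_le_sylow
  refine ⟨P, t • P, fun e => ?_, hP (Subgroup.subset_closure (by simp)), ?_⟩
  · have h6 : s ∈ P := hP (Subgroup.subset_closure (by simp))
    have h7 : t * s * t⁻¹ ∈ P := by
      rw [e]
      exact (mem_conj_iff (H := (P : Subgroup G))).2 (by rw [show t⁻¹ * (t * s * t⁻¹) * t = s by group]; exact h6)
    obtain ⟨l, hl⟩ := ord_of_mem (mul_mem h7 (inv_mem h6))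
    have h8 := orderOf_map_dvd f (t * s * t⁻¹ * s⁻¹)
    rw [hl, map_mul, map_mul, map_mul, map_inv, map_inv, mul_assoc, mul_assoc, ← mul_assoc (f s),
      hT'.inv hs hs' (inv_mem ht), inv_inv, ← sq, (Nat.coprime_two_right.2 t2).orderOf_pow] at h8
    exact t1 (orderOf_eq_one_iff.1 (((Nat.coprime_two_right.2 t2).pow_right l).eq_one_of_dvd h8))
  · refine (mem_conj_iff (H := (P : Subgroup G))).2 (hP ?_)
    rw [Subgroup.mem_comap, map_mul, map_mul, map_inv, mul_assoc, hT'.comm hx' ht,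
      inv_mul_cancel_left]
    exact Subgroup.subset_closure (by simp)

theorem not_red_of (h2 : (2 : F) ≠ 0) (f : G →* PGL(2, F)) (hr : f.range = LL F)
    (hk : IsPGroup 2 f.ker) {T D : Subgroup PGL(2, F)} {j : ℕ} (hT : Tor T D (2 ^ j))
    (h4 : 4 ∣ 2 ^ j) : ¬ Red 2 G := by
  have hd : dd F = 2 := gcd_eq_two h2
  have hL : ∀ x, f x ∈ LL F := fun x => hr ▸ ⟨x, rfl⟩
  have hc : ∀ {T D : Subgroup PGL(2, F)}, Tor T D (2 ^ j) → Nat.card ↥(D ⊓ LL F) = 2 ^ j :=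
    fun hT => by rw [hT.DL.2, hd]; omega
  rintro ⟨Q, hQ⟩
  obtain ⟨T, D, hT, hD⟩ : ∃ T D, Tor T D (2 ^ j) ∧ (D ⊓ LL F).comap f ≤ Q := by
    obtain ⟨P, hP⟩ := ((IsPGroup.of_card (hc hT)).comap_of_ker_isPGroup f hk).exists_le_sylow
    obtain ⟨g, rfl⟩ := MulAction.exists_smul_eq G P Q
    refine ⟨_, _, hT.conj (f g), fun x hx => (mem_conj_iff (H := (P : Subgroup G))).2 (hP ?_)⟩
    exact ⟨by simpa using mem_conj_iff.1 hx.1, hL _⟩
  obtain ⟨a, ha, haL, ho⟩ := hT.genL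
  obtain ⟨x, rfl⟩ : a ∈ f.range := hr ▸ haL
  rw [hd] at ho
  have x1 : f x ≠ 1 := fun e => by rw [e, orderOf_one] at ho; omega
  obtain ⟨P, h3, h5⟩ := hQ x (ord_of_mem (hD ⟨hT.le ha, haL⟩))
  refine h3 (Sylow.ext (P.is_maximal' Q.isPGroup' (fun g hg => hD ⟨?_, hL g⟩)).symm)
  have h6 := P.isPGroup'.map f
  have h7 : f x ∈ (P : Subgroup G).map f := ⟨x, h5, rfl⟩
  haveI : Nontrivial ((P : Subgroup G).map f) := ⟨⟨f x, h7⟩, 1, fun e => x1 (congrArg Subtype.val e)⟩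
  haveI := h6.center_nontrivial
  obtain ⟨n, hn0, hn⟩ := (h6.to_subgroup (Subgroup.center _)).nontrivial_iff_card.1 inferInstance
  obtain ⟨⟨⟨z, hy⟩, hz⟩, hz2⟩ := exists_prime_orderOf_dvd_card'
    (G := Subgroup.center ((P : Subgroup G).map f)) 2 (hn ▸ dvd_pow_self 2 hn0.ne')
  simp only [Subgroup.orderOf_mk] at hz2
  obtain ⟨y, -, rfl⟩ := id hy
  have z1 : f y ≠ 1 := fun e => by rw [e, orderOf_one] at hz2; omega
  have z2 : f y * f y = 1 := by rw [← sq, orderOf_dvd_iff_pow_eq_one.1 hz2.dvd]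
  obtain ⟨T', D', k', hT', h8, h9⟩ := inv_tor h2 (hL y) z1 z2
  obtain rfl := k_eq hT hT' h4 h9
  have h10 : ∀ g ∈ P, f g ∈ D' := fun g hg => hT'.mem_D_of_comm h8 z1
    (congrArg Subtype.val (Subgroup.mem_center_iff.1 hz ⟨f g, g, hg, rfl⟩))
  by_cases e : f x * f x = 1
  · rw [← sq, ← orderOf_dvd_iff_pow_eq_one, ho] at e
    have h11 : 2 ^ j = 2 ^ 2 := by
      have := Nat.le_of_dvd two_pos e
      have := hT.k_pos
      omega
    haveI := IsPGroup.isMulCommutative_of_card_eq_prime_sq ((hc hT').trans h11)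
    exact hT.mem_D_of_comm ha x1 (congrArg Subtype.val (mul_comm' (M := ↥(D' ⊓ LL F))
      ⟨f g, h10 g hg, hL g⟩ ⟨f x, h10 x h5, hL x⟩))
  · rw [(hT.uniq hT' ha (hT'.mem_of_sq (h10 x h5) e) x1).2.1]
    exact h10 g hg

theorem red_iff (f : G →* PGL(2, F)) (hr : f.range = LL F) (hk : IsPGroup 2 f.ker)
    (h1 : CharP F p → ¬ Red p G) (h3 : p ≠ 2 → ¬ CharP F p → ¬ Red p G) :
    Red p G ↔ (p = 2 ∧ (¬ ∃ k : ℕ, Nat.card F + 1 = 2 ^ k) ∧ (¬ ∃ k : ℕ, Nat.card F = 2 ^ k) ∧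
      ¬ ∃ k : ℕ, Nat.card F = 2 ^ k + 1) := by
  have q1 := Finite.one_lt_card (α := F)
  by_cases hc : CharP F p
  · refine iff_of_false (h1 hc) ?_
    rintro ⟨rfl, -, h, -⟩
    obtain ⟨n, -, e⟩ := @FiniteField.card F _ (Fintype.ofFinite F) 2 _
    exact h ⟨n, by rw [← e, @Nat.card_eq_fintype_card _ (Fintype.ofFinite F)]⟩
  by_cases hp : p ≠ 2
  · exact iff_of_false (h3 hp hc) fun h => hp h.1
  obtain rfl := not_not.1 hp
  have h2 : (2 : F) ≠ 0 := fun e => hc ((CharP.charP_iff_prime_eq_zero Nat.prime_two).2 e)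
  have ho := Nat.odd_iff.1 (odd_card_iff.2 h2)
  obtain ⟨T, D, k, hT, h4⟩ := tor4 h2
  have key : ∀ j, 2 ^ j = 1 ∨ 2 ^ j = 2 ∨ 4 ∣ 2 ^ j := by
    rintro (_ | _ | j)
    · simp
    · simp
    · exact Or.inr (Or.inr ⟨2 ^ j, by ring⟩)
  by_cases hn : ∃ j, k = 2 ^ j
  · obtain ⟨j, rfl⟩ := hn
    refine iff_of_false (not_red_of h2 f hr hk hT h4) ?_
    rintro ⟨-, h5, -, h6⟩
    rcases hT.k_eq with e | e
    exacts [h6 ⟨j, by omega⟩, h5 ⟨j, e.symm⟩]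
  · refine iff_of_true (red_of h2 f hr hk hT h4 hn) ⟨rfl, ?_, ?_, ?_⟩ <;> rintro ⟨j, e⟩ <;>
      have := key j
    · exact hn ⟨j, by rcases hT.k_eq with e | e <;> omega⟩
    · omega
    · by_cases h5 : Nat.card F = 3
      · exact hn ⟨2, by rcases hT.k_eq with e | e <;> omega⟩
      · exact hn ⟨j, by rcases hT.k_eq with e | e <;> omega⟩

end

/-- Let F be a finite field with q elements, p a prime and G = PSL(2, F). Say a Sylow p-subgroup Q of G is redundant when every element of p-power order lies in some Sylow p-subgroup other than Q. Then G has a redundant Sylow p-subgroup if and only if p = 2 and q is not of any of the forms 2ᵏ - 1, 2ᵏ, 2ᵏ + 1. -/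
theorem result {F : Type*} [Field F] [Fintype F] (p : ℕ) [Fact p.Prime] :
    (∃ Q : Sylow p (Matrix.ProjectiveSpecialLinearGroup (Fin 2) F), ∀ x : Matrix.ProjectiveSpecialLinearGroup (Fin 2) F,
        (∃ k : ℕ, orderOf x = p ^ k) → ∃ P : Sylow p (Matrix.ProjectiveSpecialLinearGroup (Fin 2) F), P ≠ Q ∧ x ∈ P) ↔
      (p = 2 ∧ (¬ ∃ k : ℕ, Fintype.card F + 1 = 2 ^ k) ∧ (¬ ∃ k : ℕ, Fintype.card F = 2 ^ k) ∧
        ¬ ∃ k : ℕ, Fintype.card F = 2 ^ k + 1) := by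
  rw [← Nat.card_eq_fintype_card]
  refine red_iff toP rfl ?_ (fun h => not_red_root (isRootSylow_PSL (F := F) p)) fun h1 h2 =>
    not_red_cyc fun Q => ?_
  · rw [(MonoidHom.ker_eq_bot_iff _).2 toP_injective]; exact IsPGroup.of_bot
  · obtain ⟨c, hc⟩ := CharP.exists F
    haveI : Fact c.Prime := ⟨CharP.char_is_prime F c⟩
    exact (cyclic_or_dih (p := c) (by rintro rfl; exact h2 hc) Q.isPGroup'
      (toP.comp Q.toSubgroup.subtype) 
      fun a b h => Subtype.ext (toP_injective h)).resolve_right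
      fun h => h1 h.1

end Cfsg.Agent.S4356
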