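import Mathlib
import Cfsg.Statements.S4357
import Cfsg.Agent.S4356

set_option autoImplicit false
open Cfsg

namespace Cfsg.Agent.S4357

open scoped Pointwise
open Cfsg.Agent.Max.L2 Cfsg.Agent.Classical.PSL2Basic Cfsg.Agent.Classical.P1Ident
  Cfsg.Agent.Classical.Congr Cfsg.Agent.Classical.P1
open Cfsg.Agent.Classical.Borel2 Cfsg.Agent.Classical.DicksonSL Cfsg.Agent.S4356

/-- Let F be a finite field with q elements, p a prime and G = SL(2, F). Say a Sylow p-subgroup Q of G is redundant when every element of p-power order lies in some Sylow p-subgroup other than Q. Then G has a redundant Sylow p-subgroup if and only if p = 2 and q is not of any of the forms 2ᵏ - 1, 2ᵏ, 2ᵏ + 1. -/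
theorem result {F : Type*} [Field F] [Fintype F] (p : ℕ) [Fact p.Prime] :
    (∃ Q : Sylow p (Matrix.SpecialLinearGroup (Fin 2) F), ∀ x : Matrix.SpecialLinearGroup (Fin 2) F,
        (∃ k : ℕ, orderOf x = p ^ k) → ∃ P : Sylow p (Matrix.SpecialLinearGroup (Fin 2) F), P ≠ Q ∧ x ∈ P) ↔
      (p = 2 ∧ (¬ ∃ k : ℕ, Fintype.card F + 1 = 2 ^ k) ∧ (¬ ∃ k : ℕ, Fintype.card F = 2 ^ k) ∧
        ¬ ∃ k : ℕ, Fintype.card F = 2 ^ k + 1) := by
  rw [← Nat.card_eq_fintype_card]
  refine red_iff sP range_sP ?_ (fun h => not_red_root (isRootSylow_SL (F := F) p)) fun h1 h2 =>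
    not_red_cyc fun Q => ?_
  · exact IsPGroup.of_card_dvd_pow (n := 1) (by rw [card_ker_sP]; exact Nat.gcd_dvd_left _ _)
  · obtain ⟨c, hc⟩ := CharP.exists F
    haveI : Fact c.Prime := ⟨CharP.char_is_prime F c⟩
    exact isCyclic_of_odd (p := c) h1 (by rintro rfl; exact h2 hc) Q.isPGroup'
      Q.toSubgroup.subtype (Subgroup.subtype_injective _)

end Cfsg.Agent.S4357
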