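import Mathlib
import Cfsg.Statements.S4358

set_option autoImplicit false
open Cfsg

namespace Cfsg.Agent.S4358

open Matrix Subgroup
open scoped Pointwise

variable {F : Type*} [Field F] {p : ℕ} [hp : Fact p.Prime]

/-- Monomial matrices. -/
def M (k : ZMod p) (d : ZMod p → F) : Matrix (ZMod p) (ZMod p) F :=
  of fun i j => if i = j + k then d j else 0

theorem M_mul (k k' : ZMod p) (d d' : ZMod p → F) :
    M k d * M k' d' = M (k + k') fun j => d (j + k') * d' j := by
  ext i j
  simp [M, mul_apply, add_assoc, add_comm k]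

theorem M_one : M (0 : ZMod p) (fun _ => (1 : F)) = 1 := by
  ext i j; simp [M, one_apply]

/-- Monomial elements of the general linear group. -/
def Φ (a : ZMod p × (ZMod p → rootsOfUnity p F)) : GL (ZMod p) F :=
  ⟨M a.1 fun j => ((a.2 j : Fˣ) : F), M (-a.1) fun j => (((a.2 (j - a.1))⁻¹ : Fˣ) : F),
    by rw [M_mul, ← M_one]; simp [sub_eq_add_neg], by rw [M_mul, ← M_one]; simp⟩

theorem Φ_mul (a b : ZMod p × (ZMod p → rootsOfUnity p F)) :
    Φ a * Φ b = Φ (a.1 + b.1, fun j => a.2 (j + b.1) * b.2 j) := Units.ext (by simp [Φ, M_mul])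

theorem Φ_inj : Function.Injective (Φ (F := F) (p := p)) := fun a b h => by
  have e : ∀ i j, M a.1 (fun j => ((a.2 j : Fˣ) : F)) i j = M b.1 (fun j => ((b.2 j : Fˣ) : F)) i j :=
    fun i j => congrArg (fun g : GL (ZMod p) F => g.1 i j) h
  have h1 : a.1 = b.1 := by
    by_contra c
    simpa [M, c] using e a.1 0
  refine Prod.ext h1 (funext fun j => Subtype.ext (Units.ext ?_))
  simpa [M, h1] using e (j + a.1) j

/-- The monomial Sylow subgroup. -/
def Q (F : Type*) [Field F] (p : ℕ) [Fact p.Prime] : Subgroup (GL (ZMod p) F) where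
  carrier := Set.range Φ
  one_mem' := ⟨(0, 1), Units.ext (by simp [Φ, M_one])⟩
  mul_mem' := by
    rintro _ _ ⟨a, rfl⟩ ⟨b, rfl⟩
    exact ⟨_, (Φ_mul a b).symm⟩
  inv_mem' := by
    rintro _ ⟨a, rfl⟩
    exact ⟨(-a.1, fun j => (a.2 (j - a.1))⁻¹), Units.ext rfl⟩

theorem card_Q {ζ : F} (h : IsPrimitiveRoot ζ p) : Nat.card (Q F p) = p ^ (p + 1) := by
  have := Nat.card_range_of_injective (Φ_inj (F := F) (p := p))
  rw [Nat.card_prod, Nat.card_fun, h.card_rootsOfUnity, Nat.card_zmod] at this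
  rw [pow_succ']; exact this

theorem two_ne (h2 : p ≠ 2) : (2 : ZMod p) ≠ 0 := fun e =>
  h2 ((Nat.prime_dvd_prime_iff_eq hp.out Nat.prime_two).1 ((ZMod.natCast_eq_zero_iff 2 p).1 e))

theorem not_norm {ζ : F} (h : IsPrimitiveRoot ζ p) (h2 : p ≠ 2) {t : GL (ZMod p) F} {i j l : ZMod p}
    (hij : i ≠ j) (hi : t.1 i l ≠ 0) (hj : t.1 j l ≠ 0) : t ∉ normalizer (Q F p : Set (GL (ZMod p) F)) := by
  intro ht
  have z1 : ζ - 1 ≠ 0 := sub_ne_zero.2 (h.ne_one hp.out.one_lt)
  obtain ⟨⟨k, d⟩, e⟩ := (mem_normalizer_iff.1 ht _).1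
    ⟨(0, Pi.mulSingle l (h.toRootsOfUnity)), rfl⟩
  have e1 : ∀ a b, M k (fun j => ((d j : Fˣ) : F)) a b =
      (if a = b then 1 else 0) + (ζ - 1) * (t.1 a l * (t⁻¹).1 l b) := fun a b => by
    have a1 : (Φ (0, Pi.mulSingle l (h.toRootsOfUnity))).1 = 1 + (ζ - 1) • single l l (1 : F) := by
      ext a b
      by_cases c : a = b
      · subst c
        by_cases c : a = l
        · subst c; simp [Φ, M]
        · simp [Φ, M, c, Ne.symm c]
      · simp [Φ, M, c, single_apply, one_apply]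
        intro x y; exact absurd (x.symm.trans y) c
    have a2 := congrArg (fun g : GL (ZMod p) F => g.1 a b) e
    simp only [Units.val_mul, a1, mul_add, add_mul, mul_one, Units.mul_inv, Matrix.mul_smul,
      Matrix.smul_mul] at a2
    rw [show M k _ a b = _ from a2]
    simp [one_apply, mul_apply, single_apply, ite_and]
  by_cases hk : k = 0
  · obtain ⟨b, hb⟩ : ∃ b, (t⁻¹).1 l b ≠ 0 := by
      by_contra c
      push Not at c
      have := congrArg (fun g : Matrix (ZMod p) (ZMod p) F => g l l) t.inv_mul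
      simp [mul_apply, c, -coe_units_inv] at this
    have : ∀ a, t.1 a l ≠ 0 → a = b := fun a ha => by
      by_contra c
      have := e1 a b
      simp [M, hk, c, z1, ha, hb, -coe_units_inv] at this
    exact hij ((this i hi).trans (this j hj).symm)
  · have a1 : ∀ a, t.1 a l * (t⁻¹).1 l a ≠ 0 := fun a c => by
      have := e1 a a
      simp [M, hk, c, -coe_units_inv] at this
    have := e1 (k + k) 0
    have b1 : k + k ≠ 0 := by rw [← two_mul]; exact mul_ne_zero (two_ne h2) hk
    simp [M, hk, b1, z1, left_ne_zero_of_mul (a1 _), right_ne_zero_of_mul (a1 _), -coe_units_inv] at this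

theorem pow_val_add {u : F} (hu : u ^ p = 1) (a b : ZMod p) : u ^ (a + b).val = u ^ a.val * u ^ b.val := by
  rw [ZMod.val_add, ← pow_eq_pow_mod _ hu, pow_add]

theorem exists_t {ζ : F} (h : IsPrimitiveRoot ζ p) (h2 : p ≠ 2) {x : GL (ZMod p) F} (hx : x ∈ Q F p) :
    ∃ (t : GL (ZMod p) F) (i j l : ZMod p), i ≠ j ∧ t.1 i l ≠ 0 ∧ t.1 j l ≠ 0 ∧ t⁻¹ * x * t ∈ Q F p := by
  obtain ⟨⟨k, d⟩, rfl⟩ := hx
  have p0 : (p : F) ≠ 0 := h.neZero'.out
  have dp : ∀ i, ((d i : Fˣ) : F) ^ p = 1 := fun i => (mem_rootsOfUnity' _ _).1 (d i).2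
  have comm : ∀ t : GL (ZMod p) F, Φ (k, d) * t = t * Φ (k, d) → t⁻¹ * Φ (k, d) * t ∈ Q F p := fun t e => by
    rw [mul_assoc, e, inv_mul_cancel_left]; exact ⟨_, rfl⟩
  by_cases hk : k = 0
  · subst hk
    by_cases hd : Function.Injective d
    · let V : Matrix (ZMod p) (ZMod p) F := of fun i j => ((d i : Fˣ) : F) ^ j.val
      let W : Matrix (ZMod p) (ZMod p) F := of fun j i => (p : F)⁻¹ * (((d i : Fˣ) : F)⁻¹) ^ j.val
      have vw : V * W = 1 := by
        ext a b
        have a1 : (V * W) a b = (p : F)⁻¹ * ∑ j : ZMod p, (((d a : Fˣ) : F) * ((d b : Fˣ) : F)⁻¹) ^ j.val := by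
          simp [V, W, mul_apply, Finset.mul_sum, mul_pow, mul_left_comm]
        rw [a1, one_apply]
        split_ifs with c
        · simp [c, p0]
        · set u := ((d a : Fˣ) : F) * ((d b : Fˣ) : F)⁻¹
          have u1 : u ^ p = 1 := by simp [u, mul_pow, dp]
          have u2 : u ≠ 1 := fun e => c (hd (Subtype.ext (Units.ext ((mul_inv_eq_one₀ (by simp)).1 e))))
          have u3 := Equiv.sum_comp (Equiv.addRight (1 : ZMod p)) fun j => u ^ j.val
          simp only [Equiv.coe_addRight, pow_val_add u1, ZMod.val_one, pow_one, ← Finset.sum_mul] at u3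
          rw [by_contra fun c => u2 ((mul_eq_left₀ c).1 u3), mul_zero]
      refine ⟨⟨V, W, vw, mul_eq_one_comm.1 vw⟩, 0, 1, 0, zero_ne_one, by simp [V], by simp [V],
        (1, 1), ?_⟩
      rw [mul_assoc, eq_inv_mul_iff_mul_eq]
      ext a b
      simp [Φ, M, V, mul_apply, pow_val_add (dp a), ZMod.val_one, mul_comm]
    · obtain ⟨i, j, e, hij⟩ := Function.not_injective_iff.1 hd
      refine ⟨⟨transvection i j 1, transvection i j (-1), by
        rw [transvection_mul_transvection_same _ _ hij]; simp, by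
        rw [transvection_mul_transvection_same _ _ hij]; simp⟩, i, j, j, hij,
        by simp [transvection, one_apply, hij], by simp [transvection, single_apply, hij],
        comm _ (Units.ext ?_)⟩
      simp only [Units.val_mul, transvection, mul_add, add_mul, mul_one, one_mul, add_right_inj]
      ext a b
      simp [Φ, M, mul_apply, single_apply, ite_and]
      by_cases c1 : j = b <;> by_cases c2 : a = i <;> simp [c1, c2, Ne.symm, eq_comm (a := i), ← e]
      rw [e, c1]
  set x := (Φ (k, d)).1 with hx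
  have pw : ∀ m : ℕ, ∃ e : ZMod p → F, (∀ j, e j ≠ 0) ∧ x ^ m = M ((m : ZMod p) * k) e := fun m => by
    induction m with
    | zero => exact ⟨fun _ => 1, by simp, by simp [M_one]⟩
    | succ m ih =>
      obtain ⟨e, e1, e2⟩ := ih
      exact ⟨_, fun j => mul_ne_zero (e1 _) (Units.ne_zero (d j : Fˣ)), by
        rw [pow_succ, e2, hx, Φ, M_mul]; push_cast; rw [add_mul, one_mul]⟩
  obtain ⟨c, hc⟩ : ∃ c : F, x ^ p = c • 1 := by
    obtain ⟨e, -, e2⟩ := pw p
    rw [ZMod.natCast_self, zero_mul] at e2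
    have a1 : ∀ j, e (j + k) = e j := fun j => by
      have := congrArg (fun g : Matrix (ZMod p) (ZMod p) F => g (j + k) j) (Commute.self_pow x p).eq
      rw [e2, hx, Φ, M_mul, M_mul] at this
      simpa [M, mul_comm] using this.symm
    have a2 : ∀ m : ℕ, e (m * k) = e 0 := fun m => by
      induction m with
      | zero => simp
      | succ m ih => rw [← ih, ← a1 (m * k)]; push_cast; rw [add_mul, one_mul]
    refine ⟨e 0, ?_⟩
    rw [e2]
    ext a b
    have := a2 (b / k).val
    rw [ZMod.natCast_zmod_val, div_mul_cancel₀ _ hk] at this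
    simp [M, one_apply, this]
  set S := ∑ m ∈ Finset.range p, x ^ m
  have s1 : ∀ m < p, S (m * k) 0 ≠ 0 := fun m hm => by
    obtain ⟨e, e1, e2⟩ := pw m
    simp only [S]
    rw [Matrix.sum_apply, Finset.sum_eq_single m (fun n hn c => ?_) (by simp [hm]), e2]
    · simp [M, e1]
    · obtain ⟨e', -, e3⟩ := pw n
      have : (m : ZMod p) ≠ n := fun e => c (Nat.ModEq.eq_of_lt_of_lt
        ((ZMod.natCast_eq_natCast_iff _ _ _).1 e) hm (Finset.mem_range.1 hn)).symm
      simp [e3, M, hk, this]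
  have s2 : S * (x - 1) = (c - 1) • 1 := by rw [geom_sum_mul, hc, sub_smul, one_smul]
  have s3 : x * S = S * x := (Commute.sum_right _ _ _ fun m _ => Commute.self_pow x m).eq
  have p2 : 2 < p := lt_of_le_of_ne hp.out.two_le (Ne.symm h2)
  have b1 : k ≠ 2 * k := fun e => hk (by linear_combination -e)
  have b2 := s1 1 (by omega)
  have b3 := s1 2 p2
  simp only [Nat.cast_one, one_mul, Nat.cast_ofNat] at b2 b3
  by_cases c1 : c = 1
  · have s4 : S * x = S := by rwa [c1, sub_self, zero_smul, mul_sub, mul_one, sub_eq_zero] at s2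
    have s5 : ∀ m : ℕ, S * x ^ m = S := fun m => by
      induction m with
      | zero => simp
      | succ m ih => rw [pow_succ, ← mul_assoc, ih, s4]
    have s6 : S * S = (p : F) • S := by
      conv_lhs => rhs; simp only [S]
      simp [Finset.mul_sum, s5, Nat.cast_smul_eq_nsmul]
    have z0 := h.ne_zero hp.out.ne_zero
    have z1 : ζ - 1 ≠ 0 := sub_ne_zero.2 (h.ne_one hp.out.one_lt)
    have s7 : (1 + ((ζ - 1) / p) • S) * (1 + ((ζ⁻¹ - 1) / p) • S) = 1 := by
      simp only [mul_add, add_mul, mul_one, one_mul, Matrix.mul_smul, Matrix.smul_mul, s6, smul_smul,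
        smul_add, add_assoc, ← add_smul, add_eq_left]
      rw [show (ζ - 1) / p + ((ζ⁻¹ - 1) / p + (ζ⁻¹ - 1) / p * ((ζ - 1) / p * p)) = 0 by
        field_simp; ring, zero_smul]
    refine ⟨⟨_, _, s7, mul_eq_one_comm.1 s7⟩, k, 2 * k, 0, b1, by simp [hk, z1, p0, b2],
      by simp [hk, z1, p0, b3, two_ne h2], comm _ (Units.ext ?_)⟩
    simp [mul_add, add_mul, ← hx, s3]
  · have s7 : S * ((c - 1)⁻¹ • (x - 1)) = 1 := by
      rw [Matrix.mul_smul, s2, smul_smul, inv_mul_cancel₀ (sub_ne_zero.2 c1), one_smul]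
    exact ⟨⟨_, _, s7, mul_eq_one_comm.1 s7⟩, k, 2 * k, 0, b1, b2, b3, comm _ (Units.ext s3)⟩

theorem fact_card {q : ℕ} (h2 : p ≠ 2) (hq : 1 < q) (h1 : p ∣ q - 1) (h3 : ¬ p ^ 2 ∣ q - 1) :
    (∏ i : Fin p, (q ^ p - q ^ (i : ℕ))).factorization p = p + 1 := by
  have n1 : ¬ p ∣ q := fun c => hp.out.one_lt.ne' (Nat.dvd_one.1 (by
    have := Nat.dvd_sub c h1
    rwa [Nat.sub_sub_self hq.le] at this))
  have v1 : padicValNat p (q - 1) = 1 := by
    have a := (padicValNat_dvd_iff_le (p := p) (a := q - 1) (n := 1) (by omega)).1 (by simpa using h1)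
    have b := mt (padicValNat_dvd_iff_le (p := p) (a := q - 1) (n := 2) (by omega)).2 h3
    omega
  have key : ∀ i : Fin p, (q ^ p - q ^ (i : ℕ)).factorization p = 1 + if (i : ℕ) = 0 then 1 else 0 :=
    fun i => by
      have e : q ^ p - q ^ (i : ℕ) = q ^ (i : ℕ) * (q ^ (p - i) - 1 ^ (p - i)) := by
        rw [one_pow, Nat.mul_sub, ← pow_add, Nat.add_sub_cancel' i.2.le, mul_one]
      have i2 := i.2
      have a : q ^ (p - i) - 1 ^ (p - i) ≠ 0 := by
        rw [one_pow]; exact Nat.sub_ne_zero_of_lt (Nat.one_lt_pow (by omega) hq)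
      rw [e, Nat.factorization_mul (by positivity) a, Finsupp.add_apply,
        Nat.factorization_eq_zero_of_not_dvd fun c => n1 (hp.out.dvd_of_dvd_pow c), zero_add,
        Nat.factorization_def _ hp.out, padicValNat.pow_sub_pow (hp.out.odd_of_ne_two h2) hq h1 n1
          (by omega), v1]
      split_ifs with c
      · simp [c]
      · rw [padicValNat.eq_zero_of_not_dvd (Nat.not_dvd_of_pos_of_lt (by omega) (by omega))]
  rw [Nat.factorization_prod fun i _ => Nat.sub_ne_zero_of_lt (Nat.pow_lt_pow_right hq i.2),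
    Finsupp.finsetSum_apply]
  simp only [key, Finset.sum_add_distrib]
  rw [Finset.sum_eq_single (⟨0, hp.out.pos⟩ : Fin p) (f := fun i : Fin p => if (i : ℕ) = 0 then 1 else 0)
    (fun i _ c => if_neg fun e => c (Fin.ext e)) (by simp)]
  simp

theorem main [Finite F] {ζ : F} (h : IsPrimitiveRoot ζ p) (h2 : p ≠ 2)
    (hc : (Nat.card (GL (ZMod p) F)).factorization p = p + 1) :
    ∃ Q : Sylow p (GL (ZMod p) F), ∀ x : GL (ZMod p) F,
      (∃ k : ℕ, orderOf x = p ^ k) → ∃ P : Sylow p (GL (ZMod p) F), P ≠ Q ∧ x ∈ P := by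
  let R := Sylow.ofCard (Q F p) (by rw [hc, card_Q h])
  refine ⟨R, fun x ⟨k, hk⟩ => ?_⟩
  by_cases hx : x ∈ Q F p
  · obtain ⟨t, i, j, l, a, b, c, d⟩ := exists_t h h2 hx
    refine ⟨t • R, fun e => not_norm h h2 a b c (Sylow.smul_eq_iff_mem_normalizer.1 e), ?_⟩
    exact ⟨_, d, by simp [mul_assoc]⟩
  · obtain ⟨P, hP⟩ := (IsPGroup.of_card (G := zpowers x) (p := p) (n := k)
      (by rw [Nat.card_zpowers, hk])).exists_le_sylow
    exact ⟨P, fun e => hx (e ▸ hP (mem_zpowers x) : x ∈ R), hP (mem_zpowers x)⟩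

/-- Let p be an odd prime and F a finite field with q elements such that p divides q - 1 but p² does not. Then GL(p, F) has a Sylow p-subgroup Q such that every element of p-power order lies in some Sylow p-subgroup other than Q (a redundant Sylow p-subgroup). -/
theorem result {F : Type*} [Field F] [Fintype F] (p : ℕ) [Fact p.Prime]
    (hp : p ≠ 2) (h1 : p ∣ Fintype.card F - 1) (h2 : ¬ p ^ 2 ∣ Fintype.card F - 1) :
    ∃ Q : Sylow p (Matrix.GeneralLinearGroup (Fin p) F), ∀ x : Matrix.GeneralLinearGroup (Fin p) F,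
      (∃ k : ℕ, orderOf x = p ^ k) → ∃ P : Sylow p (Matrix.GeneralLinearGroup (Fin p) F), P ≠ Q ∧ x ∈ P := by
  obtain ⟨z, hz⟩ := exists_prime_orderOf_dvd_card' (G := Fˣ) p (by
    rwa [Nat.card_units, Nat.card_eq_fintype_card])
  have h : IsPrimitiveRoot (z : F) p := IsPrimitiveRoot.coe_units_iff.2 (hz ▸ IsPrimitiveRoot.orderOf z)
  have hc := fact_card hp Fintype.one_lt_card h1 h2
  rw [← Matrix.card_GL_field] at hc
  rcases p with _ | n
  · exact absurd Fact.out Nat.not_prime_zero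
  · exact main h hp hc

end Cfsg.Agent.S4358
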