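import Mathlib
import Cfsg.Statements.S4363
import Cfsg.Agent.PG.Tu9
import Cfsg.Agent.H23.Fpf1

set_option autoImplicit false
open Cfsg

namespace Cfsg.Agent.S4363

/-- Let G be a finite solvable group and σ an automorphism of G of prime order r not dividing the order of G, with fixed-point subgroup C. Then the Fitting height of G exceeds that of C by at most 2: if C has a chain of normal subgroups 1 = C₀ ≤ ⋯ ≤ Cₙ = C with nilpotent factors, then G has such a chain of length n + 2. -/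
theorem result {G : Type*} [Group G] [Finite G]
    (hG : Group.IsSolvable G) (σ : MulAut G) (r : ℕ) (hr : r.Prime) (hσ : orderOf σ = r) (hcop : ¬ r ∣ Nat.card G)
    (C : Subgroup G) (hC : ∀ g : G, g ∈ C ↔ σ g = g) (n : ℕ) (hn : (∃ F : Fin (n + 1) → Subgroup ↥C, F 0 = ⊥ ∧ F (Fin.last n) = ⊤ ∧ Monotone F ∧ (∀ i, (F i).Normal) ∧ ∀ i : Fin n, ∃ k : ℕ, (F i.succ).lowerCentralSeries k ≤ F i.castSucc)) :
    (∃ F : Fin ((n + 2) + 1) → Subgroup G, F 0 = ⊥ ∧ F (Fin.last (n + 2)) = ⊤ ∧ Monotone F ∧ (∀ i, (F i).Normal) ∧ ∀ i : Fin (n + 2), ∃ k : ℕ, (F i.succ).lowerCentralSeries k ≤ F i.castSucc) := by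
  open H23.HH FGS in
  refine chain_of_nres (nres_top_of_injective SemidirectProduct.inl_injective
    (PG.Tu.turull (R := sdA (Subgroup.zpowers σ).subtype) (G := sdG (Subgroup.zpowers σ).subtype)
      (by rw [card_sdA, Nat.card_zpowers, hσ]; exact hr) Subgroup.le_normalizer_of_normal (solvable_sdG _ hG)
      (by rw [card_sdA, card_sdG, Nat.card_zpowers, hσ]; exact (hr.coprime_iff_not_dvd.2 hcop).symm) ?_))
  have h1 := congrArg (Subgroup.map ((SemidirectProduct.inl (φ := (Subgroup.zpowers σ).subtype)).comp C.subtype))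
    (nres_of_chain hn)
  rw [map_nres_iter, Subgroup.map_bot] at h1
  refine le_bot_iff.1 (h1 ▸ nres_iter_mono ?_ n)
  rintro _ ⟨⟨g, rfl⟩, hg⟩
  exact ⟨⟨g, (hC g).2 (inl_mem_centralizer_sdA_iff.1 hg ⟨σ, Subgroup.mem_zpowers σ⟩)⟩, trivial, rfl⟩

end Cfsg.Agent.S4363
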