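import Mathlib
import Cfsg.Agent.GC.CA5
import Cfsg.Agent.S0799
import Cfsg.Statements.S4369
-- import your own Cfsg.Agent.* helpers here

set_option autoImplicit false
open Cfsg

namespace Cfsg.Agent.S4369

open Subgroup Cfsg.Agent.GC.CA Cfsg.Agent.Classical Cfsg.Agent.Classical.SL2Basic
open scoped MatrixGroups

/-- Centralizers of non-central elements are abelian. -/
def IsCA (X : Type*) [Group X] : Prop := ∀ x : X, x ∉ center X → IsMulCommutative (centralizer ({x} : Set X))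

theorem IsCA.congr {X Y : Type*} [Group X] [Group Y] (e : X ≃* Y) (h : IsCA Y) : IsCA X := fun x hx =>
  ab_iff.1 fun a ha b hb => e.injective (by
    rw [map_mul, map_mul]
    exact ab_iff.2 (h (e x) fun k => hx (mem_center_iff.2 fun g => e.injective (by
      rw [map_mul, map_mul, mem_center_iff.1 k]))) _ (mem_cz.2 (by rw [← map_mul, mem_cz.1 ha, map_mul])) _
        (mem_cz.2 (by rw [← map_mul, mem_cz.1 hb, map_mul])))

theorem isCA_iff {X : Type*} [Group X] {H : Subgroup X} : IsCA H ↔ ∀ x ∈ H, ¬ Ab (H ⊓ cz x) → H ≤ cz x := by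
  constructor
  · intro h x hx k
    by_contra e
    exact k fun a ha b hb => congrArg Subtype.val (ab_iff.2 (h ⟨x, hx⟩ fun k => e fun y hy =>
      mem_cz.2 (congrArg Subtype.val (mem_center_iff.1 k ⟨y, hy⟩))) ⟨a, ha.1⟩ (mem_cz.2 (Subtype.ext (mem_cz.1 ha.2)))
        ⟨b, hb.1⟩ (mem_cz.2 (Subtype.ext (mem_cz.1 hb.2))))
  · intro h x hx
    by_contra e
    exact hx (mem_center_iff.2 fun g => Subtype.ext (mem_cz.1 (h x x.2 (fun k => e (ab_iff.1 fun a ha b hb =>
      Subtype.ext (k a ⟨a.2, mem_cz.2 (congrArg Subtype.val (mem_cz.1 ha))⟩ b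
        ⟨b.2, mem_cz.2 (congrArg Subtype.val (mem_cz.1 hb))⟩))) g.2)))

/-- The left hand side. -/
def Tri (X : Type*) [Group X] : Prop := ¬ Group.IsSolvable X ∧ ¬ IsCA X ∧ ∀ H : Subgroup X, H ≠ ⊤ → IsCA H

theorem Tri.congr {X Y : Type*} [Group X] [Group Y] (e : X ≃* Y) (h : Tri Y) : Tri X :=
  ⟨fun k => h.1 (Core.solvable_of_mulEquiv e k), fun k => h.2.1 (k.congr e.symm), fun H hH =>
    (h.2.2 (H.map e.toMonoidHom) fun k => hH (map_injective (f := e.toMonoidHom) e.injective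
      (by rw [k, map_top_of_surjective _ e.surjective]))).congr (e.subgroupMap H)⟩

theorem Tri.hyp {X : Type*} [Group X] (h : Tri X) : Hyp X :=
  ⟨h.1, fun H hH => isCA_iff.1 (h.2.2 H hH), by
    by_contra! e
    exact h.2.1 fun x hx => ab_iff.1 (e x hx)⟩

theorem ca_small {F : Type*} [Field F] [Finite F] (h : (2 : F) = 0 ∨ Nat.card F = 3 ∨ Nat.card F = 5) :
    IsCA PSL(2, F) := fun _ hx => ab_iff.1 (ab_small h fun e => hx (e ▸ one_mem _))

theorem nca {K F : Type*} [Field K] [Field F] [Finite K] (ι : K →+* F) (h2 : (2 : K) ≠ 0) (h5 : 5 < Nat.card K) :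
    ¬ IsCA ((QuotientGroup.mk' (center SL(2, F))).comp (Matrix.SpecialLinearGroup.map ι)).range := by
  obtain ⟨t, a, b, c, h1, h3, h4, h6, h7, h8⟩ := exists_nca h2 h5
  have n : ∀ g : SL(2, K), Matrix.SpecialLinearGroup.map ι (-g) = -Matrix.SpecialLinearGroup.map ι g := fun g => by
    ext i j; simp
  generalize hψ : (QuotientGroup.mk' (center SL(2, F))).comp (Matrix.SpecialLinearGroup.map ι) = ψ
  have k : ∀ g g' : SL(2, K), ψ g * ψ g' = ψ g' * ψ g ↔ g * g' = g' * g ∨ g * g' = -(g' * g) := fun g g' => by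
    rw [← map_mul, ← map_mul, ← hψ]
    refine mk_eq_mk_iff.trans ?_
    rw [← n, (map_injective ι ι.injective).eq_iff, (map_injective ι ι.injective).eq_iff]
  intro h
  exact ((k c t).1 (mem_cz.1 (isCA_iff.1 h _ ⟨t, rfl⟩ (fun e => ((k a b).1 (e _ ⟨⟨a, rfl⟩, mem_cz.2 ((k a t).2 (.inl h1))⟩
    _ ⟨⟨b, rfl⟩, mem_cz.2 ((k b t).2 (.inr h3))⟩)).elim h4 h6) ⟨c, rfl⟩))).elim h7 h8

theorem ca_dih (k : ℕ) : IsCA (DihedralGroup k) := fun x hx => ab_iff.1 fun a ha b hb => by
  rw [mem_cz] at ha hb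
  have h1 : ∀ i : ZMod k, x = .r i → i + i ≠ 0 := by
    rintro i rfl e
    refine hx (mem_center_iff.2 ?_)
    rintro (j | j) <;> simp
    · ring
    · linear_combination e
  rcases x with i | i <;> rcases a with a | a <;> rcases b with b | b <;> simp at ha hb ⊢
  · ring
  · exact absurd (by linear_combination hb) (h1 i rfl)
  · exact absurd (by linear_combination ha) (h1 i rfl)
  · exact absurd (by linear_combination ha) (h1 i rfl)
  · ring
  · linear_combination ha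
  · linear_combination -hb
  · linear_combination ha - hb

theorem tri {F : Type*} [Field F] [Fintype F] (h5 : 5 < Fintype.card F)
    (h8 : Fintype.card F % 8 = 3 ∨ Fintype.card F % 8 = 5)
    (hk : ∀ k m : ℕ, k ^ m = Fintype.card F → k = 3 ∨ k = 5 ∨ k = Fintype.card F) : Tri PSL(2, F) := by
  have h2 : (2 : F) ≠ 0 := two_ne_zero_of_odd (Nat.odd_iff.2 (by omega))
  have hc := Inv.card_psl2_odd (F := F) (by omega)
  rw [← Nat.card_eq_fintype_card] at *
  have hd : ∀ H : Subgroup PSL(2, F), ¬ 8 ∣ Nat.card H := fun H e => by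
    have h1 := hc ▸ Nat.mul_dvd_mul_left 2 (e.trans (card_subgroup_dvd_card H))
    have h3 := (Nat.Coprime.pow_left 4 (Nat.coprime_two_left.2 (Nat.odd_iff.2 (by omega)))).dvd_of_dvd_mul_left h1
    obtain ⟨c, hc⟩ : ∃ c, Nat.card F = 8 * c + 3 ∨ Nat.card F = 8 * c + 5 := ⟨Nat.card F / 8, by omega⟩
    rcases hc with hc | hc <;> rw [hc] at h3
    · rw [show (8 * c + 3) ^ 2 = 16 * (4 * c ^ 2 + 3 * c) + 9 by ring] at h3; omega
    · rw [show (8 * c + 5) ^ 2 = 16 * (4 * c ^ 2 + 5 * c + 1) + 9 by ring] at h3; omega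
  refine ⟨Max.L2.not_solvable_PSL (by omega), fun h => nca (RingHom.id F) h2 h5 (h.congr
    ((MulEquiv.subgroupCongr (MonoidHom.range_eq_top.2 fun y => ?_)).trans topEquiv)), fun H hH => ?_⟩
  · obtain ⟨g, rfl⟩ := QuotientGroup.mk_surjective y
    exact ⟨g, congrArg _ (by ext i j; simp)⟩
  obtain ⟨p, hp⟩ := CharP.exists F
  haveI hp' : Fact p.Prime := ⟨CharP.char_is_prime F p⟩
  haveI : Fact (Nat.Prime 3) := ⟨Nat.prime_three⟩
  haveI : Fact (Nat.Prime 5) := ⟨Nat.prime_five⟩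
  rcases S0799.result (Nat.card_eq_fintype_card (α := F)).symm p H with ⟨k, -, ⟨h, -⟩ | ⟨⟨e⟩⟩⟩ | ⟨P, K, h, ⟨e⟩⟩ | ⟨⟨e⟩⟩ |
    ⟨⟨e⟩⟩ | ⟨⟨e⟩⟩ | ⟨K, _, _, m, h, ⟨⟨e⟩⟩ | ⟨⟨e⟩⟩⟩
  · exact fun _ _ => inferInstance
  · exact (ca_dih k).congr e
  · refine (isCA_iff.2 fun x hx k => ?_).congr e
    by_cases h1 : x = 1
    · exact fun y _ => mem_cz.2 (by rw [h1, mul_one, one_mul])
    obtain ⟨T, T1, T2, T3, -⟩ := exists_tor x h1
    refine (k (T1.mono fun y hy => (T3 y hy.2).elim id fun r => by_contra fun s => ?_)).elim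
    have h3 : Max.L2.KP y x := ⟨r.1, r.2.1, mem_cz.1 hy.2, fun e => s (e ▸ one_mem T), h1, fun e => s (e ▸ T2)⟩
    obtain ⟨c, h4⟩ := (h3.card ▸ card_dvd_of_le ((closure_le _).2 (Set.pair_subset hy.1 hx))).trans (card_dvd_of_le h)
    have h6 := (normalizer ((P : Subgroup PSL(2, F)) : Set PSL(2, F))).card_mul_index
    rw [P.coe_coe, ← P.card_eq_index_normalizer, card_sylow, ← P.coe_coe, h4] at h6
    rw [← h6, Nat.sq_sub_sq _ 1, mul_comm (Nat.card F + 1), ← mul_assoc, ← mul_assoc, ← mul_assoc] at hc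
    have h7 := (Nat.Coprime.pow_left 3 (Nat.coprime_two_left.2 (Nat.odd_iff.2 (by omega)))).dvd_of_dvd_mul_left
      (Dvd.intro _ (Nat.eq_of_mul_eq_mul_right (by omega) hc))
    omega
  · obtain ⟨e'⟩ := PSL2Basic.psl_equiv_A4 (F := ZMod 3) (Nat.card_zmod 3)
    exact (ca_small (.inr (.inl (Nat.card_zmod 3)))).congr (e.trans e'.symm)
  · exact absurd (by rw [Nat.card_congr e.toEquiv, Nat.card_perm]; simp [Nat.factorial]) (hd H)
  · obtain ⟨e'⟩ := PSL2Basic.psl_equiv_A5 (F := ZMod 5) (.inr (Nat.card_zmod 5))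
    exact (ca_small (.inr (.inr (Nat.card_zmod 5)))).congr (e.trans e'.symm)
  · rw [← Nat.card_eq_fintype_card] at h
    rcases hk _ m h with k | k | k
    · exact (ca_small (.inr (.inl k))).congr e
    · exact (ca_small (.inr (.inr k))).congr e
    · refine absurd ((card_eq_iff_eq_top H).1 ?_) hH
      rw [Nat.card_congr e.toEquiv, PSL2Basic.card_PSL_of_card k, PSL2Basic.card_PSL_of_card rfl]
  · rw [← Nat.card_eq_fintype_card] at h
    refine absurd ?_ (hd H)
    rw [Nat.card_congr e.toEquiv, SLBasic.card_PGL_eq_card_SL, SLBasic.card_SL_two]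
    obtain ⟨c, hc⟩ : ∃ c, Nat.card K = 8 * c + 3 ∨ Nat.card K = 8 * c + 5 :=
      ⟨Nat.card K / 8, by have := hk _ m h; omega⟩
    refine Dvd.dvd.mul_left ?_ _
    rcases hc with hc | hc <;> rw [hc]
    · rw [show (8 * c + 3) ^ 2 = 16 * (4 * c ^ 2 + 3 * c) + 9 by ring]; omega
    · rw [show (8 * c + 5) ^ 2 = 16 * (4 * c ^ 2 + 5 * c + 1) + 9 by ring]; omega

theorem pw {s p k m : ℕ} (hs : s.Prime) (hp : p.Prime) (h : k ^ m = s ^ p) : k = s ∨ k = s ^ p := by
  have hm : m ≠ 0 := fun e => by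
    rw [e, pow_zero] at h
    exact (Nat.one_lt_pow hp.ne_zero hs.one_lt).ne h
  obtain ⟨j, -, rfl⟩ := (Nat.dvd_prime_pow hs).1 (h ▸ dvd_pow_self k hm)
  rw [← pow_mul] at h
  rcases (Nat.dvd_prime hp).1 (Dvd.intro _ (Nat.pow_right_injective hs.two_le h)) with rfl | rfl
  · exact .inl (pow_one s)
  · exact .inr rfl

theorem md {s p : ℕ} (hs : s = 3 ∨ s = 5) (hp : Odd p) : s ^ p % 8 = s := by
  obtain ⟨k, rfl⟩ := hp
  rcases hs with rfl | rfl <;> simp [pow_succ, pow_mul, Nat.mul_mod, Nat.pow_mod]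

/-- Call a group a CA-group when the centralizer of every non-central element is abelian. A finite group G is non-solvable, is not a CA-group, and has all its proper subgroups CA-groups, if and only if G is isomorphic to PSL(2, q) where q > 5 is a prime with 16 not dividing q² - 1, or q = 3ᵖ or q = 5ᵖ for an odd prime p. -/
theorem result {G : Type*} [Group G] [Finite G] :
    (¬ Group.IsSolvable G ∧ ¬ (∀ x : G, x ∉ Subgroup.center G → IsMulCommutative (Subgroup.centralizer ({x} : Set G))) ∧ ∀ H : Subgroup G, H ≠ ⊤ → (∀ x : H, x ∉ Subgroup.center H → IsMulCommutative (Subgroup.centralizer ({x} : Set H)))) ↔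
      ∃ (F : Type) (_ : Field F) (_ : Fintype F), Nonempty (G ≃* Matrix.ProjectiveSpecialLinearGroup (Fin 2) F) ∧
        (((Fintype.card F).Prime ∧ 5 < Fintype.card F ∧ ¬ 16 ∣ Fintype.card F ^ 2 - 1) ∨
         (∃ p : ℕ, p.Prime ∧ p ≠ 2 ∧ (Fintype.card F = 3 ^ p ∨ Fintype.card F = 5 ^ p))) := by
  constructor
  · intro h
    obtain ⟨F, _, _, ⟨e⟩, h5, h8⟩ := Tri.hyp (X := G) h |>.psl
    refine ⟨F, inferInstance, inferInstance, ⟨e⟩, ?_⟩
    have h' := Tri.congr e.symm h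
    rw [← Nat.card_eq_fintype_card] at *
    have h2 : (2 : F) ≠ 0 := fun k => h'.2.1 (ca_small (.inl k))
    have h3 : Nat.card F ≠ 5 := fun k => h'.2.1 (ca_small (.inr (.inr k)))
    have h4 := Nat.odd_iff.1 (PSL2Basic.odd_card_iff.2 h2)
    by_cases hb : (⊥ : Subfield F) = ⊤
    · refine .inl ⟨Max.L2.prime_of_bot hb, by omega, fun h6 => ?_⟩
      obtain ⟨c, hc⟩ : ∃ c, Nat.card F = 8 * c + 3 ∨ Nat.card F = 8 * c + 5 := ⟨Nat.card F / 8, by omega⟩
      rcases hc with hc | hc <;> rw [hc] at h6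
      · rw [show (8 * c + 3) ^ 2 = 16 * (4 * c ^ 2 + 3 * c) + 9 by ring] at h6; omega
      · rw [show (8 * c + 5) ^ 2 = 16 * (4 * c ^ 2 + 5 * c + 1) + 9 by ring] at h6; omega
    obtain ⟨K, r, -, hr, e'⟩ := Max.L2.exists_max_subfield hb
    have hK := Max.L2.ne_top_of_pow hr.one_lt.ne' e'
    have h6 : (2 : K) ≠ 0 := fun k => h2 (by rw [← map_ofNat K.subtype 2, k, map_zero])
    have h7 := Nat.odd_iff.1 (PSL2Basic.odd_card_iff.2 h6)
    have h9 := SLBasic.one_lt_card (F := K)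
    have h10 : ¬ 5 < Nat.card K := fun k => nca K.subtype h6 k (h'.2.2 _ fun k' => hK (eq_top_iff.2 fun c _ => by
      obtain ⟨g, hg⟩ := k'.ge (mem_top ((upper c : SL(2, F)) : PSL(2, F)))
      rcases mk_eq_mk_iff.1 hg with k | k <;> have := congrArg (fun g : SL(2, F) => g 0 1) k <;>
        simp [upper] at this
      · exact this ▸ (g 0 1).2
      · exact (neg_mem_iff (H := K)).1 (this ▸ (g 0 1).2)))
    refine .inr ⟨r, hr, ?_, ?_⟩
    · rintro rfl
      obtain k | k : Nat.card K = 3 ∨ Nat.card K = 5 := by omega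
      all_goals rw [k] at e'; omega
    · obtain k | k : Nat.card K = 3 ∨ Nat.card K = 5 := by omega
      · exact .inl (k ▸ e')
      · exact .inr (k ▸ e')
  · rintro ⟨F, _, _, ⟨e⟩, h⟩
    refine Tri.congr e ?_
    rcases h with ⟨h1, h2, h3⟩ | ⟨p, hp, h2, h⟩
    · refine tri h2 ?_ fun k m e => .inr (.inr ?_)
      · have := h1.eq_two_or_odd
        by_contra k
        obtain ⟨c, hc⟩ : ∃ c, Fintype.card F = 8 * c + 1 ∨ Fintype.card F = 8 * c + 7 :=
          ⟨Fintype.card F / 8, by omega⟩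
        refine h3 ?_
        rcases hc with hc | hc <;> rw [hc]
        · rw [show (8 * c + 1) ^ 2 = 16 * (4 * c ^ 2 + c) + 1 by ring]; omega
        · rw [show (8 * c + 7) ^ 2 = 16 * (4 * c ^ 2 + 7 * c + 3) + 1 by ring]; omega
      · exact ((Nat.Prime.pow_eq_iff h1).1 e).1
    · have h3 := hp.odd_of_ne_two h2
      have h4 := Nat.pow_le_pow_right (n := 3) (by norm_num) hp.two_le
      have h5 := Nat.pow_le_pow_right (n := 5) (by norm_num) hp.two_le
      rcases h with h | h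
      · exact tri (by omega) (.inl (h ▸ md (.inl rfl) h3)) fun k m e => by
          have := pw Nat.prime_three hp (e.trans h); omega
      · exact tri (by omega) (.inr (h ▸ md (.inr rfl) h3)) fun k m e => by
          have := pw Nat.prime_five hp (e.trans h); omega

end Cfsg.Agent.S4369
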