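import Mathlib
import Cfsg.Statements.S4371
import Cfsg.Agent.CIT.F15
import Cfsg.Agent.S1162

set_option autoImplicit false
open Cfsg

namespace Cfsg.Agent.S4371


/-- Let G be a finite non-solvable group in which no prime divides three pairwise distinct element orders. Then one of the following holds, where 'a product of at most two primes' always counts primes with multiplicity: the quotient of G by its largest normal 2-subgroup is isomorphic to PSL(2, q) with q = 2ᶠ ≥ 4 and each of q + 1, q - 1 a product of at most two primes; G is isomorphic to PSL(2, q) with q > 5, q ≡ 3 or 5 (mod 8) and each of (q + 1)/2, (q - 1)/2 a product of at most two primes; G is isomorphic to PSL(2, 7), PSL(2, 9) or PSL(3, 4); or G is simple of order q²(q² + 1)(q - 1), the order of the Suzuki group Sz(q), where q = 2²ⁿ⁺¹ ≥ 8, and each of q - 1, q - r + 1, q + r + 1 (r = 2ⁿ⁺¹) is a product of at most two primes. -/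
theorem result {G : Type*} [Group G] [Finite G]
    (hG : ¬ Group.IsSolvable G) (h3 : (∀ p : ℕ, p.Prime → ∀ a b c : G, orderOf a ≠ orderOf b → orderOf b ≠ orderOf c → orderOf a ≠ orderOf c → ¬ (p ∣ orderOf a ∧ p ∣ orderOf b ∧ p ∣ orderOf c))) :
    (∃ (F : Type) (_ : Field F) (_ : Fintype F), CharP F 2 ∧ 4 ≤ Fintype.card F ∧
        (Fintype.card F + 1).primeFactorsList.length ≤ 2 ∧ (Fintype.card F - 1).primeFactorsList.length ≤ 2 ∧
        Nonempty (G ⧸ Cfsg.pCore 2 G ≃* Matrix.ProjectiveSpecialLinearGroup (Fin 2) F)) ∨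
    (∃ (F : Type) (_ : Field F) (_ : Fintype F), 5 < Fintype.card F ∧ (Fintype.card F % 8 = 3 ∨ Fintype.card F % 8 = 5) ∧
        ((Fintype.card F + 1) / 2).primeFactorsList.length ≤ 2 ∧ ((Fintype.card F - 1) / 2).primeFactorsList.length ≤ 2 ∧
        Nonempty (G ≃* Matrix.ProjectiveSpecialLinearGroup (Fin 2) F)) ∨
    (∃ (F : Type) (_ : Field F) (_ : Fintype F), (Fintype.card F = 7 ∨ Fintype.card F = 9) ∧
        Nonempty (G ≃* Matrix.ProjectiveSpecialLinearGroup (Fin 2) F)) ∨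
    (∃ (F : Type) (_ : Field F) (_ : Fintype F), Fintype.card F = 4 ∧ Nonempty (G ≃* Matrix.ProjectiveSpecialLinearGroup (Fin 3) F)) ∨
    (∃ n : ℕ, 1 ≤ n ∧ IsSimpleGroup G ∧ Nat.card G = (2 ^ (2 * n + 1)) ^ 2 * ((2 ^ (2 * n + 1)) ^ 2 + 1) * (2 ^ (2 * n + 1) - 1) ∧
        (2 ^ (2 * n + 1) - 1).primeFactorsList.length ≤ 2 ∧ (2 ^ (2 * n + 1) - 2 ^ (n + 1) + 1).primeFactorsList.length ≤ 2 ∧
        (2 ^ (2 * n + 1) + 2 ^ (n + 1) + 1).primeFactorsList.length ≤ 2) := by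
  have h : CIT.F.H3 G := by
    rintro p _ _ _ hp ⟨a, rfl⟩ ⟨b, rfl⟩ ⟨c, rfl⟩ e1 e2 e3 e4 e5 e6
    exact h3 p hp a b c e1 e2 e3 ⟨e4, e5, e6⟩
  have k1 : CIT.F.L2E (G ⧸ Cfsg.pCore 2 G) → ∃ (F : Type) (_ : Field F) (_ : Fintype F),
      CharP F 2 ∧ 4 ≤ Fintype.card F ∧ (Fintype.card F + 1).primeFactorsList.length ≤ 2 ∧
      (Fintype.card F - 1).primeFactorsList.length ≤ 2 ∧
      Nonempty (G ⧸ Cfsg.pCore 2 G ≃* Matrix.ProjectiveSpecialLinearGroup (Fin 2) F) := by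
    rintro ⟨F, _, _, n, hn, hF, ⟨e⟩⟩
    refine ⟨F, inferInstance, inferInstance,
      CIT.F.ringChar_of_card Nat.prime_two hF ▸ ringChar.charP F, hF ▸ CIT.F.four_le_pow hn,
      (h.quot _).len (CIT.F.ord_of_equiv e (CIT.F.exists_order_even hn hF (by simp [hF]))),
      (h.quot _).len (CIT.F.ord_of_equiv e (CIT.F.exists_order_even hn hF (by simp [hF]))), ⟨e⟩⟩
  have k2 : Cfsg.pCore 2 G = ⊥ → Nonempty (G ⧸ Cfsg.pCore 2 G ≃* G) := fun h0 =>
    ⟨(QuotientGroup.quotientMulEquivOfEq h0).trans QuotientGroup.quotientBot⟩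
  have k3 : Cfsg.pCore 2 G = ⊥ → CIT.F.L2 5 G → CIT.F.L2E (G ⧸ Cfsg.pCore 2 G) := fun h0 h5 => by
    obtain ⟨F, _, _, hF, f⟩ := h5.four_of_five
    obtain ⟨e⟩ := k2 h0
    exact CIT.F.L2E.equiv ⟨F, _, _, 2, le_rfl, hF, f⟩ e.symm
  by_cases hB : ∃ r : ℕ, r.Prime ∧ r ≠ 2 ∧ ∃ g : G, orderOf g = 2 * r
  · obtain ⟨r, hr, h2, hg⟩ := hB
    obtain ⟨h0, h1 | ⟨F, _, _, h8, h4, ⟨e⟩⟩⟩ := h.caseB hG hr h2 hg
    · obtain ⟨e⟩ := k2 h0
      exact Or.inl (k1 (h1.equiv e.symm))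
    by_cases h5 : Fintype.card F = 5
    · exact Or.inl (k1 (k3 h0 ⟨F, _, _, h5, ⟨e⟩⟩))
    have hc : Fintype.card F = 2 * (Fintype.card F / 2) + 1 := by omega
    exact Or.inr (Or.inl ⟨F, inferInstance, inferInstance, by omega, h8,
      h.len (CIT.F.ord_of_equiv e (CIT.F.exists_order_odd (by omega) hc
        (Or.inr (Or.inr (by omega : _ = _).dvd)))),
      h.len (CIT.F.ord_of_equiv e (CIT.F.exists_order_odd (by omega) hc
        (Or.inr (Or.inl (by omega : _ = _).dvd)))), ⟨e⟩⟩)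
  have hO : CIT.F.Ord2 G := CIT.F.ord2_of_no fun r hr h2 g hg => hB ⟨r, hr, h2, g, hg⟩
  have h8 : ∀ g : G, orderOf g ≠ 8 := fun g hg => by
    have := h.len ⟨g, hg⟩
    simp at this
  rcases CIT.F.struct hO hG with h1 | h1 | ⟨h0, ⟨F, _, _, hp, h4, ⟨k, hk⟩, ⟨e⟩⟩ | h1 | h1 | h1⟩
  · exact Or.inl (k1 h1)
  · obtain ⟨e⟩ := k2 (CIT.F.core_bot_of_sz hO h8 h1)
    obtain ⟨F, _, _, m, hm, hF, ⟨f⟩⟩ := CIT.F.sz_equiv h1 e
    haveI := S1162.result hm hF
    refine Or.inr (Or.inr (Or.inr (Or.inr ⟨m, hm, f.isSimpleGroup, ?_,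
      h.len (CIT.F.ord_of_equiv f (CIT.F.exists_order_sz hm hF (by simp))),
      h.len (CIT.F.ord_of_equiv f (CIT.F.exists_order_sz hm hF (by simp))),
      h.len (CIT.F.ord_of_equiv f (CIT.F.exists_order_sz hm hF (by simp)))⟩)))
    rw [Nat.card_congr f.toEquiv, CIT.F.card_sz hm hF]
    ring
  · have h2 := hp.eq_two_or_odd
    have hc : Fintype.card F = 2 * (Fintype.card F / 2) + 1 := by omega
    have h5 : k ≤ 3 := not_lt.1 fun h5 => by
      obtain ⟨a, ha⟩ := pow_dvd_pow 2 (show 4 ≤ k from h5)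
      exact (CIT.F.ord_of_equiv e (CIT.F.exists_order_odd (m := 8) (by omega) hc
        (by omega))).elim h8
    have h6 : Fintype.card F = 5 ∨ Fintype.card F = 7 ∨ Fintype.card F = 9 := by
      interval_cases k <;> omega
    rcases h6 with h6 | h6
    · exact Or.inl (k1 (k3 h0 ⟨F, _, _, h6, ⟨e⟩⟩))
    · exact Or.inr (Or.inr (Or.inl ⟨F, _, _, h6, ⟨e⟩⟩))
  · obtain ⟨F, _, _, hF, e⟩ := h1
    exact Or.inr (Or.inr (Or.inl ⟨F, _, _, Or.inr hF, e⟩))
  · exact Or.inr (Or.inr (Or.inr (Or.inl h1)))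
  · obtain ⟨-, -, -, -, -, g, hg⟩ := h1
    exact absurd hg (h8 g)

end Cfsg.Agent.S4371
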