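import Mathlib
import Cfsg.Statements.S4394
import Cfsg.Agent.FGS.SchP
import Cfsg.Agent.Core.SylowOf
import Cfsg.Agent.H2.Carter
import Cfsg.Agent.FGS.Sylow

set_option autoImplicit false
open Cfsg

namespace Cfsg.Agent.S4394

open Subgroup FGS

theorem step1 {G : Type*} [Group G] [Finite G] {p : ℕ} [hp : Fact p.Prime] (P : Sylow p G) (h : SP p P)
    {B H₀ : Subgroup G} (hB : B ≤ P) (hi : B.relIndex P = p) (hC : centralizer (B : Set G) ≤ B)
    (h1 : ↑P ≤ H₀) (h2 : H₀ ≤ normalizer (B : Set G)) (h3 : ¬ H₀ ≤ normalizer ((P : Subgroup G) : Set G))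
    {r k : ℕ} (hr : r.Prime) (hk : (P : Subgroup G).relIndex H₀ ∣ r ^ k) : False := by
  obtain ⟨H, ⟨hPH, hH, hn⟩, hmin⟩ := exists_minimal_of_wellFoundedLT
    (fun H : Subgroup G => ↑P ≤ H ∧ H ≤ H₀ ∧ ¬ H ≤ normalizer ((P : Subgroup G) : Set G)) ⟨H₀, h1, le_rfl, h3⟩
  haveI : (B.subgroupOf H).Normal := (normal_subgroupOf_iff_le_normalizer (hB.trans hPH)).mpr (hH.trans h2)
  have hN : ∀ D : Subgroup H, D ≤ normalizer (((P.subtype hPH : Sylow p H) : Subgroup H) : Set H) ↔
      D.map H.subtype ≤ normalizer ((P : Subgroup G) : Set G) := fun D => by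
    rw [Sylow.coe_subtype, ← subgroupOf_normalizer_eq hPH, map_le_iff_le_comap]; rfl
  refine SP.false_of_core (P.subtype hPH) (h.congr (subgroupOfEquivOfLe hPH)) (B := B.subgroupOf H)
    (comap_mono hB) ?_ ?_ ?_ ?_ hr ?_ (k := k)
  · rw [Sylow.coe_subtype, relIndex_subgroupOf hPH, hi]
  · intro x hx
    exact hC fun b hb => congrArg Subtype.val (hx ⟨b, hPH (hB hb)⟩ hb)
  · intro D hD hPD
    by_contra hne
    have h4 : D.map H.subtype ≤ normalizer ((P : Subgroup G) : Set G) := by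
      by_contra h4
      have h5 := hmin (y := D.map H.subtype) ⟨fun x hx => ⟨⟨x, hPH hx⟩, hPD hx, rfl⟩, (map_subtype_le D).trans hH, h4⟩
        (map_subtype_le D)
      exact hne (eq_top_iff.mpr fun x _ => by
        obtain ⟨y, hy, e⟩ := h5 x.2
        rwa [← Subtype.ext e])
    have h5 := Sylow.normalizer_sup_eq_top' (P.subtype hPH) hPD
    refine hn ?_
    have h6 := (hN ⊤).mp (h5.ge.trans (sup_le le_rfl ((hN D).mpr h4)))
    rwa [← MonoidHom.range_eq_map, range_subtype] at h6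
  · intro e
    exact hn ((subgroupOf_eq_top.mp e).trans le_normalizer)
  · exact (Dvd.intro _ (relIndex_mul_relIndex _ _ _ hPH hH)).trans hk

theorem step2 {G : Type*} [Group G] [Finite G] {p : ℕ} [hp : Fact p.Prime] (P : Sylow p G) (h : SP p P)
    (hG : IsPSolvable p G) (h0 : pPrimeCore p G = ⊥) : (P : Subgroup G).Normal := by
  by_contra hPn
  set R := pCore p G with hR
  have hRP : R ≤ P := Core.pCore_le_sylow P
  have hCR : centralizer (R : Set G) ≤ R := Core.IsPSolvable.centralizer_pCore_le hG h0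
  have hZ : ∀ x : P, x ∈ center P → (x : G) ∈ R := fun x hx =>
    hCR fun y hy => congrArg Subtype.val (mem_center_iff.mp hx ⟨y, hRP hy⟩)
  let f := QuotientGroup.mk' R
  have hf : Function.Surjective f := QuotientGroup.mk'_surjective R
  let A : Sylow p (G ⧸ R) := P.mapSurjective hf
  have hA : (A : Subgroup (G ⧸ R)) = (P : Subgroup G).map f := rfl
  have hAP : (A : Subgroup (G ⧸ R)).comap f = P := by
    rw [hA, comap_map_eq, QuotientGroup.ker_mk', sup_eq_left.mpr hRP]
  have hAc : IsMulCommutative (A : Subgroup (G ⧸ R)) := isMulCommutative_iff_forall.mpr (by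
    rintro _ ⟨x, hx, rfl⟩ _ ⟨y, hy, rfl⟩
    rw [← commutatorElement_eq_one_iff_mul_comm, ← map_commutatorElement]
    exact (QuotientGroup.eq_one_iff _).mpr (hZ _ (h.comm ⟨x, hx⟩ ⟨y, hy⟩)))
  have hG' : IsPSolvable p (G ⧸ R) := Core.IsPSolvable.quotient hG R
  have h1 : ¬ pPrimeCore p (G ⧸ R) ≤ normalizer ((A : Subgroup (G ⧸ R)) : Set (G ⧸ R)) := fun hle => by
    have h2 := Core.PLengthLE.pPrimeCore_sup_normalizer
      (Core.pLengthLE_one_of_centralizer_sylow (Core.IsPSolvable.isPConstrained hG') A hAc) A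
    rw [sup_eq_right.mpr hle, normalizer_eq_top_iff] at h2
    exact hPn (hAP ▸ h2.comap f)
  have hcop : ∀ K : Subgroup (G ⧸ R), K ≤ pPrimeCore p (G ⧸ R) →
      (Nat.card (A : Subgroup (G ⧸ R))).Coprime (Nat.card K) := fun K hK => by
    obtain ⟨n, hn⟩ := A.isPGroup'.exists_card_eq
    rw [hn]
    exact (((Core.pPrimeCore_coprime p).coprime_dvd_left (card_dvd_of_le hK)).symm).pow_left n
  obtain ⟨B, hBA, ⟨a, ha, hBa⟩, hB⟩ : ∃ B : Subgroup (G ⧸ R), B ≤ A ∧ (∃ a ∈ (A : Subgroup (G ⧸ R)),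
      B ⊔ zpowers a = A) ∧ ¬ pPrimeCore p (G ⧸ R) ⊓ centralizer (B : Set (G ⧸ R)) ≤
        normalizer ((A : Subgroup (G ⧸ R)) : Set (G ⧸ R)) := by
    by_contra! h2
    exact h1 (Core.le_of_centralizers_cocyclic hAc (le_top.trans (normalizer_eq_top _).ge) (hcop _ le_rfl) h2)
  have hAB : (A : Subgroup (G ⧸ R)) ≤ centralizer (B : Set (G ⧸ R)) := fun x hx y hy =>
    isMulCommutative_iff_forall.mp hAc y (hBA hy) x hx
  obtain ⟨r, hr, Y, hY, hAY, hYn⟩ : ∃ r : ℕ, r.Prime ∧ ∃ Y : Subgroup (G ⧸ R),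
      Core.IsSylowOf r Y (pPrimeCore p (G ⧸ R) ⊓ centralizer (B : Set (G ⧸ R))) ∧
      (A : Subgroup (G ⧸ R)) ≤ normalizer (Y : Set (G ⧸ R)) ∧
      ¬ Y ≤ normalizer ((A : Subgroup (G ⧸ R)) : Set (G ⧸ R)) := by
    by_contra! h2
    refine hB (Core.le_of_forall_isSylowOf_le _ _ fun r hr _ => ?_)
    haveI := Fact.mk hr
    obtain ⟨Y, hY, hAY⟩ := Core.exists_invariant_isSylowOf A
      (pPrimeCore p (G ⧸ R) ⊓ centralizer (B : Set (G ⧸ R))) (Core.le_normalizer_inf
        (le_top.trans (normalizer_eq_top _).ge) (hAB.trans le_normalizer)) (hcop _ inf_le_left)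
      (Or.inl (by haveI := A.isPGroup'.isNilpotent; infer_instance)) r
    exact ⟨Y, hY, h2 r hr Y hY hAY⟩
  haveI := Fact.mk hr
  have haB : a ∉ B := fun haB => by
    rw [sup_eq_left.mpr (zpowers_le.mpr haB)] at hBa
    exact hB (inf_le_right.trans (hBa ▸ centralizer_le_normalizer _))
  obtain ⟨k, hk⟩ := hY.isPGroup.exists_card_eq
  refine step1 P h (B := B.comap f) (H₀ := (Y ⊔ A).comap f) (hAP ▸ comap_mono hBA) ?_ ?_
    (hAP ▸ comap_mono le_sup_right) ?_ ?_ hr (k := k) ?_
  · rw [← hAP, relIndex_comap, map_comap_eq_self_of_surjective hf, ← hBa]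
    refine PGrp.relIndex_sup_zpowers hp.out (centralizer_le_normalizer _ (hAB ha)) ?_ haB
    obtain ⟨x, hx, rfl⟩ := ha
    rw [← map_pow, show f (x ^ p) = 1 from (QuotientGroup.eq_one_iff _).mpr (hZ _ (h.pow ⟨x, hx⟩))]
    exact one_mem _
  · have : R ≤ B.comap f := fun x hx => by
      rw [mem_comap, show f x = 1 from (QuotientGroup.eq_one_iff x).mpr hx]; exact one_mem _
    exact ((centralizer_le this).trans hCR).trans this
  · exact (comap_mono (sup_le ((hY.le.trans inf_le_right).trans (centralizer_le_normalizer _))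
      (hAB.trans (centralizer_le_normalizer _)))).trans (le_normalizer_comap f)
  · intro hle
    refine hYn ((le_sup_left : Y ≤ Y ⊔ A).trans ?_)
    rw [← map_comap_eq_self_of_surjective hf (Y ⊔ A), hA]
    exact Core.map_le_normalizer_map hle f
  · rw [← hAP, relIndex_comap, map_comap_eq_self_of_surjective hf, ← hk]
    have h2 := Core.card_sup_dvd hAY
    rw [← Core.card_mul_relIndex (le_sup_right : (A : Subgroup (G ⧸ R)) ≤ Y ⊔ A), mul_comm] at h2
    exact Nat.dvd_of_mul_dvd_mul_right Nat.card_pos h2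

/-- Let X be a finite minimal non-nilpotent group (not nilpotent, every proper subgroup nilpotent) with a nontrivial normal Sylow p-subgroup P. If G is a finite p-solvable group whose Sylow p-subgroups are isomorphic to P, then G has p-length at most 1. -/
theorem result {G X : Type*} [Group G] [Finite G] [Group X] [Finite X] (p : ℕ) [Fact p.Prime]
    (hX : Cfsg.IsMinimalNonNilpotent X) (P : Sylow p X) (hPn : (P : Subgroup X).Normal) (hP1 : (P : Subgroup X) ≠ ⊥)
    (hG : Cfsg.IsPSolvable p G) (Q : Sylow p G) (hQ : Nonempty (↥(Q : Subgroup G) ≃* ↥(P : Subgroup X))) : Cfsg.PLengthLE p 1 G := by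
  open Subgroup FGS in
  have h1 : ¬ HasNormalPComplement p X := fun ⟨P', N, hN, h⟩ => by
    haveI := Sylow.unique_of_normal P hPn
    obtain rfl : P = P' := Subsingleton.elim _ _
    have h2 := Core.nilpotent_sup_of_normal (hX.2 N fun e => hP1 (by
      have := h.disjoint
      rwa [e, top_disjoint] at this)) P.isPGroup'.isNilpotent
    rw [h.sup_eq_top] at h2
    exact hX.1 (Group.nilpotent_of_mulEquiv Subgroup.topEquiv)
  obtain ⟨q, R, g, h⟩ := FGS.exists_minNPC h1 fun H hH => by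
    haveI := hX.2 H hH
    exact Transfer.hasNormalPComplement_of_isNilpotent
  have h2 : R = P := by
    haveI := h.normal
    refine le_antisymm (h.pgroup.le_sylow_of_normal P) ?_
    refine FGS.le_of_isPGroup_of_le_normalizer P.isPGroup' (le_top.trans (normalizer_eq_top _).ge) fun hd => ?_
    rw [← relIndex_top_right, ← h.sup, relIndex_sup_left] at hd
    have := hd.trans (Core.relIndex_dvd_card' _ _)
    rw [Nat.card_zpowers] at this
    exact (Fact.out : p.Prime).one_lt.ne' (Nat.eq_one_of_dvd_coprimes h.coprime this dvd_rfl)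
  subst h2
  obtain ⟨e⟩ := hQ
  have h3 := h.sp.congr e
  refine Core.PLengthLE.of_quotient_pPrime (pPrimeCore p G) (Core.pPrimeCore_coprime p) ?_
  refine Core.pLengthLE_one_of_normal_sylow (Q.mapSurjective (QuotientGroup.mk'_surjective _)) (step2 _ ?_
    (Core.IsPSolvable.quotient hG _) (Core.pPrimeCore_quotient_pPrimeCore p))
  exact h3.congr (H2.equivMapMk' (Subgroup.inf_eq_bot_of_coprime
    (Core.coprime_pPrimeCore_of_isPGroup Q.isPGroup'))).symm

end Cfsg.Agent.S4394
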