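import Mathlib
import Cfsg.Statements.S4395
import Cfsg.Agent.Spc.Schm
import Cfsg.Agent.Herm.SU3
-- import your own Cfsg.Agent.* helpers here

set_option autoImplicit false
universe u
open Cfsg

namespace Cfsg.Agent.S4395

open Subgroup FGS SpcSchm
open scoped commutatorElement

section
variable {p q : ℕ} [hp : Fact p.Prime]

theorem irred {K : Type*} [Field K] [Fintype K] [CharP K p]
    (hK : Fintype.card K = p ^ orderOf (p : ZMod q)) {l : K} (hl0 : l ≠ 0) (hl : orderOf l = q)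
    (X : AddSubgroup K) (hX : ∀ v ∈ X, l * v ∈ X) : X = ⊥ ∨ X = ⊤ := by
  classical
  let S : Subring K :=
    { carrier := {c | ∀ v ∈ X, c * v ∈ X}
      mul_mem' := fun {a b} ha hb v hv => by rw [mul_assoc]; exact ha _ (hb v hv)
      one_mem' := fun v hv => by rwa [one_mul]
      add_mem' := fun {a b} ha hb v hv => by rw [add_mul]; exact add_mem (ha v hv) (hb v hv)
      zero_mem' := fun v hv => by rw [zero_mul]; exact zero_mem _
      neg_mem' := fun {a} ha v hv => by rw [neg_mul]; exact neg_mem (ha v hv) }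
  letI : Field S := Fintype.fieldOfDomain S
  obtain ⟨n, -, hn⟩ := FiniteField.card S p
  have h1 := FiniteField.pow_card_sub_one_eq_one (⟨l, hX⟩ : S) fun h => hl0 (congrArg Subtype.val h)
  have h2 : q ∣ p ^ (n : ℕ) - 1 := by
    rw [← hn, ← hl]
    exact orderOf_dvd_of_pow_eq_one (congrArg Subtype.val h1)
  have h3 : (p : ZMod q) ^ (n : ℕ) = 1 := by
    have := (ZMod.natCast_eq_zero_iff _ q).mpr h2
    rw [Nat.cast_sub (Nat.one_le_pow _ _ hp.out.pos)] at this
    push_cast at this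
    exact sub_eq_zero.mp this
  have h4 := Nat.le_of_dvd n.pos (orderOf_dvd_of_pow_eq_one h3)
  have h5 : Function.Bijective (Subtype.val : S → K) :=
    (Fintype.bijective_iff_injective_and_card _).2 ⟨Subtype.val_injective, le_antisymm
      (Fintype.card_le_of_injective _ Subtype.val_injective) (by
        rw [hK, hn]; exact Nat.pow_le_pow_right hp.out.pos h4)⟩
  rw [or_iff_not_imp_left]
  intro h6
  obtain ⟨⟨v, hv⟩, h7⟩ := AddSubgroup.ne_bot_iff_exists_ne_zero.1 h6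
  have h8 : v ≠ 0 := fun h => h7 (Subtype.ext h)
  rw [eq_top_iff]
  intro c _
  obtain ⟨d, hd⟩ := h5.2 (c / v)
  have := d.2 v hv
  rwa [hd, div_mul_cancel₀ _ h8] at this

theorem exists_min {D : Type*} [Group D] [Finite D] (H : Subgroup D)
    (h : ¬ HasNormalPComplement p H) : ∃ (H' : Subgroup D) (q : ℕ) (Q : Subgroup H') (g : H'),
      H' ≤ H ∧ MinNPC p q Q g := by
  obtain ⟨H', h1, h2⟩ := exists_minimal_le_of_wellFoundedLT
    (fun K : Subgroup D => ¬ HasNormalPComplement p K) H h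
  obtain ⟨q, Q, g, hm⟩ := exists_minNPC h2.1 fun K hK => by
    by_contra h3
    have h4 := h2.2 (y := K.map H'.subtype) (fun h => h3 (Transfer.hasNormalPComplement_of_mulEquiv
      (K.equivMapOfInjective _ H'.subtype_injective).symm h)) (map_subtype_le K)
    exact hK (eq_top_iff.2 fun x _ => by
      obtain ⟨y, hy, e⟩ := h4 x.2
      rwa [← show y = x from Subtype.ext e])
  exact ⟨H', q, Q, g, h1, hm⟩

variable {G : Type*} [Group G] [Finite G] {Q : Subgroup G} {g : G}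

theorem decomp [Q.Normal] (h : Q ⊔ zpowers g = ⊤) (x : G) : ∃ u ∈ Q, ∃ i : ℕ, x = u * g ^ i := by
  have h1 : x ∈ ((Q ⊔ zpowers g : Subgroup G) : Set G) := h.ge (mem_top x)
  rw [normal_mul] at h1
  obtain ⟨u, hu, v, hv, e⟩ := h1
  obtain ⟨i, rfl⟩ := mem_powers_iff_mem_zpowers.2 hv
  exact ⟨u, hu, i, e.symm⟩

theorem card_eq (h : MinNPC p q Q g) : Nat.card G = Nat.card Q * orderOf g := by
  haveI := h.normal
  rw [← Nat.card_zpowers]
  refine (IsComplement'.card_mul (isComplement'_of_disjoint_and_mul_eq_univ ?_ ?_)).symm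
  · exact disjoint_iff.2 (inf_eq_bot_of_coprime (h.coprime_card le_rfl).symm)
  · rw [← normal_mul, h.sup]; rfl

theorem orders {q' t r : ℕ} (h : MinNPC p q' Q g) (hq : q.Prime) (hpq : p ≠ q) (hr : 1 ≤ r)
    (hc : Nat.card G = p ^ t * q ^ r) : q' = q ∧ orderOf g = q ^ r ∧ Nat.card Q = p ^ t := by
  obtain ⟨k, hk⟩ := h.ord
  obtain ⟨m, hm⟩ := IsPGroup.iff_card.1 h.pgroup
  have e := card_eq h
  rw [hc, hk, hm] at e
  have hcp := (Nat.coprime_primes hq hp.out).2 hpq.symm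
  have h1 : q ∣ p ^ m * q' ^ k := e ▸ Dvd.dvd.mul_left (dvd_pow_self q (by omega)) _
  have h2 : q' = q := ((Nat.prime_dvd_prime_iff_eq hq h.prime).1 (hq.dvd_of_dvd_pow
    ((hcp.pow_right m).dvd_of_dvd_mul_left h1))).symm
  subst h2
  have h3 : q' ^ k = q' ^ r := Nat.dvd_antisymm
    ((hcp.pow k t).dvd_of_dvd_mul_left (e ▸ Dvd.intro_left _ rfl))
    ((hcp.pow r m).dvd_of_dvd_mul_left (e ▸ Dvd.intro_left _ rfl))
  rw [h3] at e hk
  exact ⟨rfl, hk, hm.trans (Nat.eq_of_mul_eq_mul_right (pow_pos hq.pos r) e).symm⟩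

theorem min_of {K : Type*} [Field K] [Fintype K] [CharP K p] (hq : q.Prime) (hpq : p ≠ q)
    (hK : Fintype.card K = p ^ orderOf (p : ZMod q)) {l : K} (hl : orderOf l = q) [Q.Normal]
    (hQ : IsPGroup p Q) {r : ℕ} (hg : orderOf g = q ^ r) (hs : Q ⊔ zpowers g = ⊤) {φ : G → K}
    (hm : Md Q g l φ) (hz : Q ⊓ center G ≤ ⁅Q, Q⁆) :
    ¬ HasNormalPComplement p G ∧ ∀ H : Subgroup G, H ≠ ⊤ → HasNormalPComplement p H := by
  haveI := Fact.mk hq
  have hcp := (Nat.coprime_primes hq hp.out).2 hpq.symm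
  refine ⟨fun h => ?_, fun H hH => ?_⟩
  · have h1 := Transfer.mem_centralizer_of_hasNormalPComplement h hQ (g := g)
      (by rw [normalizer_eq_top]; exact mem_top _) (hg ▸ hcp.pow_left r)
    obtain ⟨u, hu, e⟩ := hm.surj 1
    have h2 := hm.conj u hu
    rw [← h1 u hu, mul_inv_cancel_right, e, mul_one] at h2
    rw [← h2, orderOf_one] at hl
    exact hq.one_lt.ne hl
  by_contra h
  obtain ⟨H', q', Q', x, hle, h1⟩ := exists_min H h
  haveI := h1.normal
  have h2 : ∀ v ∈ Q', (v : G) ∈ Q := fun v hv => by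
    obtain ⟨u, hu, i, e⟩ := decomp hs v
    obtain ⟨k, hk⟩ := h1.pgroup ⟨v, hv⟩
    have h3 : (v : G) ^ p ^ k = 1 := congrArg (fun z : Q' => ((z : H') : G)) hk
    have h4 : ((v : G) : G ⧸ Q) = (g : G ⧸ Q) ^ i := by
      rw [e, QuotientGroup.mk_mul, (QuotientGroup.eq_one_iff u).2 hu, one_mul, QuotientGroup.mk_pow]
    rw [← QuotientGroup.eq_one_iff, ← orderOf_eq_one_iff]
    refine Nat.eq_one_of_dvd_coprimes (hcp.pow r k) (orderOf_dvd_of_pow_eq_one ?_)
      (orderOf_dvd_of_pow_eq_one ?_)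
    · rw [h4, ← pow_mul, mul_comm, pow_mul, ← QuotientGroup.mk_pow, ← hg, pow_orderOf_eq_one]
      simp
    · rw [← QuotientGroup.mk_pow, h3]; rfl
  obtain ⟨u, hu, i, e⟩ := decomp hs x
  have h3 : ∀ v ∈ Q, φ (x * v * (x : G)⁻¹) = l ^ i * φ v := fun v hv => by
    have h4 := Normal.conj_mem ‹Q.Normal› _ hv (g ^ i)
    rw [e, show u * g ^ i * v * (u * g ^ i)⁻¹ = u * (g ^ i * v * (g ^ i)⁻¹) * u⁻¹ by group,
      hm.add _ (mul_mem hu h4) _ (inv_mem hu), hm.add _ hu _ h4, hm.inv hu, (hm.pow i).conj v hv]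
    ring
  have hc : ∀ z : H', (z : G) ∈ center G → z ∈ center H' := fun z hz =>
    mem_center_iff.2 fun y => Subtype.ext (mem_center_iff.1 hz y)
  have h4 : l ^ i ≠ 1 := fun h5 => not_triv h1 fun v hv => hc _ (by
    have h6 := Normal.conj_mem ‹Q.Normal› _ (h2 v hv) x
    refine (hm.zero _ (mul_mem h6 (inv_mem (h2 v hv)))).1 ?_
    rw [hm.add _ h6 _ (inv_mem (h2 v hv)), h3 _ (h2 v hv), hm.inv (h2 v hv), h5]
    ring)
  have hl1 : l ^ q = 1 := hl ▸ pow_orderOf_eq_one l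
  have hl0 : l ≠ 0 := by
    rintro rfl
    rw [zero_pow hq.ne_zero] at hl1
    exact zero_ne_one hl1
  let X : AddSubgroup K :=
    { carrier := {c | ∃ v ∈ Q', φ v = c}
      zero_mem' := ⟨1, one_mem _, hm.one⟩
      add_mem' := by
        rintro _ _ ⟨a, ha, rfl⟩ ⟨b, hb, rfl⟩
        exact ⟨a * b, mul_mem ha hb, hm.add _ (h2 a ha) _ (h2 b hb)⟩
      neg_mem' := by
        rintro _ ⟨a, ha, rfl⟩
        exact ⟨a⁻¹, inv_mem ha, hm.inv (h2 a ha)⟩ }
  have h5 : X = ⊤ := (irred hK (pow_ne_zero i hl0) (orderOf_eq_prime (by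
      rw [← pow_mul, mul_comm, pow_mul, hl1, one_pow]) h4) X (by
    rintro _ ⟨a, ha, rfl⟩
    exact ⟨x * a * x⁻¹, h1.normal.conj_mem _ ha _, h3 _ (h2 a ha)⟩)).resolve_left fun h5 =>
      h1.not_le_center fun v hv => hc _ ((hm.zero _ (h2 v hv)).1 (h5.le ⟨v, hv, rfl⟩))
  have h6 : ∀ a ∈ Q, ∃ v : H', ∃ z ∈ Q ⊓ center G, a = v * z := fun a ha => by
    obtain ⟨v, hv, e⟩ : φ a ∈ X := h5.ge (AddSubgroup.mem_top _)
    obtain ⟨z, hz, e'⟩ := hm.eq ha (h2 v hv) e.symm
    refine ⟨v, z, ⟨?_, hz⟩, e'⟩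
    rw [show z = (v : G)⁻¹ * a by rw [e']; group]
    exact Q.mul_mem (Q.inv_mem (h2 v hv)) ha
  have h7 : ⁅Q, Q⁆ ≤ H' := commutator_le.2 fun a ha b hb => by
    obtain ⟨v, z, hz, rfl⟩ := h6 a ha
    obtain ⟨w, y, hy, rfl⟩ := h6 b hb
    have h1 := mem_center_iff.1 hz.2
    have h2 := mem_center_iff.1 hy.2
    rw [commutatorElement_def, mul_inv_rev, mul_inv_rev,
      show v * z * (w * y) * (z⁻¹ * (v : G)⁻¹) * (y⁻¹ * (w : G)⁻¹) =
        v * (z * (w * y) * z⁻¹) * (v : G)⁻¹ * (y⁻¹ * (w : G)⁻¹) by group, ← h1, mul_inv_cancel_right,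
      show v * (w * y) * (v : G)⁻¹ * (y⁻¹ * (w : G)⁻¹) = v * w * (y * (v : G)⁻¹ * y⁻¹) * (w : G)⁻¹ by
        group, ← h2, mul_inv_cancel_right]
    exact (v * w * v⁻¹ * w⁻¹).2
  have h8 : Q ≤ H' := fun a ha => by
    obtain ⟨v, z, hz', rfl⟩ := h6 a ha
    exact mul_mem v.2 (h7 (hz hz'))
  have h9 : g ^ i ∈ H' := by
    rw [show g ^ i = u⁻¹ * x by rw [e]; group]
    exact mul_mem (inv_mem (h8 hu)) x.2
  have h10 : g ∈ zpowers (g ^ i) := mem_zpowers_pow_iff.2 (by
    rw [hg]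
    refine Nat.Coprime.pow_right _ ((Nat.Prime.coprime_iff_not_dvd hq).2 fun h => h4 ?_).symm
    rw [← orderOf_dvd_iff_pow_eq_one, hl]
    exact h)
  exact hH (eq_top_iff.2 (hs.ge.trans ((sup_le h8 (zpowers_le.2 (zpowers_le.2 h9 h10))).trans hle)))

theorem norm_md {K : Type*} [Field K] [Fintype K] (hK : Fintype.card K = p ^ orderOf (p : ZMod q))
    {l : K} (hl : orderOf l = q) (h : MinNPC p q Q g) :
    ∃ g' φ, MinNPC p q Q g' ∧ orderOf g' = orderOf g ∧ Md Q g' l φ := by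
  haveI := h.normal
  haveI := Fact.mk h.prime
  obtain ⟨F, _, _, l', φ, hm, hl', hpF, hirr⟩ := exists_md h
  let e := FiniteField.ringEquivOfCardEq ((card_field_of_irred hp.out hpF hl' hirr).trans hK.symm)
  have h1 : IsPrimitiveRoot (e l') q :=
    (hl' ▸ IsPrimitiveRoot.orderOf l').map_of_injective e.injective
  obtain ⟨i, hi, h2⟩ := h1.eq_pow_of_pow_eq_one (hl ▸ pow_orderOf_eq_one l)
  obtain ⟨k, hk⟩ := h.ord
  have h3 : i.Coprime (orderOf g) := by
    rw [hk]
    refine Nat.Coprime.pow_right _ ((Nat.Prime.coprime_iff_not_dvd h.prime).2 fun h4 => ?_).symm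
    rw [Nat.eq_zero_of_dvd_of_lt h4 hi, pow_zero] at h2
    rw [← h2, orderOf_one] at hl
    exact h.prime.one_lt.ne hl
  have h4 : g ∈ zpowers (g ^ i) := mem_zpowers_pow_iff.2 h3
  have h5 : orderOf (g ^ i) = orderOf g := h3.symm.orderOf_pow
  have hm' := hm.pow i
  refine ⟨g ^ i, e ∘ φ, ⟨h.not_npc, h.npc, h.normal, h.prime, h.ne, h.pgroup, ⟨k, h5.trans hk⟩,
    fun h6 => h.not_cent (zpowers_le.2 h6 h4), eq_top_iff.2 (h.sup.ge.trans
      (sup_le_sup_left (zpowers_le.2 h4) _))⟩, h5, fun u hu v hv => ?_, fun c => ?_,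
    fun u hu => ?_, fun u hu => ?_⟩
  · simp [hm.add u hu v hv]
  · obtain ⟨u, hu, e1⟩ := hm.surj (e.symm c)
    exact ⟨u, hu, by simp [e1]⟩
  · simp [hm.zero u hu]
  · simp [hm'.conj u hu, h2]

theorem img (h : MinNPC p q Q g) {Y : Type*} [Group Y] [Finite Y] (f : G →* Y)
    (hf : f.ker ≤ center G) (hY : ∀ K : Subgroup Y, K ≠ ⊤ → HasNormalPComplement p K) :
    Function.Surjective f := by
  haveI := h.normal
  rw [← MonoidHom.range_eq_top]
  by_contra h1
  haveI : (Q.map f.rangeRestrict).Normal := h.normal.map _ f.rangeRestrict_surjective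
  have h2 := Transfer.mem_centralizer_of_hasNormalPComplement (hY _ h1)
    (h.pgroup.map f.rangeRestrict) (g := f.rangeRestrict g)
    (by rw [normalizer_eq_top]; exact mem_top _)
    (h.coprime.coprime_dvd_left (orderOf_map_dvd _ _))
  refine not_triv h fun u hu => hf ?_
  have h3 : f u * f g = f g * f u := congrArg Subtype.val (h2 _ (mem_map_of_mem _ hu))
  rw [MonoidHom.mem_ker]
  simp [← h3]

theorem ker_fst {X : Type*} [Group X] [Finite X] {Q' : Subgroup X} {g' : X} {K : Type*} [Field K]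
    {l : K} {φ : G → K} {φ' : X → K} (h : MinNPC p q Q g) (hm : Md Q g l φ) (hm' : Md Q' g' l φ')
    (ho : orderOf g' = orderOf g) {u : G} {v : X} (hu : u ∈ Q) (hv : v ∈ Q') (e : φ u = φ' v)
    {i : ℕ} (h1 : u * g ^ i = 1) : v * g' ^ i ∈ center X := by
  have h2 : zpowers g ⊓ Q = ⊥ := inf_eq_bot_of_coprime (h.coprime_card le_rfl)
  have h3 : g ^ i = 1 := h2.le ⟨pow_mem (mem_zpowers g) i, by
    rw [eq_inv_of_mul_eq_one_right h1]; exact Q.inv_mem hu⟩
  rw [h3, mul_one] at h1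
  rw [h1, hm.one] at e
  rw [← orderOf_dvd_iff_pow_eq_one, ← ho, orderOf_dvd_iff_pow_eq_one] at h3
  rw [h3, mul_one]
  exact (hm'.zero v hv).1 e.symm

theorem univ {X : Type*} [Group X] [Finite X] {Q' : Subgroup X} {g' : X} {K : Type*} [Field K]
    {l : K} {φ : G → K} {φ' : X → K} (h : MinNPC p q Q g) (h' : MinNPC p q Q' g')
    (hm : Md Q g l φ) (hm' : Md Q' g' l φ') {r a : ℕ} (hr : 1 ≤ r) (ho : orderOf g = q ^ r)
    (ho' : orderOf g' = q ^ r) (ha : a = orderOf (p : ZMod q))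
    (hQ : Nat.card Q = p ^ (if a % 2 = 1 then a else 3 * a / 2)) :
    ∃ f : G →* X, Function.Surjective f ∧ f.ker ≤ center G := by
  haveI := h.normal
  haveI := h'.normal
  let R : Subgroup (G × X) :=
    { carrier := {x | x.1 ∈ Q ∧ x.2 ∈ Q' ∧ φ x.1 = φ' x.2}
      one_mem' := ⟨one_mem _, one_mem _, hm.one.trans hm'.one.symm⟩
      mul_mem' := fun {a b} ha hb => ⟨mul_mem ha.1 hb.1, mul_mem ha.2.1 hb.2.1, by
        rw [Prod.fst_mul, Prod.snd_mul, hm.add _ ha.1 _ hb.1, hm'.add _ ha.2.1 _ hb.2.1, ha.2.2,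
          hb.2.2]⟩
      inv_mem' := fun {a} ha => ⟨inv_mem ha.1, inv_mem ha.2.1, by
        rw [Prod.fst_inv, Prod.snd_inv, hm.inv ha.1, hm'.inv ha.2.1, ha.2.2]⟩ }
  have hn : zpowers (g, g') ≤ normalizer (R : Set (G × X)) :=
    zpowers_le.2 (mem_normalizer_fintype fun a ha => ⟨h.normal.conj_mem _ ha.1 _,
      h'.normal.conj_mem _ ha.2.1 _, (hm.conj _ ha.1).trans (by
        rw [ha.2.2]; exact (hm'.conj _ ha.2.1).symm)⟩)
  have hD : ∀ x ∈ R ⊔ zpowers (g, g'), ∃ u ∈ Q, ∃ v ∈ Q', φ u = φ' v ∧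
      ∃ i : ℕ, x = (u * g ^ i, v * g' ^ i) := fun x hx => by
    have h1 : x ∈ ((R ⊔ zpowers (g, g') : Subgroup (G × X)) : Set (G × X)) := hx
    rw [coe_mul_of_right_le_normalizer_left _ _ hn] at h1
    obtain ⟨u, hu, v, hv, e⟩ := h1
    obtain ⟨i, rfl⟩ := mem_powers_iff_mem_zpowers.2 hv
    exact ⟨u.1, hu.1, u.2, hu.2.1, hu.2.2, i, e.symm⟩
  have h1 : ¬ HasNormalPComplement p (R ⊔ zpowers (g, g') : Subgroup (G × X)) := fun h1 =>
    h.not_npc (Transfer.hasNormalPComplement_of_surjective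
      ((MonoidHom.fst G X).comp (Subgroup.subtype _)) (fun x => by
        obtain ⟨u, hu, i, rfl⟩ := decomp h.sup x
        obtain ⟨v, hv, e⟩ := hm'.surj (φ u)
        exact ⟨⟨(u, v) * (g, g') ^ i, mul_mem (mem_sup_left ⟨hu, hv, e.symm⟩)
          (mem_sup_right (pow_mem (mem_zpowers _) i))⟩, rfl⟩) h1)
  obtain ⟨H, q', P, x, hle, h2⟩ := exists_min _ h1
  let f1 : H →* G := (MonoidHom.fst G X).comp H.subtype
  let f2 : H →* X := (MonoidHom.snd G X).comp H.subtype
  have k1 : f1.ker ≤ center H := fun y hy => by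
    obtain ⟨u, hu, v, hv, e, i, e'⟩ := hD _ (hle y.2)
    have h3 : y.1.1 = 1 := hy
    have h4 := ker_fst h hm hm' (ho'.trans ho.symm) hu hv e (by rw [e'] at h3; exact h3)
    refine mem_center_iff.2 fun z => Subtype.ext (Prod.ext ?_ ?_)
    · simp [h3]
    · have : y.1.2 = v * g' ^ i := by rw [e']
      simpa [this] using mem_center_iff.1 h4 z.1.2
  have k2 : f2.ker ≤ center H := fun y hy => by
    obtain ⟨u, hu, v, hv, e, i, e'⟩ := hD _ (hle y.2)
    have h3 : y.1.2 = 1 := hy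
    have h4 := ker_fst h' hm' hm (ho.trans ho'.symm) hv hu e.symm (by rw [e'] at h3; exact h3)
    refine mem_center_iff.2 fun z => Subtype.ext (Prod.ext ?_ ?_)
    · have : y.1.1 = u * g ^ i := by rw [e']
      simpa [this] using mem_center_iff.1 h4 z.1.1
    · simp [h3]
  have s1 := img h2 f1 k1 h.npc
  have s2 := img h2 f2 k2 h'.npc
  obtain ⟨k, hk⟩ := h2.ord
  obtain ⟨m, hPm⟩ := IsPGroup.iff_card.1 h2.pgroup
  have hcp := (Nat.coprime_primes h.prime hp.out).2 h.ne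
  have hqq : q' = q := by
    have h3 := card_dvd_of_surjective f1 s1
    rw [card_eq h, card_eq h2, ho, hk, hPm] at h3
    exact ((Nat.prime_dvd_prime_iff_eq h.prime h2.prime).1 (h.prime.dvd_of_dvd_pow
      ((hcp.pow_right m).dvd_of_dvd_mul_left ((Dvd.dvd.mul_left (dvd_pow_self q (by omega)) _).trans
        h3)))).symm
  subst hqq
  have hx : ∀ {Y : Type _} [Group Y] [Finite Y] {Q : Subgroup Y} {g : Y} (f : H →* Y),
      MinNPC p q' Q g → orderOf g = q' ^ r → f x ^ q' ^ r = 1 := by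
    intro Y _ _ Q g f h ho
    obtain ⟨n, hn⟩ := IsPGroup.iff_card.1 h.pgroup
    have h3 := orderOf_dvd_natCard (f x)
    have h4 : orderOf (f x) ∣ q' ^ k := hk ▸ orderOf_map_dvd _ _
    rw [card_eq h, ho, hn] at h3
    exact orderOf_dvd_iff_pow_eq_one.1 (((hcp.pow k n).coprime_dvd_left h4).dvd_of_dvd_mul_left h3)
  have h3 : orderOf x ∣ q' ^ r := orderOf_dvd_of_pow_eq_one
    (Subtype.ext (Prod.ext (hx f1 h ho) (by
      obtain ⟨n, hn⟩ := IsPGroup.iff_card.1 h'.pgroup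
      have h3 := orderOf_dvd_natCard (f2 x)
      have h4 : orderOf (f2 x) ∣ q' ^ k := hk ▸ orderOf_map_dvd _ _
      rw [card_eq h', ho', hn] at h3
      exact orderOf_dvd_iff_pow_eq_one.1
        (((hcp.pow k n).coprime_dvd_left h4).dvd_of_dvd_mul_left h3))))
  have h4 : Function.Bijective f1 := s1.bijective_of_nat_card_le (by
    rw [card_eq h, card_eq h2, ho, hQ]
    exact Nat.mul_le_mul (card_le h2 ha) (Nat.le_of_dvd (pow_pos h.prime.pos r) h3))
  let e := MulEquiv.ofBijective f1 h4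
  refine ⟨f2.comp e.symm.toMonoidHom, s2.comp e.symm.surjective, fun y hy => ?_⟩
  obtain ⟨y, rfl⟩ := e.surjective y
  have h5 : y ∈ center H := k2 (by simpa using hy)
  refine mem_center_iff.2 fun z => ?_
  obtain ⟨z, rfl⟩ := e.surjective z
  rw [← map_mul, ← map_mul, mem_center_iff.1 h5]

theorem build {K : Type u} [Field K] [Fintype K] [CharP K p] (hq : q.Prime) (hpq : p ≠ q)
    (hK : Fintype.card K = p ^ orderOf (p : ZMod q)) {l : K} (hl : orderOf l = q)
    {P : Type u} [Group P] [Finite P] {n r : ℕ} (hr : 1 ≤ r) (hP : Nat.card P = p ^ n)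
    (π : P →* Multiplicative K) (h1 : Function.Surjective π) (h2 : π.ker ≤ center P)
    (h3 : π.ker ≤ commutator P) (α : MulAut P) (h4 : α ^ q = 1) (h5 : ∀ x ∈ π.ker, α x = x)
    (h6 : ∀ x, (π (α x)).toAdd = l * (π x).toAdd) :
    ∃ (G₀ : Type u) (_ : Group G₀) (_ : Finite G₀), (¬ HasNormalPComplement p G₀ ∧
      ∀ K : Subgroup G₀, K ≠ ⊤ → HasNormalPComplement p K) ∧ Nat.card G₀ = p ^ n * q ^ r := by
  haveI : NeZero (q ^ r) := ⟨pow_ne_zero _ hq.ne_zero⟩
  let c : Multiplicative (ZMod (q ^ r)) := Multiplicative.ofAdd 1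
  have hc : orderOf c = q ^ r := by simp [c]
  have hgen : ∀ x, x ∈ zpowers c := fun x => by
    have : zpowers c = ⊤ := eq_top_of_card_eq _ (by rw [Nat.card_zpowers, hc]; simp)
    exact this.ge (mem_top x)
  let ψ := monoidHomOfForallMemZpowers hgen (g' := α) (by
    rw [hc]; exact (orderOf_dvd_of_pow_eq_one h4).trans (dvd_pow_self q (by omega)))
  have hψ : ψ c = α := monoidHomOfForallMemZpowers_apply_gen _ _
  haveI : Finite (P ⋊[ψ] Multiplicative (ZMod (q ^ r))) :=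
    Finite.of_equiv _ SemidirectProduct.equivProd.symm
  let Q := (SemidirectProduct.inl : P →* P ⋊[ψ] Multiplicative (ZMod (q ^ r))).range
  haveI : Q.Normal := by
    simp only [Q, SemidirectProduct.range_inl_eq_ker_rightHom]
    infer_instance
  have hs : Q ⊔ zpowers (SemidirectProduct.inr c) = ⊤ := eq_top_iff.2 fun x _ => by
    rw [← SemidirectProduct.inl_left_mul_inr_right x]
    refine mul_mem (mem_sup_left ⟨_, rfl⟩) (mem_sup_right ?_)
    rw [← MonoidHom.map_zpowers]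
    exact mem_map_of_mem _ (hgen _)
  have hcj : ∀ x : P, (SemidirectProduct.inr c * SemidirectProduct.inl x *
      (SemidirectProduct.inr c)⁻¹ : P ⋊[ψ] Multiplicative (ZMod (q ^ r))) =
      SemidirectProduct.inl (α x) := fun x => by
    rw [← hψ, SemidirectProduct.inl_aut, map_inv]
  have hl1 : l ≠ 1 := fun h => hq.one_lt.ne (by rw [← hl, h, orderOf_one])
  have hm : Md Q (SemidirectProduct.inr c) l (fun x => (π x.left).toAdd) := by
    refine ⟨?_, fun d => ?_, ?_, ?_⟩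
    · rintro _ ⟨a, rfl⟩ _ ⟨b, rfl⟩
      simp
    · obtain ⟨x, hx⟩ := h1 (Multiplicative.ofAdd d)
      exact ⟨_, ⟨x, rfl⟩, by simp [hx]⟩
    · rintro _ ⟨a, rfl⟩
      refine ⟨fun h => ?_, fun h => ?_⟩
      · have h7 : a ∈ π.ker := h
        have h8 : centralizer {(SemidirectProduct.inl a : P ⋊[ψ] Multiplicative (ZMod (q ^ r)))}
            = ⊤ := eq_top_iff.2 (hs.ge.trans (sup_le (by
          rintro _ ⟨b, rfl⟩
          rw [mem_centralizer_singleton_iff, ← map_mul, ← map_mul, mem_center_iff.1 (h2 h7)])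
          (zpowers_le.2 (by
            rw [mem_centralizer_singleton_iff, ← mul_inv_eq_iff_eq_mul, hcj, h5 a h7]))))
        exact mem_center_iff.2 fun y => mem_centralizer_singleton_iff.1 (h8.ge (mem_top y))
      · have h7 := hcj a
        rw [mem_center_iff.1 h, mul_inv_cancel_right] at h7
        have h8 := h6 a
        rw [← SemidirectProduct.inl_injective h7] at h8
        have : (l - 1) * (π a).toAdd = 0 := by linear_combination -h8
        exact (mul_eq_zero.1 this).resolve_left (sub_ne_zero.2 hl1)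
    · rintro _ ⟨a, rfl⟩
      rw [hcj]
      exact h6 a
  refine ⟨_, inferInstance, inferInstance, min_of hq hpq hK hl (r := r)
    ((IsPGroup.of_card hP).of_surjective _ (MonoidHom.rangeRestrict_surjective _))
    (by rw [orderOf_injective _ SemidirectProduct.inr_injective, hc]) hs hm ?_, by
      rw [SemidirectProduct.card, hP]; simp⟩
  rintro _ ⟨⟨a, rfl⟩, ha⟩
  have h7 : a ∈ π.ker := (hm.zero _ ⟨a, rfl⟩).2 ha
  have h8 := mem_map_of_mem (SemidirectProduct.inl : P →* P ⋊[ψ] Multiplicative (ZMod (q ^ r)))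
    (h3 h7)
  rwa [commutator_def, map_commutator, ← MonoidHom.range_eq_map] at h8

end

/-- Let p ≠ q be primes, r ≥ 1, a the multiplicative order of p modulo q, and a₀ = a when a is odd, a₀ = 3a/2 when a is even. Call a finite group minimal non-p-nilpotent when it has no normal p-complement but every proper subgroup has one. Then there is a minimal non-p-nilpotent group G₀ of order p^a₀ · q^r such that every minimal non-p-nilpotent group of order p^t · q^r (any t) is a quotient of G₀ by a central subgroup. -/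
theorem result (p q r : ℕ) [Fact p.Prime] [Fact q.Prime] (hpq : p ≠ q) (hr : 1 ≤ r) (a a₀ : ℕ)
    (ha : a = orderOf (p : ZMod q)) (ha₀ : a₀ = if a % 2 = 1 then a else 3 * a / 2) :
    ∃ (G₀ : Type u) (_ : Group G₀) (_ : Finite G₀),
      (¬ Cfsg.HasNormalPComplement p G₀ ∧ ∀ K : Subgroup G₀, K ≠ ⊤ → Cfsg.HasNormalPComplement p ↥K) ∧ Nat.card G₀ = p ^ a₀ * q ^ r ∧
      ∀ (X : Type u) [Group X] [Finite X], (¬ Cfsg.HasNormalPComplement p X ∧ ∀ K : Subgroup X, K ≠ ⊤ → Cfsg.HasNormalPComplement p ↥K) →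
        (∃ t : ℕ, Nat.card X = p ^ t * q ^ r) → ∃ φ : G₀ →* X, Function.Surjective φ ∧ φ.ker ≤ Subgroup.center G₀ := by
  classical
  have hq : q.Prime := Fact.out
  have hp : p.Prime := Fact.out
  have hpu : (p : ZMod q) ≠ 0 := fun h => hpq ((Nat.prime_dvd_prime_iff_eq hq hp).1
    ((ZMod.natCast_eq_zero_iff _ q).1 h)).symm
  have ha0 : a ≠ 0 := by
    rw [ha]
    exact (isOfFinOrder_iff_pow_eq_one.2 ⟨q - 1, by have := hq.two_le; omega,
      ZMod.pow_card_sub_one_eq_one hpu⟩).orderOf_pos.ne'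
  let K := ULift.{u} (GaloisField p a)
  haveI : Finite K := inferInstance
  letI : Fintype K := Fintype.ofFinite K
  haveI : CharP K p := charP_of_injective_ringHom
    (f := (ULift.ringEquiv (R := GaloisField p a)).symm.toRingHom) ULift.ringEquiv.symm.injective p
  have hK' : Nat.card K = p ^ a := by rw [Nat.card_ulift, GaloisField.card p a ha0]
  have hK : Fintype.card K = p ^ orderOf (p : ZMod q) := by
    rw [← ha, ← Nat.card_eq_fintype_card, hK']
  have hdv : ∀ n : ℕ, (p : ZMod q) ^ n = 1 → q ∣ p ^ n - 1 := fun n hn => by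
    rw [← ZMod.natCast_eq_zero_iff, Nat.cast_sub (Nat.one_le_pow _ _ hp.pos)]
    push_cast
    rw [hn, sub_self]
  obtain ⟨l, hl⟩ := exists_prime_orderOf_dvd_card' (G := Kˣ) q (by
    rw [Nat.card_units, hK']
    exact hdv a (ha ▸ pow_orderOf_eq_one _))
  have hl' : orderOf (l : K) = q := by rw [orderOf_units, hl]
  obtain ⟨G, _, _, hG, hc⟩ : ∃ (G₀ : Type u) (_ : Group G₀) (_ : Finite G₀),
      (¬ HasNormalPComplement p G₀ ∧ ∀ K : Subgroup G₀, K ≠ ⊤ → HasNormalPComplement p K) ∧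
      Nat.card G₀ = p ^ a₀ * q ^ r := by
    by_cases h2 : a % 2 = 1
    · rw [if_pos h2] at ha₀
      let d : Kˣ →* MulAut (Multiplicative K) := (MulAut.congr (MulEquiv.refl _)).toMonoidHom.comp
        { toFun := fun s => AddEquiv.toMultiplicative (DistribMulAction.toAddEquiv K s)
          map_one' := by ext; simp
          map_mul' := fun s t => by ext; simp [mul_smul] }
      exact build hq hpq hK hl' (P := Multiplicative K) hr (ha₀ ▸ hK') (MonoidHom.id _)
        Function.surjective_id (by simp) (by simp) (d l) (by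
          rw [← map_pow, ← hl, pow_orderOf_eq_one, map_one]) (by simp) (fun x => rfl)
    · rw [if_neg h2] at ha₀
      obtain ⟨b, hb⟩ : ∃ b, a = b * 2 := ⟨a / 2, by omega⟩
      have hF : Nat.card K = (p ^ b) ^ 2 := by rw [hK', hb, pow_mul]
      have h3 : (l : K) ^ p ^ b * l = 1 := by
        have h4 : (p : ZMod q) ^ b = -1 := by
          refine (sq_eq_one_iff.1 ?_).resolve_left fun h => ?_
          · rw [← pow_mul, ← hb, ha, pow_orderOf_eq_one]
          · have := Nat.le_of_dvd (by omega) (orderOf_dvd_of_pow_eq_one h)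
            omega
        rw [← pow_succ, ← orderOf_dvd_iff_pow_eq_one, hl', ← ZMod.natCast_eq_zero_iff]
        push_cast
        rw [h4, neg_add_cancel]
      refine build hq hpq hK hl' (P := Herm.Heis (Herm.inv_frob hF)) hr (n := a₀) ?_
        (Herm.Heis.proj _) Herm.Heis.proj_surjective Herm.Heis.ker_proj.le
        (by rw [Herm.Heis.ker_proj, Herm.Heis.commutator_eq_center]) (Herm.Heis.diag _ l) (by
          rw [← map_pow, ← hl, pow_orderOf_eq_one, map_one]) (fun x hx => ?_) (fun x => rfl)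
      · rw [Herm.Heis.card hF, ← pow_mul]
        congr 1
        omega
      · have h4 : x.a = 0 := hx
        exact Herm.Heis.ext (by simp [h4]) (by simp [Herm.frob_apply, h3])
  refine ⟨G, inferInstance, inferInstance, hG, hc, fun X _ _ hX ⟨t, ht⟩ => ?_⟩
  obtain ⟨q1, Q, g, h⟩ := FGS.exists_minNPC hG.1 hG.2
  obtain ⟨q2, Q', g', h'⟩ := FGS.exists_minNPC hX.1 hX.2
  obtain ⟨rfl, o1, c1⟩ := orders h hq hpq hr hc
  obtain ⟨rfl, o2, -⟩ := orders h' hq hpq hr ht
  obtain ⟨g1, φ, m1, m2, m3⟩ := norm_md hK hl' h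
  obtain ⟨g2, φ', n1, n2, n3⟩ := norm_md hK hl' h'
  exact univ m1 n1 m3 n3 hr (m2.trans o1) (n2.trans o2) ha (ha₀ ▸ c1)

end Cfsg.Agent.S4395
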