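import Mathlib
import Cfsg.Statements.S5212
import Cfsg.Agent.Inv.Ess6
import Cfsg.Agent.Inv.Equiv
import Cfsg.Agent.Fusion.Br3

set_option autoImplicit false
open Cfsg

namespace Cfsg.Agent.S5212

open Fusion Inv.Es Subgroup Fusion.FS

theorem trv_two {G : Type*} [Group G] [Finite G] {X Y : Subgroup G} {g : G} (hYX : Y ≤ X) (hi : Y.relIndex X ∣ 2)
    (h1 : g ∈ nz X) (h2 : g ∈ nz Y) : g ∈ trv X Y := by
  rcases (Nat.dvd_prime Nat.prime_two).1 hi with h | h
  · exact mem_trv_of_le (relIndex_eq_one.1 h) h2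
  · exact mem_trv_of_two hYX h h1 h2

/-- Let S be a finite metacyclic 2-group that is not homocyclic abelian (a direct product of cyclic groups of one common order), not dihedral, not semidihedral and not generalized quaternion. Then every saturated fusion system over S is the inner fusion system of S. -/
theorem result {Ω : Type*} [Group Ω] {S : Subgroup Ω} [Finite S] (hS : IsPGroup 2 S) (F : Cfsg.FusionSystem S) (hF : F.IsSaturated 2) (hm : Cfsg.IsMetacyclic ↥S) (hh : ¬ ∃ n k : ℕ, Nonempty (↥S ≃* Multiplicative (Fin k → ZMod (2 ^ n)))) (hd : ¬ ∃ m : ℕ, Nonempty (↥S ≃* DihedralGroup m)) (hq : ¬ ∃ m : ℕ, Nonempty (↥S ≃* QuaternionGroup m)) (hsd : ¬ Cfsg.IsQuasiDihedral ↥S) : ∀ P : Subgroup Ω, F.Hom P = (Cfsg.innerFusionSystem S).Hom P := by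
  obtain ⟨G, _, _, ι, F', r, -⟩ := Fusion.exists_rich_rep F
  have hF' := r.sat hS hF
  obtain ⟨e⟩ := r.equivS
  have hm' := meta_of_equiv e hm
  have hmc : ¬ ((∃ m : ℕ, Nonempty (F'.S ≃* DihedralGroup m)) ∨ (∃ m : ℕ, Nonempty (F'.S ≃* QuaternionGroup m)) ∨
      IsQuasiDihedral F'.S) := fun h => by
    rcases mc_of_equiv e h with h | h | h
    exacts [hd h, hq h, hsd h]
  refine r.isinner_iff.2 (hF'.isinn ?_)
  rintro P (rfl | hE)
  · by_contra hn
    have hnz : F'.aut F'.S ≤ nz F'.S := aut_le_nz _ _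
    have hI : Irr 2 (F'.aut F'.S) F'.S := by
      refine irr_of hF'.pg hnz (relIndex_Ph_le_of_meta hF'.pg hm') fun M hM h1 h2 h3 h4 => hn ?_
      refine pmod_cz_of_Ph hF'.pg (pmod_trv_trans (Y := M) (hF'.pg.to_le h2) ?_ ?_ ?_)
      · exact le_nz_of_comm_le (comm_le_Ph hF'.pg) le_rfl (Ph_le _) |>.trans' h2
      · exact PMod.of_le fun g hg => trv_two h2 h4 (hnz hg) (hM hg)
      · exact PMod.of_le fun g hg => trv_two h1 h3 (hM hg) (nz_le_nz_Ph _ (hnz hg))
    by_cases hc : F'.S ≤ cz F'.S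
    · obtain ⟨k, -, -, -, ⟨f⟩⟩ := hI.abel hc
      refine hh ⟨k + 1, 2, ⟨e.trans (f.trans (AddEquiv.toMultiplicative ?_))⟩⟩
      exact (LinearEquiv.finTwoArrow ℤ (ZMod (2 ^ (k + 1)))).symm.toAddEquiv
    · rcases hI.meta hm' with h | ⟨-, h⟩
      · exact hc h
      · rcases (hI.cube h).2 with ⟨h, -⟩ | ⟨-, h⟩
        · exact h rfl
        · exact hmc (.inr (.inl ⟨2, h⟩))
  · exact (hmc ((rs_S hF' hE).meta (not_S_le hF' hE) hm').2).elim

end Cfsg.Agent.S5212
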