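import Cfsg.Statements.S4418
import Cfsg.Agent.S5212
import Cfsg.Agent.S0949
import Cfsg.Agent.S0205
import Cfsg.Agent.Fusion.Func3
import Cfsg.Agent.Inv.QD
import Cfsg.Agent.Core.PConstrained
import Cfsg.Agent.Transfer.Residual
-- import your own Cfsg.Agent.* helpers here

set_option autoImplicit false
open Cfsg

namespace Cfsg.Agent.S4418

open Fusion Inv.Es Subgroup Fusion.FS

theorem sq_eq_one {S A : Type*} [Group S] [Finite S] [CommGroup A] (hS : IsPGroup 2 S) (hc : ¬ IsCyclic S)
    (φ : S →* A) (h : (∃ m : ℕ, Nonempty (S ≃* DihedralGroup m)) ∨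
      (∃ m : ℕ, Nonempty (S ≃* QuaternionGroup m)) ∨ IsQuasiDihedral S) (x : S) : φ x * φ x = 1 := by
  have mul : ∀ a b : A, a * a = 1 → b * b = 1 → a * b * (a * b) = 1 := fun a b h1 h2 => by
    rw [mul_mul_mul_comm, h1, h2, mul_one]
  rcases h with ⟨m, ⟨e⟩⟩ | ⟨m, ⟨e⟩⟩ | h
  · suffices ∀ (ψ : DihedralGroup m →* A) d, ψ d * ψ d = 1 by
      simpa using this (φ.comp e.symm.toMonoidHom) (e x)
    intro ψ d
    have h1 : ∀ i, ψ (.sr i) * ψ (.sr i) = 1 := fun i => by
      rw [← map_mul, DihedralGroup.sr_mul_self, map_one]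
    rcases d with i | i
    · have : DihedralGroup.r i = .sr 0 * .sr i := by simp
      rw [this, map_mul]
      exact mul _ _ (h1 _) (h1 _)
    · exact h1 i
  · have hm : Even m := by
      by_contra hm
      obtain ⟨n, hn⟩ := IsPGroup.iff_card.1 hS
      have : NeZero m := ⟨by rintro rfl; exact hm Even.zero⟩
      rw [Nat.card_congr e.toEquiv, Nat.card_eq_fintype_card, QuaternionGroup.card] at hn
      obtain rfl : m = 1 := Nat.eq_one_of_dvd_coprimes (Nat.Coprime.pow_left n
        (Nat.coprime_two_left.2 (Nat.not_even_iff_odd.1 hm))) (Dvd.intro_left 4 hn) dvd_rfl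
      have := QuaternionGroup.quaternionGroup_one_isCyclic
      exact hc (isCyclic_of_surjective e.symm e.symm.surjective)
    suffices ∀ (ψ : QuaternionGroup m →* A) d, ψ d * ψ d = 1 by
      simpa using this (φ.comp e.symm.toMonoidHom) (e x)
    intro ψ d
    have h1 : ∀ i, ψ (.a i) * ψ (.a i) = 1 := fun i => by
      have e1 : QuaternionGroup.a i * .xa 0 * .a i = .xa 0 := by simp
      have := congrArg ψ e1
      rw [map_mul, map_mul, mul_right_comm] at this
      exact mul_eq_right.1 this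
    rcases d with i | i
    · exact h1 i
    · obtain ⟨k, hk⟩ := hm
      have : QuaternionGroup.xa i * .xa i = .a (k : ZMod (2 * m)) * .a k := by
        rw [QuaternionGroup.xa_mul_xa, QuaternionGroup.a_mul_a, add_sub_cancel_right, ← Nat.cast_add, ← hk]
      rw [← map_mul, this, map_mul]
      exact h1 _
  · obtain ⟨a, b, m, h⟩ := Inv.exists_qd_top h
    have hb : φ b * φ b = 1 := by rw [← map_mul, h.yy, map_one]
    have ha : φ a * φ a = 1 := by
      have e1 : φ (b * a * b⁻¹) = φ a := by simp [mul_comm (φ b)]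
      rcases h.act with e | ⟨-, e⟩
      · rw [e, map_inv] at e1
        exact mul_eq_one_iff_eq_inv.2 e1.symm
      · rw [e, map_mul, map_inv, map_pow, inv_mul_eq_iff_eq_mul] at e1
        have e2 : φ a ^ 2 ^ (m + 2 + 1) = 1 := by rw [← map_pow, ← h.ord, pow_orderOf_eq_one, map_one]
        rw [pow_succ, pow_mul, e1] at e2
        rw [← e1, pow_add, mul_comm, pow_mul, show 2 ^ 2 = 2 * 2 from rfl, pow_mul, sq (φ a), e2, one_pow]
    have hz : ∀ y ∈ zpowers a, φ y * φ y = 1 := by
      rintro _ ⟨i, rfl⟩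
      simp only [map_zpow]
      rw [← mul_zpow, ha, one_zpow]
    rcases (h.mem x).1 trivial with e | e
    · exact hz x e
    · have := mul _ _ (hz _ e) hb
      simpa using this

theorem npc_or {G : Type*} [Group G] [Finite G] (S : Sylow 2 G) (hm' : IsMetacyclic (S : Subgroup G))
    (hmc : ¬ ((∃ m : ℕ, Nonempty ((S : Subgroup G) ≃* DihedralGroup m)) ∨
      (∃ m : ℕ, Nonempty ((S : Subgroup G) ≃* QuaternionGroup m)) ∨ IsQuasiDihedral (S : Subgroup G))) :
    HasNormalPComplement 2 G ∨ ∃ k : ℕ, Nonempty ((S : Subgroup G) ≃*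
      Multiplicative (ZMod (2 ^ (k + 1)) × ZMod (2 ^ (k + 1)))) := by
  refine or_iff_not_imp_right.2 fun hh => ?_
  have hF' := ofGroup_sat (syl_top S)
  refine Transfer.hasNormalPComplement_top_iff.1 ((pa_ofGroup_iff (syl_top S)).1
    (hF'.pa_iff.2 (hF'.isinn ?_)))
  generalize hF : ofGroup (S : Subgroup G) ⊤ = F' at hF'
  have hS : (S : Subgroup G) = F'.S := by rw [← hF]; rfl
  rw [hS] at hm' hmc hh
  rintro P (rfl | hE)
  · by_contra hn
    have hnz : F'.aut F'.S ≤ nz F'.S := aut_le_nz _ _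
    have hI : Irr 2 (F'.aut F'.S) F'.S := by
      refine irr_of hF'.pg hnz (relIndex_Ph_le_of_meta hF'.pg hm') fun M hM h1 h2 h3 h4 => hn ?_
      refine pmod_cz_of_Ph hF'.pg (pmod_trv_trans (Y := M) (hF'.pg.to_le h2) ?_ ?_ ?_)
      · exact le_nz_of_comm_le (comm_le_Ph hF'.pg) le_rfl (Ph_le _) |>.trans' h2
      · exact PMod.of_le fun g hg => S5212.trv_two h2 h4 (hnz hg) (hM hg)
      · exact PMod.of_le fun g hg => S5212.trv_two h1 h3 (hM hg) (nz_le_nz_Ph _ (hnz hg))
    by_cases hc : F'.S ≤ cz F'.S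
    · obtain ⟨k, -, -, -, f⟩ := hI.abel hc
      exact hh ⟨k, f⟩
    · rcases hI.meta hm' with h | ⟨-, h⟩
      · exact hc h
      · rcases (hI.cube h).2 with ⟨h, -⟩ | ⟨-, h⟩
        · exact h rfl
        · exact hmc (.inr (.inl ⟨2, h⟩))
  · exact (hmc ((rs_S hF' hE).meta (not_S_le hF' hE) hm').2).elim

/-- Let G be a finite group whose Sylow 2-subgroup S is metacyclic via a cyclic normal subgroup N of S with S/N cyclic of order greater than 2. Then G is soluble. -/
theorem result {G : Type*} [Group G] [Finite G] (S : Sylow 2 G) (N : Subgroup ↥(S : Subgroup G)) [hN : N.Normal] (hNc : IsCyclic N) (hQc : IsCyclic (↥(S : Subgroup G) ⧸ N)) (hQ : 2 < Nat.card (↥(S : Subgroup G) ⧸ N)) : Group.IsSolvable G := by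

  have sol : ∀ {H : Type _} [Group H] [Finite H] (K : Subgroup H) [K.Normal], Group.IsSolvable K →
      Group.IsSolvable (H ⧸ K) → Group.IsSolvable H := fun K _ _ _ =>
    solvable_of_ker_le_range K.subtype (QuotientGroup.mk' K) (by simp)
  have npc : HasNormalPComplement 2 G → Group.IsSolvable G := fun h => by
    obtain ⟨K, _, h2, h3⟩ := Transfer.hasNormalPComplement_iff_exists_normal.1 h
    have := h3.isNilpotent
    exact sol K (S0205.result (G := K) (Nat.odd_iff.2 (by omega))) IsNilpotent.to_isSolvable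
  obtain ⟨g, hg⟩ := hQc.exists_generator
  have hg2 : g * g ≠ 1 := fun e => by
    have := Nat.le_of_dvd two_pos (orderOf_dvd_of_pow_eq_one ((sq g).trans e))
    rw [orderOf_eq_card_of_forall_mem_zpowers hg] at this
    omega
  obtain ⟨x, rfl⟩ := QuotientGroup.mk'_surjective N g
  by_cases hc : IsCyclic S
  · refine npc (Transfer.hasNormalPComplement_of_normalizer_le_centralizer S
      (hc.normalizer_le_centralizer ((Nat.minFac_eq_two_iff _).2 ?_)))
    refine (S.2.card_eq_or_dvd.resolve_left fun e => hg2 ?_).trans (Subgroup.card_subgroup_dvd_card _)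
    have := (Nat.card_eq_one_iff_unique.1 e).1
    rw [← map_mul, Subsingleton.elim (x * x) 1, map_one]
  letI := hQc.commGroup
  rcases npc_or S ⟨N, hN, hNc, hQc⟩ (fun h => hg2 (sq_eq_one S.2 hc (QuotientGroup.mk' N) h x)) with
    h | ⟨k, ⟨e⟩⟩
  · exact npc h
  have hk : 2 ≤ k + 1 := by
    by_contra hk
    obtain rfl : k = 0 := by omega
    have : ∀ y : Multiplicative (ZMod (2 ^ (0 + 1)) × ZMod (2 ^ (0 + 1))), y * y = 1 := by decide
    exact hg2 (by rw [← map_mul, e.injective ((map_mul e x x).trans ((this _).trans (map_one e).symm)),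
      map_one])
  have hs := QuotientGroup.mk'_surjective (pPrimeCore 2 G)
  have hb : Function.Bijective ((QuotientGroup.mk' (pPrimeCore 2 G)).subgroupMap (S : Subgroup G)) := by
    refine ⟨(injective_iff_map_eq_one _).2 fun y hy => Subtype.ext ?_,
      MonoidHom.subgroupMap_surjective _ _⟩
    exact Subgroup.disjoint_def.1 (Core.disjoint_pPrimeCore_of_isPGroup S.2) y.2
      ((QuotientGroup.eq_one_iff _).1 (congrArg Subtype.val hy))
  obtain ⟨h1, -, h2⟩ := S0949.result (S.mapSurjective hs) (k + 1) hk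
    ((MulEquiv.ofBijective _ hb).symm.trans e) fun K hK ho =>
      Core.pPrimeCore_eq_bot_iff.1 (Core.pPrimeCore_quotient_pPrimeCore 2) K hK
        (Nat.coprime_two_right.2 ho)
  have := (S.mapSurjective hs).2.isNilpotent
  refine sol (pPrimeCore 2 G) (S0205.result (Nat.coprime_two_right.1 (Core.pPrimeCore_coprime 2)))
    (sol (S.mapSurjective hs : Subgroup _) IsNilpotent.to_isSolvable (S0205.result ?_))
  rw [← Subgroup.index_eq_card]
  rcases h2 with h | h <;> rw [h] <;> decide

end Cfsg.Agent.S4418
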