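import Mathlib
import Cfsg.Statements.S4419
import Cfsg.Agent.FGS.Meta
import Cfsg.Agent.Core.PConstrained

set_option autoImplicit false
open Cfsg

namespace Cfsg.Agent.S4419

open Subgroup Cfsg.Agent.FGS

/-- Let p be a prime and G a finite group whose Sylow p-subgroups are metacyclic (a cyclic normal subgroup with cyclic quotient). Then G has a normal p-complement if and only if the order of G/O_{p′,p}(G) is coprime to p² − 1. -/
theorem result {G : Type*} [Group G] [Finite G] (p : ℕ) [Fact p.Prime] (S : Sylow p G) (hS : Cfsg.IsMetacyclic ↥(S : Subgroup G)) : Cfsg.HasNormalPComplement p G ↔ Nat.Coprime (Nat.card (G ⧸ Cfsg.pPrimePCore p G)) (p ^ 2 - 1) := by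
  have hp : p.Prime := Fact.out
  constructor
  · intro h
    have : pPrimePCore p G = ⊤ := by
      rw [eq_top_iff, ← Transfer.pResidual_sup_sylow S]
      have h1 := (Transfer.hasNormalPComplement_iff_not_dvd.mp h)
      have h2 : (Nat.card (pResidual p G)).Coprime p := ((Nat.Prime.coprime_iff_not_dvd hp).mpr h1).symm
      haveI := Transfer.pResidual_normal (p := p) (G := G)
      refine sup_le ((Core.le_pPrimeCore inferInstance h2).trans (Core.pPrimeCore_le_pPrimePCore p)) ?_
      refine Core.le_pPrimePCore_of_normal_sup' h2 S.isPGroup' ?_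
      rw [Transfer.pResidual_sup_sylow S]; infer_instance
    rw [← index_eq_card, this, index_top]
    exact Nat.coprime_one_left _
  · intro h
    refine Transfer.hasNormalPComplement_of_quotient (pPrimeCore p G) (Core.not_dvd_card_pPrimeCore hp) ?_
    have hs := QuotientGroup.mk'_surjective (pPrimeCore p G)
    refine hasNormalPComplement_of_isMetacyclic (S.mapSurjective hs) (PGrp.isMetacyclic_map hS _) ?_
    intro q hq hqp hqG hd
    obtain ⟨n, hn⟩ := Core.relIndex_pPrimePCore (G := G) p
    rw [← index_eq_card, ← relIndex_mul_index (Core.pPrimeCore_le_pPrimePCore p), hn] at hqG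
    rcases (Nat.Prime.dvd_mul hq).mp hqG with h1 | h1
    · exact hqp ((Nat.prime_dvd_prime_iff_eq hq hp).mp (hq.dvd_of_dvd_pow h1))
    · rw [← index_eq_card] at h
      exact hq.one_lt.ne' (Nat.eq_one_of_dvd_coprimes h h1 hd)

end Cfsg.Agent.S4419
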