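import Mathlib
import Cfsg.Statements.S4497
import Cfsg.Agent.Block.SCGrp
-- import your own Cfsg.Agent.* helpers here

set_option autoImplicit false
open Cfsg

namespace Cfsg.Agent.S4497

open Cfsg.Agent.Block Cfsg.Agent.Core Subgroup in

/-- Let the finite group G contain an element x of prime order p with C_G(x) = ⟨x⟩, let t be the number of conjugacy classes of elements of order p, and let S* = O_{p′}(G) be the largest normal subgroup of order prime to p. Then S* ≤ G′; if t ≠ p − 1 the quotient G′/S* is simple (in particular non-trivial); if t = p − 1 then G′ = S*. -/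
theorem result {G : Type*} [Group G] [Finite G] (p : ℕ) (hp : p.Prime) (x : G) (hx : orderOf x = p) (hC : Subgroup.centralizer ({x} : Set G) = Subgroup.zpowers x) (t : ℕ) (ht : Nat.card {C : ConjClasses G // ∃ g ∈ C.carrier, orderOf g = p} = t) : Cfsg.pPrimeCore p G ≤ commutator G ∧ (t ≠ p - 1 → ∀ h : ((Cfsg.pPrimeCore p G).subgroupOf (commutator G)).Normal, IsSimpleGroup (↥(commutator G) ⧸ (Cfsg.pPrimeCore p G).subgroupOf (commutator G))) ∧ (t = p - 1 → commutator G = Cfsg.pPrimeCore p G) := by
  have h : SX p x := ⟨hp, hx, hC⟩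
  have := Fintype.ofFinite G
  have := Fact.mk hp
  have h0 := h.le_commutator (not_dvd_card_pPrimeCore (G := G) hp)
  have hle : ∀ S : Subgroup G, S.Normal → ¬ p ∣ Nat.card S → S ≤ pPrimeCore p G := fun S hS e =>
    le_pPrimeCore hS ((Nat.Prime.coprime_iff_not_dvd hp).2 e).symm
  refine ⟨h0, fun hne _ => ?_, fun e => le_antisymm (hle _ inferInstance ((h.eq_iff ht).1 e)) h0⟩
  have hd := not_not.1 (mt (h.eq_iff ht).2 hne)
  have hi : p ∣ ((pPrimeCore p G).subgroupOf (commutator G)).index :=
    (hp.dvd_mul.1 (index_mul_card ((pPrimeCore p G).subgroupOf (commutator G)) ▸ hd)).resolve_right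
      (by rw [card_subgroupOf_of_le h0]; exact not_dvd_card_pPrimeCore hp)
  by_cases h2 : derivedSeries G 2 = commutator G
  · have : Nontrivial (↥(commutator G) ⧸ (pPrimeCore p G).subgroupOf (commutator G)) :=
      Finite.one_lt_card_iff_nontrivial.1 (hp.one_lt.trans_le (Nat.le_of_dvd Nat.card_pos hi))
    refine ⟨fun T hT => ?_⟩
    by_cases hT' : p ∣ Nat.card (T.comap (QuotientGroup.mk' _))
    · right
      have h3 := (h.sub (h.ordP.le_of_dvd hd (mem_zpowers x))).commutator_le hT'
      have h4 : commutator (commutator G) = ⊤ :=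
        map_injective (commutator G).subtype_injective (by
          rw [map_subtype_commutator, ← MonoidHom.range_eq_map, range_subtype]
          rwa [derivedSeries_succ _ 1, derivedSeries_one] at h2)
      rw [h4, top_le_iff] at h3
      rw [← map_comap_eq_self_of_surjective (QuotientGroup.mk'_surjective _) T, h3,
        map_top_of_surjective _ (QuotientGroup.mk'_surjective _)]
    · left
      rw [← map_comap_eq_self_of_surjective (QuotientGroup.mk'_surjective _) T,
        Subgroup.map_eq_bot_iff, QuotientGroup.ker_mk']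
      exact (le_pPrimeCore inferInstance ((Nat.Prime.coprime_iff_not_dvd hp).2 hT').symm).trans
        (pPrimeCore_eq_subgroupOf p _).le
  · obtain ⟨h3, h4⟩ := h.derived hd h2
    refine isSimpleGroup_of_prime_card (p := p) (Nat.dvd_antisymm ?_ hi)
    refine Nat.dvd_of_mul_dvd_mul_right (Nat.card_pos (α := derivedSeries G 2)) ?_
    rw [← h4, ← index_mul_card ((pPrimeCore p G).subgroupOf (commutator G)),
      card_subgroupOf_of_le h0]
    exact Nat.mul_dvd_mul_left _ (card_dvd_of_le (hle _ inferInstance h3))

end Cfsg.Agent.S4497
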