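import Mathlib
import Cfsg.Statements.S4501
import Cfsg.Agent.Inv.SC3
import Cfsg.Agent.GsC.Known
import Cfsg.Agent.S4500
import Cfsg.Agent.S0494
import Cfsg.Agent.S0495
import Cfsg.Agent.S0205

set_option autoImplicit false
open Cfsg

namespace Cfsg.Agent.S4501

open Cfsg.Agent.Char Cfsg.Agent.Block

theorem odd_prime {n : ℕ} (h3 : 3 ≤ n) (h4 : ¬ 4 ∣ n) : ∃ r : ℕ, r.Prime ∧ r ≠ 2 ∧ r ∣ n := by
  by_cases h2 : 2 ∣ n
  · obtain ⟨m, rfl⟩ := h2
    obtain ⟨r, hr, hd⟩ := Nat.exists_prime_and_dvd (show m ≠ 1 by omega)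
    exact ⟨r, hr, by rintro rfl; omega, hd.mul_left 2⟩
  · obtain ⟨r, hr, hd⟩ := Nat.exists_prime_and_dvd (show n ≠ 1 by omega)
    exact ⟨r, hr, by rintro rfl; omega, hd⟩

theorem two_primes {G : Type*} [Group G] [Finite G] [IsSimpleGroup G] (hn : ¬ IsMulCommutative G)
    {p q a b : ℕ} (hp : p.Prime) (hq : q.Prime) (h : Nat.card G = p ^ a * q ^ b) : False := by
  refine CIT.F.not_solv_of_simple hn (burnside_of_primes hp hq fun r hr hd => ?_)
  rw [h] at hd
  exact (hr.dvd_mul.1 hd).imp (fun e => (Nat.prime_dvd_prime_iff_eq hr hp).1 (hr.dvd_of_dvd_pow e))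
    (fun e => (Nat.prime_dvd_prime_iff_eq hr hq).1 (hr.dvd_of_dvd_pow e))

theorem part_four {G : Type*} [Group G] [Finite G] [IsSimpleGroup G] (hn : ¬ IsMulCommutative G)
    {p q a b : ℕ} (hp : p.Prime) (hq : q.Prime) (h : Nat.card G = 4 * p ^ a * q ^ b) :
    Nat.card G = 60 := by
  haveI : Fact (Nat.Prime 2) := ⟨Nat.prime_two⟩
  have p2 : p ≠ 2 := by
    rintro rfl
    exact two_primes hn hp hq (a := a + 2) (b := b) (by rw [h]; ring)
  have q2 : q ≠ 2 := by
    rintro rfl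
    exact two_primes hn hp hq (a := a) (b := b + 2) (by rw [h]; ring)
  have pq : ∀ r : ℕ, r.Prime → r ∣ p ^ a * q ^ b → r = p ∨ r = q := fun r hr hd =>
    (hr.dvd_mul.1 hd).imp (fun e => (Nat.prime_dvd_prime_iff_eq hr hp).1 (hr.dvd_of_dvd_pow e))
      (fun e => (Nat.prime_dvd_prime_iff_eq hr hq).1 (hr.dvd_of_dvd_pow e))
  have odd : ¬ 2 ∣ p ^ a * q ^ b := fun e => by
    rcases pq 2 Nat.prime_two e with e | e
    exacts [p2 e.symm, q2 e.symm]
  have h4 : Gs.Four G := by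
    obtain ⟨S⟩ : Nonempty (Sylow 2 G) := inferInstance
    refine ⟨S, ?_⟩
    rw [S.card_eq_multiplicity, h, mul_assoc, Nat.factorization_mul (by norm_num)
      (mul_pos (pow_pos hp.pos a) (pow_pos hq.pos b)).ne', Finsupp.add_apply,
      Nat.factorization_eq_zero_of_not_dvd odd, show 4 = 2 ^ 2 from rfl,
      Nat.Prime.factorization_pow Nat.prime_two]
    simp
  obtain ⟨F, _, _, h8, h5, ⟨e⟩⟩ := GsC.four_known hn h4
  obtain ⟨c, hc⟩ : ∃ c, Fintype.card F = 2 * c + 1 := ⟨Fintype.card F / 2, by omega⟩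
  have hG := (Nat.card_congr e.toEquiv).trans (CIT.F.card_psl2_odd hc)
  by_cases c2 : c = 2
  · rw [hG, c2]
  exfalso
  have e2 : (2 * c + 1) * (c * (c + 1)) = 2 * (p ^ a * q ^ b) := by
    have : 2 * ((2 * c + 1) * (c * (c + 1))) = 2 * (2 * (p ^ a * q ^ b)) := by
      rw [h] at hG; linarith
    omega
  have n4 : ∀ m, m ∣ (2 * c + 1) * (c * (c + 1)) → ¬ 4 ∣ m := fun m hm h4 => by
    have := h4.trans hm
    rw [e2] at this
    omega
  have pr : ∀ m, 3 ≤ m → m ∣ (2 * c + 1) * (c * (c + 1)) → p ∣ m ∨ q ∣ m := fun m m3 hm => by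
    obtain ⟨r, hr, r2, hd⟩ := odd_prime m3 (n4 m hm)
    have := hd.trans hm
    rw [e2] at this
    have := (hr.dvd_mul.1 this).resolve_left
      fun e => r2 ((Nat.prime_dvd_prime_iff_eq hr Nat.prime_two).1 e)
    rcases pq r hr this with rfl | rfl
    exacts [Or.inl hd, Or.inr hd]
  have d1 := pr c (by omega) ((dvd_mul_right c _).mul_left _)
  have d2 := pr (c + 1) (by omega) ((dvd_mul_left (c + 1) _).mul_left _)
  have d3 := pr (2 * c + 1) (by omega) (dvd_mul_right _ _)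
  have k1 : ∀ r : ℕ, r.Prime → r ∣ c → ¬ r ∣ c + 1 := fun r hr h1 h2 =>
    hr.one_lt.ne' (Nat.dvd_one.1 ((Nat.dvd_add_right h1).1 h2))
  have k2 : ∀ r : ℕ, r.Prime → r ∣ c → ¬ r ∣ 2 * c + 1 := fun r hr h1 h2 =>
    hr.one_lt.ne' (Nat.dvd_one.1 ((Nat.dvd_add_right (h1.mul_left 2)).1 h2))
  have k3 : ∀ r : ℕ, r.Prime → r ∣ c + 1 → ¬ r ∣ 2 * c + 1 := fun r hr h1 h2 =>
    k1 r hr ((Nat.dvd_add_right h1).1 (by rwa [show c + 1 + c = 2 * c + 1 by ring])) h1
  have := k1 p hp
  have := k1 q hq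
  have := k2 p hp
  have := k2 q hq
  have := k3 p hp
  have := k3 q hq
  tauto

/-- Let G be a non-abelian finite simple group and p, q distinct primes. If the order of G is 4·p^a·q^b with a ≤ 2, then G is isomorphic to the alternating group of degree 5. If the order of G is 3·p^a·q^b with a ≤ 2, then G is isomorphic to the alternating group of degree 5 or to PSL(2,7). -/
theorem result {G : Type*} [Group G] [Finite G] [IsSimpleGroup G] (hna : ∃ x y : G, x * y ≠ y * x) (p q a b : ℕ) (hp : p.Prime) (hq : q.Prime) (hpq : p ≠ q) (ha : a ≤ 2) : (Nat.card G = 4 * p ^ a * q ^ b → Nonempty (G ≃* alternatingGroup (Fin 5))) ∧ (Nat.card G = 3 * p ^ a * q ^ b → Nonempty (G ≃* alternatingGroup (Fin 5)) ∨ Nonempty (G ≃* Matrix.ProjectiveSpecialLinearGroup (Fin 2) (ZMod 7))) := by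
  have hn : ¬ IsMulCommutative G := fun h => by
    obtain ⟨x, y, hxy⟩ := hna
    exact hxy (h.1.1 x y)
  refine ⟨fun h => S0494.result (part_four hn hp hq h), fun h => ?_⟩
  have p3 : p ≠ 3 := by
    rintro rfl
    exact two_primes hn hp hq (a := a + 1) (b := b) (by rw [h]; ring)
  have q3 : q ≠ 3 := by
    rintro rfl
    exact two_primes hn hp hq (a := a) (b := b + 1) (by rw [h]; ring)
  haveI : Fact (Nat.Prime 2) := ⟨Nat.prime_two⟩
  have h4 : 4 ∣ Nat.card G := by
    obtain ⟨S⟩ : Nonempty (Sylow 2 G) := inferInstance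
    obtain ⟨k, hk⟩ := IsPGroup.iff_card.1 S.2
    have hS := CIT.F.not_cyclic_sylow hn S
    have hd := (S : Subgroup G).card_subgroup_dvd_card
    match k with
    | 0 =>
      haveI : Subsingleton (S : Subgroup G) := (Nat.card_eq_one_iff_unique.1 hk).1
      exact hS inferInstance |>.elim
    | 1 => exact absurd (isCyclic_of_prime_card (p := 2) hk) hS
    | k + 2 => exact (Dvd.intro_left (2 ^ k) (by rw [hk]; ring)).trans hd
  have odd : ∀ r k : ℕ, r.Prime → r ≠ 2 → Nat.Coprime 4 (r ^ k) := fun r k hr r2 =>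
    Nat.Coprime.pow 2 k ((Nat.coprime_primes Nat.prime_two hr).2 r2.symm)
  by_cases p2 : p = 2
  · subst p2
    have : 4 ∣ 2 ^ a := by
      rw [h] at h4
      exact (by norm_num : Nat.Coprime 4 3).dvd_of_dvd_mul_left
        ((odd q b hq hpq.symm).dvd_of_dvd_mul_right h4)
    have a2 : a = 2 := by interval_cases a <;> omega
    subst a2
    exact Or.inl (S0494.result (part_four hn Nat.prime_three hq (a := 1) (b := b) (by rw [h]; ring)))
  have h4' : 4 ∣ q ^ b := by
    rw [h, mul_assoc] at h4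
    exact (odd p a hp p2).dvd_of_dvd_mul_left
      ((by norm_num : Nat.Coprime 4 3).dvd_of_dvd_mul_left h4)
  have q2 : q = 2 := by
    by_contra q2
    have := Nat.dvd_gcd (dvd_refl 4) h4'
    rw [odd q b hq q2] at this
    omega
  subst q2
  have b0 : b ≠ 0 := by rintro rfl; omega
  obtain ⟨χ, h1, k, hk⟩ := (S4500.result (G := G) p 2 3 a b 1 hp hq Nat.prime_three hpq p3 q3 ha
    (by rw [h]; ring)).2
  have h1' : χ ≠ oneIrr G := fun e => h1 (by rw [e]; rfl)
  obtain ⟨d, -, hd⟩ := isIrr_degree χ.2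
  have dk : d = 3 ^ k := by
    rw [← hk, charDegree, hd]; simp
  have dd := isIrr_degree_dvd_card χ.2 hd
  have h3 : χ.1 1 = 3 := by
    subst dk
    match k with
    | 0 => exact absurd (by simpa using hd) (SC3.deg_ne_one hn h1')
    | 1 => simpa using hd
    | k + 2 =>
      exfalso
      have h9 : 3 * 3 ∣ 3 * (p ^ a * 2 ^ b) := by
        rw [← mul_assoc, ← h]
        exact (Dvd.intro_left (3 ^ k) (by ring)).trans dd
      rcases (Nat.Prime.dvd_mul Nat.prime_three).1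
        (Nat.dvd_of_mul_dvd_mul_left (by norm_num) h9) with e | e
      · exact p3 ((Nat.prime_dvd_prime_iff_eq Nat.prime_three hp).1
          (Nat.prime_three.dvd_of_dvd_pow e)).symm
      · exact absurd (Nat.prime_three.dvd_of_dvd_pow e) (by norm_num)
  rcases SC3.card_of_deg_three hn hp p2 p3 ha b0 h h1' h3 with e | e
  · exact Or.inl (S0494.result e)
  · haveI : Fact (Nat.Prime 7) := ⟨by norm_num⟩
    exact Or.inr (S0495.result e (F := ZMod 7) (by simp))

end Cfsg.Agent.S4501
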