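import Mathlib
import Cfsg.Statements.S4508
import Cfsg.Agent.Block.SCGrp
-- import your own Cfsg.Agent.* helpers here

set_option autoImplicit false
open Cfsg

namespace Cfsg.Agent.S4508

open Cfsg.Agent.Block Cfsg.Agent.Char Cfsg.Agent.Char.Det Subgroup in
theorem det_reg {A : Type*} [Group A] [Finite A] {y : A} (hy : ∀ z, z ∈ zpowers y)
    (he : Even (Nat.card A)) {χ : A → ℂ} {t : ℕ} (h1 : χ 1 = t * Nat.card A)
    (h0 : ∀ z, z ≠ 1 → χ z = 0) : detChar χ y = (-1) ^ t := by
  have hpos : Nat.card A ≠ 0 := Nat.card_pos.ne'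
  have hω := Complex.isPrimitiveRoot_exp _ hpos
  generalize Complex.exp _ = ω at hω
  obtain ⟨u, rfl⟩ := hω.isUnit hpos
  have ho := orderOf_eq_card_of_forall_mem_zpowers hy
  have hu : orderOf u = Nat.card A := (IsPrimitiveRoot.coe_units_iff.1 hω).eq_orderOf.symm
  obtain ⟨μ, hμ⟩ : ∃ μ : A →* ℂˣ, μ y = u :=
    ⟨_, monoidHomOfForallMemZpowers_apply_gen hy (hu.trans ho.symm).dvd⟩
  have e : χ = (t : ℂ) • ∑ j ∈ Finset.range (Nat.card A), fun z => ((μ ^ j) z : ℂ) := by
    funext z
    rw [Pi.smul_apply, Finset.sum_apply, smul_eq_mul]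
    by_cases hz : z = 1
    · simp [hz, h1]
    · obtain ⟨k, rfl⟩ := hy z
      have h2 : ((μ (y ^ k) : ℂˣ) : ℂ) ≠ 1 := fun e => hz (by
        rw [Units.val_eq_one, map_zpow, hμ, ← orderOf_dvd_iff_zpow_eq_one, hu, ← ho] at e
        exact orderOf_dvd_iff_zpow_eq_one.1 e)
      simp only [MonoidHom.pow_apply, Units.val_pow_eq_pow_val]
      rw [h0 _ hz, geom_sum_eq h2, ← Units.val_pow_eq_pow_val, ← map_pow, pow_card_eq_one']
      simp
  rw [e, detChar_nsmul (isChar_sum _ fun j _ => isChar_linear _),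
    detChar_sum _ fun j _ => isChar_linear _, Pi.pow_apply, Finset.prod_apply]
  simp only [detChar_linear]
  simp only [MonoidHom.pow_apply, Units.val_pow_eq_pow_val, hμ]
  rw [Finset.prod_pow_eq_pow_sum]
  obtain ⟨m, hm⟩ := he
  have h3 : ∑ j ∈ Finset.range (Nat.card A), j = m * (Nat.card A - 1) := by
    have := Finset.sum_range_id_mul_two (Nat.card A)
    rw [hm] at this ⊢
    refine Nat.eq_of_mul_eq_mul_right two_pos (this.trans ?_)
    ring
  rw [h3, pow_mul, (hω.pow (Nat.pos_of_ne_zero hpos) (b := 2) (by omega)).eq_neg_one_of_two_right,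
    Odd.neg_one_pow (n := Nat.card A - 1) (by rw [Nat.odd_iff]; omega)]

open Cfsg.Agent.Block Cfsg.Agent.Char Cfsg.Agent.Char.Det Subgroup in

/-- Let the finite group G contain an element x of prime order p with C_G(x) = ⟨x⟩, and let t be the number of conjugacy classes of elements of order p. If G has an irreducible character of degree p − 1, then t is even or the commutator subgroup has even index. -/
theorem result {G : Type*} [Group G] [Finite G] (p : ℕ) (hp : p.Prime) (x : G) (hx : orderOf x = p) (hC : Subgroup.centralizer ({x} : Set G) = Subgroup.zpowers x) (t : ℕ) (ht : Nat.card {C : ConjClasses G // ∃ g ∈ C.carrier, orderOf g = p} = t) (χ : Cfsg.IrrCharacter G) (hχ : Cfsg.charDegree (χ : G → ℂ) + 1 = p) : Even t ∨ Even (commutator G).index := by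
  have h : SX p x := ⟨hp, hx, hC⟩
  have := Fintype.ofFinite G
  have hte := h.te ht
  by_contra hc
  rw [not_or, Nat.not_even_iff_odd, Nat.not_even_iff_odd] at hc
  have hp2 : p ≠ 2 := by
    rintro rfl
    have h1 : t = 2 - 1 := Nat.eq_one_of_mul_eq_one_right (Nat.succ_injective hte)
    rw [h.index_of_not_dvd ((h.eq_iff ht).1 h1)] at hc
    exact absurd hc.2 (by decide)
  have he : Even ((zpowers x).relIndex (normalizer (zpowers x : Set G))) := by
    have := hp.odd_of_ne_two hp2
    rw [← hte, Nat.odd_add_one, Nat.not_odd_iff_even, Nat.even_mul] at this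
    exact this.resolve_left (Nat.not_even_iff_odd.2 hc.1)
  have h3 := hp.two_le
  have h0 : fx (zpowers x) χ.1 = 0 := by
    obtain ⟨e, t', δ, X, Y, a, hw⟩ := h.ordP.exists_pW
    have hd : (charDegree χ.1 : ℤ) + 1 = p := by exact_mod_cast hχ
    have hee := hw.he
    rw [h.cent'] at hee
    rw [hee] at he
    have key : ∀ c : ℤ, (charDegree χ.1 : ℤ) = c + p * fx (zpowers x) χ.1 → 0 ≤ c →
        fx (zpowers x) χ.1 = 0 := fun c e hc => by
      by_contra h0
      have : (p : ℤ) * 1 ≤ p * fx (zpowers x) χ.1 := by gcongr; omega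
      omega
    by_cases hX : χ ∈ X
    · have h4 := (hw.degX hX).1
      rcases hw.a_sign χ hX with e1 | e1 <;> rw [e1] at h4
      · have : (p : ℤ) ∣ 2 := ⟨2 - fx (zpowers x) χ.1, by linarith⟩
        exact absurd ((Nat.prime_dvd_prime_iff_eq hp Nat.prime_two).1 (by exact_mod_cast this)) hp2
      · exact key (p - 1) (by linarith) (by omega)
    by_cases hY : χ ∈ Y
    · obtain ⟨h4, h5⟩ := hw.degY hY
      rcases hw.sign with e1 | e1 <;> rw [e1] at h4 h5
      · exact key _ h4 (by omega)
      · have h6 := hw.te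
        have h7 := Nat.le_mul_of_pos_left e hw.t_pos
        have : (p : ℤ) ∣ e - 1 := ⟨fx (zpowers x) χ.1 - 1, by linarith⟩
        have h8 := hw.e_pos
        obtain ⟨m, hm⟩ := he
        have := Int.le_of_dvd (by omega) this
        omega
    · have h4 := (h.ordP.of_const (irr_isChar χ) (c := 0) fun u hu => by
        simpa using hw.out h.sc.le χ hX hY u (h.ordP.dvd_orderOf hu)).1
      have : (p : ℤ) ∣ 1 := ⟨1 - fx (zpowers x) χ.1, by linarith⟩
      have := Int.le_of_dvd one_pos this
      omega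
  obtain ⟨y, hyN, hy⟩ := h.sc.exists_gen
  have hyP : y ∉ zpowers x := fun e => by
    rw [relIndex_eq_one.2 fun z hz => by
      obtain ⟨j, u, hu, rfl⟩ := hy z hz
      exact mul_mem hu (zpow_mem e j)] at he
    exact absurd he (by decide)
  have hdisj : Disjoint (zpowers x) (zpowers y) := disjoint_iff.2 (eq_bot_iff.2 fun z hz =>
    eq_one_of_isPGroup_of_not_dvd hp h.ordP.ab.pg hz.1 fun e =>
      h.sc.regular hyN hyP (e.trans (orderOf_dvd_of_mem_zpowers hz.2)))
  have hcard : Nat.card (zpowers y) = (zpowers x).relIndex (normalizer (zpowers x : Set G)) := by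
    refine Nat.eq_of_mul_eq_mul_left (Nat.card_pos (α := zpowers x)) ?_
    rw [← Core.card_sup_of_disjoint (zpowers_le.2 hyN) hdisj, Core.card_mul_relIndex le_normalizer]
    congr 3
    refine le_antisymm (sup_le le_normalizer (zpowers_le.2 hyN)) fun z hz => ?_
    obtain ⟨j, u, hu, rfl⟩ := hy z hz
    exact mul_mem_sup hu (zpow_mem (mem_zpowers y) j)
  have h4 := det_reg (A := zpowers y) (y := ⟨y, mem_zpowers y⟩) (χ := fun z => χ.1 z) (t := t)
    (fun ⟨_, k, rfl⟩ => ⟨k, rfl⟩) (hcard ▸ he) (by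
      rw [OneMemClass.coe_one, ← irr_degree_cast, hcard]
      exact_mod_cast Nat.succ_injective (hχ.trans hte.symm))
    fun z hz => h.sc.apply_eq_zero (irr_isChar χ) h0 (zpowers_le.2 hyN z.2)
      fun e => hz (Subtype.ext (disjoint_def.1 hdisj e z.2))
  rw [detChar_res _ (irr_isChar χ), hc.1.neg_one_pow] at h4
  obtain ⟨lam, hl⟩ := exists_detHom (irr_isChar χ)
  have h5 := congrArg (fun l : G →* ℂˣ => (l y : ℂ)) (orderOf_dvd_iff_pow_eq_one.1
    (orderOf_linear_dvd_index lam _ (Abelianization.commutator_subset_ker lam)))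
  simp only [hl] at h4
  simp only [MonoidHom.pow_apply, Units.val_pow_eq_pow_val, h4, hc.2.neg_one_pow] at h5
  norm_num at h5

end Cfsg.Agent.S4508
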