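import Mathlib
import Cfsg.Statements.S4509
import Cfsg.Agent.Block.SCGrp
-- import your own Cfsg.Agent.* helpers here

set_option autoImplicit false
open Cfsg

namespace Cfsg.Agent.S4509

open Cfsg.Agent.Block Cfsg.Agent.Core Subgroup in

/-- Let the finite group G contain an element x of prime order p with C_G(x) = ⟨x⟩; let t be the number of conjugacy classes of elements of order p and 1 + n·p the number of subgroups of order p. Then G has a normal subgroup of order 1 + n·p if and only if either t = p − 1, or t < p − 1 and G″ ≠ G′. Moreover, if t = p − 1 then G′ has order 1 + n·p and G/G′ is cyclic of order p; and if t < p − 1 and G″ ≠ G′ then G″ has order 1 + n·p and G′ has order p·(1 + n·p). -/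
theorem result {G : Type*} [Group G] [Finite G] (p : ℕ) (hp : p.Prime) (x : G) (hx : orderOf x = p) (hC : Subgroup.centralizer ({x} : Set G) = Subgroup.zpowers x) (t : ℕ) (ht : Nat.card {C : ConjClasses G // ∃ g ∈ C.carrier, orderOf g = p} = t) (n : ℕ) (hn : Nat.card {H : Subgroup G // Nat.card H = p} = 1 + n * p) : ((∃ S : Subgroup G, S.Normal ∧ Nat.card S = 1 + n * p) ↔ (t = p - 1 ∨ (t < p - 1 ∧ derivedSeries G 2 ≠ derivedSeries G 1))) ∧ (t = p - 1 → Nat.card (commutator G) = 1 + n * p ∧ IsCyclic (G ⧸ commutator G) ∧ (commutator G).index = p) ∧ (t < p - 1 → derivedSeries G 2 ≠ derivedSeries G 1 → Nat.card (derivedSeries G 2) = 1 + n * p ∧ Nat.card (commutator G) = p * (1 + n * p)) := by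
  have h : SX p x := ⟨hp, hx, hC⟩
  have := Fintype.ofFinite G
  have := Fact.mk hp
  rw [h.ordP.card_subgroups] at hn
  have hte := h.te ht
  have hG := h.card_G
  rw [derivedSeries_one]
  have A : t = p - 1 → Nat.card (commutator G) = 1 + n * p ∧ IsCyclic (G ⧸ commutator G) ∧
      (commutator G).index = p := fun e => by
    have h1 := h.index_of_not_dvd ((h.eq_iff ht).1 e)
    refine ⟨Nat.eq_of_mul_eq_mul_left hp.pos ?_, isCyclic_of_prime_card h1, h1⟩
    rw [relIndex_eq_one.2 (h.not_dvd_iff.1 ((h.eq_iff ht).1 e)), mul_one, hn] at hG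
    rw [← hG, ← index_mul_card (commutator G), h1]
  have B : t < p - 1 → derivedSeries G 2 ≠ commutator G →
      Nat.card (derivedSeries G 2) = 1 + n * p ∧ Nat.card (commutator G) = p * (1 + n * p) :=
    fun e hne => by
      have hd := not_not.1 (mt (h.eq_iff ht).2 e.ne)
      obtain ⟨h3, h4⟩ := h.derived hd hne
      have hP := h.ordP.le_of_dvd hd
      have h5 : derivedSeries G 2 ≤ commutator G :=
        derivedSeries_one G ▸ derivedSeries_antitone G one_le_two
      have h6 : derivedSeries G 2 ⊔ zpowers x = commutator G :=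
        eq_of_le_of_card_ge (sup_le h5 hP) (by
          rw [card_sup_of_disjoint (normalizer_eq_top (derivedSeries G 2) ▸ le_top)
            (disjoint_iff.2 (eq_bot_iff.2 ((inf_le_inf_left _ le_normalizer).trans
              (h.inf_eq_bot h3).le))), h4, h.card, mul_comm])
      have h7 := h.card_sup h3
      rw [eq_top_iff.2 ((h.ordP.frattini hP).ge.trans (sup_le le_sup_right
        (h6 ▸ sup_le_sup_left le_normalizer _))), card_top, ← index_mul_card
          (normalizer (zpowers x : Set G)), hn] at h7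
      have h8 := (Nat.eq_of_mul_eq_mul_right Nat.card_pos h7).symm
      exact ⟨h8, h8 ▸ h4⟩
  refine ⟨⟨fun ⟨S, hS, hc⟩ => ?_, ?_⟩, A, B⟩
  · have hS' : ¬ p ∣ Nat.card S := fun e =>
      hp.one_lt.ne' (Nat.dvd_one.1 ((Nat.dvd_add_left (dvd_mul_left p n)).1 (hc ▸ e)))
    have h1 : 0 < (zpowers x).relIndex (normalizer (zpowers x : Set G)) :=
      Nat.pos_of_ne_zero index_ne_zero_of_finite
    have h2 : t ≤ p - 1 := by have := Nat.le_mul_of_pos_right t h1; omega
    refine h2.eq_or_lt.imp_right fun e => ⟨e, fun e2 => hS' ?_⟩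
    have h3 : S ⊔ normalizer (zpowers x : Set G) = ⊤ :=
      eq_top_of_card_eq _ (by rw [h.card_sup hS', hc, ← hn, index_mul_card])
    have h4 : (S ⊔ zpowers x).Normal := normalizer_eq_top_iff.1 (top_le_iff.1 (h3 ▸ sup_le
      (le_sup_left.trans le_normalizer) (by
        intro g hg
        have e : ∀ g ∈ normalizer (zpowers x : Set G), ∀ y ∈ S ⊔ zpowers x,
            g * y * g⁻¹ ∈ S ⊔ zpowers x := fun g hg y hy => by
          obtain ⟨a, ha, b, hb, rfl⟩ := mem_sup_of_normal_left.1 hy
          rw [show g * (a * b) * g⁻¹ = (g * a * g⁻¹) * (g * b * g⁻¹) by group]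
          exact mul_mem_sup (hS.conj_mem a ha g) ((mem_normalizer_iff.1 hg b).1 hb)
        exact mem_normalizer_iff.2 fun y => ⟨e g hg y, fun hy => by
          simpa [mul_assoc] using e _ (inv_mem hg) _ hy⟩)))
    have h5 := h.commutator_le (S := S ⊔ zpowers x) (h.card ▸ card_dvd_of_le le_sup_right)
    refine (e2 ▸ not_not.1 (mt (h.eq_iff ht).2 e.ne)).trans (card_dvd_of_le ?_)
    rw [derivedSeries_succ, derivedSeries_one]
    refine commutator_le.2 fun a ha b hb => ?_
    obtain ⟨a, ha', _, ⟨i, rfl⟩, rfl⟩ := mem_sup_of_normal_left.1 (h5 ha)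
    obtain ⟨b, hb', _, ⟨j, rfl⟩, rfl⟩ := mem_sup_of_normal_left.1 (h5 hb)
    rw [← QuotientGroup.eq_one_iff, ← QuotientGroup.mk'_apply, map_commutatorElement,
      commutatorElement_eq_one_iff_commute]
    simp only [QuotientGroup.mk'_apply, QuotientGroup.mk_mul, (QuotientGroup.eq_one_iff a).2 ha',
      (QuotientGroup.eq_one_iff b).2 hb', one_mul, QuotientGroup.mk_zpow]
    exact Commute.zpow_zpow_self _ _ _
  · rintro (e | ⟨e, hne⟩)
    · exact ⟨_, inferInstance, (A e).1⟩
    · exact ⟨_, inferInstance, (B e hne).1⟩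

end Cfsg.Agent.S4509
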