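import Mathlib
import Cfsg.Statements.S4888
import Cfsg.Agent.S4641
import Cfsg.Agent.Block.Dade
import Cfsg.Agent.Block.PIdx
import Cfsg.Agent.Char.Extend

set_option autoImplicit false
open Cfsg

namespace Cfsg.Agent.S4888

open Cfsg.Agent.Block Cfsg.Agent.Char Subgroup Cfsg.Agent.Transfer

theorem not_dvd_orderOf {H : Type*} [Group H] [Finite H] {p : ℕ} (hp : p.Prime)
    (h : pResidual p H = ⊤) (l : H →* ℂˣ) : ¬ p ∣ orderOf l := fun hl => by
  have h1 := orderOf_pow_orderOf_div (Det.orderOf_linear_pos l).ne' hl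
  have h2 := pResidual_le_ker_of_range (p := p) (l ^ (orderOf l / p)) (by
    rintro ⟨_, x, rfl⟩
    refine ⟨1, Subtype.ext ?_⟩
    have := DFunLike.congr_fun (pow_orderOf_eq_one (l ^ (orderOf l / p))) x
    rw [h1] at this
    simpa using this)
  rw [h, top_le_iff, MonoidHom.ker_eq_top_iff] at h2
  rw [h2, orderOf_one] at h1
  exact hp.one_lt.ne h1

theorem linear_mem_iff {H : Type*} [Group H] [Finite H] {p : ℕ} [Fact p.Prime] {M : Ideal AlgInt}
    (hM : IsPModular p M) (h : pResidual p H = ⊤) (Q : Sylow p H) (l : H →* ℂˣ) :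
    ⟨_, isIrr_linear l⟩ ∈ principalBlock M H ↔
      ∀ c ∈ centralizer ((Q : Subgroup H) : Set H), l c = 1 := by
  have h1 : ∀ χ : H → ℂ, χ 1 = 1 → ¬ p ∣ charDegree χ := fun χ e => by
    rw [charDegree_of_eq (n := 1) (by simpa using e)]
    exact hM.1.not_dvd_one
  rw [principalBlock_eq, mem_blockOf, sameBlock_iff_sylow hM Q (h1 _ rfl) (h1 _ (by simp))]
  refine forall₂_congr fun c _ => ?_
  have h2 : (l c : ℂ) ^ orderOf l = 1 := by
    rw [← Units.val_pow_eq_pow_val, ← MonoidHom.pow_apply, pow_orderOf_eq_one]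
    rfl
  simp only [coe_oneIrr, map_one, Units.val_one, red_one, div_one]
  refine ⟨fun e => Units.ext (eq_one_of_pow_eq_one_of_val_sub_one_lt_one hM
    (not_dvd_orderOf hM.1 h l) h2 ?_), fun e => by simp [e, red_one]⟩
  rw [← red_eq_iff (mem_V_of_val_eq_one (val_eq_one_of_pow_eq_one
    (Det.orderOf_linear_pos l).ne' h2)) (one_mem _), red_one, e]

/-- Let G be a finite group, p a prime and M a maximal ideal of the algebraic integers containing p. Then all height-zero irreducible characters of the principal p-block of G (equivalently, all its characters of degree prime to p) have the same degree if and only if G has a normal p-complement. -/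
theorem result {G : Type*} [Group G] [Finite G] (p : ℕ) [Fact p.Prime] (M : Ideal Cfsg.AlgInt) (hM : Cfsg.IsPModular p M) : (∃ d : ℕ, ∀ χ : Cfsg.IrrCharacter G, χ ∈ (Cfsg.principalBlock M G) → Cfsg.blockHeight p (Cfsg.principalBlock M G) (χ : G → ℂ) = 0 → Cfsg.charDegree (χ : G → ℂ) = d) ↔ Cfsg.HasNormalPComplement p G := by
  classical
  have hp := hM.1
  rw [hasNormalPComplement_iff_not_dvd]
  obtain ⟨k, hk⟩ := exists_index_pResidual_eq_pow (p := p) (G := G)
  refine ⟨fun ⟨d, hd⟩ hH => ?_, fun h => ⟨1, fun χ hχ h0 => ?_⟩⟩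
  swap
  · rw [principalBlock_eq_of_normal_complement hM h ⟨k, hk⟩] at hχ
    obtain ⟨j, -, hj⟩ := (Nat.dvd_prime_pow hp).1 (hk ▸ degree_dvd_index hχ)
    have := (blockHeight_eq_zero_iff (by
      rwa [principalBlock_eq_of_normal_complement hM h ⟨k, hk⟩])).1 h0 _
      (oneIrr_mem_principalBlock hM)
    rw [hj, charDegree_of_eq (χ := (oneIrr G).1) (n := 1) (by simp [coe_oneIrr])] at this
    rw [hj, show j = 0 by simpa [hp.factorization_pow] using this, pow_zero]
  obtain rfl : 1 = d := (charDegree_of_eq (by simp [coe_oneIrr])).symm.trans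
    (hd _ (oneIrr_mem_principalBlock hM) (blockHeight_oneIrr _))
  set H := pResidual p G
  have hHH : pResidual p H = ⊤ := pResidual_pResidual
  have := Fintype.ofFinite H
  obtain ⟨P⟩ : Nonempty (Sylow p G) := inferInstance
  obtain ⟨Q⟩ : Nonempty (Sylow p H) := inferInstance
  have h1 : p ∣ ∑ θ with θ ∈ principalBlock M H, charDegree θ.1 ^ 2 := by
    obtain ⟨-, v, -, -, -, hv⟩ := S4641.result p M hM _ isPBlock_principalBlock _
      (isDefectGroup_principal_sylow hM Q) _ _ rfl Q.card_eq_multiplicity 1 (fun _ _ => one_dvd _)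
      fun g hg => charDegree_of_eq (χ := (oneIrr H).1) (n := 1) (by simp [coe_oneIrr]) ▸
        hg _ (oneIrr_mem_principalBlock hM)
    have := (hp.dvd_iff_one_le_factorization Nat.card_pos.ne').1 hH
    rw [← finsum_mem_irr, hv, mul_assoc]
    exact (dvd_pow_self p (by omega)).mul_right _
  letI : MulAction (P : Subgroup G) (IrrCharacter H) :=
    { smul := fun q θ => conjIrr H (q : G)⁻¹ θ
      one_smul := fun θ => by
        change conjIrr H ((1 : G))⁻¹ θ = θ
        rw [inv_one, conjIrr_one]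
      mul_smul := fun q r θ => by
        change conjIrr H ((q : G) * r)⁻¹ θ = _
        rw [mul_inv_rev, conjIrr_mul]
        rfl }
  have h2 := sum_eq_sum_fixedPoints (R := ZMod p) (by simp) P.2
    (fun θ : IrrCharacter H => if θ ∈ principalBlock M H then (charDegree θ.1 : ZMod p) ^ 2 else 0)
    fun q θ => by
      change (if conjIrr H (q : G)⁻¹ θ ∈ _ then (charDegree (conjIrr H (q : G)⁻¹ θ).1 : ZMod p) ^ 2
        else 0) = _
      simp only [gInv_principal.conjIrr_mem_iff, charDegree, conjIrr_apply]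
      simp only [OneMemClass.coe_one, mul_one, mul_inv_cancel]
      rfl
  have h3 : ∀ θ : IrrCharacter H, (∀ q : (P : Subgroup G), q • θ = θ) ↔ ∀ g : G, conjIrr H g θ = θ :=
    fun θ => ⟨fun h g => by
      obtain ⟨x, hx, y, hy, rfl⟩ := exists_mul_eq_of_sylow P g
      rw [conjIrr_mul, conjIrr_of_mem hx, ← inv_inv y]
      exact h ⟨y, hy⟩⁻¹, fun h q => h _⟩
  let L : Subgroup (H →* ℂˣ) :=
    { carrier := {l | (∀ c ∈ centralizer ((Q : Subgroup H) : Set H), l c = 1) ∧
        ∀ (g : G) (n : H), l ⟨g * n * g⁻¹, Normal.conj_mem inferInstance _ n.2 g⟩ = l n}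
      mul_mem' := fun ha hb => ⟨fun c hc => by simp [ha.1 c hc, hb.1 c hc],
        fun g n => by simp [ha.2, hb.2]⟩
      one_mem' := ⟨fun _ _ => rfl, fun _ _ => rfl⟩
      inv_mem' := fun ha => ⟨fun c hc => by simp [ha.1 c hc], fun g n => by simp [ha.2]⟩ }
  have : Finite (H →* ℂˣ) := Finite.of_injective (fun l => (⟨_, isIrr_linear l⟩ : IrrCharacter H))
    fun _ _ e => Det.linear_ext (congrArg Subtype.val e)
  have := Fintype.ofFinite L
  have h4 : ¬ p ∣ Nat.card L := fun h => by
    obtain ⟨l, hl⟩ := exists_prime_orderOf_dvd_card' p h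
    exact not_dvd_orderOf hp hHH l (by rw [orderOf_coe, hl])
  rw [← ZMod.natCast_eq_zero_iff] at h1 h4
  rw [← Finset.sum_filter, ← Finset.sum_filter, Finset.filter_filter] at h2
  refine h4 ?_
  rw [← h1, Nat.cast_sum]
  simp only [Nat.cast_pow]
  rw [h2, ← Finset.sum_filter_of_ne (p := fun θ => θ.1 1 = 1), Finset.filter_filter,
    Finset.sum_congr rfl (g := fun _ => 1), Finset.sum_const, nsmul_eq_mul, mul_one,
    Nat.card_eq_fintype_card]
  · congr 1
    refine Finset.card_bij (fun l _ => ⟨_, isIrr_linear l.1⟩) (fun l _ => ?_)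
      (fun _ _ _ _ e => Subtype.ext (Det.linear_ext (congrArg Subtype.val e))) fun θ hθ => ?_
    · simp only [Finset.mem_filter, Finset.mem_univ, true_and, h3, linear_mem_iff hM hHH Q]
      refine ⟨⟨fun g => Subtype.ext (funext fun n => ?_), l.2.1⟩, by simp⟩
      rw [conjIrr_apply]
      exact congrArg Units.val (l.2.2 g n)
    · simp only [Finset.mem_filter, Finset.mem_univ, true_and, h3] at hθ
      obtain ⟨l, hl⟩ := isChar_linear_of_degree_one (irr_isChar θ) hθ.2
      obtain rfl : θ = ⟨_, isIrr_linear l⟩ := Subtype.ext hl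
      refine ⟨⟨l, (linear_mem_iff hM hHH Q l).1 hθ.1.2, fun g n => Units.ext ?_⟩,
        Finset.mem_univ _, rfl⟩
      exact (conjIrr_apply g ⟨_, isIrr_linear l⟩ n).symm.trans
        (congrFun (congrArg Subtype.val (hθ.1.1 g)) n)
  · intro θ hθ
    rw [charDegree_of_eq (n := 1) (by simpa using (Finset.mem_filter.1 hθ).2.2)]
    simp
  · intro θ hθ h0
    simp only [Finset.mem_filter, Finset.mem_univ, true_and, h3] at hθ
    have h5 : ¬ p ∣ charDegree θ.1 := fun h => h0 (by simp [(ZMod.natCast_eq_zero_iff _ _).2 h])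
    obtain ⟨l, hl⟩ := Det.exists_detHom (irr_isChar θ)
    obtain ⟨χ, hχ, e⟩ := Extend.exists_ext_of_coprime_detOrder θ.2
      (Clifford.inertia_eq_top.2 fun g n => (conjIrr_apply g θ n).symm.trans (by rw [hθ.1]))
      (irr_degree_cast θ).symm (by
        rw [hk, detOrder, hl, Det.orderOf_coe_linear]
        exact (hp.coprime_iff_not_dvd.2 (hp.not_dvd_mul (not_dvd_orderOf hp hHH l) h5)).pow_left _)
    have h6 : charDegree χ = charDegree θ.1 := by rw [charDegree, charDegree, ← e 1]; rfl
    have h7 := Covers.unique_of_index hM ⟨k, hk⟩ (isPBlock_blockOf ⟨χ, hχ⟩) isPBlock_principalBlock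
      isPBlock_principalBlock ⟨_, self_mem_blockOf hM _, θ, hθ.2, by
        simp [e, classInner_irr_self]⟩ (covers_principal hM)
    rw [← irr_degree_cast, ← h6, hd ⟨χ, hχ⟩ (h7 ▸ self_mem_blockOf hM _)
      (blockHeight_eq_zero_of_not_dvd (h6 ▸ h5)), Nat.cast_one]

end Cfsg.Agent.S4888
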