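import Mathlib
import Cfsg.Statements.S4549
import Cfsg.Agent.S4550
import Cfsg.Agent.S4553
import Cfsg.Agent.S4888
-- import your own Cfsg.Agent.* helpers here

set_option autoImplicit false
open Cfsg

namespace Cfsg.Agent.S4549

open Cfsg.Agent.Block Cfsg.Agent.Char Cfsg.Agent.Isaacs Subgroup

theorem ext {G : Type*} [Group G] [Finite G] {p k : ℕ} [hp : Fact p.Prime] {M : Ideal AlgInt}
    (hM : IsPModular p M) (hk : k.Coprime (Nat.card G)) {N : Subgroup G} [hN : N.Normal]
    (hNres : N = pResidual p G) (θ : IrrCharacter N) (h1 : θ ∈ principalBlock M N)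
    (h2 : ¬ p ∣ charDegree θ.1)
    (h3 : ∀ x : G, ∀ n : N, θ.1 ⟨x * n * x⁻¹, hN.conj_mem n n.2 x⟩ = θ.1 n)
    (h4 : ∀ n : N, θ.1 (n ^ k) = θ.1 n) :
    ∃ χ ∈ principalBlock M G, charDegree χ.1 = charDegree θ.1 ∧ ∀ g, χ.1 (g ^ k) = χ.1 g := by
  classical
  have := Fintype.ofFinite N
  obtain ⟨j, hj⟩ := Transfer.exists_index_pResidual_eq_pow (p := p) (G := G)
  rw [← hNres] at hj
  have hn : (⊤ : Subgroup G) ≤ normalizer (N : Set G) := by rw [normalizer_eq_top]
  have hcp : ∀ {d : ℕ}, ¬ p ∣ d → (N.relIndex ⊤).Coprime d := fun h => by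
    rw [relIndex_top_right, hj]; exact (hp.out.coprime_iff_not_dvd.2 h).pow_left _
  have hθ : Irr N (ez N θ.1) := irr_ez.2 θ.2
  have hi : Inv ⊤ N (ez N θ.1) := fun a _ x hx => by
    rw [ez_mem _ (hN.conj_mem x hx a), ez_mem _ hx]
    exact h3 a ⟨x, hx⟩
  have hd : ¬ p ∣ dord N (ez N θ.1) := by
    rw [dord_ez]
    refine not_dvd_detOrder hp.out ?_ (isIrr_isChar θ.2)
    subst hNres
    exact Transfer.pResidual_pResidual
  obtain ⟨χ, hχ, e, e1, e2⟩ := hθ.exists_canon' hn le_top hi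
    ((ez_one _).trans (Block.irr_degree_cast θ).symm) (hcp (hp.out.not_dvd_mul hd h2))
  have hf : Eqv ⊤ (pw k χ) χ := by
    obtain ⟨σ, hσ⟩ := exists_aut_pw (G := G) hk
    refine e2 _ (hχ.chr.pw hk) (e.pw.trans fun x hx => ?_) ?_
    · rw [pw, ez_mem _ (pow_mem hx k), ez_mem _ hx]
      exact h4 ⟨x, hx⟩
    · rw [← dord_congr (hσ hχ.gen), hχ.chr.dord_map, e1]
      exact hcp hd
  set ψ : IrrCharacter G := ⟨χ, irr_top.1 hχ⟩
  have res : (fun n : N => ψ.1 n) = θ.1 := by
    ext n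
    change χ n = _
    rw [e n n.2, ez_coe]
  refine ⟨ψ, ?_, ?_, fun g => hf g trivial⟩
  · have := Block.Covers.unique_of_index hM ⟨j, hj⟩ (B := blockOf M ψ.1) ⟨ψ, rfl⟩
      Block.isPBlock_principalBlock Block.isPBlock_principalBlock
      ⟨ψ, Block.self_mem_blockOf hM ψ, θ, h1, by
        rw [res, ← inn_ez]; exact hθ.inn_self_ne⟩ (Block.covers_principal hM)
    rw [← this]
    exact Block.self_mem_blockOf hM ψ
  · have := congrFun res 1
    rw [Block.charDegree_of_eq (this.trans (Block.irr_degree_cast θ).symm)]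

/-- Let G be a finite group and M a maximal ideal of the algebraic integers containing 2. Let k be a natural number with g ^ k = g ^ 3 for every 2-element g and g ^ k = g for every element g of odd order (such k exist); an irreducible character χ is unchanged by g ↦ g ^ k exactly when it is fixed by the field automorphism that cubes the 2-power roots of unity and fixes the roots of unity of odd order. Then G has a normal 2-complement if and only if every member χ of the principal 2-block of odd degree with χ (g ^ k) = χ g for all g has degree one. -/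
theorem result {G : Type*} [Group G] [Finite G] (M : Ideal Cfsg.AlgInt) (hM : Cfsg.IsPModular 2 M) (k : ℕ) (hk₁ : ∀ g : G, (∃ j : ℕ, orderOf g = 2 ^ j) → g ^ k = g ^ 3) (hk₂ : ∀ g : G, Odd (orderOf g) → g ^ k = g) : Cfsg.HasNormalPComplement 2 G ↔ ∀ χ ∈ Cfsg.principalBlock M G, Odd (Cfsg.charDegree (χ : G → ℂ)) → (∀ g : G, (χ : G → ℂ) (g ^ k) = (χ : G → ℂ) g) → Cfsg.charDegree (χ : G → ℂ) = 1 := by
  classical
  have hp : Nat.Prime 2 := Nat.prime_two
  have hodd : ∀ {n : ℕ}, Odd n ↔ ¬ 2 ∣ n := fun {n} => by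
    rw [← even_iff_two_dvd, Nat.not_even_iff_odd]
  refine ⟨fun h χ hχ ho _ => ?_, fun hd => ?_⟩
  · obtain ⟨d, hd⟩ := (S4888.result 2 M hM).2 h
    obtain rfl : 1 = d := (charDegree_of_eq (by simp [coe_oneIrr])).symm.trans
      (hd _ (oneIrr_mem_principalBlock hM) (blockHeight_oneIrr _))
    exact hd χ hχ (blockHeight_eq_zero_of_not_dvd (hodd.1 ho))
  rw [Transfer.hasNormalPComplement_iff_not_dvd]
  intro hH
  have hk : k.Coprime (Nat.card G) := S4553.cop (p := 2) hk₁ fun g hg =>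
    hk₂ g (Nat.coprime_two_right.1 hg)
  set H := pResidual 2 G with hHd
  have hHH : pResidual 2 H = ⊤ := Transfer.pResidual_pResidual
  have := Fintype.ofFinite H
  obtain ⟨P⟩ : Nonempty (Sylow 2 G) := inferInstance
  obtain ⟨Q⟩ : Nonempty (Sylow 2 H) := inferInstance
  have hk₁' : ∀ g : H, (∃ j : ℕ, orderOf g = 2 ^ j) → g ^ k = g ^ 3 := fun g hg =>
    Subtype.ext (hk₁ g (by simpa only [orderOf_coe] using hg))
  have hk₂' : ∀ g : H, Odd (orderOf g) → g ^ k = g := fun g hg =>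
    Subtype.ext (hk₂ g (by simpa only [orderOf_coe] using hg))
  have h1 := S4550.result M hM (even_iff_two_dvd.2 hH) k hk₁' hk₂'
  set Y := {θ : IrrCharacter H // θ ∈ principalBlock M H ∧ Odd (charDegree θ.1) ∧
    ∀ g : H, θ.1 (g ^ k) = θ.1 g}
  letI : MulAction (P : Subgroup G) Y :=
    { smul := fun q θ => ⟨conjIrr H (q : G)⁻¹ θ.1, (gInv_principal.conjIrr_mem_iff _ _).2 θ.2.1,
        by
          have := θ.2.2.1
          simp only [charDegree, conjIrr_apply] at this ⊢
          simp only [OneMemClass.coe_one, mul_one, mul_inv_cancel]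
          exact this,
        fun g => by
          rw [conjIrr_apply, conjIrr_apply, ← θ.2.2.2 ⟨(q : G)⁻¹ * (g : G) * (q : G)⁻¹⁻¹, _⟩]
          refine congrArg _ (Subtype.ext ?_)
          exact (conj_pow (a := (q : G)⁻¹) (b := (g : G)) (i := k)).symm⟩
      one_smul := fun θ => Subtype.ext (by
        change conjIrr H ((1 : G))⁻¹ θ.1 = θ.1
        rw [inv_one, conjIrr_one])
      mul_smul := fun q r θ => Subtype.ext (by
        change conjIrr H ((q : G) * r)⁻¹ θ.1 = _
        rw [mul_inv_rev, conjIrr_mul]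
        rfl) }
  have h2 := P.2.card_modEq_card_fixedPoints Y
  have h3 : ∀ θ : Y, θ ∈ MulAction.fixedPoints (P : Subgroup G) Y ↔
      ∀ g : G, conjIrr H g θ.1 = θ.1 :=
    fun θ => ⟨fun h g => by
      obtain ⟨x, hx, y, hy, rfl⟩ := Transfer.exists_mul_eq_of_sylow P g
      rw [conjIrr_mul, conjIrr_of_mem hx, ← inv_inv y]
      exact congrArg Subtype.val (h ⟨y, hy⟩⁻¹), fun h q => Subtype.ext (h _)⟩
  let L : Subgroup (H →* ℂˣ) :=
    { carrier := {l | (∀ c ∈ centralizer ((Q : Subgroup H) : Set H), l c = 1) ∧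
        ∀ (g : G) (n : H), l ⟨g * n * g⁻¹, Normal.conj_mem inferInstance _ n.2 g⟩ = l n}
      mul_mem' := fun ha hb => ⟨fun c hc => by simp [ha.1 c hc, hb.1 c hc],
        fun g n => by simp [ha.2, hb.2]⟩
      one_mem' := ⟨fun _ _ => rfl, fun _ _ => rfl⟩
      inv_mem' := fun ha => ⟨fun c hc => by simp [ha.1 c hc], fun g n => by simp [ha.2]⟩ }
  have : Finite (H →* ℂˣ) := Finite.of_injective (fun l => (⟨_, isIrr_linear l⟩ : IrrCharacter H))
    fun _ _ e => Det.linear_ext (congrArg Subtype.val e)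
  have h4 : ¬ 2 ∣ Nat.card L := fun h => by
    obtain ⟨l, hl⟩ := exists_prime_orderOf_dvd_card' 2 h
    exact S4888.not_dvd_orderOf hp hHH l (by rw [orderOf_coe, hl])
  have hfix : ∀ (l : H →* ℂˣ) (g : H), l (g ^ k) = l g := fun l g => by
    have ho : Odd (orderOf (l g)) := hodd.2 fun h => S4888.not_dvd_orderOf hp hHH l
      (h.trans (orderOf_dvd_iff_pow_eq_one.2 (by
        rw [← MonoidHom.pow_apply, pow_orderOf_eq_one]; rfl)))
    obtain ⟨x, y, rfl, -, ⟨j, hx⟩, hy⟩ := exists_isPPart hp g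
    have hx1 : l x = 1 := by
      have ho' : Odd (orderOf (l x)) := hodd.2 fun h => S4888.not_dvd_orderOf hp hHH l
        (h.trans (orderOf_dvd_iff_pow_eq_one.2 (by
          rw [← MonoidHom.pow_apply, pow_orderOf_eq_one]; rfl)))
      have := orderOf_map_dvd l x
      rw [hx] at this
      exact orderOf_eq_one_iff.1 (Nat.eq_one_of_dvd_coprimes
        ((Nat.coprime_two_right.2 ho').pow_right j) dvd_rfl this)
    rw [map_pow, map_mul, hx1, one_mul, ← map_pow, hk₂' y (hodd.2 hy)]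
  have h5 : Nat.card L = Nat.card (MulAction.fixedPoints (P : Subgroup G) Y) := by
    refine Nat.card_congr (Equiv.ofBijective (fun l => ⟨⟨⟨_, isIrr_linear l.1⟩,
      (S4888.linear_mem_iff hM hHH Q _).2 l.2.1, by
        rw [charDegree_of_eq (n := 1) (by simp)]; exact odd_one,
      fun g => congrArg Units.val (hfix l.1 g)⟩, (h3 _).2 fun g => Subtype.ext (funext fun n => by
        rw [conjIrr_apply]
        exact congrArg Units.val (l.2.2 g n))⟩) ⟨fun _ _ e => ?_, ?_⟩)
    · exact Subtype.ext (Det.linear_ext (congrArg (fun x => x.1.1.1) e))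
    · rintro ⟨⟨θ, a1, a2, a3⟩, a4⟩
      rw [h3] at a4
      have a5 : ∀ (x : G) (n : H), θ.1 ⟨x * n * x⁻¹, Normal.conj_mem inferInstance _ n.2 x⟩ = θ.1 n :=
        fun x n => (conjIrr_apply x θ n).symm.trans (congrFun (congrArg Subtype.val (a4 x)) n)
      obtain ⟨χ, b1, b2, b3⟩ := ext hM hk hHd θ a1 (hodd.1 a2) a5 a3
      have b4 := hd χ b1 (b2 ▸ a2) b3
      obtain ⟨l, hl⟩ := isChar_linear_of_degree_one (irr_isChar θ)
        (by rw [← irr_degree_cast, ← b2, b4, Nat.cast_one])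
      obtain rfl : θ = ⟨_, isIrr_linear l⟩ := Subtype.ext hl
      exact ⟨⟨l, (S4888.linear_mem_iff hM hHH Q l).1 a1, fun g n => Units.ext (a5 g n)⟩, rfl⟩
  rw [h5, ← h2.dvd_iff dvd_rfl] at h4
  exact h4 h1.two_dvd

end Cfsg.Agent.S4549
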