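import Cfsg.Statements.S4570
import Cfsg.Agent.Blk2.Nine

set_option autoImplicit false
open Cfsg

namespace Cfsg.Agent.S4570

/-- Let G be a finite group with a commutative Sylow 2-subgroup P and M a maximal ideal of the algebraic integers containing 2, and suppose some involution x of G has the property that the principal 2-block of its centralizer has 2-regular rank one. If P has order 8 then the principal 2-block of G contains exactly 8 irreducible characters, and if P has order 16 it contains 8 or 16. -/
theorem result {G : Type*} [Group G] [Finite G] (M : Ideal Cfsg.AlgInt) (hM : Cfsg.IsPModular 2 M) (P : Sylow 2 G) (hab : IsMulCommutative P) (x : G) (hx : orderOf x = 2) (hl : Cfsg.blockRank 2 (Cfsg.principalBlock M ↥(Subgroup.centralizer ({x} : Set G))) = 1) : (Nat.card P = 8 → Nat.card (Cfsg.principalBlock M G) = 8) ∧ (Nat.card P = 16 → Nat.card (Cfsg.principalBlock M G) = 8 ∨ Nat.card (Cfsg.principalBlock M G) = 16) := by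
  have := Fintype.ofFinite G
  have h := Blk2.ab_sylow P hab
  obtain ⟨y, hy⟩ := h.exists_conj_mem (u := x) ⟨1, hx⟩
  have := Blk2.small hM (Blk2.ab_map (f := (MulAut.conj y⁻¹).toMonoidHom) h (MulAut.conj y⁻¹).surjective)
    ⟨_, hy, by simp [mul_assoc]⟩ hx (Blk2.npc_of_ll hM hl)
  rwa [Subgroup.card_map_of_injective (MulAut.conj y⁻¹).injective] at this

end Cfsg.Agent.S4570
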