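import Mathlib
import Cfsg.Statements.S4587
import Cfsg.Agent.S4172
import Cfsg.Agent.S0012
import Cfsg.Agent.H2.Schur5
import Cfsg.Agent.LocalEven.Conj
import Cfsg.Agent.Transfer.SylowConj

set_option autoImplicit false
open Cfsg

namespace Cfsg.Agent.S4587

open Subgroup Cfsg.Agent.Core Cfsg.Agent.Comp2
open scoped Pointwise commutatorElement

section
variable {G : Type*} [Group G] [Finite G] {p : ℕ} [hp : Fact p.Prime]

theorem comm_of_index (hG : IsPGroup p G) {H : Subgroup G} (hH : H ≤ frattini G)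
    (hi : H.index ∣ p) (a b : G) : a * b = b * a := by
  have key : ∃ x : G, H ⊔ zpowers x = ⊤ := by
    rcases (Nat.dvd_prime hp.out).1 hi with h | h
    · exact ⟨1, by rw [index_eq_one.1 h, top_sup_eq]⟩
    · have hRt : H ≠ ⊤ := fun e => hp.out.one_lt.ne (by rw [← h, e, index_top])
      obtain ⟨x, -, hx⟩ := SetLike.exists_of_lt (lt_top_iff_ne_top.2 hRt)
      rcases eq_or_eq_of_relIndex_prime (H := H) (M := H ⊔ zpowers x) (K := ⊤)
        (by rw [relIndex_top_right, h]; exact hp.out) le_sup_left le_top with e | e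
      · exact absurd (e ▸ mem_sup_right (mem_zpowers x)) hx
      · exact ⟨x, e⟩
  obtain ⟨x, hx⟩ := key
  have h3 : zpowers x = ⊤ := frattini_nongenerating (by
    rw [eq_top_iff, ← hx]; exact sup_le (hH.trans le_sup_right) le_sup_left)
  exact comm_of_isMulCommutative (inferInstance : IsMulCommutative (zpowers x))
    (h3 ▸ mem_top a) (h3 ▸ mem_top b)

theorem subgroupOf_comm (P : Subgroup G) : (⁅P, P⁆).subgroupOf P = commutator P := by
  rw [← map_subtype_commutator, subgroupOf, comap_map_eq_self_of_injective P.subtype_injective]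

theorem index_le_cent (y : G) : (commutator G).index ≤ Nat.card (centralizer ({y} : Set G)) := by
  have h1 : (centralizer ({y} : Set G)).index ≤ Nat.card (commutator G) := by
    rw [index]
    refine Nat.card_le_card_of_injective (fun q => (⟨⁅q.out, y⁆, commutator_mem_commutator
      (mem_top _) (mem_top _)⟩ : commutator G)) fun q r h => ?_
    have h2 : ⁅q.out, y⁆ = ⁅r.out, y⁆ := congrArg Subtype.val h
    rw [← q.out_eq', ← r.out_eq', QuotientGroup.eq, mem_centralizer_singleton_iff]
    rw [commutatorElement_def, commutatorElement_def] at h2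
    have h3 := mul_right_cancel h2
    calc q.out⁻¹ * r.out * y = q.out⁻¹ * (r.out * y * r.out⁻¹) * r.out := by group
      _ = _ := by rw [← h3]; group
  have h2 := (centralizer ({y} : Set G)).card_mul_index
  have h3 := (commutator G).card_mul_index
  have h4 : 0 < Nat.card (commutator G) := Nat.card_pos
  refine Nat.le_of_mul_le_mul_left ?_ h4
  rw [h3, ← h2, mul_comm]
  exact Nat.mul_le_mul_right _ h1

theorem le_cent {P : Subgroup G} {y : G} (hy : y ∈ P) :
    (⁅P, P⁆).relIndex P ≤ Nat.card (P ⊓ centralizer ({y} : Set G) : Subgroup G) := by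
  rw [relIndex, subgroupOf_comm]
  refine (index_le_cent (⟨y, hy⟩ : P)).trans (Nat.card_le_card_of_injective
    (fun a => ⟨a.1.1, a.1.2, mem_centralizer_singleton_iff.2
      (congrArg Subtype.val (mem_centralizer_singleton_iff.1 a.2))⟩) fun a b h => ?_)
  have h' : (a.1.1 : G) = b.1.1 := congrArg (fun c : (P ⊓ centralizer ({y} : Set G) : Subgroup G) => (c : G)) h
  exact Subtype.ext (Subtype.ext h')

theorem cent_le {P Q : Subgroup G} (hQP : Q ≤ P) (hn : P ≤ normalizer (Q : Set G))
    (hc : ∀ a ∈ Q, ∀ b ∈ Q, a * b = b * a) (h1 : Q.relIndex P = p) (hle : ⁅P, P⁆ ≤ Q)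
    (h2 : (⁅P, P⁆).relIndex Q = p) {y : G} (hy : y ∈ P) (hyQ : y ∉ Q) :
    Nat.card (P ⊓ centralizer ({y} : Set G) : Subgroup G) ≤ p ^ 2 := by
  have cj : ∀ s ∈ P, ∀ b ∈ Q, s * b * s⁻¹ ∈ Q := fun s hs b hb => conj_mem_of_le_normalizer hn hs hb
  let f : Q →* G := MonoidHom.mk' (fun a => y * a * y⁻¹ * (a : G)⁻¹) (fun a b => by
    have e1 := hc _ (cj y hy b b.2) _ (inv_mem a.2)
    have e2 := hc _ (inv_mem a.2) _ (inv_mem b.2)
    simp only [coe_mul]
    calc y * (a * b) * y⁻¹ * ((a : G) * b)⁻¹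
        = y * a * y⁻¹ * (y * b * y⁻¹) * ((b : G)⁻¹ * (a : G)⁻¹) := by group
      _ = y * a * y⁻¹ * ((y * b * y⁻¹) * (a : G)⁻¹) * (b : G)⁻¹ := by rw [← e2]; group
      _ = _ := by rw [e1]; group)
  let W : Subgroup G :=
    { carrier := {s | s ∈ P ∧ ∀ b ∈ Q, s * b * s⁻¹ * b⁻¹ ∈ f.range}
      one_mem' := ⟨one_mem _, fun b _ => by simp⟩
      mul_mem' := by
        rintro s t ⟨hs, hs'⟩ ⟨ht, ht'⟩
        refine ⟨mul_mem hs ht, fun b hb => ?_⟩
        have := mul_mem (hs' _ (cj t ht b hb)) (ht' b hb)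
        convert this using 1; group
      inv_mem' := by
        rintro s ⟨hs, hs'⟩
        refine ⟨inv_mem hs, fun b hb => ?_⟩
        have := inv_mem (hs' _ (cj _ (inv_mem hs) b hb))
        convert this using 1; group }
  have hyW : zpowers y ≤ W := zpowers_le.2 ⟨hy, fun b hb => ⟨⟨b, hb⟩, rfl⟩⟩
  have hP : Q ⊔ zpowers y = P := by
    rcases eq_or_eq_of_relIndex_prime (H := Q) (M := Q ⊔ zpowers y) (K := P)
      (by rw [h1]; exact hp.out) le_sup_left (sup_le hQP (zpowers_le.2 hy)) with e | e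
    · exact absurd (e ▸ mem_sup_right (mem_zpowers y)) hyQ
    · exact e
  have hz : zpowers y ≤ normalizer (Q : Set G) := (zpowers_le.2 hy).trans hn
  have hR : ⁅P, P⁆ ≤ f.range := by
    rw [commutator_le]
    intro s hs t ht
    obtain ⟨a, ha, u, hu, rfl⟩ := (Core.mem_sup_of_le_normalizer hz).1 (hP ▸ hs)
    obtain ⟨b, hb, v, hv, rfl⟩ := (Core.mem_sup_of_le_normalizer hz).1 (hP ▸ ht)
    have huv : u * v = v * u := comm_of_isMulCommutative inferInstance hu hv
    have e : ⁅a * u, b * v⁆ = a * (u * b * u⁻¹) * ((u * v * u⁻¹) * a⁻¹ * v⁻¹) * b⁻¹ := by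
      rw [commutatorElement_def]; group
    have m1 := cj u (hyW hu).1 b hb
    have m2 := cj v (hyW hv).1 _ (inv_mem ha)
    have := mul_mem ((hyW hu).2 b hb) ((hyW hv).2 _ (inv_mem ha))
    rw [e, huv, mul_inv_cancel_right]
    convert this using 1
    rw [inv_inv, mul_assoc a, mul_assoc a, hc a ha _ (mul_mem (mul_mem m1 m2) (inv_mem hb)),
      mul_assoc (u * b * u⁻¹), hc _ m2 _ (inv_mem hb)]
    group
  have k1 : Nat.card f.ker * Nat.card f.range = Nat.card Q := by
    rw [← index_ker, card_mul_index]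
  have k2 : Nat.card (⁅P, P⁆ : Subgroup G) * p = Nat.card Q := by
    rw [← h2]; exact LocalEven.card_mul_relIndex hle
  have k3 : Nat.card f.ker ≤ p := by
    have h4 : 0 < Nat.card (⁅P, P⁆ : Subgroup G) := Nat.card_pos
    refine Nat.le_of_mul_le_mul_left ?_ h4
    rw [k2, ← k1, mul_comm]
    exact Nat.mul_le_mul_left _ (card_le_of_le hR)
  set C := P ⊓ centralizer ({y} : Set G)
  have k4 : Nat.card (Q ⊓ C : Subgroup G) ≤ Nat.card f.ker :=
    Nat.card_le_card_of_injective (fun a => ⟨⟨a.1, a.2.1⟩, by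
      have := mem_centralizer_singleton_iff.1 a.2.2.2
      show y * a.1 * y⁻¹ * (a.1)⁻¹ = 1
      rw [← this]; group⟩) fun a b h => Subtype.ext (congrArg (fun c => c.1.1) h)
  have k5 : Q.relIndex C ≤ p := h1 ▸ relIndex_le_of_le_right inf_le_left (by
    rw [h1]; exact hp.out.ne_zero)
  rw [← LocalEven.card_inf_mul_relIndex Q C, pow_two]
  exact Nat.mul_le_mul (k4.trans k3) k5

theorem comm_cent (P : Sylow p G) {N K : Subgroup G} [N.Normal] (hKN : K ≤ N)
    (hNK : N ≤ normalizer (K : Set G)) (hZ : K ⊓ centralizer (K : Set G) = ⊥)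
    (hsup : N ≤ K ⊔ (N ⊓ centralizer (K : Set G)))
    (hout : ∀ x ∈ (P : Subgroup G), x ∉ N → ∀ u ∈ K, x * u * x⁻¹ ∈ centralizer (K : Set G))
    (h2 : (⁅(P : Subgroup G), (P : Subgroup G)⁆).relIndex (N ⊓ P) = p) :
    ⁅N ⊓ P, N ⊓ P⁆ ≤ centralizer (K : Set G) := by
  classical
  have hNC : N ≤ normalizer (centralizer (K : Set G) : Set G) :=
    LocalEven.le_normalizer_centralizer hNK
  have dec : ∀ q ∈ N ⊓ (P : Subgroup G), ∃ k ∈ N ⊓ (P : Subgroup G) ⊓ K,
      k⁻¹ * q ∈ centralizer (K : Set G) := by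
    have hS : IsSylowOf p ((P : Subgroup G) ⊓ N ⊓ K) K :=
      (isSylowOf_sylow_inf_normal P N).inf_of_normal hKN (inf_le_right.trans hNK)
    have hR : IsPGroup p (K ⊓ ((N ⊓ P) ⊔ centralizer (K : Set G)) : Subgroup G) := by
      rw [LocalEven.isPGroup_iff_mem]
      rintro r ⟨hr, hr'⟩
      obtain ⟨q, hq, c, hc, e⟩ := (LocalEven.mem_sup_iff_of_le_normalizer
        (inf_le_left.trans hNC)).1 hr'
      obtain ⟨m, hm⟩ := LocalEven.isPGroup_iff_mem.1 P.2 q hq.2
      refine ⟨m, ?_⟩
      have hcm : Commute r c⁻¹ := mem_centralizer_iff.1 (Subgroup.inv_mem _ hc) r hr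
      have e2 : r ^ p ^ m * c⁻¹ ^ p ^ m = 1 := by
        rw [← hcm.mul_pow, ← e, mul_inv_cancel_right, hm]
      have : r ^ p ^ m ∈ K ⊓ centralizer (K : Set G) := ⟨pow_mem hr _, by
        rw [eq_inv_of_mul_eq_one_left e2]
        exact Subgroup.inv_mem _ (Subgroup.pow_mem _ (Subgroup.inv_mem _ hc) _)⟩
      rwa [hZ, mem_bot] at this
    have he := hS.eq_of_le hR inf_le_left (le_inf inf_le_right
      (inf_le_left.trans ((inf_comm _ _).le.trans le_sup_left)))
    intro q hq
    obtain ⟨k, hk, c, hc, e⟩ := (LocalEven.mem_sup_iff_of_le_normalizer'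
      (inf_le_left.trans hNK)).1 (hsup hq.1)
    have : k ∈ (P : Subgroup G) ⊓ N ⊓ K := by
      rw [he]
      refine ⟨hk, ?_⟩
      rw [eq_mul_inv_of_mul_eq e]
      exact mul_mem (mem_sup_left hq) (mem_sup_right (inv_mem hc.2))
    exact ⟨k, ⟨⟨this.1.2, this.1.1⟩, this.2⟩, by rw [← e, inv_mul_cancel_left]; exact hc.2⟩
  set H : Subgroup (P : Subgroup G) := N.subgroupOf P with hH
  let ι : H →* G := (P : Subgroup G).subtype.comp H.subtype
  let B : Subgroup H := (centralizer (K : Set G)).comap ι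
  haveI : B.Normal := ⟨fun b hb g => conj_mem_of_le_normalizer hNC (a := ι g) g.2 hb⟩
  let φ : H →* Abelianization (H ⧸ B) := Abelianization.of.comp (QuotientGroup.mk' B)
  let W := (MonoidHom.transfer φ).comp H.subtype
  letI : Fintype ((P : Subgroup G) ⧸ H) := Fintype.ofFinite _
  have hW : ∀ u : H, ι u ∈ K → W u = φ u := fun u hu => by
    have hr : ∀ g : (P : Subgroup G), g⁻¹ * u * g ∈ H := fun g =>
      (inferInstance : H.Normal).conj_mem' _ u.2 g
    show MonoidHom.transfer φ (u : (P : Subgroup G)) = φ u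
    rw [H2.Schur.transfer_of_fix φ hr, Finset.prod_eq_single ((1 : (P : Subgroup G)) : _ ⧸ H)]
    · have h1 : ((1 : (P : Subgroup G)) : _ ⧸ H).out ∈ H := by
        have := QuotientGroup.eq.1 (Quotient.out_eq' ((1 : (P : Subgroup G)) : _ ⧸ H)).symm
        simpa using this
      have : (⟨_, hr ((1 : (P : Subgroup G)) : _ ⧸ H).out⟩ : H) = (⟨_, h1⟩ : H)⁻¹ * u * ⟨_, h1⟩ := rfl
      rw [this, map_mul, map_mul, map_inv, mul_comm, mul_inv_cancel_left]
    · intro q _ hq
      have h1 : ((q.out⁻¹ : (P : Subgroup G)) : G) ∉ N := fun h => hq (by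
        rw [← q.out_eq', QuotientGroup.eq, mul_one]; exact h)
      have h3 : (⟨_, hr q.out⟩ : H) ∈ B := by
        have := hout _ (q.out⁻¹).2 h1 _ hu
        simpa [B, ι] using this
      show Abelianization.of (QuotientGroup.mk' B _) = 1
      rw [QuotientGroup.mk'_apply, (QuotientGroup.eq_one_iff _).2 h3, map_one]
    · simp
  have hsurj : W.range = ⊤ := by
    rw [eq_top_iff]
    intro a _
    obtain ⟨b, rfl⟩ : ∃ b, Abelianization.of b = a := Quot.exists_rep a
    obtain ⟨q, rfl⟩ := QuotientGroup.mk'_surjective B b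
    obtain ⟨k, hk, hk'⟩ := dec (ι q) ⟨q.2, q.1.2⟩
    refine ⟨⟨⟨k, hk.1.2⟩, hk.1.1⟩, ?_⟩
    rw [hW _ hk.2]
    show Abelianization.of (QuotientGroup.mk' B _) = _
    congr 1
    exact QuotientGroup.eq.2 hk'
  have hidx : (commutator (H ⧸ B)).index ∣ p := by
    have e1 : (commutator (H ⧸ B)).index = W.ker.index := by
      rw [index_ker, hsurj, card_top]; rfl
    have e2 : (commutator (P : Subgroup G)).subgroupOf H ≤ W.ker := fun u hu =>
      Abelianization.commutator_subset_ker (MonoidHom.transfer φ) hu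
    rw [e1]
    refine (index_dvd_of_le e2).trans (dvd_of_eq (Eq.trans ?_ h2))
    rw [← subgroupOf_comm, ← relIndex, hH, ← inf_subgroupOf_right N, relIndex_subgroupOf inf_le_right]
  have hpg : IsPGroup p (H ⧸ B) := (P.2.to_subgroup H).to_quotient B
  have hcm := comm_of_index hpg (Cfsg.Agent.S0012.result p hpg).1 hidx
  rw [commutator_le]
  intro a ha b hb
  have : ⁅(⟨⟨a, ha.2⟩, ha.1⟩ : H), (⟨⟨b, hb.2⟩, hb.1⟩ : H)⁆ ∈ B := by
    rw [← QuotientGroup.eq_one_iff, ← QuotientGroup.mk'_apply, map_commutatorElement,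
      commutatorElement_eq_one_iff_mul_comm]
    exact hcm _ _
  exact this

theorem fact_two (P : Sylow p G) (x : G) (hx : x ∈ (P : Subgroup G))
    (h1 : p ^ 2 ≤ Nat.card ((P : Subgroup G) ⊓ centralizer ({x} : Set G) : Subgroup G))
    (h2 : ∀ g : G, g * x * g⁻¹ ∈ (P : Subgroup G) →
      Nat.card ((P : Subgroup G) ⊓ centralizer ({g * x * g⁻¹} : Set G) : Subgroup G) ≤ p ^ 2) :
    (Nat.card (centralizer ({x} : Set G))).factorization p = 2 := by
  obtain ⟨R, hR, hle⟩ := exists_isSylowOf_ge (p := p) (K := centralizer ({x} : Set G))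
    (Q := (P : Subgroup G) ⊓ centralizer ({x} : Set G)) (P.2.to_le inf_le_left) inf_le_right
  obtain ⟨g, hg⟩ := Transfer.exists_conj_mem_sylow P hR.isPGroup
  have hxR : x ∈ R := hle ⟨hx, mem_centralizer_singleton_iff.2 rfl⟩
  have h3 : Nat.card R ≤ p ^ 2 := by
    refine le_trans ?_ (h2 g (hg x hxR))
    rw [← LocalEven.card_cj g R]
    refine card_le_of_le (le_inf (LocalEven.cj_le_iff'.2 hg) ?_)
    rw [← LocalEven.cj_centralizer_singleton]
    exact LocalEven.cj_mono g hR.le
  have h4 := le_antisymm h3 (h1.trans (card_le_of_le hle))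
  rw [hR.card_eq_pow] at h4
  exact Nat.pow_right_injective hp.out.two_le h4

end

/-- Let G be a finite group, p a prime and P a Sylow p-subgroup of order at least p². Assume that G has no nontrivial normal subgroup of order prime to p, that the derived subgroup P' of P contains no nontrivial normal subgroup of G, and that G is not almost simple (there is no non-abelian simple normal subgroup of G with trivial centralizer). Then [P : P'] = p² if and only if some p-element x of G has centralizer whose order has p-part exactly p². -/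
theorem result {G : Type*} [Group G] [Finite G] (p : ℕ) [Fact p.Prime] (P : Sylow p G) (hbig : p ^ 2 ∣ Nat.card G) (hcore : Cfsg.pPrimeCore p G = ⊥)
    (hcore' : (⁅(P : Subgroup G), (P : Subgroup G)⁆).normalCore = ⊥) (hnas : ¬ ∃ S : Subgroup G, S.Normal ∧ IsSimpleGroup S ∧ ¬ IsMulCommutative S ∧ Subgroup.centralizer (S : Set G) = ⊥) :
    (⁅(P : Subgroup G), (P : Subgroup G)⁆).relIndex (P : Subgroup G) = p ^ 2 ↔
      ∃ x : G, (∃ k : ℕ, orderOf x = p ^ k) ∧ (Nat.card (Subgroup.centralizer ({x} : Set G))).factorization p = 2 := by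
  classical
  have hp : p.Prime := Fact.out
  have hPc : p ^ 2 ∣ Nat.card (P : Subgroup G) := by
    rw [P.card_eq_multiplicity]
    exact pow_dvd_pow p ((hp.pow_dvd_iff_le_factorization Nat.card_pos.ne').1 hbig)
  have hfr := (Cfsg.Agent.S0012.result p P.2).1
  have hri : (⁅(P : Subgroup G), (P : Subgroup G)⁆).relIndex (P : Subgroup G) =
      (commutator (P : Subgroup G)).index := by rw [relIndex, subgroupOf_comm]
  have hab : (∀ a b : (P : Subgroup G), a * b = b * a) →
      (commutator (P : Subgroup G)).index = Nat.card (P : Subgroup G) := fun h => by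
    have : commutator (P : Subgroup G) = ⊥ := by
      rw [eq_bot_iff, _root_.commutator_def, commutator_le]
      intro a _ b _
      rw [mem_bot, commutatorElement_eq_one_iff_mul_comm]; exact h a b
    rw [this, index_bot]
  constructor
  swap
  · rintro ⟨x, ⟨k, hk⟩, hx⟩
    obtain ⟨g, hg⟩ := Transfer.exists_conj_mem_sylow P (LocalEven.isPGroup_zpowers_of_orderOf hk)
    have hy := hg x (mem_zpowers x)
    have h1 := le_cent hy
    obtain ⟨R, hR⟩ := exists_isSylowOf p (centralizer ({g * x * g⁻¹} : Set G))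
    have h2 := Nat.le_of_dvd Nat.card_pos (hR.card_dvd (P.2.to_le inf_le_left)
      (inf_le_right : (P : Subgroup G) ⊓ _ ≤ _))
    rw [hR.card_eq_pow, ← LocalEven.cj_centralizer_singleton, LocalEven.card_cj, hx,
      LocalEven.cj_centralizer_singleton] at h2
    rw [hri] at h1 ⊢
    obtain ⟨m, hm⟩ := P.2.index (commutator (P : Subgroup G))
    have h3 : m ≤ 2 := (Nat.pow_le_pow_iff_right hp.one_lt).1 (hm ▸ h1.trans h2)
    by_cases h4 : m = 2
    · rw [hm, h4]
    · have h5 := hab (comm_of_index P.2 hfr (by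
        rw [hm]; exact (pow_dvd_pow p (by omega : m ≤ 1)).trans (dvd_of_eq (pow_one p))))
      rw [← h5, hm, Nat.pow_dvd_pow_iff_le_right hp.one_lt] at hPc
      omega
  intro h
  by_cases hna : IsMulCommutative (P : Subgroup G)
  · refine ⟨1, ⟨0, by simp⟩, ?_⟩
    have h5 := hab fun a b => hna.1.1 a b
    rw [← hri, h, P.card_eq_multiplicity] at h5
    have : centralizer ({1} : Set G) = ⊤ := by
      rw [eq_top_iff]; intro g _; rw [mem_centralizer_singleton_iff]; simp
    rw [this, card_top]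
    exact (Nat.pow_right_injective hp.two_le h5).symm
  have hgen : (frattini (P : Subgroup G)).index = p ^ 2 := by
    have h1 := index_dvd_of_le hfr
    rw [← hri, h] at h1
    obtain ⟨m, hm, e⟩ := (Nat.dvd_prime_pow hp).1 h1
    by_contra hne
    refine hna ⟨⟨comm_of_index P.2 le_rfl ?_⟩⟩
    rw [e] at hne ⊢
    have : m ≠ 2 := fun e => hne (by rw [e])
    exact (pow_dvd_pow p (by omega : m ≤ 1)).trans (dvd_of_eq (pow_one p))
  have hfe : (frattini (P : Subgroup G)).map (P : Subgroup G).subtype =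
      ⁅(P : Subgroup G), (P : Subgroup G)⁆ := by
    have h1 := relIndex_mul_index hfr
    rw [← hri, h, hgen] at h1
    have h2 := relIndex_eq_one.1 (Nat.eq_of_mul_eq_mul_right (pow_pos hp.pos 2)
      (h1.trans (one_mul _).symm))
    rw [le_antisymm h2 hfr, map_subtype_commutator]
  obtain ⟨⟨h0, hmin⟩, -, htr⟩ := Cfsg.Agent.S4172.result p P hna hgen hcore (hfe ▸ hcore')
  set N := generalizedFittingSubgroup G with hN
  have hnl := Cfsg.Agent.S4172.not_le_normal P hcore (hfe ▸ hcore') h0
  obtain ⟨x₀, hx₀, hx₁⟩ := Cfsg.Agent.S4172.cyc (P : Subgroup G) hgen N hnl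
  have hle : ⁅(P : Subgroup G), (P : Subgroup G)⁆ ≤ N ⊓ P :=
    le_inf (Cfsg.Agent.S4172.comm_le hx₀ le_normalizer_of_normal hx₁) (commutator_le.2 fun a ha b hb => by
        rw [commutatorElement_def]
        exact mul_mem (mul_mem (mul_mem ha hb) (inv_mem ha)) (inv_mem hb))
  rw [hfe] at hnl
  have idx : ¬ (P : Subgroup G) ≤ N → (N ⊓ P : Subgroup G).relIndex P = p ∧
      (⁅(P : Subgroup G), (P : Subgroup G)⁆).relIndex (N ⊓ P) = p := fun hPN => by
    have h1 := relIndex_mul_relIndex _ _ _ hle (inf_le_right : N ⊓ (P : Subgroup G) ≤ P)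
    rw [h] at h1
    obtain ⟨m, hm, e⟩ := (Nat.dvd_prime_pow hp).1 (Dvd.intro_left _ h1)
    interval_cases m
    · exact absurd ((relIndex_eq_one.1 e).trans inf_le_left) hPN
    · rw [pow_one] at e
      rw [e, pow_two] at h1
      exact ⟨e, Nat.eq_of_mul_eq_mul_right hp.pos h1⟩
    · rw [e] at h1
      exact absurd (relIndex_eq_one.1 (Nat.eq_of_mul_eq_mul_right (pow_pos hp.pos 2)
        (h1.trans (one_mul _).symm))) hnl
  have key : ¬ (P : Subgroup G) ≤ N ∧ ∀ a ∈ N ⊓ (P : Subgroup G), ∀ b ∈ N ⊓ (P : Subgroup G),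
      a * b = b * a := by
    by_cases hc : IsMulCommutative N
    · exact ⟨fun hPN => hna ⟨⟨fun a b => Subtype.ext (comm_of_isMulCommutative hc (hPN a.2) (hPN b.2))⟩⟩,
        fun a ha b hb => comm_of_isMulCommutative hc ha.1 hb.1⟩
    have hCN : centralizer (N : Set G) = ⊥ := by
      by_contra hne
      exact hc ⟨⟨fun a b => Subtype.ext (hmin _ inferInstance hne b.2 a a.2)⟩⟩
    have hF : fittingSubgroup G = ⊥ := by
      by_contra hne
      have h1 := hmin _ inferInstance hne
      have h2 : Group.IsNilpotent N := le_fitting_iff.1 h1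
      have h3 : Nontrivial N := (nontrivial_iff_ne_bot N).2 h0
      obtain ⟨z, hz, hz1⟩ := (center N).bot_or_exists_ne_one.resolve_left
        (Group.IsNilpotent.center_ne_bot N)
      have : (z : G) ∈ centralizer (N : Set G) := fun a ha =>
        congrArg Subtype.val (mem_center_iff.1 hz ⟨a, ha⟩)
      rw [hCN, mem_bot] at this
      exact hz1 (Subtype.ext this)
    have hE : N = layer G := genFitting_eq_layer_of_fitting_eq_bot hF
    obtain ⟨K, hK⟩ : ∃ K : Subgroup G, IsComponent K := by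
      by_contra hne
      push Not at hne
      exact h0 (hE.trans (layer_eq_bot_iff.2 hne))
    have hZ : ∀ L : Subgroup G, IsComponent L → L ⊓ centralizer (L : Set G) = ⊥ := fun L hL =>
      le_bot_iff.1 (hF ▸ component_inf_centralizer_le_fitting hL)
    have hnn : ∀ L : Subgroup G, IsComponent L → ¬ (P : Subgroup G) ≤ normalizer (L : Set G) :=
      fun L hL hPL => by
        have h1 : N ≤ L := hE ▸ layer_le_iff.2 fun M hM => by
          obtain ⟨x, hx, rfl⟩ := htr hc L M hL hM
          exact LocalEven.cj_le_iff'.2 fun a ha => conj_mem_of_le_normalizer hPL hx ha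
        have h2 : L = N := le_antisymm (component_le_genFitting hL) h1
        refine hnas ⟨N, inferInstance, ?_, hc, hCN⟩
        rw [← h2]
        refine isSimpleGroup_of_quasisimple hL.2 (eq_bot_iff.2 fun z hz => ?_)
        have : (z : G) ∈ L ⊓ centralizer (L : Set G) := ⟨z.2, fun a ha =>
          congrArg Subtype.val (mem_center_iff.1 hz ⟨a, ha⟩)⟩
        rw [hZ L hL, mem_bot] at this
        exact mem_bot.2 (Subtype.ext this)
    have hPN : ¬ (P : Subgroup G) ≤ N := fun hPN =>
      hnn K hK (hPN.trans (genFitting_le_normalizer_component hK))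
    refine ⟨hPN, ?_⟩
    have h3 : ⁅N ⊓ (P : Subgroup G), N ⊓ (P : Subgroup G)⁆ ≤ centralizer (N : Set G) := by
      rw [← commutator_eq_bot_iff_le_centralizer, commutator_comm]
      nth_rewrite 1 [hE]
      rw [commutator_layer_eq_bot_iff]
      intro L hL
      rw [commutator_comm, commutator_eq_bot_iff_le_centralizer]
      refine comm_cent P (component_le_genFitting hL) (genFitting_le_normalizer_component hL)
        (hZ L hL) (genFitting_le_sup_centralizer hL) (fun x hx hxN u hu => ?_) (idx hPN).2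
      have hne : L.map (MulAut.conj x).toMonoidHom ≠ L := fun e => by
        have hxL : x ∈ normalizer (L : Set G) := LocalEven.cj_eq_self_iff.1 e
        rcases eq_or_eq_of_relIndex_prime (H := N ⊓ P) (M := normalizer (L : Set G) ⊓ P)
          (K := (P : Subgroup G)) (by rw [(idx hPN).1]; exact hp)
          (inf_le_inf_right _ (genFitting_le_normalizer_component hL)) inf_le_right with e | e
        · exact hxN (e ▸ (⟨hxL, hx⟩ : x ∈ normalizer (L : Set G) ⊓ (P : Subgroup G)) :
            x ∈ N ⊓ (P : Subgroup G)).1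
        · exact hnn L hL (e ▸ inf_le_left)
      exact commutator_eq_bot_iff_le_centralizer.1
        (component_commutator_eq_bot_of_ne (component_conj hL x) hL hne) ⟨u, hu, rfl⟩
    rw [hCN, le_bot_iff, commutator_eq_bot_iff_le_centralizer] at h3
    exact fun a ha b hb => (h3 hb a ha)
  obtain ⟨x, hx, hxN⟩ := SetLike.not_le_iff_exists.1 key.1
  refine ⟨x, LocalEven.orderOf_of_mem_isPGroup P.2 hx, fact_two P x hx (h ▸ le_cent hx)
    fun g hg => cent_le inf_le_right (LocalEven.le_normalizer_inf le_normalizer_of_normal le_normalizer)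
      key.2 (idx key.1).1 hle (idx key.1).2 hg fun hq => hxN ?_⟩
  have := (inferInstance : N.Normal).conj_mem' _ hq.1 g
  simpa [mul_assoc] using this

end Cfsg.Agent.S4587
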