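import Mathlib
import Cfsg.Statements.S4594
import Cfsg.Agent.ZI4.Main
import Cfsg.Agent.S2116
import Cfsg.Agent.H2.Schur1

set_option autoImplicit false
open Cfsg

namespace Cfsg.Agent.S4594

open Cfsg.Agent.ZI4 Cfsg.Agent.LocalEven Subgroup

/-- Let G be a finite quasisimple group with a non-abelian Sylow 2-subgroup P whose centre has index 4 in P. Then P has order 8, and G is isomorphic to the alternating group on 7 letters, or G has centre of order 3 with central quotient isomorphic to the alternating group on 7 letters, or the central quotient of G is isomorphic to PSL(2, F) for some finite field F of odd order. -/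
theorem result {G : Type*} [Group G] [Finite G] (hq : Cfsg.IsQuasisimple G) (P : Sylow 2 G) (hna : ¬ IsMulCommutative (P : Subgroup G)) (hZ : (Subgroup.center (P : Subgroup G)).index = 4) :
    Nat.card (P : Subgroup G) = 8 ∧
      (Nonempty (G ≃* alternatingGroup (Fin 7)) ∨
       (Nat.card (Subgroup.center G) = 3 ∧ Nonempty (G ⧸ Subgroup.center G ≃* alternatingGroup (Fin 7))) ∨
       ∃ (F : Type) (_ : Field F) (_ : Fintype F), Odd (Fintype.card F) ∧ Nonempty (G ⧸ Subgroup.center G ≃* Matrix.ProjectiveSpecialLinearGroup (Fin 2) F)) := by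
  obtain ⟨z, h⟩ := exists_st (isSylowIn_top P) hna hZ
  obtain ⟨h1, h2⟩ := h.main hq
  have h8 : Nat.card (P : Subgroup G) = 8 := by
    have h3 : Nat.card (center (P : Subgroup G)) = 2 := Nat.card_eq_two_iff.2
      ⟨1, ⟨⟨z, h.zP⟩, mem_center_iff.2 fun g => Subtype.ext (h.cz g.2)⟩,
        fun h3 => h.z1 (congrArg (fun x => (x.1 : G)) h3).symm, Set.eq_univ_of_forall fun a =>
          (h1 a.1 ⟨a.1.2, fun x hx => congrArg Subtype.val (mem_center_iff.1 a.2 ⟨x, hx⟩)⟩).imp
            (fun h => Subtype.ext (Subtype.ext h)) fun h => Subtype.ext (Subtype.ext h)⟩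
    rw [← (center (P : Subgroup G)).card_mul_index, h3, hZ]
  refine ⟨h8, h2.symm.elim (fun ⟨e⟩ => ?_) fun h2 => .inr (.inr h2)⟩
  have hk : (e.toMonoidHom.comp (QuotientGroup.mk' (center G))).ker = center G := by
    ext g
    simp
  obtain ⟨π, hπ⟩ := H2.Schur.has_ker (S2116.result 7 (.inr rfl))
    (ξ := e.toMonoidHom.comp (QuotientGroup.mk' (center G)))
    ⟨e.surjective.comp (QuotientGroup.mk'_surjective _), hk.le, hq.1.1 ▸ le_top⟩
  have h3 := card_dvd_of_surjective π hπ
  rw [hk, Nat.card_congr Multiplicative.toAdd, Nat.card_zmod] at h3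
  have h4 := (center G).card_mul_index
  have h5 := (P : Subgroup G).card_mul_index
  have h6 := P.not_dvd_index
  have h7 : (center G).index = 2520 := by
    have := two_mul_nat_card_alternatingGroup (α := Fin 7)
    rw [Nat.card_perm, Nat.card_fin] at this
    rw [index, Nat.card_congr e.toEquiv]
    rw [show Nat.factorial 7 = 5040 from rfl] at this
    omega
  have h9 : Nat.card (center G) = 1 ∨ Nat.card (center G) = 3 := by
    have := Nat.le_of_dvd (by norm_num) h3
    rw [h7, ← h5, h8] at h4
    interval_cases Nat.card (center G) <;> omega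
  rcases h9 with h9 | h9
  · exact .inl ⟨((QuotientGroup.quotientMulEquivOfEq (card_eq_one.1 h9)).trans
      QuotientGroup.quotientBot).symm.trans e⟩
  · exact .inr (.inl ⟨h9, ⟨e⟩⟩)

end Cfsg.Agent.S4594
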