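import Mathlib
import Cfsg.Agent.Core.PHall
import Cfsg.Statements.S4602
-- import your own Cfsg.Agent.* helpers here

set_option autoImplicit false
open Cfsg

namespace Cfsg.Agent.S4602

/-- Let G be a finite p-solvable group and q a prime different from p. Some Sylow p-subgroup of G normalizes some Sylow q-subgroup of G if and only if q does not divide the order of G/O_{p'}(G), the quotient by the largest normal subgroup of order prime to p. -/
theorem result {G : Type*} [Group G] [Finite G] (p q : ℕ) [Fact p.Prime] [Fact q.Prime] (hpq : p ≠ q) (hsolv : Cfsg.IsPSolvable p G) :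
    (∃ (P : Sylow p G) (Q : Sylow q G), (P : Subgroup G) ≤ Subgroup.normalizer ((Q : Subgroup G) : Set G)) ↔ ¬ q ∣ (Cfsg.pPrimeCore p G).index := by
  have hp : p.Prime := Fact.out
  have hq : q.Prime := Fact.out
  constructor
  · rintro ⟨P, Q, h⟩
    set N := Cfsg.pPrimeCore p G with hN
    set f := QuotientGroup.mk' N with hf
    have hQc : (Nat.card ((Q : Subgroup G).map f)).Coprime p :=
      (Core.coprime_of_isPGroup (Q.isPGroup'.map f) ((Nat.coprime_primes hp hq).mpr hpq)).symm
    have hV := Core.isPConstrained_iff.mp (Core.IsPSolvable.isPConstrained hsolv)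
    have hP := Core.IsSylowOf.map (Core.isSylowOf_top P) f
    rw [Subgroup.map_top_of_surjective f (QuotientGroup.mk'_surjective N)] at hP
    have hVP : Cfsg.pCore p (G ⧸ N) ≤ (P : Subgroup G).map f :=
      Core.IsSylowOf.normal_le hP (Core.pCore_isPGroup p) le_top Subgroup.le_normalizer_of_normal
    have h1 : (Q : Subgroup G).map f = ⊥ := by
      apply Core.eq_bot_of_le_centralizer_pCore hV hQc
      rw [Core.le_centralizer_iff_commutator_eq_bot', eq_bot_iff]
      refine (le_inf ?_ (Subgroup.commutator_le_right _ _)).trans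
        (Core.disjoint_of_coprime (Core.coprime_of_isPGroup (Core.pCore_isPGroup p) hQc)).le_bot
      exact Core.commutator_le_of_le_normalizer (hVP.trans (Core.map_le_normalizer_map h f))
    rw [Subgroup.map_eq_bot_iff, QuotientGroup.ker_mk'] at h1
    exact fun hd => Q.not_dvd_index (hd.trans (Subgroup.index_dvd_of_le h1))
  · intro h
    obtain ⟨P⟩ : Nonempty (Sylow p G) := inferInstance
    obtain ⟨Q, hQ, hPQ⟩ := Core.exists_invariant_isSylowOf (P : Subgroup G) (Cfsg.pPrimeCore p G)
      Subgroup.le_normalizer_of_normal (Core.coprime_pPrimeCore_of_isPGroup P.isPGroup')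
      (Or.inl (Core.solvable_of_isPGroup P.isPGroup')) q
    obtain ⟨Q', hQ'⟩ := Core.IsSylowOf.exists_sylow_top
      (Core.IsSylowOf.trans hQ le_top (by rwa [Subgroup.relIndex_top_right]))
    exact ⟨P, Q', by rwa [hQ']⟩

end Cfsg.Agent.S4602
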