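import Mathlib
import Cfsg.Statements.S4611
import Cfsg.Agent.Isaacs.PrB

set_option autoImplicit false
open Cfsg

namespace Cfsg.Agent.S4611

open Cfsg.Agent.Block Cfsg.Agent.Char Subgroup

/-- Let G be a finite solvable group and π a nonempty set of primes, each dividing the order of G; fix for each p in π a maximal ideal M p of the algebraic integers containing p. Then the only irreducible character lying in the principal p-block for every p in π is the principal character if and only if G is generated by the subgroups O_{p'}(G), p in π (the largest normal subgroups of order prime to p). -/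
theorem result {G : Type*} [Group G] [Finite G] [Group.IsSolvable G] (π : Set ℕ) (hπ : ∀ p ∈ π, p.Prime ∧ p ∣ Nat.card G) (hne : π.Nonempty) (M : ℕ → Ideal Cfsg.AlgInt) (hM : ∀ p ∈ π, Cfsg.IsPModular p (M p)) :
    (∀ χ : Cfsg.IrrCharacter G, (∀ p ∈ π, χ ∈ Cfsg.principalBlock (M p) G) → (χ : G → ℂ) = fun _ => 1) ↔
      ⨆ p ∈ π, Cfsg.pPrimeCore p G = ⊤ := by
  classical
  have key : ∀ χ : IrrCharacter G, (∀ p ∈ π, χ ∈ principalBlock (M p) G) ↔
      (⨆ p ∈ π, pPrimeCore p G) ≤ charKer (χ : G → ℂ) := fun χ => by
    rw [iSup₂_le_iff]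
    refine forall₂_congr fun p hp => ?_
    have : Fact p.Prime := ⟨(hπ p hp).1⟩
    rw [Isaacs.mem_principal_iff (hM p hp) (Core.isPConstrained_of_solvable p inferInstance),
      Isaacs.ker_iff (irr_isChar χ)]
  have hN : (⨆ p ∈ π, pPrimeCore p G).Normal :=
    inferInstance
  simp_rw [key]
  constructor
  · intro h
    rw [eq_top_iff]
    intro z _
    refine mem_of_forall_irr_charKer _ fun χ hχ hk => ?_
    have := h ⟨χ, hχ⟩ hk
    exact (congrFun this z).trans (congrFun this 1).symm
  · intro h χ hk
    exact isIrr_eq_one_of_charKer_eq_top χ.2 (top_le_iff.1 (h ▸ hk))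

end Cfsg.Agent.S4611
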