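import Mathlib
import Cfsg.Statements.S4724
import Cfsg.Agent.Block.Ito7
import Cfsg.Agent.S0674
import Cfsg.Agent.S0675
import Cfsg.Agent.S0676
import Cfsg.Agent.S4508
-- import your own Cfsg.Agent.* helpers here

set_option autoImplicit false
open Cfsg

namespace Cfsg.Agent.S4724

open Cfsg.Agent.Block Cfsg.Agent.Char Subgroup MulAction in

/-- Let G be a transitive permutation group of prime degree p having exactly one irreducible character of degree p. Let P be a Sylow p-subgroup and suppose N_G(P) = P·E for a subgroup E with P ∩ E = 1, such that the normalizer of E has order 2·#E and E meets each of its conjugates by elements outside its normalizer trivially. Then p is 5, 7 or 11 and G is isomorphic to PSL(2, p). -/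
theorem result {α : Type*} [Fintype α] [DecidableEq α] {p : ℕ} [Fact p.Prime] (hα : Fintype.card α = p) (G : Subgroup (Equiv.Perm α)) [MulAction.IsPretransitive G α] (huniq : ∃! χ : Cfsg.IrrCharacter G, Cfsg.charDegree (χ : G → ℂ) = p) (P : Sylow p G) (E : Subgroup G) (hPE : (P : Subgroup G) ⊔ E = Subgroup.normalizer ((P : Subgroup G) : Set G)) (hPE' : (P : Subgroup G) ⊓ E = ⊥) (hNE : Nat.card (Subgroup.normalizer (E : Set G)) = 2 * Nat.card E) (hTI : ∀ g : G, g ∉ Subgroup.normalizer (E : Set G) → E ⊓ E.map (MulAut.conj g).toMonoidHom = ⊥) : (p = 5 ∨ p = 7 ∨ p = 11) ∧ ∃ (F : Type) (_ : Field F) (_ : Fintype F), Fintype.card F = p ∧ Nonempty (G ≃* Matrix.ProjectiveSpecialLinearGroup (Fin 2) F) := by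
  have := Fintype.ofFinite G
  have hp : p.Prime := Fact.out
  have hα' := Nat.card_eq_fintype_card.trans hα
  have : Nontrivial α := Fintype.one_lt_card_iff_nontrivial.1 (hα ▸ hp.one_lt)
  obtain ⟨χ, hχ, hu⟩ := huniq
  have hc := Perm.prime_degree_card_sylow hα' P
  have hcent := Perm.prime_degree_centralizer hα' _ hc
  have hO := ordP_sylow P hc
  have h76 := fun h => S0676.result hα G h P
  obtain ⟨u, hu1, hP⟩ := Perm.exists_zpowers_eq_of_card_prime _ hc
  rw [hP] at hc hcent hO h76 hPE hPE'
  have hE : E ≤ normalizer (zpowers u : Set G) := hPE ▸ le_sup_right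
  have := (isCyclic_normalizer_quot hp hc).1
  obtain ⟨x, rfl⟩ := E.isCyclic_iff_exists_zpowers_eq_top.1 (isCyclic_of_injective
    ((QuotientGroup.mk' ((centralizer (zpowers u : Set G)).subgroupOf _)).comp (inclusion hE))
    ((injective_iff_map_eq_one _).2 fun f hf => Subtype.ext (mem_bot.1 (hPE' ▸
      ⟨hcent.le ((QuotientGroup.eq_one_iff (inclusion hE f)).1 hf), f.2⟩))))
  have h : Cmp p u x := ⟨⟨hO, hcent.le⟩, hE (mem_zpowers x), disjoint_iff.2 hPE', hPE⟩
  have t : TIc x := ⟨hNE, fun g f hf h1 h2 => by_contra fun hg => h1 (by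
    simpa using mem_bot.1 (hTI g hg ▸ ⟨h2, f, hf, rfl⟩ : g * f * g⁻¹ ∈ (⊥ : Subgroup G)))⟩
  have hx : x ≠ 1 := by
    rintro rfl
    rw [zpowers_one_eq_bot, normalizer_eq_top, card_top, card_bot] at hNE
    have := isCyclic_of_prime_card (p := 2) hNE
    exact hp.one_lt.ne' (hχ.symm.trans (charDegree_of_eq
      ((isIrr_degree_one_of_comm χ.2).trans Nat.cast_one.symm)))
  have hG := h.perfect hx hu hχ
  have sx : SX p u := ⟨hp, hu1, by rw [← hcent, zpowers_eq_closure, centralizer_closure]⟩
  have : Nontrivial G := ⟨⟨x, 1, hx⟩⟩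
  have : IsPreprimitive G α := IsPreprimitive.of_prime_card (hα' ▸ hp)
  have : IsSimpleGroup G := ⟨fun K _ => or_iff_not_imp_left.2 fun hK => by
    have := Perm.transitive_of_normal (α := α) K hK
    exact top_le_iff.1 (hG ▸ sx.commutator_le (hα' ▸ Perm.dvd_card_of_transitive))⟩
  have hns : ¬ Group.IsSolvable G := fun _ =>
    (Group.IsSolvable.commutator_lt_top_of_nontrivial G).ne hG
  have h2 := (S0675.result (hα ▸ hp) G).resolve_left hns
  have h3 := (S4508.result p hp u hu1 sx.cent _ rfl ⟨_, (isIrr_perm_sub_one_iff α).2 h2⟩ (by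
    have := hp.one_le
    rw [charDegree_of_eq (n := p - 1) (by simp [hα, this]), Nat.sub_add_cancel this])).resolve_right
    (by simp [hG])
  have h4 := sx.te rfl
  have h5 := h.relIndex
  rw [hcent] at h5
  rw [h5] at h4
  obtain ⟨k, hk⟩ := h3
  have h6 : 2 * Nat.card (zpowers x) + 1 ≤ p := by
    have := hp.one_lt
    rw [hk] at h4
    rcases k with _ | k
    · omega
    · nlinarith
  have h7 := (one_lt_card_iff_ne_bot _).2 (mt zpowers_eq_bot.1 hx)
  rcases (Nat.card (zpowers x)).even_or_odd with he | he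
  · obtain ⟨e, h8⟩ := h.even_case t hα' he h6 (h76 hns (h.card_N' ▸ he.mul_left _))
    exact ⟨Or.inl e, ZMod p, inferInstance, inferInstance, ZMod.card p, h8⟩
  · obtain ⟨M, hM⟩ := exists_isPModular hp
    have := charP_F hM
    obtain ⟨ψ, a1, a2, a3, a4⟩ := h.exists_psi t hG he hx hu hχ hα (by omega) h2 hM
      (S0674.result hα G hns)
    obtain ⟨e, h8⟩ := h.odd_case t hG he hx hα (by omega) a1 a2 a3 a4
    exact ⟨Or.inr e, ZMod p, inferInstance, inferInstance, ZMod.card p, h8⟩

end Cfsg.Agent.S4724
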