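import Mathlib
import Cfsg.Statements.S4745
import Cfsg.Agent.Block.Even
import Cfsg.Agent.Block.FongReynolds
import Cfsg.Agent.Block.Height
import Cfsg.Agent.Char.IndTI
import Cfsg.Agent.Char.Constit
import Cfsg.Agent.Ben.Cons
import Cfsg.Agent.S4743
import Cfsg.Agent.Core.PSolvable
import Cfsg.Agent.Core.Product

set_option autoImplicit false
open Cfsg

namespace Cfsg.Agent.S4745

open Cfsg.Agent.Block Cfsg.Agent.Char Cfsg.Agent.Core Subgroup MulAction
open scoped ComplexConjugate

/-- An irreducibility criterion for induced characters when `G = H ∪ H t H`. -/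
theorem isIrr_ind {G : Type*} [Group G] [Fintype G] {H : Subgroup G} [Fintype H] {t : G}
    (hd : ∀ x : G, x ∉ H → ∃ h₁ ∈ H, ∃ h₂ ∈ H, x = h₁ * t * h₂) {θ : H → ℂ}
    (hθ : IsIrrCharacter H θ)
    (h0 : ∑ h : H, θ h * conj (extendByZero H θ (t⁻¹ * h * t)) = 0) :
    IsIrrCharacter G (indFun H θ) := by
  classical
  have hcl : IsClassFunction H θ := isChar_classFun (isIrr_isChar hθ)
  refine Constit.isIrr_of_inner_self (IndRep.isChar_indFun H (isIrr_isChar hθ)) ?_
  rw [IndTI.inner_indFun_indFun]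
  have hH : (Nat.card H : ℂ) ≠ 0 := Nat.cast_ne_zero.2 Nat.card_pos.ne'
  have h1 : ∑ h : H, θ h * conj (θ h) = Nat.card H := by
    have := classInner_isIrr_self hθ
    rw [classInner] at this
    field_simp at this
    exact this
  have key : ∀ x : G, ∑ h : H, θ h * conj (extendByZero H θ (x⁻¹ * h * x)) =
      if x ∈ H then (Nat.card H : ℂ) else 0 := fun x => by
    split_ifs with hx
    · rw [← h1]
      refine Finset.sum_congr rfl fun h _ => ?_
      rw [Ind.extendByZero_conj H hcl ⟨x, hx⟩, Ind.extendByZero_coe]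
    · obtain ⟨h₁, hh₁, h₂, hh₂, rfl⟩ := hd x hx
      rw [← h0]
      refine Fintype.sum_equiv (MulAut.conj (⟨h₁, hh₁⟩ : H)⁻¹).toEquiv _ _ fun h => ?_
      have e1 : (h₁ * t * h₂)⁻¹ * h * (h₁ * t * h₂) =
          ((⟨h₂, hh₂⟩ : H) : G)⁻¹ * (t⁻¹ * (h₁⁻¹ * h * h₁) * t) * (⟨h₂, hh₂⟩ : H) := by
        simp only; group
      rw [e1, Ind.extendByZero_conj H hcl]
      simp only [MulEquiv.toEquiv_eq_coe, EquivLike.coe_coe, MulAut.conj_apply]
      rw [hcl, inv_inv]
      rfl
  simp_rw [key]
  rw [← Finset.sum_filter, Finset.sum_const, nsmul_eq_mul]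
  have : (Finset.univ.filter fun x : G => x ∈ H).card = Nat.card H := by
    rw [Nat.card_eq_fintype_card, Fintype.card_subtype]
  rw [this]
  field_simp

theorem exists_irr {G Ω : Type*} [Group G] [Finite G] [MulAction G Ω] {a : Ω} {t : G}
    {Q : Subgroup G} (hS : IsRankOneSetup G Ω a t Q) {k : G}
    (hk : k ∈ invertedBy (stabilizer G a ⊓ stabilizer G (t • a)) t) (hk1 : k ≠ 1) :
    ∃ χ : IrrCharacter G, (stabilizer G a).index ∣ charDegree (χ : G → ℂ) := by
  classical
  have := Fintype.ofFinite G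
  set H := stabilizer G a with hH
  set D := H ⊓ stabilizer G (t • a) with hD
  have ht := hS.mul_self
  have hti : t⁻¹ = t := inv_eq_of_mul_eq_one_right ht
  have htD : ∀ d ∈ D, t⁻¹ * d * t ∈ D := fun d hd => by
    refine ⟨?_, ?_⟩
    · change (t⁻¹ * d * t) • a = a
      rw [mul_smul, mul_smul, show d • t • a = t • a from hd.2, inv_smul_smul]
    · change (t⁻¹ * d * t) • t • a = t • a
      rw [mul_smul, mul_smul, ← mul_smul t t, ht, one_smul, show d • a = a from hd.1, hti]
  let τ : D →* D :=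
    { toFun := fun d => ⟨t⁻¹ * d * t, htD d d.2⟩
      map_one' := Subtype.ext (by simp)
      map_mul' := fun x y => Subtype.ext (by simp only [coe_mul]; group) }
  have hτ : Function.Surjective τ := Finite.surjective_of_injective fun x y e => by
    have := congrArg Subtype.val e
    exact Subtype.ext (by simpa [τ] using this)
  have hQ : (Q.subgroupOf H).Normal := ⟨fun x hx g => hS.conj_mem g g.2 x hx⟩
  let f : D →* H ⧸ Q.subgroupOf H := (QuotientGroup.mk' _).comp (inclusion inf_le_left)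
  have hf : Function.Bijective f := by
    constructor
    · rw [injective_iff_map_eq_one]
      intro x hx
      have h1 : (x : G) ∈ Q :=
        (QuotientGroup.eq_one_iff (N := Q.subgroupOf H) (inclusion inf_le_left x)).1 hx
      have h2 : (x : G) ∈ Q ⊓ stabilizer G (t • a) := ⟨h1, x.2.2⟩
      rw [hS.inf_eq_bot] at h2
      exact Subtype.ext h2
    · intro y
      obtain ⟨y, rfl⟩ := QuotientGroup.mk_surjective y
      have h1 : (Q.subgroupOf H) ⊔ (D.subgroupOf H) = ⊤ := by
        rw [← subgroupOf_sup hS.le inf_le_left, hS.sup_eq, subgroupOf_self]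
      have h2 : y ∈ ((Q.subgroupOf H) ⊔ (D.subgroupOf H) : Subgroup H) := h1 ▸ mem_top y
      obtain ⟨q, hq, d, hd, rfl⟩ := mem_sup_of_normal_left.1 h2
      refine ⟨⟨d, hd⟩, ?_⟩
      change ((d : H) : H ⧸ Q.subgroupOf H) = (q * d : H)
      rw [QuotientGroup.mk_mul, (QuotientGroup.eq_one_iff q).2 hq, one_mul]
  let e := MulEquiv.ofBijective f hf
  let π : H →* D := e.symm.toMonoidHom.comp (QuotientGroup.mk' _)
  have hπ : ∀ d : D, π (inclusion inf_le_left d) = d := fun d => e.symm_apply_apply d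
  have hπs : Function.Surjective π := fun d => ⟨_, hπ d⟩
  have hnc : ¬ IsConj (⟨k, hk.1⟩ : D) (τ ⟨k, hk.1⟩) := fun hc => by
    obtain ⟨c, hc⟩ := isConj_iff.1 hc
    have h1 : (c : G) * k * (c : G)⁻¹ = k⁻¹ := by
      have := congrArg Subtype.val hc
      have h2 := hk.2
      rw [hti] at h2
      simpa [τ, hti, h2] using this
    have h2 : Odd (orderOf (c : G)) := Ben.odd_orderOf_of_mem hS.odd_card c.2
    have h3 : Odd (orderOf k) := Ben.odd_orderOf_of_mem hS.odd_card hk.1
    have h4 : ∀ n : ℕ, (c : G) ^ (2 * n) * k * ((c : G) ^ (2 * n))⁻¹ = k := fun n => by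
      induction n with
      | zero => simp
      | succ n ih =>
        have : (c : G) ^ (2 * (n + 1)) * k * ((c : G) ^ (2 * (n + 1)))⁻¹ =
            c * (c * ((c : G) ^ (2 * n) * k * ((c : G) ^ (2 * n))⁻¹) * (c : G)⁻¹) * (c : G)⁻¹ := by
          rw [mul_add, mul_one, add_comm, pow_add, sq]; group
        rw [this, ih, h1, ← conj_inv, h1, inv_inv]
    obtain ⟨m, hm⟩ := h2
    have h5 := h4 (m + 1)
    rw [show 2 * (m + 1) = orderOf (c : G) + 1 by omega, pow_succ, pow_orderOf_eq_one, one_mul,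
      h1] at h5
    have h6 : k ^ 2 = 1 := by rw [sq]; exact inv_eq_iff_mul_eq_one.1 h5
    exact hk1 (orderOf_eq_one_iff.1 (Nat.eq_one_of_dvd_coprimes (Nat.coprime_two_left.2 h3)
      (orderOf_dvd_of_pow_eq_one h6) dvd_rfl |>.symm ▸ rfl))
  rw [isConj_iff_forall_irr] at hnc
  push Not at hnc
  obtain ⟨μ, hμ⟩ := hnc
  have hμτ : IsIrrCharacter D fun d => (μ : D → ℂ) (τ d) := isIrr_comp_surjective τ hτ μ.2
  have hne : (μ : D → ℂ) ≠ fun d => (μ : D → ℂ) (τ d) := fun e => hμ (congrFun e _)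
  have h0 := classInner_isIrr_ne μ.2 hμτ hne
  have hθ : IsIrrCharacter H fun h => (μ : D → ℂ) (π h) := isIrr_comp_surjective π hπs μ.2
  have hirr := isIrr_ind (t := t) (fun x hx => ?_) hθ ?_
  · exact ⟨⟨_, hirr⟩, (charDegree_indFun (isIrr_isChar hθ)).symm ▸ dvd_mul_right _ _⟩
  · have h2 := hS.two_transitive
    rw [is_two_pretransitive_iff] at h2
    obtain ⟨g, hg1, hg2⟩ := h2 (a := a) (b := t • a) (c := a) (d := x • a)
      (fun e => hS.not_mem e.symm) (fun e => hx e.symm)
    refine ⟨g, hg1, (g * t)⁻¹ * x, ?_, by group⟩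
    change ((g * t)⁻¹ * x) • a = a
    rw [mul_smul, ← hg2, ← mul_smul g, inv_smul_smul]
  · rw [classInner, mul_eq_zero, inv_eq_zero, Nat.cast_eq_zero] at h0
    rw [← h0.resolve_left Nat.card_pos.ne']
    symm
    refine Fintype.sum_of_injective (inclusion (inf_le_left : D ≤ H)) (inclusion_injective _) _ _
      (fun h hh => ?_) fun d => ?_
    · rw [Ind.extendByZero_of_notMem, map_zero, mul_zero]
      intro h1
      refine hh ⟨⟨h, h.2, ?_⟩, rfl⟩
      change (h : G) • t • a = t • a
      have h2 : (t⁻¹ * h * t) • a = a := h1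
      rwa [mul_smul, mul_smul, inv_smul_eq_iff] at h2
    · rw [hπ, coe_inclusion, Ind.extendByZero_of_mem H _ (htD d d.2).1]
      exact congrArg (fun x => (μ : D → ℂ) d * conj ((μ : D → ℂ) x)) (hπ (τ d)).symm

/-- Let p be an odd prime and G a finite group of even order divisible by p in which the centralizer of every non-identity p-element has odd order, and suppose G acts faithfully and transitively on a set with p ^ r elements, r ≥ 1. Then either G has an irreducible character of p-defect zero, or G is p-solvable and has an irreducible character of 2-defect zero. -/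
theorem result {G Ω : Type*} [Group G] [Finite G] [MulAction G Ω] [FaithfulSMul G Ω] [Fintype Ω] (htr : MulAction.IsPretransitive G Ω) (p : ℕ) [Fact p.Prime] (hp2 : p ≠ 2) (hpG : p ∣ Nat.card G) (h2G : 2 ∣ Nat.card G) (hC : ∀ g : G, g ≠ 1 → (∃ k : ℕ, orderOf g = p ^ k) → Odd (Nat.card ↥(Subgroup.centralizer ({g} : Set G)))) (r : ℕ) (hr : 1 ≤ r) (hΩ : Fintype.card Ω = p ^ r) : (∃ χ : Cfsg.IrrCharacter G, (Cfsg.charDegree (χ : G → ℂ)).factorization p = (Nat.card G).factorization p) ∨ (Cfsg.IsPSolvable p G ∧ ∃ χ : Cfsg.IrrCharacter G, (Cfsg.charDegree (χ : G → ℂ)).factorization 2 = (Nat.card G).factorization 2) := by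
  have hp : p.Prime := Fact.out
  by_cases hno : ∃ χ : IrrCharacter G,
      (charDegree (χ : G → ℂ)).factorization p = (Nat.card G).factorization p
  · exact .inl hno
  have h := noTwoP_of_odd hC
  obtain ⟨P⟩ : Nonempty (Sylow p G) := inferInstance
  obtain ⟨t, ht⟩ := @exists_prime_orderOf_dvd_card' G _ _ 2 ⟨Nat.prime_two⟩ h2G
  obtain ⟨s, -, hs⟩ := h.exists_conj_inverts hp2 hno ht P
  have hab : ∀ x ∈ (P : Subgroup G), ∀ y ∈ (P : Subgroup G), x * y = y * x := fun x hx y hy =>
    commute_of_inverts hs hx hy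
  have hlt : 1 < Fintype.card Ω := hΩ ▸ Nat.one_lt_pow (by omega) hp.one_lt
  have hind : ∀ a : Ω, (stabilizer G a).index = p ^ r := fun a => by
    rw [index_stabilizer_of_transitive, Nat.card_eq_fintype_card, hΩ]
  have hcop : ∀ a : Ω, (P : Subgroup G).index.Coprime (stabilizer G a).index := fun a => by
    rw [hind]
    exact ((hp.coprime_iff_not_dvd.2 P.not_dvd_index).symm.pow_right r)
  have hPtr : ∀ a b : Ω, ∃ x ∈ (P : Subgroup G), x • a = b := fun a b => by
    obtain ⟨g, rfl⟩ := htr.exists_smul_eq a b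
    obtain ⟨x, hx, y, hy, rfl⟩ := exists_mul_of_coprime_index (hcop a) g
    exact ⟨x, hx, by rw [mul_smul, show y • a = a from hy]⟩
  have hreg : ∀ a : Ω, ∀ x ∈ (P : Subgroup G), x • a = a → x = 1 := fun a x hx hxa =>
    eq_of_smul_eq_smul (α := Ω) fun b => by
      obtain ⟨y, hy, rfl⟩ := hPtr a b
      rw [one_smul, ← mul_smul, hab x hx y hy, mul_smul, hxa]
  have hodd : Odd (Fintype.card Ω) := hΩ ▸ (hp.odd_of_ne_two hp2).pow
  have hSE : Ben.SE G Ω := by
    refine ⟨htr.exists_smul_eq, Fintype.exists_pair_of_one_lt_card hlt, ⟨t, Ben.sq_of_two ht⟩,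
      fun u _ hu => ?_, fun u hu1 hu c d hc hd => ?_⟩
    · obtain ⟨c, -, hc⟩ := Ben.exists_fix_of_odd (Ω := Ω) hu Set.finite_univ (fun _ _ => trivial)
        (by rwa [Set.ncard_univ, Nat.card_eq_fintype_card])
      exact ⟨c, hc⟩
    · obtain ⟨v, hv, hvP⟩ := h.exists_conj_inverts hp2 hno
        (orderOf_eq_prime (by rw [sq, hu]) hu1) P
      obtain ⟨g, rfl⟩ := isConj_iff.1 hv
      obtain ⟨x, hx, hxc⟩ := hPtr (g • c) (g • d)
      have h1 : (g * u * g⁻¹) • g • c = g • c := by
        rw [mul_smul, inv_smul_smul, mul_smul, hc]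
      have h2 : (g * u * g⁻¹) • g • d = g • d := by
        rw [mul_smul, inv_smul_smul, mul_smul, hd]
      have h3 : (x * x) • g • c = g • c := by
        have h4 : (g * u * g⁻¹) * x = x⁻¹ * (g * u * g⁻¹) := by rw [← hvP x hx]; group
        rw [← hxc, ← mul_smul, h4, mul_smul, h1, inv_smul_eq_iff] at h2
        rw [mul_smul, ← h2]
      have h5 := hreg _ _ (mul_mem hx hx) h3
      have h6 : Odd (orderOf x) :=
        Ben.odd_orderOf_of_mem (Ben.odd_of_pgroup hp hp2 P.isPGroup') hx
      have h7 : x = 1 := orderOf_eq_one_iff.1 (Nat.eq_one_of_dvd_coprimes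
        (Nat.coprime_two_left.2 h6) (orderOf_dvd_of_pow_eq_one (by rw [sq, h5])) dvd_rfl)
      rw [h7, one_smul] at hxc
      exact smul_left_cancel g hxc
  obtain ⟨a⟩ : Nonempty Ω := Fintype.card_pos_iff.1 (by omega)
  have hPH : (P : Subgroup G) ⊓ stabilizer G a = ⊥ := eq_bot_iff.2 fun x hx => hreg a x hx.1 hx.2
  have hcard : Nat.card (stabilizer G a) = (P : Subgroup G).index := by
    have h1 := index_inf_of_coprime (hcop a)
    rw [hPH, index_bot, ← (stabilizer G a).card_mul_index] at h1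
    exact Nat.eq_of_mul_eq_mul_right (Nat.pos_of_ne_zero index_ne_zero_of_finite) h1
  have hnd : ¬ p ∣ Nat.card (stabilizer G a) := hcard ▸ P.not_dvd_index
  by_cases h2 : Suz.TwoRank G
  · exfalso
    obtain ⟨t, Q, hS⟩ := Ben.bender hSE h2 a
    have hne : a ≠ t • a := fun e => hS.not_mem e.symm
    have h1 := hSE.one_lt_nn h2 a
    rw [← hSE.card_K hne hS.mul_self rfl] at h1
    have := Finite.one_lt_card_iff_nontrivial.1 h1
    obtain ⟨k, hk⟩ := exists_ne
      (⟨1, one_mem _, by simp⟩ : invertedBy (Ben.D2 G a (t • a)) t)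
    obtain ⟨χ, hχ⟩ := exists_irr hS k.2 fun e => hk (Subtype.ext e)
    refine hno ⟨χ, le_antisymm (factorization_degree_le χ) ?_⟩
    have h3 : charDegree (χ : G → ℂ) ≠ 0 := fun e => by
      have := irr_degree_dvd χ
      rw [e, zero_dvd_iff] at this
      exact Nat.card_pos.ne' this
    rw [← (stabilizer G a).card_mul_index, Nat.factorization_mul Nat.card_pos.ne'
      index_ne_zero_of_finite, Finsupp.add_apply, Nat.factorization_eq_zero_of_not_dvd hnd, zero_add]
    exact (Nat.factorization_le_iff_dvd index_ne_zero_of_finite h3).2 hχ p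
  · have h1 := Ben.oddCore_sup_se (hSE.isSE a) h2
    have hsol : IsPSolvable p G := by
      refine IsPSolvable.extension (oddCore G)
        (isPSolvable_of_solvable p (Ben.solvable_of_odd Inv.odd_card_oddCore))
        (isPSolvable_of_coprime ((hp.coprime_iff_not_dvd.2 fun hd => hnd (hd.trans ?_)).symm))
      refine card_dvd_of_surjective ((QuotientGroup.mk' (oddCore G)).comp (stabilizer G a).subtype)
        fun y => ?_
      obtain ⟨y, rfl⟩ := QuotientGroup.mk_surjective y
      obtain ⟨o, ho, z, hz, rfl⟩ := mem_sup_of_normal_left.1 (h1 ▸ mem_top y)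
      refine ⟨⟨z, hz⟩, ?_⟩
      change (z : G ⧸ oddCore G) = (o * z : G)
      rw [QuotientGroup.mk_mul, (QuotientGroup.eq_one_iff o).2 ho, one_mul]
    have := Fact.mk Nat.prime_two
    exact .inr ⟨hsol, (S4743.result p 2 hp2 hpG h2G (fun g hg hk hd =>
      Nat.not_even_iff_odd.2 (hC g hg hk) (even_iff_two_dvd.2 hd)) (.inl hsol)).resolve_left hno⟩

end Cfsg.Agent.S4745
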