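import Mathlib
import Cfsg.Statements.S4756
import Cfsg.Agent.Isaacs.Camina
import Cfsg.Agent.Core.Pprod
import Cfsg.Agent.Core.CoprimeGen
import Cfsg.Agent.Transfer.Residual
import Cfsg.Agent.Core.PConstrained
-- import your own Cfsg.Agent.* helpers here

set_option autoImplicit false
open Cfsg

namespace Cfsg.Agent.S4756

open Cfsg.Agent.Char Cfsg.Agent.Isaacs Cfsg.Agent.Core Subgroup

theorem oc {G : Type*} [Group G] {x y : G} (h : IsConj x y) : orderOf x = orderOf y :=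
  have ⟨c, e⟩ := h; SemiconjBy.orderOf_eq c.1 e

theorem fwd {G : Type*} [Group G] [Finite G] : (∀ (x y : G) (χ : Cfsg.IrrCharacter G), x ≠ 1 → y ≠ 1 → (∃ p q a b : ℕ, p.Prime ∧ q.Prime ∧ p ≠ q ∧ orderOf x = p ^ a ∧ orderOf y = q ^ b) → (χ : G → ℂ) (x * y) = (χ : G → ℂ) x * (χ : G → ℂ) y) → ((∃ p : ℕ, p.Prime ∧ IsPGroup p G) ∨ IsMulCommutative G ∨ ∃ (p : ℕ) (_ : Fact p.Prime) (P : Sylow p G) (A : Subgroup G), (P : Subgroup G).Normal ∧ IsCyclic ↥A ∧ A ≠ ⊥ ∧ (Nat.card ↥A).Coprime p ∧ A ⊔ (P : Subgroup G) = ⊤ ∧ IsMulCommutative ↥((P : Subgroup G) ⊓ Subgroup.centralizer (A : Set G)) ∧ (⁅A, (P : Subgroup G)⁆).Normal ∧ ((P : Subgroup G) ⊓ Subgroup.centralizer (A : Set G)) ⊔ ⁅A, (P : Subgroup G)⁆ = (P : Subgroup G) ∧ ((P : Subgroup G) ⊓ Subgroup.centralizer (A : Set G)) ⊓ ⁅A, (P : Subgroup G)⁆ = ⊥ ∧ ∀ a ∈ A, a ≠ 1 → ∀ d ∈ ⁅A, (P : Subgroup G)⁆, a * d = d * a → d = 1) := by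
  have := Fintype.ofFinite G
  intro h
  have K : ∀ x y : G, x ≠ 1 → y ≠ 1 → (∃ p q a b : ℕ, p.Prime ∧ q.Prime ∧ p ≠ q ∧ orderOf x = p ^ a ∧
      orderOf y = q ^ b) → ∀ d ∈ commutator G, IsConj (x * y * d) (x * y) := fun x y hx hy e d hd =>
    conj_of_vanish (fun χ a b => by
      have s := isIrr_sum_conj_mul (irr_top.mp a) x y
      rw [Finset.sum_congr rfl fun g _ => (h _ y ⟨χ, irr_top.mp a⟩ (by simpa using hx) hy (by
        rwa [← oc (isConj_iff.mpr ⟨g, rfl⟩ : IsConj x _)])).trans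
        (congrArg (· * χ y) (a.inv g trivial x trivial)), Finset.sum_const, Finset.card_univ, nsmul_eq_mul,
        ← Nat.card_eq_fintype_card, eq_div_iff a.one_ne] at s
      refine (h x y ⟨χ, irr_top.mp a⟩ hx hy e).trans ?_
      exact (mul_eq_zero.mp (show (Nat.card G * (χ 1 - 1)) * (χ x * χ y) = 0 by linear_combination s)).resolve_left
        (mul_ne_zero (Nat.cast_ne_zero.mpr Nat.card_pos.ne') (sub_ne_zero.mpr b))) hd
  refine or_iff_not_imp_left.mpr fun h1 => or_iff_not_imp_left.mpr fun h2 => ?_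
  have hD : commutator G ≠ ⊥ := fun e => h2 ((commutator_eq_bot_iff G).mp e)
  obtain ⟨p, hp, dp⟩ := Nat.exists_prime_and_dvd (fun e => hD (card_eq_one.mp e))
  have := Fact.mk hp
  have pD : IsPGroup p (commutator G) := isPGroup_iff_isPiSubgroup.mpr fun q hq dq => by_contra fun e => by
    have := Fact.mk hq
    obtain ⟨x, hx⟩ := exists_prime_orderOf_dvd_card' p dp
    obtain ⟨y, hy⟩ := exists_prime_orderOf_dvd_card' q dq
    rw [← orderOf_coe] at hx hy
    have := K x y (fun i => hp.one_lt.ne' (by simp [← hx, i])) (fun i => hq.one_lt.ne' (by simp [← hy, i]))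
      ⟨p, q, 1, 1, hp, hq, Ne.symm e, by simp [hx], by simp [hy]⟩ _ (x * y)⁻¹.2
    rw [coe_inv, coe_mul, mul_inv_cancel, isConj_one_right, mul_eq_one_iff_eq_inv] at this
    exact e (by rw [← hy, ← orderOf_inv, ← this, hx]; rfl)
  obtain ⟨P, hP⟩ := pD.exists_le_sylow
  have nP : (P : Subgroup G).Normal := normalizer_eq_top_iff.mp (top_le_iff.mp (norm_of_comm_le le_top hP))
  obtain ⟨A, hA⟩ := exists_right_complement'_of_coprime P.card_coprime_index
  have cA : (Nat.card A).Coprime p := by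
    rw [← hA.symm.index_eq_card, Nat.coprime_comm, hp.coprime_iff_not_dvd]
    exact P.not_dvd_index
  have cP := coprime_of_isPGroup P.isPGroup' cA
  have cD := coprime_of_le_right cP hP
  have f : ∀ a ∈ A, a ≠ 1 → commutator G ⊓ centralizer {a} ≤ ⊥ := fun a ha a1 d hd => by_contra fun d1 => by
    obtain ⟨q, hq, k, hk⟩ := Nat.exists_prime_and_dvd (fun e => a1 (orderOf_eq_one_iff.mp e))
    have o : orderOf (a ^ k) = q := by
      rw [orderOf_pow_of_dvd (fun i => (orderOf_pos a).ne' (by simp [hk, i])) ⟨q, hk.trans (mul_comm _ _)⟩, hk,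
        Nat.mul_div_cancel _ (Nat.pos_of_ne_zero fun i => (orderOf_pos a).ne' (by simp [hk, i]))]
    obtain ⟨j, hj⟩ := IsPGroup.iff_orderOf.mp pD ⟨d, hd.1⟩
    rw [← orderOf_coe] at hj
    have qp : q.Coprime p := cA.coprime_dvd_left (o ▸ orderOf_dvd_natCard _ (A.pow_mem ha k))
    have c : Commute d (a ^ k) := Commute.pow_right (mem_centralizer_singleton_iff.mp hd.2) k
    have := oc (K d (a ^ k) d1 (fun i => hq.one_lt.ne' (by simp [← o, i])) ⟨p, q, j, 1, hp, hq, fun i => hq.one_lt.ne'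
      (by simpa [i] using qp), hj, by simp [o]⟩ _ (inv_mem hd.1))
    rw [c.eq, mul_inv_cancel_right, c.symm.orderOf_mul_eq_mul_orderOf_of_coprime
      (by rw [o, hj]; exact qp.pow_right j), eq_comm, Nat.mul_eq_left (orderOf_pos _).ne'] at this
    exact d1 (orderOf_eq_one_iff.mp this)
  have hA1 : A ≠ ⊥ := fun e => h1 ⟨p, hp, by
    have := hA.sup_eq_top
    rw [e, sup_bot_eq] at this
    exact (this ▸ P.isPGroup').of_equiv topEquiv⟩
  have ab : ∀ X : Subgroup G, X ⊓ commutator G ≤ ⊥ → IsMulCommutative X := fun X e =>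
    isMulCommutative_iff_commutator_eq_bot.mpr (le_bot_iff.mp (le_trans (le_inf (commutator_le_self X)
      (commutator_mono le_top le_top)) e))
  have e : ⁅A, (P : Subgroup G)⁆ = commutator G := le_antisymm (commutator_mono le_top le_top) (by
    obtain ⟨⟨a, ha⟩, a1⟩ := ne_bot_iff_exists_ne_one.mp hA1
    rw [← commutator_sup_centralizer A _ norm_top cD (.inr (solvable_of_isPGroup pD)), commutator_comm A]
    exact sup_le (commutator_mono hP le_rfl) (((inf_le_inf_left _ (centralizer_le (by simpa))).trans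
      (f a ha fun i => a1 (Subtype.ext i))).trans bot_le))
  have z : ((P : Subgroup G) ⊓ centralizer (A : Set G)) ⊓ commutator G ≤ ⊥ := by
    obtain ⟨⟨a, ha⟩, a1⟩ := ne_bot_iff_exists_ne_one.mp hA1
    exact (le_inf inf_le_right ((inf_le_left.trans inf_le_right).trans (centralizer_le (by simpa)))).trans
      (f a ha fun i => a1 (Subtype.ext i))
  have cy : IsCyclic A := by_contra fun i => hD (le_bot_iff.mp (le_of_centralizers
    (ab A (disjoint_iff.mp (disjoint_of_coprime cD)).le) i norm_top cD f))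
  refine ⟨p, this, P, A, nP, cy, hA1, cA, (sup_comm _ _).trans hA.sup_eq_top, ab _ z,
    by rw [e]; infer_instance, ?_, by rw [e]; exact le_bot_iff.mp z, fun a ha a1 d hd i => f a ha a1
      ⟨e.le hd, mem_centralizer_singleton_iff.mpr i.symm⟩⟩
  rw [sup_comm, commutator_comm]
  exact commutator_sup_centralizer A _ norm_top cP (.inr (solvable_of_isPGroup P.isPGroup'))

theorem bwd {G : Type*} [Group G] [Finite G] : ((∃ p : ℕ, p.Prime ∧ IsPGroup p G) ∨ IsMulCommutative G ∨ ∃ (p : ℕ) (_ : Fact p.Prime) (P : Sylow p G) (A : Subgroup G), (P : Subgroup G).Normal ∧ IsCyclic ↥A ∧ A ≠ ⊥ ∧ (Nat.card ↥A).Coprime p ∧ A ⊔ (P : Subgroup G) = ⊤ ∧ IsMulCommutative ↥((P : Subgroup G) ⊓ Subgroup.centralizer (A : Set G)) ∧ (⁅A, (P : Subgroup G)⁆).Normal ∧ ((P : Subgroup G) ⊓ Subgroup.centralizer (A : Set G)) ⊔ ⁅A, (P : Subgroup G)⁆ = (P : Subgroup G) ∧ ((P : Subgroup G) ⊓ Subgroup.centralizer (A : Set G)) ⊓ ⁅A, (P : Subgroup G)⁆ = ⊥ ∧ ∀ a ∈ A,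 a ≠ 1 → ∀ d ∈ ⁅A, (P : Subgroup G)⁆, a * d = d * a → d = 1)  → (∀ (x y : G) (χ : Cfsg.IrrCharacter G), x ≠ 1 → y ≠ 1 → (∃ p q a b : ℕ, p.Prime ∧ q.Prime ∧ p ≠ q ∧ orderOf x = p ^ a ∧ orderOf y = q ^ b) → (χ : G → ℂ) (x * y) = (χ : G → ℂ) x * (χ : G → ℂ) y) := by
  rintro h x y χ hx hy ⟨r, s, a, b, hr, hs, rs, ox, oy⟩
  have c : (orderOf x).Coprime (orderOf y) := ox ▸ oy ▸ Nat.coprime_pow_primes a b hr hs rs
  have i := irr_top.mpr χ.2
  have pg : ∀ (p : ℕ) (X : Subgroup G), p.Prime → IsPGroup p X → x ∈ X → y ∈ X → False := fun p X hp h u v => by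
    have := Fact.mk hp
    obtain ⟨j, hj⟩ := IsPGroup.iff_orderOf.mp h ⟨x, u⟩
    obtain ⟨k, hk⟩ := IsPGroup.iff_orderOf.mp h ⟨y, v⟩
    rw [← orderOf_coe] at hj hk
    exact hp.one_lt.ne' (Nat.eq_one_of_dvd_coprimes c
      (hj ▸ dvd_pow_self p fun e => hx (orderOf_eq_one_iff.mp (by simpa [e] using hj)))
      (hk ▸ dvd_pow_self p fun e => hy (orderOf_eq_one_iff.mp (by simpa [e] using hk))))
  rcases h with ⟨p, hp, h⟩ | h | ⟨p, hp, P, A, nP, cy, -, cA, e, ab, nD, e', -, f⟩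
  · exact (pg p ⊤ hp (h.to_subgroup ⊤) trivial trivial).elim
  · exact i.chr.map_mul (isIrr_degree_one_of_comm χ.2) trivial trivial
  by_cases k : Ker ⁅A, (P : Subgroup G)⁆ χ
  · refine i.chr.map_mul (i.one_of_ker (k.mono ?_)) trivial trivial
    have := commutator_sup_le_sup_commutator (K := ⁅A, (P : Subgroup G)⁆)
      (U := ((P : Subgroup G) ⊓ centralizer (A : Set G)) ⊔ A) norm_top
    rw [← sup_assoc, sup_comm ⁅A, _⁆, e', sup_comm _ A, e] at this
    refine this.trans (sup_le le_rfl ((commutator_sup_sup_le norm_top norm_top ?_ ?_ ?_).trans bot_le))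
    · exact (isMulCommutative_iff_commutator_eq_bot.mp ab).le
    · rw [commutator_comm]
      exact (le_centralizer_iff_commutator_eq_bot.mp inf_le_right).le
    · exact (isMulCommutative_iff_commutator_eq_bot.mp inferInstance).le
  have v : ∀ g, g ∉ (P : Subgroup G) → χ.1 g = 0 := fun g hg => i.zero_of_fpf norm_top le_top k trivial fun d hd j => by
    obtain ⟨m, hm⟩ := Transfer.exists_pow_coprime_order (p := p) (orderOf_pos g).ne'
    obtain ⟨n, -, hn⟩ := exists_conj_le_of_le_sup P (zpowers (g ^ p ^ m)) A norm_top norm_top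
      (coprime_of_isPGroup P.isPGroup' (by rwa [Nat.card_zpowers])) (.inl inferInstance) (by rw [sup_comm, e]; exact le_top)
    have := f _ (conj_smul_le_iff.mp hn _ (mem_zpowers _)) (fun i => hg (le_of_normal_sylow hp.out norm_top
      (relIndex_top_right (P : Subgroup G) ▸ P.not_dvd_index) (mem_top g) (k := m) (by
        rw [show g ^ p ^ m = 1 by simpa using i]; exact one_mem _))) _ (nD.conj_mem d hd n) (by
      simp only [mul_assoc, inv_mul_cancel_left]
      rw [← mul_assoc d, ← mul_assoc (g ^ _), (Commute.pow_right j _).eq])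
    simpa using this
  have w : ¬ (x ∈ (P : Subgroup G) ∧ y ∈ (P : Subgroup G)) := fun u => pg p P hp.out P.isPGroup' u.1 u.2
  rw [v (x * y) fun u => w ?_, eq_comm, mul_eq_zero]
  · exact (not_and_or.mp w).imp (v x) (v y)
  have u' : (x : G ⧸ (P : Subgroup G)) = (y : G ⧸ (P : Subgroup G))⁻¹ :=
    eq_inv_of_mul_eq_one_left ((QuotientGroup.eq_one_iff _).mpr u)
  have : x ∈ (P : Subgroup G) := (QuotientGroup.eq_one_iff _).mp (orderOf_eq_one_iff.mp (Nat.eq_one_of_dvd_coprimes c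
    (orderOf_map_dvd (QuotientGroup.mk' _) x) (by
      rw [u', orderOf_inv]; exact orderOf_map_dvd (QuotientGroup.mk' _) y)))
  exact ⟨this, (mul_mem_cancel_left this).mp u⟩


/-- For a finite group G the following are equivalent. (1) χ(x y) = χ(x) χ(y) for every irreducible character χ and all non-identity elements x, y of prime power orders for two different primes. (2) G is a p-group for some prime p, or G is abelian, or for some prime p: G = A P with P a normal Sylow p-subgroup and A a nontrivial cyclic subgroup of order prime to p such that, with C = C_P(A) and D = [A, P], one has P = C D, C abelian, D normal in G, C ∩ D = 1, and A acts fixed-point-freely on D (no non-identity element of A centralizes a non-identity element of D). -/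
theorem result {G : Type*} [Group G] [Finite G] : (∀ (x y : G) (χ : Cfsg.IrrCharacter G), x ≠ 1 → y ≠ 1 → (∃ p q a b : ℕ, p.Prime ∧ q.Prime ∧ p ≠ q ∧ orderOf x = p ^ a ∧ orderOf y = q ^ b) → (χ : G → ℂ) (x * y) = (χ : G → ℂ) x * (χ : G → ℂ) y) ↔ ((∃ p : ℕ, p.Prime ∧ IsPGroup p G) ∨ IsMulCommutative G ∨ ∃ (p : ℕ) (_ : Fact p.Prime) (P : Sylow p G) (A : Subgroup G), (P : Subgroup G).Normal ∧ IsCyclic ↥A ∧ A ≠ ⊥ ∧ (Nat.card ↥A).Coprime p ∧ A ⊔ (P : Subgroup G) = ⊤ ∧ IsMulCommutative ↥((P : Subgroup G) ⊓ Subgroup.centralizer (A : Set G)) ∧ (⁅A, (P : Subgroup G)⁆).Normal ∧ ((P : Subgroup G) ⊓ Subgroup.centralizer (A : Set G)) ⊔ ⁅A, (P : Subgroup G)⁆ = (P : Subgroup G) ∧ ((P : Subgroup G) ⊓ Subgroup.centralizer (A : Set G)) ⊓ ⁅A, (P : Subgroup G)⁆ = ⊥ ∧ ∀ a ∈ A, a ≠ 1 → ∀ d ∈ ⁅A, (P : Subgroup G)⁆, a * d = d * a → d = 1) := by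
  exact ⟨fwd, bwd⟩

end Cfsg.Agent.S4756
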