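import Mathlib
import Cfsg.Statements.S4757
import Cfsg.Agent.Isaacs.Camina
import Cfsg.Agent.Core.Pprod
-- import your own Cfsg.Agent.* helpers here

set_option autoImplicit false
open Cfsg

namespace Cfsg.Agent.S4757

open Cfsg.Agent.Char Cfsg.Agent.Isaacs Cfsg.Agent.Core Subgroup
open scoped ComplexConjugate

/-- Let u ≠ 1 be an element of the finite group G and c a complex number such that every non-principal irreducible character χ satisfies χ(1) − χ(u) = c or χ(u) = 0. Then the following are equivalent: (a) u has order 2, G is generated by u together with O(G), the largest normal subgroup of G of odd order, and the centralizer of u is {1, u}; (b) G is not perfect; (c) c = 2. -/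
theorem result {G : Type*} [Group G] [Finite G] (u : G) (hu : u ≠ 1) (c : ℂ) (hyp : ∀ χ : Cfsg.IrrCharacter G, (χ : G → ℂ) ≠ (fun _ => (1 : ℂ)) → ((χ : G → ℂ) 1 - (χ : G → ℂ) u = c ∨ (χ : G → ℂ) u = 0)) : ((orderOf u = 2 ∧ Subgroup.zpowers u ⊔ Cfsg.oddCore G = ⊤ ∧ Subgroup.centralizer ({u} : Set G) = Subgroup.zpowers u) ↔ commutator G ≠ ⊤) ∧ (commutator G ≠ ⊤ ↔ c = 2) := by
  classical
  have hy : ∀ χ, Irr ⊤ χ → χ ≠ (fun _ => 1) → χ u ≠ 0 → χ 1 - χ u = c := fun χ a b e =>
    (hyp ⟨χ, irr_top.mp a⟩ b).resolve_right e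
  have A : commutator G ≠ ⊤ → c = 2 ∧ (∀ χ, Irr ⊤ χ → χ 1 ≠ 1 → χ u = 0) ∧ u ∉ commutator G := fun h => by
    obtain ⟨z, hz⟩ : ∃ z, z ∉ commutator G := by simpa [eq_top_iff'] using h
    obtain ⟨l, a, b, e⟩ := exists_irr_not_ker norm_top le_top trivial hz
    have l1 := a.one_of_ker b
    have l2 : l ≠ fun _ => 1 := fun i => e (by rw [i])
    have l3 := hy l a l2 (a.chr.ne_zero l1 trivial)
    have l4 := hy _ a.cnj (fun i => l2 (funext fun x => by simpa using congrArg conj (congrFun i x)))
      (by simpa using a.chr.ne_zero l1 trivial)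
    have l5 := a.chr.mul_conj l1 (x := u) trivial
    simp only [l1, map_one] at l3 l4
    have c0 : c ≠ 0 := fun i => hu (eq_one_of_nat fun χ x => by
      obtain ⟨n, -, hn⟩ := x.deg
      by_cases j : χ = fun _ => 1
      · exact ⟨1, by simp [j]⟩
      by_cases k : χ u = 0
      · exact ⟨0, by simp [k]⟩
      · exact ⟨n * n, by rw [← sub_eq_zero.mp ((hy χ x j k).trans i), hn, Nat.cast_mul]⟩)
    have c2 : c = 2 := mul_left_cancel₀ c0 (by
      linear_combination l5 + (1 - c) * l3 + l u * l4)
    have l6 : l u = -1 := by linear_combination -l3 - c2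
    refine ⟨c2, fun χ x y => by_contra fun k => k ?_, fun i => ?_⟩
    · have h1 := hy χ x (fun i => y (by rw [i])) k
      have h2 := hy _ (x.lin_mul a.chr l1) (fun i => y (by simpa [l1] using congrFun i 1)) (by simpa [l6] using k)
      simp only [Pi.mul_apply, l1, l6] at h2
      linear_combination (h2 - h1) / 2
    · have := b u i
      rw [l6, l1] at this
      norm_num at this
  refine ⟨⟨?_, fun h => ?_⟩, fun h => (A h).1, fun h i => hu (eq_one_of_nat fun χ x => ?_)⟩
  · rintro ⟨h1, h2, -⟩ i
    have := commutator_sup_le_sup_commutator (K := oddCore G) (U := zpowers u) norm_top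
    rw [sup_comm, h2, ← _root_.commutator_def, i, isMulCommutative_iff_commutator_eq_bot.mp inferInstance,
      sup_bot_eq] at this
    exact not_dvd_card_pPrimeCore Nat.prime_two (h1 ▸ orderOf_dvd_natCard _ (this (mem_top u)))
  · obtain ⟨c2, v, hn⟩ := A h
    have k : Nat.card (centralizer ({u} : Set G)) = 2 := by
      have s := congrArg₂ (· + ·) (sum_irr_one_mul_of_ne hu) (sum_irr_mul_conj_of_isConj (IsConj.refl u))
      simp only [← Finset.sum_add_distrib, zero_add] at s
      rw [Finset.sum_eq_single ⟨_, isIrr_one⟩ (fun χ _ j => ?_) (by simp)] at s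
      · exact_mod_cast s.symm.trans (by norm_num : _ = (2 : ℂ))
      have x := irr_top.mpr χ.2
      by_cases y : χ.1 1 = 1
      · have := hy _ x (fun i => j (Subtype.ext i)) (x.chr.ne_zero y trivial)
        rw [x.chr.mul_conj y trivial]
        linear_combination -this - c2 + (χ.1 u + 1) * y
      · simp [v _ x y]
    have uu : u ∈ centralizer ({u} : Set G) := mem_centralizer_singleton_iff.mpr rfl
    have w : ∀ w ∈ centralizer ({u} : Set G), w ≠ 1 → w = u := fun w a b =>
      congrArg Subtype.val (((Nat.card_eq_two_iff' 1).mp k).unique (y₁ := ⟨w, a⟩) (y₂ := ⟨u, uu⟩)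
        (fun i => b (congrArg Subtype.val i)) fun i => hu (congrArg Subtype.val i))
    have z : zpowers u = centralizer {u} := le_antisymm (zpowers_le_of_mem uu) fun x a => by
      by_cases b : x = 1
      · exact b ▸ one_mem _
      · exact w x a b ▸ mem_zpowers x
    have o : orderOf u = 2 := by rw [← Nat.card_zpowers, z, k]
    refine ⟨o, ?_, z.symm⟩
    have i2 : (commutator G).index = 2 := (card_cent_of_vanish v).symm.trans k
    have odd : ¬ 2 ∣ Nat.card (commutator G) := fun d => by
      have := Fact.mk Nat.prime_two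
      have pu : IsPGroup 2 (zpowers u) := IsPGroup.of_card (n := 1) (by rw [Nat.card_zpowers, o, pow_one])
      obtain ⟨S, hS, l⟩ := exists_isSylowOf_ge pu le_top
      have s := hS.inf_of_normal (N := commutator G) le_top norm_top
      obtain ⟨⟨x, x1, x2⟩, x3⟩ := ne_bot_iff_exists_ne_one.mp (inf_centralizer_ne_bot_of_isPGroup s.isPGroup pu
        (le_normalizer_inf (l.trans le_normalizer) norm_top) (s.ne_bot d))
      exact hn (w x (centralizer_le (by simp) x2) (fun i => x3 (Subtype.ext i)) ▸ x1.2)
    have l : commutator G ≤ oddCore G := le_pPrimeCore inferInstance ((Nat.prime_two.coprime_iff_not_dvd.mpr odd).symm)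
    rw [eq_top_iff']
    intro x
    by_cases j : x ∈ commutator G
    · exact mem_sup_right (l j)
    · simpa using mul_mem_sup (mem_zpowers u) (l ((mul_mem_iff_of_index_two i2 (a := u⁻¹) (b := x)).mpr
        (by simp [hn, j])))
  · obtain ⟨n, n0, hn⟩ := x.deg
    by_cases j : χ = fun _ => 1
    · exact ⟨1, by simp [j]⟩
    by_cases k : χ u = 0
    · exact ⟨0, by simp [k]⟩
    have n1 : n ≠ 1 := fun e => j (funext fun g => by
      have := x.chr.ker_comm (by rw [hn, e, Nat.cast_one]) g (by rw [← _root_.commutator_def, i]; trivial)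
      rw [this, hn, e, Nat.cast_one])
    refine ⟨n * (n - 2), ?_⟩
    rw [Nat.cast_mul, Nat.cast_sub (by omega), ← hn]
    have := hy χ x j k
    congr 1
    linear_combination -this - h

end Cfsg.Agent.S4757
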