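import Mathlib
import Cfsg.Statements.S4776
import Cfsg.Agent.Block.RelDeg2
-- import your own Cfsg.Agent.* helpers here

set_option autoImplicit false
open Cfsg

namespace Cfsg.Agent.S4776

open Cfsg.Agent.Block.RD in

/-- Let N be a normal subgroup of the finite group G that is not perfect and is contained in the derived subgroup of G. Consider the common-divisor graph on the relative degree set cd(G|N) (the degrees of the irreducible complex characters of G whose kernel does not contain N; two distinct degrees adjacent when they have a common divisor greater than one). Then this graph has at most two connected components; and if a, b ∈ cd(G|N) lie in different components, then one of a, b is coprime to the index m of the derived subgroup of N in N while the other is divisible by every prime divisor of m. -/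
theorem result {G : Type*} [Group G] [Finite G] (N : Subgroup G) [N.Normal] (hN : ⁅N, N⁆ < N) (hNG : N ≤ commutator G) : Nat.card (Cfsg.commonDivisorGraph.induce (Cfsg.relCharDegrees N)).ConnectedComponent ≤ 2 ∧ ∀ (a b : ℕ) (ha : a ∈ Cfsg.relCharDegrees N) (hb : b ∈ Cfsg.relCharDegrees N), ¬ (Cfsg.commonDivisorGraph.induce (Cfsg.relCharDegrees N)).Reachable ⟨a, ha⟩ ⟨b, hb⟩ → (Nat.Coprime a (⁅N, N⁆.relIndex N) ∧ ∀ r : ℕ, r.Prime → r ∣ ⁅N, N⁆.relIndex N → r ∣ b) ∨ (Nat.Coprime b (⁅N, N⁆.relIndex N) ∧ ∀ r : ℕ, r.Prime → r ∣ ⁅N, N⁆.relIndex N → r ∣ a) := by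
  have := Fintype.ofFinite G
  refine ⟨by_contra fun hc => ?_, fun a b ha hb h => relIndex_comm N ▸ dich hNG h⟩
  have := Nat.finite_of_card_ne_zero (show Nat.card (gr N).ConnectedComponent ≠ 0 by
    intro e; exact hc (e.trans_le (by norm_num)))
  have := Fintype.ofFinite (gr N).ConnectedComponent
  obtain ⟨x, y, z, h1, h2, h3⟩ := Fintype.two_lt_card_iff.1
    ((not_le.1 hc).trans_eq Nat.card_eq_fintype_card)
  obtain ⟨a, rfl⟩ := x.exists_rep
  obtain ⟨b, rfl⟩ := y.exists_rep
  obtain ⟨c, rfl⟩ := z.exists_rep
  exact h1 (SimpleGraph.ConnectedComponent.sound (reach_of_not hNG hN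
    (fun e => h2 (SimpleGraph.ConnectedComponent.sound e))
    fun e => h3 (SimpleGraph.ConnectedComponent.sound e)))

end Cfsg.Agent.S4776
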