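import Mathlib
import Cfsg.Statements.S4779
import Cfsg.Agent.Block.RelDeg2
-- import your own Cfsg.Agent.* helpers here

set_option autoImplicit false
open Cfsg

namespace Cfsg.Agent.S4779

open Cfsg.Agent.Block.RD in

/-- Let N be a solvable normal subgroup of the finite group G contained in the derived subgroup of G, and consider the common-divisor graph on the relative degree set cd(G|N) (degrees of irreducible complex characters of G whose kernel does not contain N, two distinct degrees adjacent when not coprime). If this graph has two vertices that are not joined by any path, then there is a vertex a₀ such that any two distinct vertices in the component of a₀ are adjacent, and any two distinct vertices outside that component are adjacent or have a common neighbour (one component is complete, the other has diameter at most 2). -/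
theorem result {G : Type*} [Group G] [Finite G] (N : Subgroup G) [N.Normal] [Group.IsSolvable N] (hNG : N ≤ commutator G) (hdisc : ¬ (Cfsg.commonDivisorGraph.induce (Cfsg.relCharDegrees N)).Preconnected) : ∃ a₀ : ↥(Cfsg.relCharDegrees N), (∀ b c : ↥(Cfsg.relCharDegrees N), (Cfsg.commonDivisorGraph.induce (Cfsg.relCharDegrees N)).Reachable a₀ b → (Cfsg.commonDivisorGraph.induce (Cfsg.relCharDegrees N)).Reachable a₀ c → b ≠ c → (Cfsg.commonDivisorGraph.induce (Cfsg.relCharDegrees N)).Adj b c) ∧ (∀ b c : ↥(Cfsg.relCharDegrees N), ¬ (Cfsg.commonDivisorGraph.induce (Cfsg.relCharDegrees N)).Reachable a₀ b → ¬ (Cfsg.commonDivisorGraph.induce (Cfsg.relCharDegrees N)).Reachable a₀ c → b ≠ c → (Cfsg.commonDivisorGraph.induce (Cfsg.relCharDegrees N)).Adj b c ∨ ∃ d : ↥(Cfsg.relCharDegrees N), (Cfsg.commonDivisorGraph.induce (Cfsg.relCharDegrees N)).Adj b d ∧ (Cfsg.commonDivisorGraph.induce (Cfsg.relCharDegrees N)).Adj d c) := by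
  have := Fintype.ofFinite G
  simp only [SimpleGraph.Preconnected, not_forall] at hdisc
  obtain ⟨a, c, h⟩ := hdisc
  obtain ⟨p, hp, h1⟩ := exists_prime (comm_lt a)
  wlog hc : a.1.Coprime (commutator N).index generalizing a c
  · exact this c a (fun e => h e.symm) ((dich hNG h).resolve_left fun e => hc e.1).1
  have h2 : ∀ b, (gr N).Reachable c b → p ∣ b.1 := fun b hb =>
    ((dich hNG fun e : (gr N).Reachable a b => h (e.trans hb.symm)).resolve_right fun e =>
      not_coprime hp.one_lt.ne' (e.2 p hp h1) h1 hc).2 p hp h1
  refine ⟨c, fun b d hb hd e => adj e (not_coprime hp.one_lt.ne' (h2 b hb) (h2 d hd)),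
    fun b d hb hd e => ?_⟩
  obtain ⟨x, hx, h3, h4⟩ := common _ N rfl hNG b d c (fun e => hb e.symm) fun e => hd e.symm
  by_cases e1 : b = ⟨x, hx⟩
  · exact Or.inl (adj (Ne.symm e) (e1 ▸ h4)).symm
  by_cases e2 : d = ⟨x, hx⟩
  · exact Or.inl (adj e (e2 ▸ h3))
  · exact Or.inr ⟨⟨x, hx⟩, adj e1 h3, (adj e2 h4).symm⟩

end Cfsg.Agent.S4779
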