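import Mathlib
import Cfsg.Statements.S4805
import Cfsg.Agent.Spc.VnC
import Cfsg.Agent.Char.Kernel
import Cfsg.Agent.Block.Omega
-- import your own Cfsg.Agent.* helpers here

set_option autoImplicit false
open Cfsg

namespace Cfsg.Agent.S4805

open Cfsg.Agent.Char Cfsg.Agent.Spc.Vn Subgroup Finset
open scoped ComplexConjugate _root_.Classical

theorem sum_lin {G : Type*} [Group G] [Finite G] (x : G) :
    ∑ ψ ∈ univ.filter (fun ψ : IrrCharacter G => (ψ : G → ℂ) 1 = 1), (ψ : G → ℂ) x =
      if x ∈ commutator G then ((commutator G).index : ℂ) else 0 := by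
  have := sum_irr_quotient (commutator G) (fun f => f x)
  rw [filter_congr fun ψ _ => (isIrr_degree_one_iff ψ.2).symm] at this
  rw [← this]
  have c : IsMulCommutative (G ⧸ commutator G) := inferInstanceAs (IsMulCommutative (Abelianization G))
  have a := sum_irr_one_mul (x : G ⧸ commutator G)
  rw [sum_congr rfl fun ψ _ => by rw [isIrr_degree_one_iff ψ.2 |>.mpr (by
    rw [(commutator_eq_bot_iff _).mpr c]; exact bot_le), one_mul], regChar_apply] at a
  rw [a]
  simp only [QuotientGroup.eq_one_iff]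
  rfl

/-- Let G be a finite group, g an element outside the centre of G, and χ an irreducible complex character of degree greater than one with χ(g) ≠ 0 such that every other irreducible character of degree greater than one vanishes at g. Then g lies in the derived subgroup G′ and χ(g) = −[G : G′]/χ(1); G′ is the union of the kernel of χ (the elements where χ takes the value χ(1)) and the conjugacy class of g, and χ vanishes outside G′; every irreducible character of degree greater than one whose kernel contains that of χ equals χ; and G is solvable. -/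
theorem result {G : Type*} [Group G] [Finite G] (g : G) (hg : g ∉ Subgroup.center G) (χ : Cfsg.IrrCharacter G) (hχ1 : Cfsg.charDegree (χ : G → ℂ) ≠ 1) (hχg : (χ : G → ℂ) g ≠ 0) (hother : ∀ ψ : Cfsg.IrrCharacter G, Cfsg.charDegree (ψ : G → ℂ) ≠ 1 → ψ ≠ χ → (ψ : G → ℂ) g = 0) : g ∈ commutator G ∧ (χ : G → ℂ) g = -(((commutator G).index : ℂ) / (χ : G → ℂ) 1) ∧ ((commutator G : Set G) = {x : G | (χ : G → ℂ) x = (χ : G → ℂ) 1} ∪ {h : G | IsConj g h}) ∧ (∀ x : G, x ∉ commutator G → (χ : G → ℂ) x = 0) ∧ (∀ ψ : Cfsg.IrrCharacter G, Cfsg.charDegree (ψ : G → ℂ) ≠ 1 → (∀ x : G, (χ : G → ℂ) x = (χ : G → ℂ) 1 → (ψ : G → ℂ) x = (ψ : G → ℂ) 1) → ψ = χ) ∧ Group.IsSolvable G := by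
  have := Fintype.ofFinite G
  have dg : ∀ ψ : IrrCharacter G, charDegree (ψ : G → ℂ) = 1 ↔ (ψ : G → ℂ) 1 = 1 := fun ψ =>
    ⟨fun e => by rw [← Block.charDegree_cast (isIrr_isChar ψ.2), e, Nat.cast_one],
      fun e => Block.charDegree_of_eq (e.trans Nat.cast_one.symm)⟩
  have g1 : g ≠ 1 := fun e => hg (e ▸ one_mem _)
  have d0 : (χ : G → ℂ) 1 ≠ 0 := isIrr_one_ne_zero χ.2
  have i0 : ((commutator G).index : ℂ) ≠ 0 := Nat.cast_ne_zero.mpr index_ne_zero_of_finite
  have key : ∀ x, ¬ IsConj g x → (if g * x⁻¹ ∈ commutator G then ((commutator G).index : ℂ) else 0) +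
      (χ : G → ℂ) g * conj ((χ : G → ℂ) x) = 0 := fun x i => by
    rw [← sum_lin, ← sum_irr_mul_conj_of_not_isConj i,
      ← sum_filter_add_sum_filter_not univ (fun ψ : IrrCharacter G => (ψ : G → ℂ) 1 = 1)]
    congr 1
    · refine sum_congr rfl fun ψ j => ?_
      obtain ⟨l, e⟩ := isChar_linear_of_degree_one (isIrr_isChar ψ.2) (mem_filter.mp j).2
      rw [← isChar_inv (isIrr_isChar ψ.2), e]
      simp
    · rw [sum_eq_single χ (fun ψ j o => by rw [hother ψ (fun e => (mem_filter.mp j).2 ((dg ψ).mp e)) o, zero_mul])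
        fun j => absurd (mem_filter.mpr ⟨mem_univ _, fun e => hχ1 ((dg χ).mpr e)⟩) j]
  have k1 := key 1 (by simpa using g1)
  rw [inv_one, mul_one, isChar_conj_one (isIrr_isChar χ.2)] at k1
  have m1 : g ∈ commutator G := by
    by_contra o
    rw [if_neg o, zero_add] at k1
    exact mul_ne_zero hχg d0 k1
  rw [if_pos m1] at k1
  have m2 : (χ : G → ℂ) g = -(((commutator G).index : ℂ) / (χ : G → ℂ) 1) := by
    field_simp; linear_combination k1
  have cm : ∀ x, IsConj g x → x ∈ commutator G := fun x i => by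
    obtain ⟨c, rfl⟩ := isConj_iff.mp i
    exact Normal.conj_mem inferInstance g m1 c
  have m4 : ∀ x : G, x ∉ commutator G → (χ : G → ℂ) x = 0 := fun x o => by
    have := key x fun i => o (cm x i)
    rw [if_neg fun i => o (by simpa [mul_mem_cancel_left m1] using i), zero_add] at this
    simpa [hχg] using this
  have m5 : ∀ x ∈ commutator G, ¬ IsConj g x → (χ : G → ℂ) x = (χ : G → ℂ) 1 := fun x i o => by
    have := key x o
    rw [if_pos (mul_mem m1 (inv_mem i))] at this
    have a : conj ((χ : G → ℂ) x) = (χ : G → ℂ) 1 := mul_left_cancel₀ hχg (by linear_combination this - k1)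
    rw [← Complex.conj_conj ((χ : G → ℂ) x), a, isChar_conj_one (isIrr_isChar χ.2)]
  have m6 : ∀ x, (χ : G → ℂ) x = (χ : G → ℂ) 1 → x ∈ commutator G := fun x e => by_contra fun o => d0 (e ▸ m4 x o)
  have m7 : ∀ ψ : IrrCharacter G, charDegree (ψ : G → ℂ) ≠ 1 →
      (∀ x : G, (χ : G → ℂ) x = (χ : G → ℂ) 1 → (ψ : G → ℂ) x = (ψ : G → ℂ) 1) → ψ = χ := fun ψ i j => by
    by_contra o
    have a := isIrr_sum_normal_eq_zero (commutator G) ψ.2 fun e => i ((dg ψ).mpr ((isIrr_degree_one_iff ψ.2).mpr e))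
    rw [sum_congr rfl (g := fun x : commutator G => (if IsConj g x then 0 else 1 : ℕ) * (ψ : G → ℂ) 1) fun x _ => by
      split_ifs with e
      · obtain ⟨c, l⟩ := isConj_iff.mp e
        rw [← l, isChar_classFun (isIrr_isChar ψ.2), hother ψ i o]; simp
      · rw [j x (m5 x x.2 e)]; simp, ← sum_mul, ← Nat.cast_sum, mul_eq_zero, Nat.cast_eq_zero, sum_eq_zero_iff] at a
    exact isIrr_one_ne_zero ψ.2 (a.resolve_left fun e => by simpa [g1] using e 1 (mem_univ _))
  refine ⟨m1, m2, Set.ext fun x => ⟨fun i => (em _).symm.imp_left (m5 x i), fun i => i.elim (m6 x) (cm x)⟩, m4, m7, ?_⟩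
  have := charKer_normal (isChar_classFun (isIrr_isChar χ.2))
  have mk := fun z => mem_charKer_iff (z := z) (isIrr_isChar χ.2)
  refine GH.solv (K := charKer (χ : G → ℂ)) (g := g) ⟨fun x i => m6 x ((mk x).mp i), m1, fun i => ?_,
    fun m i j => by_contra fun o => j ((mk m).mpr (m5 m i o)), fun y i m j => (isConj_iff_forall_irr _ _).mpr fun ψ => ?_⟩
  · obtain ⟨n, e⟩ := isChar_degree (isIrr_isChar χ.2)
    rw [(mk g).mp i, e] at k1
    exact i0 (by exact_mod_cast (Nat.eq_zero_of_add_eq_zero_right (by exact_mod_cast k1)))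
  have a := isIrr_inflate _ ψ.2
  by_cases e : ψ.1 1 = 1
  · have := (isIrr_degree_one_iff a).mp e j
    rw [show (y : G ⧸ charKer (χ : G → ℂ)) * m = ((y * m * y⁻¹ * y : G) : G ⧸ charKer (χ : G → ℂ)) by simp]
    exact (mem_charKer.mp (Normal.conj_mem (charKer_normal (isChar_classFun (isIrr_isChar a))) m this y) y).symm
  have b := congrArg Subtype.val (m7 ⟨_, a⟩ (fun l => e ((dg _).mp l)) fun x l =>
    congrArg ψ.1 ((QuotientGroup.eq_one_iff x).mpr ((mk x).mpr l)))
  exact ((congrFun b y).trans (m4 y i)).trans ((congrFun b (y * m)).trans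
    (m4 _ fun l => i (by simpa [mul_mem_cancel_right j] using l))).symm

end Cfsg.Agent.S4805
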