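import Mathlib
import Cfsg.Statements.S4811
import Cfsg.Agent.Isaacs.CD3
import Cfsg.Agent.Block.Omega
-- import your own Cfsg.Agent.* helpers here

set_option autoImplicit false
open Cfsg

namespace Cfsg.Agent.S4811

open Cfsg.Agent.Char Cfsg.Agent.Isaacs Cfsg.Agent.Core Subgroup

theorem card_le_two {V : Type*} (Γ : SimpleGraph V) (A B : V → Prop) (h : ∀ v, A v ∨ B v)
    (hA : ∀ v w, A v → A w → Γ.Reachable v w) (hB : ∀ v w, B v → B w → Γ.Reachable v w) :
    Nat.card Γ.ConnectedComponent ≤ 2 := by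
  refine (Nat.card_le_card_of_injective (fun C : Γ.ConnectedComponent => A C.out) fun C D e => ?_).trans (by simp)
  rw [← C.out_eq, ← D.out_eq]
  refine SimpleGraph.ConnectedComponent.sound ?_
  by_cases a : A C.out
  · exact hA _ _ a (e.mp a)
  · exact hB _ _ ((h _).resolve_left a) ((h _).resolve_left fun b => a (e.mpr b))

theorem reach {G : Type*} [Group G] {s : ℕ} (hs : s.Prime) (v w : degreePrimes G)
    (a : ∃ d ∈ charDegrees G, v.1 ∣ d ∧ s ∣ d) (b : ∃ d ∈ charDegrees G, w.1 ∣ d ∧ s ∣ d) :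
    ((degreeGraph G).induce (degreePrimes G)).Reachable v w := by
  have k : ∀ (v : degreePrimes G) (a : ∃ d ∈ charDegrees G, v.1 ∣ d ∧ s ∣ d) (h : s ∈ degreePrimes G),
      ((degreeGraph G).induce (degreePrimes G)).Reachable v ⟨s, h⟩ := fun v ⟨d, a, b, c⟩ h => by
    by_cases e : v.1 = s
    · rw [show v = ⟨s, h⟩ from Subtype.ext e]
    · exact SimpleGraph.Adj.reachable ⟨e, v.2.1, hs, d, a, ((Nat.coprime_primes v.2.1 hs).mpr e).mul_dvd_of_dvd_of_dvd b c⟩
  have ⟨d, x, _, y⟩ := a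
  exact (k v a ⟨hs, d, x, y⟩).trans (k w b _).symm

/-- For every finite solvable group G the character degree graph of G (vertices: the primes dividing some irreducible complex character degree; edges: distinct primes whose product divides some degree) has at most two connected components. -/
theorem result {G : Type*} [Group G] [Finite G] [Group.IsSolvable G] : Nat.card ((Cfsg.degreeGraph G).induce (Cfsg.degreePrimes G)).ConnectedComponent ≤ 2 := by
  have mem : ∀ {χ : G → ℂ} {d : ℕ}, Irr ⊤ χ → χ 1 = d → d ∈ charDegrees G := fun a b =>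
    ⟨⟨_, irr_top.mp a⟩, Block.charDegree_of_eq b⟩
  suffices h : ∃ s t : ℕ, s.Prime ∧ t.Prime ∧ ∀ r : ℕ, r.Prime → ∀ χ : G → ℂ, Irr ⊤ χ → ∀ d : ℕ, χ 1 = d → r ∣ d →
      (∃ d ∈ charDegrees G, r ∣ d ∧ s ∣ d) ∨ ∃ d ∈ charDegrees G, r ∣ d ∧ t ∣ d by
    obtain ⟨s, t, hs, ht, h⟩ := h
    exact card_le_two _ _ _ (fun ⟨r, a, _, ⟨χ, rfl⟩, b⟩ => h r a χ (irr_top.mpr χ.2) _ (Block.irr_degree_cast χ).symm b)
      (reach hs) (reach ht)
  by_cases hc : commutator G ≤ ⊥
  · exact ⟨2, 2, Nat.prime_two, Nat.prime_two, fun r hr χ a d b c =>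
      (hr.not_dvd_one (cd_of_comm hc χ a ker_bot d b ▸ c)).elim⟩
  obtain ⟨K, -, hK⟩ := exists_maxNA hc
  have := hK.normal
  rcases hK.cases (solvMod_of_solv inferInstance) with ⟨p, Z, h⟩ | ⟨q, N, h⟩
  · obtain ⟨β, a, b, f, f1, c⟩ := hK.exists_nonlin
    obtain ⟨i, hi⟩ := h.index
    obtain ⟨j, rfl⟩ := h.deg_pow a b c
    refine ⟨p, p, h.prime, h.prime, fun r _ ψ e d g k => .inl ?_⟩
    by_cases l : p ∣ d
    · exact ⟨d, mem e g, k, l⟩
    exact ⟨p ^ j * d, mem (a.mul_of_ker norm_top le_top b e.chr (e.res_of_coprime norm_top le_top g (by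
      rw [relIndex_top_right, hi]; exact (h.prime.coprime_iff_not_dvd.mpr l).symm.pow_right _))) (by simp [c, g]),
      k.mul_left _, (dvd_pow_self p fun z => f1 (by simp [z])).mul_right _⟩
  · have := h.normal
    obtain ⟨s, hs, ds⟩ := Nat.exists_prime_and_dvd fun e => h.ne (index_eq_one.mp e)
    obtain ⟨β, a, b, c⟩ := h.exists_deg
    refine ⟨s, q, hs, h.prime, fun r hr χ e d g l => ?_⟩
    obtain ⟨ψ, x, y⟩ := e.exists_under (L := N) le_top
    obtain ⟨k, k1, k2⟩ := e.deg_dvd_rel norm_top le_top x y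
    obtain ⟨n, -, hn⟩ := x.deg
    rw [g, hn] at k2
    obtain rfl : d = k * n := by exact_mod_cast k2
    rcases hr.dvd_mul.mp l with m | m
    · exact .inl ⟨_, mem a c, m.trans (relIndex_top_right N ▸ k1), ds⟩
    rcases h.dich x with ⟨η, u, v⟩ | u
    · exact .inl ⟨N.index * n, mem u (by rw [v, hn, Nat.cast_mul]), m.mul_left _, ds.mul_right _⟩
    · exact .inr ⟨_, mem e g, l, (h.dvd_of_vanish x.chr u hn).mul_left k⟩

end Cfsg.Agent.S4811
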