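import Mathlib
import Cfsg.Statements.S4850
import Cfsg.Agent.Block.Van2
import Cfsg.Agent.S4263
-- import your own Cfsg.Agent.* helpers here

set_option autoImplicit false
open Cfsg

namespace Cfsg.Agent.S4850

open Cfsg.Agent.Block.Vn Cfsg.Agent.Core Subgroup in

/-- Let p be a prime and G a finite solvable group whose vanishing elements (elements at which some irreducible character is zero) of order divisible by p all have the same order, with at least one such element. Let P be a Sylow p-subgroup of G. Then the derived subgroup of P is subnormal in G and the image of P in G/O_p(G) is cyclic. -/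
theorem result {G : Type*} [Group G] [Finite G] [hs : Group.IsSolvable G] (p : ℕ) [Fact p.Prime] (b : ℕ) (hvo : {n : ℕ | p ∣ n ∧ ∃ (g : G) (χ : Cfsg.IrrCharacter G), orderOf g = n ∧ (χ : G → ℂ) g = 0} = {b}) (P : Sylow p G) :
    ((commutator ↥(P : Subgroup G)).map (P : Subgroup G).subtype).IsSubnormal ∧ IsCyclic ↥((P : Subgroup G).map (QuotientGroup.mk' (Cfsg.pCore p G))) := by
  have hb : ∀ x : G, VP p x → orderOf x = b := fun x ⟨⟨χ, h1, h2⟩, h3⟩ =>
    Set.mem_singleton_iff.1 (hvo ▸ ⟨h3, x, ⟨χ, h1⟩, rfl, h2⟩ :
      orderOf x ∈ ({b} : Set ℕ))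
  have ho : Two p G := fun x n hx hy => by
    rw [eq_of_le_of_card_ge (zpowers_le.2 (pow_mem (mem_zpowers x) n))
      (by rw [Nat.card_zpowers, Nat.card_zpowers, hb _ hx, hb _ hy])]
    exact mem_zpowers x
  have hc := (main2 _ inferInstance (pCore_quotient_pCore p) (ho.quot (pCore p G))).2 _
    (P.isPGroup'.map (QuotientGroup.mk' (pCore p G)))
  refine ⟨?_, hc⟩
  have := pCore_nilpotent (G := G) p
  refine IsSubnormal.trans (K := pCore p G) ?_ (S4263.isSubnormal_of_nilpotent _)
    (Normal.isSubnormal inferInstance)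
  rintro _ ⟨x, hx, rfl⟩
  letI := hc.commGroup
  exact (QuotientGroup.eq_one_iff _).1 (congrArg Subtype.val (Abelianization.commutator_subset_ker
    ((QuotientGroup.mk' (pCore p G)).subgroupMap P) hx))

end Cfsg.Agent.S4850
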