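import Mathlib
import Cfsg.Statements.S4885
import Cfsg.Agent.Isaacs.NW2
-- import your own Cfsg.Agent.* helpers here

set_option autoImplicit false
open Cfsg

namespace Cfsg.Agent.S4885

open Cfsg.Agent.Char Cfsg.Agent.Isaacs Cfsg.Agent.Core Subgroup

/-- Let p and q be primes dividing the order of the finite group G, and suppose G is p-solvable and q-solvable. Fix maximal ideals of the algebraic integers containing p and q, defining the principal p-block and the principal q-block. If the irreducible characters of degree prime to p in the principal p-block are exactly the irreducible characters of degree prime to q in the principal q-block, then p = q. -/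
theorem result {G : Type*} [Group G] [Finite G] (p q : ℕ) [Fact p.Prime] [Fact q.Prime] (hp : p ∣ Nat.card G) (hq : q ∣ Nat.card G) (hps : Cfsg.IsPSolvable p G) (hqs : Cfsg.IsPSolvable q G) (Mp Mq : Ideal Cfsg.AlgInt) (hMp : Cfsg.IsPModular p Mp) (hMq : Cfsg.IsPModular q Mq) (h : ∀ χ : Cfsg.IrrCharacter G, (χ ∈ Cfsg.principalBlock Mp G ∧ ¬ p ∣ Cfsg.charDegree (χ : G → ℂ)) ↔ (χ ∈ Cfsg.principalBlock Mq G ∧ ¬ q ∣ Cfsg.charDegree (χ : G → ℂ))) : p = q := by
  by_contra hpq
  obtain ⟨P⟩ : Nonempty (Sylow p G) := inferInstance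
  have h1 := not_dvd_index_of_principal (Ne.symm hpq) hMq hqs hps fun χ a b => ((h χ).mpr ⟨a, b⟩).2
  obtain ⟨χ, a, b, c, d⟩ := exists_pd_not_ker hp (not_dvd_card_pPrimeCore (G := G) Fact.out) P
  have := ((h ⟨χ, irr_top.mp a⟩).mp ⟨(mem_principal_iff hMp (Core.IsPSolvable.isPConstrained hps)).mpr b,
    (pd_iff ⟨χ, irr_top.mp a⟩).mp c⟩).1
  exact d (((mem_principal_iff hMq (Core.IsPSolvable.isPConstrained hqs)).mp this).mono
    (sylow_le_of_not_dvd h1 P))

end Cfsg.Agent.S4885
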