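import Mathlib
import Cfsg.Statements.S4886
import Cfsg.Agent.Isaacs.NW2
import Cfsg.Agent.S4602
-- import your own Cfsg.Agent.* helpers here

set_option autoImplicit false
open Cfsg

namespace Cfsg.Agent.S4886

open Cfsg.Agent.Char Cfsg.Agent.Isaacs Cfsg.Agent.Core Subgroup

/-- Let p ≠ q be primes and G a finite group that is p-solvable and q-solvable. Fix maximal ideals of the algebraic integers containing p and q, defining the principal p-block and the principal q-block. Then every irreducible character of degree prime to p in the principal p-block has degree prime to q and every irreducible character of degree prime to q in the principal q-block has degree prime to p, if and only if some Sylow p-subgroup of G commutes elementwise with some Sylow q-subgroup. -/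
theorem result {G : Type*} [Group G] [Finite G] (p q : ℕ) [Fact p.Prime] [Fact q.Prime] (hpq : p ≠ q) (Mp Mq : Ideal Cfsg.AlgInt) (hMp : Cfsg.IsPModular p Mp) (hMq : Cfsg.IsPModular q Mq) (hps : Cfsg.IsPSolvable p G) (hqs : Cfsg.IsPSolvable q G) : ((∀ χ : Cfsg.IrrCharacter G, χ ∈ Cfsg.principalBlock Mp G → ¬ p ∣ Cfsg.charDegree (χ : G → ℂ) → ¬ q ∣ Cfsg.charDegree (χ : G → ℂ)) ∧ (∀ χ : Cfsg.IrrCharacter G, χ ∈ Cfsg.principalBlock Mq G → ¬ q ∣ Cfsg.charDegree (χ : G → ℂ) → ¬ p ∣ Cfsg.charDegree (χ : G → ℂ))) ↔ ∃ (P : Sylow p G) (Q : Sylow q G), ∀ x ∈ (P : Subgroup G), ∀ y ∈ (Q : Subgroup G), x * y = y * x := by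
  constructor
  · rintro ⟨h, h'⟩
    have h1 := not_dvd_index_of_principal hpq hMp hps hqs h
    have h2 := not_dvd_index_of_principal hpq.symm hMq hqs hps h'
    obtain ⟨P, Q, e⟩ := (S4602.result p q hpq hps).mpr h1
    refine ⟨P, Q, fun x hx y hy => ?_⟩
    have : ⁅(Q : Subgroup G), (P : Subgroup G)⁆ = ⊥ := by
      rw [← le_bot_iff, ← Transfer.inf_eq_bot_of_not_dvd Q.isPGroup' (not_dvd_card_pPrimeCore (G := G) Fact.out)]
      exact le_inf (commutator_le_of_le_normalizer e)
        ((commutator_mono le_rfl (sylow_le_of_not_dvd h2 P)).trans (commutator_le_right _ _))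
    exact (le_centralizer_iff_commutator_eq_bot.mpr this hx y hy).symm
  · rintro ⟨P, Q, e⟩
    exact ⟨fun χ a _ => not_dvd_degree_of_principal hMp ((S4602.result p q hpq hps).mp
      ⟨P, Q, fun x hx => centralizer_le_normalizer _ fun y hy => (e x hx y hy).symm⟩) a,
      fun χ a _ => not_dvd_degree_of_principal hMq ((S4602.result q p hpq.symm hqs).mp
      ⟨Q, P, fun y hy => centralizer_le_normalizer _ fun x hx => e x hx y hy⟩) a⟩

end Cfsg.Agent.S4886
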