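import Mathlib
import Cfsg.Statements.S4976
import Cfsg.Agent.FGS.S3S
import Cfsg.Agent.FGS.CompPi
import Cfsg.Agent.Comp2.PComponent
import Cfsg.Agent.Comp2.Quasisimple
import Cfsg.Agent.CIT.F8
import Cfsg.Agent.Classical.Congr

set_option autoImplicit false
open Cfsg

namespace Cfsg.Agent.S4976

open Subgroup Cfsg.Agent.LocalEven Cfsg.Agent.FGS Cfsg.Agent.S4F

section
variable {G : Type*} [Group G] [Finite G]

theorem comp (hF : F3 G) (h0 : pPrimeCore 3 G = ⊥) {K : Subgroup G} (hK : IsComponent K) :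
    K ⊓ centralizer (K : Set G) = ⊥ ∧ L3 K := by
  haveI := Fact.mk Nat.prime_three
  haveI := hK.2.1
  haveI := hK.2.2
  have hZ : IsPGroup 3 (center K) := ((Comp2.pCore_isPGroup (G := G) 3).to_le
    (show (center K).map K.subtype ≤ _ from by
      rw [← Comp2.fitting_eq_pCore_of_pPrimeCore_eq_bot 3 h0]
      refine le_trans ?_ (Comp2.component_inf_centralizer_le_fitting hK)
      rintro _ ⟨x, hx, rfl⟩
      exact ⟨x.2, fun y hy => congrArg Subtype.val (mem_center_iff.1 hx ⟨y, hy⟩)⟩)).of_equiv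
    ((center K).equivMapOfInjective K.subtype K.subtype_injective).symm
  rcases s3s (Comp2.quasisimple_quotient_not_isMulCommutative hK.2)
    ((hF.sub K).surj _ (QuotientGroup.mk'_surjective (center K))) with ⟨F, _, _, m, hm, hq, ⟨e⟩⟩ | h
  · obtain ⟨x, hx⟩ := exists_prime_orderOf_dvd_card' (G := K) 3
      (Comp2.dvd_card_of_subnormal_of_pPrimeCore_eq_bot h0 hK.1 (Comp2.component_ne_bot hK))
    have : MonoidHom.transferCenterPow K x = 1 := (show commutator K ≤ MonoidHom.ker _ from
      commutator_le.2 fun a _ b _ => by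
        rw [MonoidHom.mem_ker, map_commutatorElement, commutatorElement_eq_one_iff_mul_comm]
        exact Subtype.ext (mem_center_iff.1 (MonoidHom.transferCenterPow K b).2 _))
      (Group.IsPerfect.commutator_eq_top (G := K) ▸ mem_top x)
    have := orderOf_dvd_of_pow_eq_one (congrArg Subtype.val this)
    rw [hx, index, Nat.card_congr e.toEquiv] at this
    exact absurd this (CIT.F.not_three_dvd_sz hm hq)
  · obtain ⟨n, hn⟩ := hZ.exists_card_eq
    have hb := h.center_eq_bot (hn ▸ Odd.pow (by decide))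
    refine ⟨(eq_bot_iff_forall _).2 fun x hx => congrArg Subtype.val ((eq_bot_iff_forall _).1 hb
      ⟨x, hx.1⟩ (mem_center_iff.2 fun y => Subtype.ext (hx.2 y y.2))), h.of_equiv ?_⟩
    exact (QuotientGroup.quotientBot.symm).trans (QuotientGroup.quotientMulEquivOfEq hb.symm)

theorem layer_top (hF : F3 G) (h0 : pPrimeCore 3 G = ⊥)
    (hgen : closure {g : G | ∃ k : ℕ, g ^ 2 ^ k = 1} = ⊤) : layer G = ⊤ := by
  haveI := Fact.mk Nat.prime_three
  have hR := nr_of_f3 hF
  haveI : (layer G).Normal := Comp2.layer_normal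
  obtain ⟨P, hP⟩ := exists_isSylowIn 3 (layer G)
  have key : ∀ n ∈ normalizer (P : Set G), ∀ k, n ^ 2 ^ k = 1 → n = 1 := fun n hn k hk => by
    have hc := hR.cent hP.pgrp hk hn
    have h1 : n ∈ centralizer (generalizedFittingSubgroup G : Set G) := by
      refine le_centralizer_iff.1 (show generalizedFittingSubgroup G ≤
        centralizer (zpowers n : Set G) from sup_le (Comp2.layer_le_iff.2 fun K hK => ?_) ?_)
        (mem_zpowers n)
      · obtain ⟨hZ, hL⟩ := comp hF h0 hK
        have hU := hP.inf_of_le_normalizer (Comp2.component_le_layer hK)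
          (Comp2.layer_le_normalizer hK)
        obtain ⟨x, hx, x3⟩ := exists_mem_orderOf_eq (hU.dvd_card_iff.2 (hU.ne_bot
          (Comp2.dvd_card_of_subnormal_of_pPrimeCore_eq_bot h0 hK.1 (Comp2.component_ne_bot hK)))
          |> fun h => hU.dvd_card_iff.1 h |> dvd_card_of_ne_bot hU.pgrp le_rfl)
        have hnK : n ∈ normalizer (K : Set G) := cj_eq_self_iff.1 (by_contra fun e =>
          ne_one_of_orderOf_eq x3 ((eq_bot_iff_forall _).1 hZ x ⟨hx.2,
            commutator_eq_bot_iff_le_centralizer.1 (Comp2.component_commutator_eq_bot_of_ne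
              (Comp2.component_conj hK n) hK e) (by
                have := conj_mem_cj (g := n) hx.2
                rwa [← hc x hx.1, mul_inv_cancel_right] at this)⟩))
        have ha := hL.aut_eq_one (a := K.normalizerMonoidHom ⟨n, hnK⟩) (k := k)
          (by rw [← map_pow, show (⟨n, hnK⟩ : normalizer (K : Set G)) ^ 2 ^ k = 1 from
            Subtype.ext hk, map_one]) (U := hU.toSylow) ?_ fun Q hQ y hy => ?_
        · rw [le_centralizer_iff, zpowers_le]
          intro y hy
          have := congrArg Subtype.val (DFunLike.congr_fun ha ⟨y, hy⟩)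
          exact (mul_inv_eq_iff_eq_mul.1 this).symm
        · refine Sylow.ext (eq_of_le_of_card_le ?_ ?_)
          · rintro _ ⟨y, hy, rfl⟩
            refine ⟨?_, (K.normalizerMonoidHom ⟨n, hnK⟩ y).2⟩
            exact (mem_normalizer_iff.1 hn _).1 hy.1
          · exact (Nat.card_congr (Sylow.equiv ..).toEquiv).le
        · have := hR.cent (P := (Q : Subgroup K).map K.subtype) (Q.2.map _) hk (by
            refine mem_normalizer_fintype ?_
            rintro _ ⟨z, hz, rfl⟩
            exact ⟨K.normalizerMonoidHom ⟨n, hnK⟩ z, by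
              rw [← hQ]; exact smul_mem_pointwise_smul z _ _ hz, rfl⟩) y ⟨y, hy, rfl⟩
          exact Subtype.ext (mul_inv_eq_iff_eq_mul.2 this.symm)
      · rw [le_centralizer_iff, zpowers_le, Comp2.fitting_eq_pCore_of_pPrimeCore_eq_bot 3 h0]
        exact hR.cent (Comp2.pCore_isPGroup 3) hk (by rw [normalizer_eq_top]; trivial)
    have h2 := Comp2.centralizer_genFitting_le_fitting h1
    rw [Comp2.fitting_eq_pCore_of_pPrimeCore_eq_bot 3 h0] at h2
    obtain ⟨j, hj⟩ := Comp2.pCore_isPGroup (G := G) 3 ⟨n, h2⟩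
    exact orderOf_eq_one_iff.1 (Nat.eq_one_of_dvd_coprimes
      (Nat.Coprime.pow k j (show Nat.Coprime 2 3 by norm_num)) (orderOf_dvd_of_pow_eq_one hk)
      (orderOf_dvd_of_pow_eq_one (congrArg Subtype.val hj)))
  rw [eq_top_iff, ← hgen, closure_le]
  rintro g ⟨k, hk⟩
  obtain ⟨e, he, n, hn, rfl⟩ := hP.frattini (g := g) (by rw [normalizer_eq_top]; trivial)
  obtain ⟨m, j, hm, hj⟩ := exists_two_part n
  have h1 := key _ (pow_mem hn m) j hj
  refine mul_mem he ((QuotientGroup.eq_one_iff n).1 (orderOf_eq_one_iff.1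
    (Nat.eq_one_of_dvd_coprimes (Nat.Coprime.pow_left k (Nat.coprime_two_left.2 hm))
      (orderOf_dvd_of_pow_eq_one ?_) (orderOf_dvd_of_pow_eq_one ?_))))
  · rw [← one_mul (n : G ⧸ layer G), ← (QuotientGroup.eq_one_iff e).2 he, ← QuotientGroup.mk_mul,
      ← QuotientGroup.mk_pow, hk, (QuotientGroup.eq_one_iff e).2 he]; rfl
  · rw [← QuotientGroup.mk_pow, h1]; rfl

end

/-- Let G be a finite group of order divisible by 3 that is generated by its 2-elements (G has no proper normal subgroup of odd index). Then no element of order 3 in G is conjugate to its inverse if and only if the quotient of G by its largest normal subgroup of order prime to 3 is isomorphic to a direct product of groups PSL₂ over fields with 3^{2f+1} elements, f ≥ 1 (the exponents may differ between factors). -/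
theorem result {G : Type*} [Group G] [Finite G] (h3 : 3 ∣ Nat.card G) (hgen : Subgroup.closure {g : G | ∃ k : ℕ, orderOf g = 2 ^ k} = ⊤) : (∀ x : G, orderOf x = 3 → ¬ IsConj x x⁻¹) ↔ ∃ (k : ℕ) (f : Fin k → ℕ), (∀ i, 1 ≤ f i) ∧ Nonempty (G ⧸ Cfsg.pPrimeCore 3 G ≃* ((i : Fin k) → Matrix.ProjectiveSpecialLinearGroup (Fin 2) (GaloisField 3 (2 * f i + 1)))) := by
  haveI := Fact.mk Nat.prime_three
  refine ⟨fun h => ?_, fun ⟨k, f, _, ⟨e⟩⟩ x hx c => ?_⟩
  · have hF := (NR.f3 h).surj _ (QuotientGroup.mk'_surjective (pPrimeCore 3 G))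
    have h0 := Comp2.pPrimeCore_quotient_pPrimeCore (G := G) 3
    obtain ⟨k, K, hK, ⟨e⟩⟩ := equiv_pi_components (layer_top hF h0 (by
      rw [eq_top_iff, ← map_top_of_surjective _ (QuotientGroup.mk'_surjective _), ← hgen,
        MonoidHom.map_closure]
      refine closure_mono ?_
      rintro _ ⟨g, ⟨k, hk⟩, rfl⟩
      exact ⟨k, by rw [← map_pow, ← hk, pow_orderOf_eq_one, map_one]⟩)) fun K hK => (comp hF h0 hK).1
    have : ∀ i, ∃ n, 1 ≤ n ∧ Nonempty (K i ≃*
        Matrix.ProjectiveSpecialLinearGroup (Fin 2) (GaloisField 3 (2 * n + 1))) := fun i => by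
      obtain ⟨F, _, _, n, hn, hq, ⟨e⟩⟩ := (comp hF h0 (hK i)).2
      haveI := Fintype.ofFinite (GaloisField 3 (2 * n + 1))
      exact ⟨n, hn, ⟨e.trans (Classical.Congr.pslCongr (FiniteField.ringEquivOfCardEq (by
        rw [hq, ← Nat.card_eq_fintype_card, GaloisField.card _ _ (by omega)])))⟩⟩
    choose f hf he using this
    exact ⟨k, f, hf, ⟨e.trans (MulEquiv.piCongrRight fun i => (he i).some)⟩⟩
  · refine (NR.pi fun i => nr_psl (GaloisField.card 3 _ (by omega))).of_inj e.toMonoidHom e.injective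
      (x : G ⧸ pPrimeCore 3 G) (orderOf_eq_prime ?_ fun h => ?_)
      ((QuotientGroup.mk' _).map_isConj c)
    · rw [← QuotientGroup.mk_pow, ← hx, pow_orderOf_eq_one]; rfl
    · exact (Nat.prime_three.coprime_iff_not_dvd.1 (Comp2.pPrimeCore_coprime (G := G) 3).symm)
        (dvd_card_of_mem ((QuotientGroup.eq_one_iff x).1 h) hx)

end Cfsg.Agent.S4976
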