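import Mathlib
import Cfsg.Statements.S4997
import Cfsg.Agent.Block.Van
-- import your own Cfsg.Agent.* helpers here

set_option autoImplicit false
open Cfsg

namespace Cfsg.Agent.S4997

open Cfsg.Agent.Block.Vn Cfsg.Agent.Core in

/-- Let p be an odd prime and G a finite solvable group with exactly one conjugacy class consisting of vanishing elements (elements at which some irreducible complex character is zero) of order divisible by p. Let P be a Sylow p-subgroup of G. Then the order of P is at most p times the order of the largest normal p-subgroup of G. -/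
theorem result {G : Type*} [Group G] [Finite G] (hsolv : Group.IsSolvable G) (p : ℕ) [Fact p.Prime] (hp : p ≠ 2) (h1 : Set.ncard {C : ConjClasses G | (∀ g ∈ C.carrier, ∃ χ : Cfsg.IrrCharacter G, (χ : G → ℂ) g = 0) ∧ ∃ g ∈ C.carrier, p ∣ orderOf g} = 1) (P : Sylow p G) : Nat.card ↥(P : Subgroup G) ≤ p * Nat.card ↥(Cfsg.pCore p G) := by
  have ho : One p G := fun x y hx hy => by
    have key : ∀ z : G, VP p z → ConjClasses.mk z ∈ {C : ConjClasses G | (∀ g ∈ C.carrier, ∃ χ : Cfsg.IrrCharacter G, (χ : G → ℂ) g = 0) ∧ ∃ g ∈ C.carrier, p ∣ orderOf g} := fun z hz => by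
      obtain ⟨⟨χ, h2, h3⟩, h4⟩ := hz
      refine ⟨fun g hg => ⟨⟨χ, h2⟩, ?_⟩, z, ConjClasses.mem_carrier_mk, h4⟩
      obtain ⟨c, rfl⟩ := isConj_iff.1 (ConjClasses.mk_eq_mk_iff_isConj.1
        (ConjClasses.mem_carrier_iff_mk_eq.1 hg)).symm
      exact (Cfsg.Agent.Char.isIrr_classFun h2 _ _).trans h3
    obtain ⟨C, hC⟩ := Set.ncard_eq_one.1 h1
    rw [hC] at key
    exact ConjClasses.mk_eq_mk_iff_isConj.1 ((key x hx).trans (key y hy).symm)
  have h2 := main _ inferInstance (pCore_quotient_pCore p) (ho.quot (pCore p G))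
  obtain ⟨n, hn⟩ := IsPGroup.iff_card.1 P.isPGroup'
  obtain ⟨a, ha⟩ := IsPGroup.iff_card.1 (pCore_isPGroup (G := G) p)
  have h3 := P.1.card_subgroup_dvd_card
  rw [Subgroup.card_eq_card_quotient_mul_card_subgroup (pCore p G), hn, ha] at h3
  rw [hn, ha, ← pow_succ']
  refine Nat.pow_le_pow_right (Fact.out : p.Prime).pos (not_lt.1 fun h => h2 ?_)
  have h4 := (pow_dvd_pow p (show 2 + a ≤ n by omega)).trans h3
  rw [pow_add] at h4
  exact Nat.dvd_of_mul_dvd_mul_right (pow_pos (Fact.out : p.Prime).pos a) h4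

end Cfsg.Agent.S4997
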