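import Mathlib
import Cfsg.Statements.S5044
import Cfsg.Agent.Root.RD3

set_option autoImplicit false
open Cfsg

namespace Cfsg.Agent.S5044

open Cfsg.Agent.LocalEven Cfsg.Agent.Root Subgroup
open scoped commutatorElement

/-- Let G be a finite group generated by a set D of root involutions (a conjugation-invariant set of involutions any two of which commute, have product of odd order, or have product of order 4 whose square lies in D), and suppose some product of two different commuting members of D lies again in D. Then either the commuting graph of D is connected, or the quotient of G by the preimage of the centre of G/O₂(G) is isomorphic to L₂(q), Sz(q) or U₃(q) for a power q > 2 of 2. -/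
theorem result {G : Type*} [Group G] [Finite G] {D : Set G} (hD : Cfsg.IsRootInvolutionSet D)
    (hDD : (D ∩ Cfsg.commutingProducts D).Nonempty) :
    Cfsg.IsConnectedSet (Cfsg.CommAdj D) D ∨
    (∃ (F : Type) (_ : Field F) (_ : Fintype F), CharP F 2 ∧ 4 ≤ Fintype.card F ∧
      Nonempty (G ⧸ Cfsg.twoZCore G ≃* Matrix.ProjectiveSpecialLinearGroup (Fin 2) F)) ∨
    Cfsg.Lie.IsoSuzuki (G ⧸ Cfsg.twoZCore G) ∨
    (∃ (F : Type) (_ : Field F) (_ : Fintype F) (q : ℕ), CharP F 2 ∧ Fintype.card F = q ^ 2 ∧ 4 ≤ q ∧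
      Nonempty (G ⧸ Cfsg.twoZCore G ≃* Cfsg.PSU 3 F q)) := by
  by_cases hc : Cfsg.IsConnectedSet (Cfsg.CommAdj D) D
  · exact Or.inl hc
  right
  simp only [IsConnectedSet, not_forall] at hc
  obtain ⟨d, hd, x, hx, hn⟩ := hc
  haveI := disc_simple hD hDD hd hx hn
  obtain ⟨H, hH⟩ := disc_se hD hDD hd hx hn
  have ch : ∀ (F : Type) [Field F] [Fintype F] (n : ℕ), n ≠ 0 → Fintype.card F = 2 ^ n → CharP F 2 := by
    intro F _ _ n hn e
    obtain ⟨p, hp, m, pp, e'⟩ := FiniteField.card' F
    have : p = 2 := (Nat.prime_dvd_prime_iff_eq pp Nat.prime_two).1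
      (pp.dvd_of_dvd_pow (by rw [← e, e']; exact dvd_pow_self p m.ne_zero))
    exact this ▸ hp
  have le : ∀ n : ℕ, 2 ≤ n → 4 ≤ 2 ^ n := fun n h =>
    (by norm_num : 4 = 2 ^ 2) ▸ Nat.pow_le_pow_right (by norm_num) h
  rcases Ben.simple_known hH with ⟨F, _, _, n, h2, e, i⟩ | h | ⟨F, _, _, n, h2, e, i⟩
  · exact Or.inl ⟨F, _, _, ch F n (by omega) e, e ▸ le n h2, i⟩
  · exact Or.inr (Or.inl h)
  · exact Or.inr (Or.inr ⟨F, _, _, 2 ^ n, ch F (n * 2) (by omega) (by rw [e, pow_mul]), e, le n h2, i⟩)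

end Cfsg.Agent.S5044
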