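import Mathlib
import Cfsg.Statements.S5053
import Cfsg.Agent.Root.RD4

set_option autoImplicit false
open Cfsg

namespace Cfsg.Agent.S5053

open Cfsg.Agent.LocalEven Cfsg.Agent.Root Subgroup
open scoped commutatorElement

/-- Let G be a finite group generated by a non-degenerate conjugacy class D of root involutions (some two different members commute, some two have product of odd order, some two have product of order 4) and T a weak TI-subset of D: a subset with more than one element, different from D, whose conjugate by any member of D equals T or is disjoint from it. Then T generates an abelian subgroup. -/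
theorem result {G : Type*} [Group G] [Finite G] {D : Set G} (hD : Cfsg.IsNondegenerateRootInvolutionSet D)
    (hcl : Cfsg.IsRootInvolutionClass D)     {T : Set G} (hT : Cfsg.IsWeakTISubsetOfElements D T) : IsMulCommutative ↥(Subgroup.closure T) := by
  have h := RI.of_set hD.1
  obtain ⟨TD, -, TnD, hTI⟩ := hT
  have ocl : OneCl D := fun a ha b hb => by
    obtain ⟨g, e⟩ := hcl.2.2 a ha b hb
    exact ⟨g, hD.1.generates ▸ mem_top g, e⟩
  have nrm : ∀ d ∈ D, ∀ t ∈ T, d * t = t * d → d ∈ normalizer T := by
    intro d hd t ht c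
    have e := (hTI d hd).resolve_right fun k =>
      Set.disjoint_left.1 k ⟨t, ht, by simp only [c, mul_inv_cancel_right]⟩ ht
    intro s
    refine ⟨fun hs => e ▸ ⟨s, hs, rfl⟩, fun hs => ?_⟩
    rw [← e] at hs
    obtain ⟨s', hs', e'⟩ := hs
    have : s' = s := by simpa using e'
    exact this ▸ hs'
  let T1 : Set G := {t | t ∈ T ∧ ∃ s ∈ T, OP2 t s}
  have cjT : ∀ g ∈ normalizer T, ∀ t ∈ T1, g * t * g⁻¹ ∈ T1 := fun g hg t ⟨ht, s, hs, o⟩ =>
    ⟨(hg t).1 ht, _, (hg s).1 hs, o.conj g⟩
  have mid : ∀ s ∈ T, ∀ u ∈ D, u ∈ normalizer T → OP2 s u → u ∈ T1 := by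
    intro s hs u hu uN o
    obtain ⟨m, hm, mc, e⟩ := h.midpoint (TD hs) hu o.2
    have mN : m ∈ normalizer T := (closure_le _).2 (by
      rintro z (rfl | rfl)
      · exact nrm _ (TD hs) _ hs rfl
      · exact uN) mc
    exact ⟨by rw [← e]; simpa [h.inv hm] using (mN s).1 hs, s, hs, o.symm⟩
  have step : ∀ t ∈ T1, ∀ u ∈ D, t * u ∈ D → u ∈ T1 := by
    rintro t ⟨ht, s, hs, o⟩ u hu m
    have tD := TD ht
    have c := h.comm_of_mul_mem tD hu m
    by_cases ou : OP2 s u
    · exact mid s hs u hu (nrm u hu t ht c.symm) ou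
    have o2 := (h.line_odd hu tD (c ▸ m) (TD hs) o.symm).resolve_left ou
    have m1 := mid s hs _ (c ▸ m) (mul_mem (nrm u hu t ht c.symm) (nrm t tD t ht rfl)) o2
    obtain ⟨v, hv, ev⟩ := h.exists_com_of_ne ocl hu tD (c ▸ m) fun e =>
      ou (show s ∈ AS D u from e ▸ (⟨TD hs, o⟩ : s ∈ AS D t)).2.symm
    have e1 : v * u * v = u * t := by rw [← ev]; simp only [mul_assoc, h.mm hu]
    have e2 : t * v = u * v * u := by rw [← ev]; simp only [mul_assoc, h.sq hv, mul_one]
    have c2 := h.comm_of_mul_mem tD hv (e2 ▸ h.conjD v hv u hu)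
    have := cjT v (nrm v hv t ht c2.symm) _ m1
    rwa [← e1, h.inv hv, mul_assoc v u, h.mm hv, mul_assoc, h.sq hv, mul_one] at this
  have emp : ∀ t, t ∉ T1 := by
    intro t ht
    refine TnD (Set.Subset.antisymm TD fun y hy => ?_)
    have k := pe_connected hD hcl t (TD ht.1) y hy
    have : y ∈ T1 := by
      clear hy
      induction k with
      | refl => exact ht
      | tail _ a ih => exact step _ ih _ a.2.1 a.2.2.2.2
    exact this.1
  have cm : ∀ a ∈ T, ∀ b ∈ T, a * b = b * a := by
    intro a ha b hb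
    have aD := TD ha
    have bD := TD hb
    rcases h.tri aD bD with c | o | ⟨h4, m⟩
    · exact c
    · exact absurd ⟨ha, b, hb, o⟩ (emp a)
    exfalso
    have nc := not_comm_of_four (h.sq aD) (h.sq bD) h4
    have m2 : a * b * a * b * a ∈ D := by
      have := h.comm_conj aD bD (not_OP2_of_four h4)
      rw [show a * b * a * b * a = a * (b * a * b) * a by group, this, mul_assoc, h.sq aD, mul_one]
      exact h.conjD a aD b bD
    have cb : a * b * a * b * b = b * (a * b * a * b) := by
      nth_rewrite 1 [← h.comm_conj bD aD fun o => not_OP2_of_four h4 o.symm]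
      group
    generalize ec : a * b * a * b = c at m m2 cb
    have ca := h.comm_of_mul_mem m aD m2
    have eb : b * a * b = c * a := by rw [ca, ← ec]; simp only [mul_assoc, h.mm aD]
    obtain ⟨v, hv, ev⟩ := h.exists_com_of_ne ocl m aD m2 fun e => by
      have := (h.AS_eq_iff ocl m aD).1 e
      have k : b ∈ commutingMembers D a := this ▸ (⟨bD, cb.symm⟩ : b ∈ commutingMembers D c)
      exact nc k.2.symm
    have e1 : v * c * v = c * a := by rw [← ev]; simp only [mul_assoc, h.mm m]
    have e2 : a * v = c * v * c := by rw [← ev]; simp only [mul_assoc, h.sq hv, mul_one]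
    have c2 := h.comm_of_mul_mem aD hv (e2 ▸ h.conjD v hv c m)
    refine emp v (mid b hb v hv (nrm v hv a ha c2.symm) ?_)
    by_contra o
    have f := h.four_of_not_OP2 bD hv o
    have s1 : ∀ w, b * v * w * (b * v)⁻¹ = b * (v * w * v) * b := fun w => by
      rw [mul_inv_rev, h.inv hv, h.inv bD]; group
    have va : v * a * v = a := by rw [← c2, mul_assoc, h.sq hv, mul_one]
    have bc : b * c * b = c := by rw [← cb, mul_assoc, h.sq bD, mul_one]
    have t1 : b * v * a * (b * v)⁻¹ = c * a := by rw [s1, va, eb]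
    have t2 : b * v * c * (b * v)⁻¹ = a := by
      rw [s1, e1]
      calc b * (c * a) * b = (b * c * b) * (b * a * b) := by simp only [mul_assoc, h.mm bD]
        _ = a := by rw [bc, eb, h.mm m]
    have t3 : b * v * (c * a) * (b * v)⁻¹ = c := by
      calc _ = (b * v * c * (b * v)⁻¹) * (b * v * a * (b * v)⁻¹) := by group
        _ = c := by rw [t1, t2, ca, h.mm aD]
    have : (b * v) ^ 4 * a * ((b * v) ^ 4)⁻¹ = c * a := by
      generalize b * v = w at t1 t2 t3
      calc w ^ 4 * a * (w ^ 4)⁻¹ = w * (w * (w * (w * a * w⁻¹) * w⁻¹) * w⁻¹) * w⁻¹ := by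
            simp only [pow_succ, pow_zero, one_mul, mul_inv_rev, mul_assoc]
        _ = c * a := by rw [t1, t3, t2, t1]
    rw [f] at this
    exact h.ne_one m (by simpa using this.symm)
  exact ⟨⟨fun x y => Subtype.ext (comm_closure cm x x.2 y y.2)⟩⟩

end Cfsg.Agent.S5053
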