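import Mathlib
import Cfsg.Statements.S5054
import Cfsg.Agent.Root.RD4

set_option autoImplicit false
open Cfsg

namespace Cfsg.Agent.S5054

open Cfsg.Agent.LocalEven Cfsg.Agent.Root Subgroup
open scoped commutatorElement

/-- Let G be a finite group generated by a non-degenerate conjugacy class D of root involutions. Then for every d ∈ D and every x ∈ D with dx of odd order greater than 1, G is generated by x together with the members of D different from d that commute with d and have product with d in D; and the graph on D joining two different commuting members whose product lies in D is connected. -/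
theorem result {G : Type*} [Group G] [Finite G] {D : Set G} (hD : Cfsg.IsNondegenerateRootInvolutionSet D)
    (hcl : Cfsg.IsRootInvolutionClass D) :
    (∀ d ∈ D, ∀ x ∈ Cfsg.oddPartners D d, Subgroup.closure (Cfsg.productPartners D d ∪ {x}) = ⊤) ∧
    Cfsg.IsConnectedSet (Cfsg.ProdAdj D) D := by
  refine ⟨fun d hd x hx => ?_, pe_connected hD hcl⟩
  have h := RI.of_set hD.1
  obtain ⟨hx, o⟩ := mem_oddPartners.1 hx
  have ocl : OneCl D := fun a ha b hb => by
    obtain ⟨g, e⟩ := hcl.2.2 a ha b hb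
    exact ⟨g, hD.1.generates ▸ mem_top g, e⟩
  set H := closure (productPartners D d ∪ {x})
  have XH : ∀ u ∈ D, d * u ∈ D → u ∈ H := fun u hu m => subset_closure (Or.inl
    ⟨⟨hu, (h.comm_of_mul_mem hd hu m).symm, fun e => h.ne_one m (by rw [e, h.sq hd])⟩,
      h.comm_of_mul_mem hd hu m ▸ m⟩)
  have xH : x ∈ H := subset_closure (Or.inr rfl)
  have dH : d ∈ H := by
    obtain ⟨a, ha, b, hb, h4⟩ := hD.2.2.2
    obtain ⟨g, rfl⟩ := hcl.2.2 a ha d hd
    have m1 := hD.1.conj_mem _ (h.com_mem ha hb h4) g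
    have m2 := hD.1.conj_mem _ (h.conjD a ha b hb) g
    have e : g * a * g⁻¹ = g * (a * b * a * b) * g⁻¹ * (g * (b * a * b) * g⁻¹) := by
      simp only [mul_assoc, inv_mul_cancel_left, h.mm hb, h.mm ha]
    have := mul_mem (XH _ m1 (by simpa [mul_assoc, h.mm ha] using m2))
      (XH _ m2 (by simpa [mul_assoc] using m1))
    rwa [← e] at this
  have mid : ∀ u ∈ D, ∀ v ∈ D, u ∈ H → v ∈ H → OP2 u v → ∃ g ∈ H, v = g * u * g⁻¹ := by
    intro u hu v hv uH vH o
    obtain ⟨m, hm, mc, e⟩ := h.midpoint hu hv o.2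
    exact ⟨m, (closure_le H).2 (by rintro z (rfl | rfl) <;> assumption) mc, by rw [h.inv hm, e]⟩
  have viax : ∀ u ∈ D, u ∈ H → OP2 x u → ∃ g ∈ H, u = g * d * g⁻¹ := by
    intro u hu uH o'
    obtain ⟨g, hg, e⟩ := mid d hd x hx dH xH o
    obtain ⟨k, hk, e'⟩ := mid x hx u hu xH uH o'
    exact ⟨k * g, mul_mem hk hg, by rw [e', e]; group⟩
  have step : ∀ u ∈ D, d * u ∈ D → ∃ g ∈ H, u = g * d * g⁻¹ := by
    intro u hu m
    by_cases ou : OP2 x u
    · exact viax u hu (XH u hu m) ou
    have c := h.comm_of_mul_mem hd hu m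
    have o2 := (h.line_odd hu hd (c ▸ m) hx o.symm).resolve_left ou
    obtain ⟨g, hg, e⟩ := viax _ (c ▸ m) (mul_mem (XH u hu m) dH) o2
    obtain ⟨v, hv, ev⟩ := h.exists_com_of_ne ocl hu hd (c ▸ m) fun e =>
      ou (show x ∈ AS D u from e ▸ (⟨hx, o⟩ : x ∈ AS D d)).2.symm
    have e1 : v * u * v = u * d := by rw [← ev]; simp only [mul_assoc, h.mm hu]
    have e2 : d * v = u * v * u := by rw [← ev]; simp only [mul_assoc, h.sq hv, mul_one]
    have vH := XH v hv (e2 ▸ h.conjD v hv u hu)
    refine ⟨v * g, mul_mem vH hg, ?_⟩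
    calc u = v * (v * u * v) * v⁻¹ := by simp only [mul_assoc, h.mm hv, mul_inv_cancel, mul_one]
      _ = _ := by rw [e1, e]; group
  rw [eq_top_iff, ← hD.1.generates, closure_le]
  have all : ∀ y, PE D d y → ∃ g ∈ H, y = g * d * g⁻¹ := by
    intro y k
    induction k with
    | refl => exact ⟨1, one_mem _, by simp⟩
    | @tail w y _ a ih =>
      obtain ⟨g, hg, rfl⟩ := ih
      obtain ⟨k, hk, e⟩ := step (g⁻¹ * y * g) (by simpa using hD.1.conj_mem y a.2.1 g⁻¹)
        (by simpa [mul_assoc] using hD.1.conj_mem _ a.2.2.2.2 g⁻¹)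
      exact ⟨g * k, mul_mem hg hk, by
        rw [show y = g * (g⁻¹ * y * g) * g⁻¹ by group, e]; group⟩
  intro y hy
  obtain ⟨g, hg, rfl⟩ := all y (pe_connected hD hcl d hd y hy)
  exact mul_mem (mul_mem hg dH) (inv_mem hg)

end Cfsg.Agent.S5054
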