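import Mathlib
import Cfsg.Statements.S5109
import Cfsg.Agent.Fusion.S4
import Cfsg.Agent.S0250

set_option autoImplicit false
open Cfsg

namespace Cfsg.Agent.S5109

open Cfsg.Agent.Fusion

open Matrix Multiplicative in
theorem _root_.Cfsg.Agent.Fusion.QdAct.section_sl {p : ℕ} {V : Type*} [Group V]
    {B : Subgroup (MulAut V)} (h : QdAct p V B) :
    Transfer.IsSectionOf B (SpecialLinearGroup (Fin 2) (ZMod p)) := by
  obtain ⟨π, h1, h2⟩ := h
  let K : Subgroup B :=
    { carrier := {β | ∃ s : SpecialLinearGroup (Fin 2) (ZMod p), ∀ x,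
        π ((β : MulAut V) x) = ofAdd (s.1 *ᵥ toAdd (π x))}
      one_mem' := ⟨1, fun x => by simp⟩
      mul_mem' := by
        rintro a b ⟨s, hs⟩ ⟨t, ht⟩
        exact ⟨s * t, fun x => by
          rw [Subgroup.coe_mul, MulAut.mul_apply, hs, ht, toAdd_ofAdd, mulVec_mulVec]; rfl⟩
      inv_mem' := by
        rintro a ⟨s, hs⟩
        refine ⟨s⁻¹, fun x => ?_⟩
        have := hs (((a⁻¹ : B) : MulAut V) x)
        simp only [Subgroup.coe_inv, MulAut.apply_inv_self] at this
        rw [this, toAdd_ofAdd, mulVec_mulVec, show s⁻¹.1 * s.1 = 1 from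
          congrArg Subtype.val (inv_mul_cancel s), one_mulVec]
        rfl }
  have uniq : ∀ s t : SpecialLinearGroup (Fin 2) (ZMod p),
      (∀ x, ofAdd (s.1 *ᵥ toAdd (π x)) = ofAdd (t.1 *ᵥ toAdd (π x))) → s = t := fun s t h => by
    refine Subtype.ext (Matrix.toLin'.injective (LinearMap.ext fun v => ?_))
    obtain ⟨x, hx⟩ := h1 (ofAdd v)
    have := h x
    rw [hx] at this
    simpa using this
  refine ⟨K, MonoidHom.mk' (fun β => β.2.choose) fun a b => uniq _ _ fun x => ?_, fun s => ?_⟩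
  · rw [← (a * b).2.choose_spec x]
    show π ((a.1 : MulAut V) ((b.1 : MulAut V) x)) = _
    rw [a.2.choose_spec, b.2.choose_spec, toAdd_ofAdd, mulVec_mulVec]; rfl
  · obtain ⟨β, h3, h4⟩ := h2 s
    let b : K := ⟨⟨β, h3⟩, s, h4⟩
    exact ⟨b, uniq _ _ fun x => (b.2.choose_spec x).symm.trans (h4 x)⟩

/-- A saturated fusion system over a finite 2-group S in which no automorphism group Aut_F(U), U ≤ S, has a section isomorphic to the symmetric group of degree 3 is constrained. -/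
theorem result {Ω : Type*} [Group Ω] {S : Subgroup Ω} [Finite S] (hS : IsPGroup 2 S) (F : Cfsg.FusionSystem S) (hF : F.IsSaturated 2) (h3 : ∀ U : Subgroup Ω, U ≤ S → ¬ Cfsg.Involves (Equiv.Perm (Fin 3)) ↥(F.autGroup U)) : F.IsConstrained 2 := by
  obtain ⟨G, _, _, ι, F', r, hr⟩ := exists_rich_rep F
  have hr' := r.rich hr
  have hF' := r.sat hS hF
  refine (r.con_iff hS).2 (hF'.con_of_solv (hF'.solv_of_qd hr' fun Q L h1 h2 hL hi => ?_))
  obtain ⟨R, hR⟩ := hL.exists_sylow
  obtain ⟨V, hV, π, hπ, ha⟩ := exists_qdAct R (Transfer.involves_iff_isSectionOf.1 hi)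
  have hVS : V.map L.subtype ≤ (F'.NF Q).S := by
    rw [← map_subgroupOf_subtype hL.le, ← hR]; exact Subgroup.map_mono hV
  obtain ⟨U, hU, e⟩ := r.lift (hVS.trans (FS.S_le (FS.normK_le _ _ _)))
  let η : U ≃* V := (eta r.inj (hU.trans r.le)).trans ((MulEquiv.subgroupCongr e).trans
    (V.equivMapOfInjective _ L.subtype_injective).symm)
  have hη : ∀ x : U, (((η x : V) : L) : G) = fn ι x := fun x => by
    have := congrArg Subtype.val ((V.equivMapOfInjective _ L.subtype_injective).apply_symm_apply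
      (MulEquiv.subgroupCongr e (eta r.inj (hU.trans r.le) x)))
    exact this.trans (eta_apply r.inj (hU.trans r.le) x)
  obtain ⟨φ⟩ := S0250.result (F := ZMod 2) (by simp)
  refine h3 U hU (Transfer.involves_iff_isSectionOf.2 ((QdAct.section_sl
    (B := F.autGroup U) ⟨π.comp η.toMonoidHom, hπ.comp η.surjective, fun s => ?_⟩).of_surjective
      φ.toMonoidHom φ.surjective))
  obtain ⟨β, h4, h5⟩ := ha s
  obtain ⟨g, -, hg⟩ := mem_autInducedBy.1 h4
  have hn : (g : G) ∈ nz (im ι U) := by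
    rw [e]
    exact map_mem_nz (f := L.subtype) (mem_nz_of_forall fun x hx => hg ⟨x, hx⟩ ▸ (β ⟨x, hx⟩).2)
  refine ⟨η.trans (β.trans η.symm), (r.mem_autGroup_iff (hU.trans r.le)).2 ⟨g, FS.mem_aut_of
    (FS.normK_le _ _ _ _ _ (hL.M_of (e ▸ hVS) (by rw [cj_of_nz hn]; exact e ▸ hVS) g.2)) hn,
    fun x => ?_⟩, fun x => by simpa using h5 _⟩
  rw [← hη, ← hη]
  simp [hg]

end Cfsg.Agent.S5109
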