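import Mathlib
import Cfsg.Statements.S5178
import Cfsg.Agent.Inv.Ess6

set_option autoImplicit false
universe u
open Cfsg

namespace Cfsg.Agent.S5178

open Fusion Inv.Es Subgroup

theorem main {G : Type*} [Group G] [Finite G] {p : ℕ} [hp : Fact p.Prime] {F : FS G} (hF : F.Sat p) (hp2 : p ≠ 2)
    {Q : Subgroup G} (hQS : Q ≤ F.S) (hQ : IsExtraspecial p Q) (hi : Q.relIndex F.S = p) (hc : F.core = ⊥) :
    Zc F.S = Zc Q := by
  obtain ⟨q1, q2, q3, q4⟩ := PGrp.isExtraspecial_iff.1 hQ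
  have hn := PGrp.le_normalizer_of_relIndex_prime hF.pg hQS hi
  have h1 : Zc Q ≤ Zc F.S := le_inf (inf_le_left.trans hQS) (le_cz_comm.1 fun s hs =>
    mem_cz_of_pg q2.dvd (nz_le_nz_Zc Q (hn hs)) (exists_pow_of_S hF hs))
  refine le_antisymm (fun z hz => ?_) h1
  by_contra hzQ
  have hzQ' : z ∉ Q := fun e => hzQ ⟨e, cz_anti hQS hz.2⟩
  have hS := PGrp.sup_zpowers_eq_of_relIndex_prime hp.out hi hQS hz.1 hzQ'
  have hb : Zc Q ≠ ⊥ := fun e => by
    rw [show Q ⊓ centralizer (Q : Set G) = ⊥ from e, card_bot] at q2; exact hp.out.one_lt.ne q2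
  have hP : Ph F.S = Zc Q := by
    refine le_antisymm ((Ph_le_iff hF.pg).2 ⟨commutator_le_iff'.2 fun x hx y hy => ?_, fun x hx => ?_⟩)
      (q3.ge.trans ((commutator_mono hQS hQS).trans (comm_le_Ph hF.pg)))
    · obtain ⟨u, hu, i, rfl⟩ := (PGrp.mem_sup_zpowers (hn hz.1)).1 (hS ▸ hx)
      obtain ⟨v, hv, j, rfl⟩ := (PGrp.mem_sup_zpowers (hn hz.1)).1 (hS ▸ hy)
      rw [conj_mul_cz ((cz F.S).zpow_mem hz.2 j) hx]
      have e1 := mem_cz.1 ((cz F.S).zpow_mem hz.2 i) _ (inv_mem (hQS hv))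
      have e2 := conj_eq_of_cz' ((cz F.S).zpow_mem hz.2 i) ((commutator_mono hQS hQS).trans (commutator_le_self _) (comm_mem hu hv))
      refine mem_of_eq (q3.le (comm_mem hu hv)) ?_
      rw [← e2, mul_assoc v, mul_assoc v, mul_assoc u, ← e1]; group
    · obtain ⟨u, hu, i, rfl⟩ := (PGrp.mem_sup_zpowers (hn hz.1)).1 (hS ▸ hx)
      rw [Commute.mul_pow (mem_cz.1 ((cz F.S).zpow_mem hz.2 i) u (hQS hu)), ← zpow_natCast (z ^ i), ← zpow_mul, mul_comm i, zpow_mul,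
        zpow_natCast]
      exact mul_mem ⟨pow_mem hu p, q4 u hu⟩ (zpow_mem (show z ^ p ∈ Zc Q from
        ⟨PGrp.pow_mem_of_relIndex_eq hn hi hz.1, cz_anti hQS (pow_mem hz.2 p)⟩) i)
  have hS0 : F.S ≠ ⊥ := fun e => hb (le_bot_iff.1 (e ▸ inf_le_left.trans hQS))
  obtain ⟨E, hE⟩ := exists_ess hF hc hS0
  obtain ⟨tv, -, h3⟩ := (rs_S hF hE).ge (not_S_le hF hE) (hP ▸ q2)
  obtain ⟨g, g1, g2, g3, -⟩ := ess_exists hF hE
  have h4 := relIndex_Zc hF.pg (not_ab_of_ess hF hE) hE.le (tv g g1 g3 g2).ab h3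
  have h5 : Nat.card ↥⁅F.S, F.S⁆ ≤ p := q2 ▸ Fusion.card_le_of_le ((comm_le_Ph hF.pg).trans hP.le)
  obtain ⟨h6, h7, -⟩ := cube_of_index_odd hF hp2 hc hS0 (by rw [h4, pow_two]; exact Nat.mul_le_mul_left p h5)
  have h8 := (PGrp.center_of_card_eq_cube h6 fun e => h7 (isMulCommutative_iff_le_cz.1 e)).1
  exact hzQ ((eq_of_le_of_card_le h1 (h8.trans q2.symm).le).ge hz)

/-- Let p be an odd prime, S a finite p-group containing an extraspecial subgroup Q of index p, and F a saturated fusion system over S whose largest subgroup normal in F is trivial. Then the centre of S equals the centre of Q. -/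
theorem result {Ω : Type u} [Group Ω] {S : Subgroup Ω} [Finite S] (p : ℕ) [Fact p.Prime] (hp : Odd p) (hS : IsPGroup p S)
    (Q : Subgroup Ω) (hQS : Q ≤ S) (hQ : Cfsg.IsExtraspecial p ↥Q) (hQi : (Q.subgroupOf S).index = p)
    (F : Cfsg.FusionSystem S) (hF : F.IsSaturated p) (hO : F.core = ⊥) :
    S ⊓ Subgroup.centralizer (S : Set Ω) = Q ⊓ Subgroup.centralizer (Q : Set Ω) := by
  obtain ⟨G, _, _, ι, F', r, -⟩ := Fusion.exists_rich_rep F
  have := main (r.sat hS hF) (by rintro rfl; exact absurd hp (by decide)) (r.im_le hQS)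
    (PGrp.isExtraspecial_of_equiv (eta r.inj hQS) hQ) (by rw [r.S_eq, relIndex_im r.inj le_rfl hQS]; exact hQi)
    (r.core_eq_bot_iff.1 hO)
  rwa [Zc, Zc, ← r.im_Z, ← im_inf_cz r.inj hQS hQS, im_inj r.inj inf_le_left (inf_le_left.trans hQS)] at this

end Cfsg.Agent.S5178
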