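import Mathlib
import Cfsg.Statements.S5179
import Cfsg.Agent.Inv.Ess6

set_option autoImplicit false
universe u
open Cfsg

namespace Cfsg.Agent.S5179

open Fusion Inv.Es Subgroup

theorem main {G : Type*} [Group G] [Finite G] {p : ℕ} [hp : Fact p.Prime] {F : FS G} (hF : F.Sat p)
    {Q : Subgroup G} (hQS : Q ≤ F.S) (hQ : IsExtraspecial p Q) (hi : Q.relIndex F.S = p) (h6 : p ^ 6 ≤ Nat.card F.S)
    {E : Subgroup G} (hEQ : E ≤ Q) (hE : F.Ess p E) : E = Q := by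
  obtain ⟨q1, q2, q3, q4⟩ := PGrp.isExtraspecial_iff.1 hQ
  by_contra hne
  have hZ : Zc Q ≤ E := fun z hz => hE.cent.cz_le ⟨hQS hz.1, cz_anti hEQ hz.2⟩
  have ht : ∀ g ∈ Q, g ∈ trv E (Zc Q) := fun g hg =>
    ⟨nz_le_nz_Zc Q (le_nz Q hg), fun x hx => q3.le (comm_mem (hEQ hx) hg)⟩
  obtain ⟨g, g1, g2⟩ := SetLike.exists_of_lt (lt_of_le_of_ne hEQ hne)
  have hN : ∀ g ∈ Q, g ∈ nz E := fun g hg => trv_le_nz_of_le hZ le_rfl (ht g hg)
  have hP : Ph E ≤ Zc Q := (PGrp.map_frattini_mono q1 hEQ).trans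
    ((Ph_le_iff q1).2 ⟨q3.le, fun x hx => ⟨pow_mem hx p, q4 x hx⟩⟩)
  have hb : Ph E = ⊥ := (eq_bot_or_eq_of_card q2 hP).resolve_right fun e =>
    (rs_S hF hE).not_trv (hQS g1) (hN g g1) g2 ((show Ph E = Zc Q from e) ▸ ht g g1)
  have hc := ((Ph_eq_bot (hF.pg_le hE.le)).1 hb).1
  have tv : ∀ g ∈ Q, g ∉ E → TV p F E E (Zc Q) g := fun g g1 g2 =>
    ⟨hF, hE, le_rfl, F.aut_le_nz E, hc, hZ, q2, hQS g1, g2, mem_trv_of_le le_rfl (hN g g1), ht g g1⟩
  obtain ⟨a, ha⟩ := exists_opp hF hE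
  obtain ⟨l, -, hl⟩ := exists_zpowers_of_card ((card_cj a _).trans q2)
  have hlQ : l ∈ Q := hEQ ((tv g g1 g2).L'le ha.1 (hl ▸ mem_zpowers l))
  have h1 : Q ⊓ cz (zpowers l) ≤ E := fun x hx => by_contra fun e => (tv x hx.1 e).not_cz (tv g g1 g2) ha (hl ▸ hx.2)
  have h2 : E.relIndex Q = p := relIndex_eq_of_le q1 ((relIndex_le_of_le_left h1 (relIndex_ne_zero _ _)).trans (by
    rw [inf_comm, inf_relIndex_right, ← q2]
    exact relIndex_cz_le fun x hx => q3.le (comm_mem hx hlQ))) fun e => g2 (e g1)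
  have h3 := relIndex_Zc q1 (fun e => g2 (hZ ⟨g1, e g1⟩)) hEQ hc h2
  rw [q3, q2] at h3
  rw [← card_mul_relIndex hQS, hi, ← card_mul_relIndex (inf_le_left : Zc Q ≤ Q), h3, q2] at h6
  have := Nat.pow_lt_pow_right hp.out.one_lt (show 4 < 6 by omega)
  rw [show p * (p * p) * p = p ^ 4 by ring] at h6
  omega

/-- Let p be an odd prime, S a finite p-group of order at least p⁶ containing an extraspecial subgroup Q of index p, and F a saturated fusion system over S whose largest subgroup normal in F is trivial. Then no proper subgroup of Q is essential in F: an essential subgroup of F contained in Q equals Q. -/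
theorem result {Ω : Type u} [Group Ω] {S : Subgroup Ω} [Finite S] (p : ℕ) [Fact p.Prime] (hp : Odd p) (hS : IsPGroup p S)
    (Q : Subgroup Ω) (hQS : Q ≤ S) (hQ : Cfsg.IsExtraspecial p ↥Q) (hQi : (Q.subgroupOf S).index = p)
    (h6 : p ^ 6 ≤ Nat.card S)
    (F : Cfsg.FusionSystem S) (hF : F.IsSaturated p) (hO : F.core = ⊥)
    (E : Subgroup Ω) (hEQ : E ≤ Q) (hE : F.IsEssential p E) : E = Q := by
  obtain ⟨G, _, _, ι, F', r, -⟩ := Fusion.exists_rich_rep F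
  have := main (r.sat hS hF) (r.im_le hQS)
    (PGrp.isExtraspecial_of_equiv (eta r.inj hQS) hQ) (by rw [r.S_eq, relIndex_im r.inj le_rfl hQS]; exact hQi)
    (by rwa [r.S_eq, card_im r.inj le_rfl]) (im_mono ι hEQ) ((r.ess_iff (hEQ.trans hQS)).1 hE)
  rwa [im_inj r.inj (hEQ.trans hQS) hQS] at this

end Cfsg.Agent.S5179
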