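import Mathlib
import Cfsg.Statements.S5185
import Cfsg.Agent.Inv.Equiv

set_option autoImplicit false
universe u
open Cfsg

namespace Cfsg.Agent.S5185

open Fusion Inv.Es

/-- Let F be a saturated fusion system over a finite p-group S and H an essential subgroup of order p². Then H is elementary abelian (isomorphic to C_p × C_p) and its F-automorphism group contains a subgroup isomorphic to SL(2,p). -/
theorem result {Ω : Type u} [Group Ω] {S : Subgroup Ω} [Finite S] (p : ℕ) [Fact p.Prime] (hS : IsPGroup p S)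
    (F : Cfsg.FusionSystem S) (hF : F.IsSaturated p) (H : Subgroup Ω) (hH : F.IsEssential p H) (hcard : Nat.card H = p ^ 2) :
    Cfsg.IsElementaryAbelian p H ∧
      ∃ K : Subgroup ↥(F.autGroup H), Nonempty (↥K ≃* Matrix.SpecialLinearGroup (Fin 2) (ZMod p)) := by
  obtain ⟨G, _, _, ι, F', r, -⟩ := Fusion.exists_rich_rep F
  have hF' := r.sat hS hF
  have hHS : H ≤ S := hH.1.1
  have hE := (r.ess_iff hHS).1 hH
  have hc := (card_im r.inj hHS).trans hcard
  have el := ess_sq hF' hE hc
  refine ⟨elem_of_equiv (eta r.inj hHS) el, ?_⟩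
  obtain ⟨g, g1, g2, g3, -⟩ := ess_exists hF' hE
  have hgA := mem_aut_of_S hE.le g1 g3
  have hD := (ncl_le hgA).trans (F'.aut_le_nz _)
  obtain ⟨ψ, hψ, hk⟩ := PLocal.exists_plane_hom_surjective el hc hD
    ((ncl_le_pres' (exists_pow_of_S hF' g1)).trans (pres'_le_pElementClosure _)) fun h => g2 (ess_mem hF' hE g1 g3 h)
  let f := (rho (eta r.inj hHS)).comp (Subgroup.inclusion hD)
  have hf : f.range ≤ F.autGroup H := by
    rw [r.autGroup_eq hHS]
    rintro _ ⟨d, rfl⟩
    exact ⟨_, ncl_le hgA d.2, rfl⟩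
  have hker : f.ker = ψ.ker := by
    rw [hk, ← MonoidHom.comap_ker, ker_rho]; rfl
  exact ⟨f.range.subgroupOf _, ⟨(Subgroup.subgroupOfEquivOfLe hf).trans ((QuotientGroup.quotientKerEquivRange f).symm.trans
    ((QuotientGroup.quotientMulEquivOfEq hker).trans (QuotientGroup.quotientKerEquivOfSurjective ψ hψ)))⟩⟩

end Cfsg.Agent.S5185
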