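import Mathlib
import Cfsg.Statements.S5186
import Cfsg.Agent.Inv.Equiv

set_option autoImplicit false
universe u
open Cfsg

namespace Cfsg.Agent.S5186

open Fusion Inv.Es

/-- Let F be a saturated fusion system over a finite p-group S and H an essential subgroup of order p³. Then H is elementary abelian, or p is odd and H is extraspecial of exponent p, or p = 2 and H is the quaternion group of order 8. -/
theorem result {Ω : Type u} [Group Ω] {S : Subgroup Ω} [Finite S] (p : ℕ) [Fact p.Prime] (hS : IsPGroup p S)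
    (F : Cfsg.FusionSystem S) (hF : F.IsSaturated p) (H : Subgroup Ω) (hH : F.IsEssential p H) (hcard : Nat.card H = p ^ 3) :
    Cfsg.IsElementaryAbelian p H ∨ (Odd p ∧ Cfsg.IsExtraspecial p ↥H ∧ ∀ x ∈ H, x ^ p = 1) ∨
      (p = 2 ∧ Nonempty (↥H ≃* QuaternionGroup 2)) := by
  obtain ⟨G, _, _, ι, F', r, -⟩ := Fusion.exists_rich_rep F
  have hHS : H ≤ S := hH.1.1
  have e := eta r.inj hHS
  rcases ess_cube (r.sat hS hF) ((r.ess_iff hHS).1 hH) ((card_im r.inj hHS).trans hcard) with h | ⟨h, ⟨h1, h2⟩ | ⟨h1, ⟨f⟩⟩⟩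
  · exact .inl (elem_of_equiv e h)
  · exact .inr (.inl ⟨(Fact.out : p.Prime).odd_of_ne_two h1, PGrp.isExtraspecial_of_equiv e.symm h, pow_of_equiv e h2⟩)
  · exact .inr (.inr ⟨h1, ⟨e.trans f⟩⟩)

end Cfsg.Agent.S5186
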