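import Mathlib
import Cfsg.Statements.S5187
import Cfsg.Agent.Inv.Equiv

set_option autoImplicit false
universe u
open Cfsg

namespace Cfsg.Agent.S5187

open Fusion Inv.Es

/-- Let F be a saturated fusion system over a finite p-group S and H an abelian essential subgroup that can be generated by two elements (its Frattini quotient has order at most p²). Then H is elementary abelian of order p², or p ≤ 3 and H is homocyclic of rank two, that is isomorphic to C_{pᵏ} × C_{pᵏ} for some k. -/
theorem result {Ω : Type u} [Group Ω] {S : Subgroup Ω} [Finite S] (p : ℕ) [Fact p.Prime] (hS : IsPGroup p S)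
    (F : Cfsg.FusionSystem S) (hF : F.IsSaturated p) (H : Subgroup Ω) (hH : F.IsEssential p H) (hab : IsMulCommutative ↥H) (hrk : (frattini ↥H).index ≤ p ^ 2) :
    (Cfsg.IsElementaryAbelian p H ∧ Nat.card H = p ^ 2) ∨
      (p ≤ 3 ∧ ∃ k : ℕ, Nonempty (↥H ≃* Multiplicative (ZMod (p ^ k) × ZMod (p ^ k)))) := by
  obtain ⟨G, _, _, ι, F', r, -⟩ := Fusion.exists_rich_rep F
  have hF' := r.sat hS hF
  have hHS : H ≤ S := hH.1.1
  have hE := (r.ess_iff hHS).1 hH
  have e := eta r.inj hHS
  have hc := isMulCommutative_iff_le_cz.1 (comm_of_equiv e.symm hab)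
  obtain ⟨k, k1, k2, k3, ⟨f⟩⟩ := (ess_irr hF' hE (by rwa [relIndex_Ph, ← index_frattini_equiv e])).abel hc
  by_cases hk : k = 0
  · subst hk
    exact .inl ⟨⟨hab, pow_of_equiv e (by simpa using k1)⟩, (card_im r.inj hHS).symm.trans k3⟩
  · exact .inr ⟨ess_abel_le_three hF' hE hc hk k2 k3, k + 1, ⟨e.trans f⟩⟩

end Cfsg.Agent.S5187
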