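import Mathlib
import Cfsg.Statements.S5188
import Cfsg.Agent.Inv.Ess7

set_option autoImplicit false
universe u
open Cfsg

namespace Cfsg.Agent.S5188

open Fusion Inv Inv.Es Subgroup Fusion.FS
open scoped commutatorElement

section
variable {G : Type*} [Group G] [Finite G] {p : ℕ} [hp : Fact p.Prime]

theorem card_of_relIndex {X Y : Subgroup G} (h : Y ≤ X) {a b : ℕ} (hX : Nat.card X = p ^ (a + b))
    (hi : Y.relIndex X = p ^ b) : Nat.card Y = p ^ a := by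
  have := card_mul_relIndex h
  rw [hi, hX, pow_add] at this
  exact Nat.eq_of_mul_eq_mul_right (pow_pos hp.out.pos b) this

theorem relIndex_of_card {X Y : Subgroup G} (h : Y ≤ X) {a b : ℕ} (hX : Nat.card X = p ^ (a + b))
    (hY : Nat.card Y = p ^ a) : Y.relIndex X = p ^ b := by
  have := card_mul_relIndex h
  rw [hY, hX, pow_add] at this
  exact Nat.eq_of_mul_eq_mul_left (pow_pos hp.out.pos a) this

theorem irr_four {A R : Subgroup G} (h : Irr p A R) (h4 : Nat.card R = p ^ 4) : R ≤ cz R := by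
  by_contra hc
  have hP : Nat.card (Ph R) = p ^ 2 := card_of_relIndex (Ph_le R) (b := 2) h4 h.ind
  have h1 := PGrp.relIndex_centralizer_le_pow_choose h.pg 2 _ (Ph_le R) ((le_nz R).trans (nz_le_nz_Ph R)) hP
  have h2 : R ≤ cz (Ph R) := by
    rcases h.eq_or (R ⊓ cz (Ph R)) inf_le_left (fun a ha => mem_nz_inf (h.nz ha) (nz_le_nz_cz _ (h.nzP ha))) with e | e
    · have := relIndex_le_of_le_left e (relIndex_ne_zero _ R)
      rw [inf_comm, inf_relIndex_right, h.ind] at this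
      have := this.trans h1
      simp only [Nat.choose_self, pow_one] at this
      nlinarith [hp.out.one_lt]
    · exact e.ge.trans inf_le_right
  have hz : ⁅R, R⁆ ≤ cz R := (comm_le_Ph h.pg).trans (le_cz_comm.1 h2)
  have hcm : ∀ x ∈ R, ∀ y ∈ R, ∀ g ∈ R, Commute g ⁅x, y⁆ := fun x hx y hy g hg =>
    mem_cz.1 (hz (commutator_mem_commutator hx hy)) g hg
  obtain ⟨x, hx, hxP⟩ := h.exists_notMem
  obtain ⟨-, y, hy, -, hxy⟩ := h.basis hx hxP
  have hR' : ⁅R, R⁆ = zpowers ⁅x, y⁆ := by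
    have := (PGrp.class_two_closure_pair (hcm x hx y hy x hx) (hcm x hx y hy y hy)).1
    rwa [← PGrp.zpowers_sup_zpowers, gen_of_basis hx hy hxy] at this
  have hc1 : Nat.card ↥⁅R, R⁆ = p ^ 1 := by
    rw [hR', Nat.card_zpowers, pow_one]
    refine orderOf_eq_prime ?_ fun e => hc (comm_eq_bot_iff.1 (by rw [hR', e, zpowers_one_eq_bot]))
    rw [← PGrp.commutator_pow_left_of_commute (hcm x hx y hy x hx), commutatorElement_eq_one_iff_mul_comm]
    exact mem_cz.1 (h2 hy) _ (pow_mem_Ph h.pg hx)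
  have := h.pw_all (N := ⁅R, R⁆) (Z := Ph R) (fun e he => mem_nz_commutator (h.nz he) (h.nz he)) (comm_le_Ph h.pg)
    (fun z hz => mem_nz_commutator (le_nz R (Ph_le R hz)) (le_nz R (Ph_le R hz)))
    ((relIndex_of_card (comm_le_Ph h.pg) (b := 1) hP hc1).trans (pow_one p)) (n := p) (fun x hx y hy => by
      rw [PGrp.mul_pow_of_commute (hcm y hy x hx x hx) (hcm y hy x hx y hy)]
      exact cg_mul_mem _ (pow_mem (commutator_mem_commutator hy hx) _)) fun x hx => pow_mem_Ph h.pg hx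
  have := Fusion.card_le_of_le ((Ph_le_iff h.pg).2 ⟨le_rfl, this⟩)
  rw [hP, hc1] at this
  nlinarith [hp.out.one_lt]

theorem exists_pow_mul {R L : Subgroup G} (hL : Nat.card L = p) (hm : ∀ x ∈ R, ∀ y ∈ R, (x * y) ^ p = x ^ p * y ^ p)
    (hR : ∀ x ∈ R, x ^ p ∈ L) {a y : G} (ha : a ∈ R) (ha1 : a ^ p ≠ 1) (hy : y ∈ R) :
    ∃ j : ℤ, (y * a ^ j) ^ p = 1 := by
  have e := (eq_bot_or_eq_of_card hL (zpowers_le.2 (hR a ha))).resolve_left (by simpa using ha1)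
  obtain ⟨j, hj⟩ := e.ge (inv_mem (hR y hy))
  refine ⟨j, ?_⟩
  rw [hm y hy _ (zpow_mem ha j), ← zpow_natCast (a ^ j), ← zpow_mul, mul_comm j, zpow_mul, zpow_natCast]
  simp only at hj
  rw [hj, mul_inv_cancel]

theorem inf_eq_bot_of_card {X : Subgroup G} {c : G} (hc : c ^ p = 1) (h : c ∉ X) : X ⊓ zpowers c = ⊥ :=
  have h1 : c ≠ 1 := fun e => h (e ▸ one_mem _)
  (eq_bot_or_eq_of_card ((Nat.card_zpowers c).trans (orderOf_eq_prime hc h1)) inf_le_right).resolve_right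
    fun e => h (e.ge (mem_zpowers c)).1

theorem exists_notMem_of_card {X Y : Subgroup G} (h : Nat.card Y < Nat.card X) : ∃ x ∈ X, x ∉ Y :=
  SetLike.not_le_iff_exists.1 fun e => (Fusion.card_le_of_le e).not_gt h

theorem abel_case {E : Subgroup G} (h4 : Nat.card E = p ^ 4) (hL : Nat.card (Ph E) = p) (hc : E ≤ cz E) :
    Nonempty (E ≃* Multiplicative (ZMod (p ^ 2) × ZMod p × ZMod p)) := by
  have hE : IsPGroup p E := IsPGroup.of_card h4
  have h1 := hp.out.one_lt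
  obtain ⟨a, ha, ha1⟩ : ∃ a ∈ E, a ^ p ≠ 1 := by
    by_contra h
    push Not at h
    rw [(Ph_eq_bot hE).2 ⟨hc, h⟩, card_bot] at hL
    omega
  have ho : orderOf a = p ^ 2 := orderOf_eq_prime_pow (by rwa [pow_one])
    (by rw [pow_succ, pow_one, pow_mul]; exact pow_of_card hL (pow_mem_Ph hE ha))
  have key : ∀ X ≤ E, a ∈ X → Nat.card X < p ^ 4 → ∃ b ∈ E, b ∉ X ∧ b ^ p = 1 := fun X hX haX hlt => by
    obtain ⟨y, hy, hy'⟩ := exists_notMem_of_card (h4 ▸ hlt)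
    obtain ⟨j, hj⟩ := exists_pow_mul hL (fun x hx y hy => mul_pow_of_cz hc hx hy p) (fun x hx => pow_mem_Ph hE hx) ha ha1 hy
    exact ⟨_, mul_mem hy (zpow_mem ha j), fun e => hy' (mem_of_eq (mul_mem e (inv_mem (zpow_mem haX j))) (by group)), hj⟩
  have hn : ∀ {X : Subgroup G} {x}, X ≤ E → x ∈ E → x ∈ cz X := fun h1 h2 => cz_anti h1 (hc h2)
  obtain ⟨b, hb, hb', hbp⟩ := key (zpowers a) (zpowers_le.2 ha) (mem_zpowers a)
    (by rw [Nat.card_zpowers, ho]; exact Nat.pow_lt_pow_right h1 (by omega))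
  have hX : zpowers a ⊔ zpowers b ≤ E := sup_le (zpowers_le.2 ha) (zpowers_le.2 hb)
  have c1 := PGrp.card_sup_zpowers hp.out (cz_le_nz _ (hn (zpowers_le.2 ha) hb)) (hbp ▸ one_mem _) hb'
  rw [Nat.card_zpowers, ho, ← pow_succ] at c1
  obtain ⟨c, hc1, hc', hcp⟩ := key _ hX (mem_sup_left (mem_zpowers a)) (by rw [c1]; exact Nat.pow_lt_pow_right h1 (by omega))
  have c2 := PGrp.card_sup_zpowers hp.out (cz_le_nz _ (hn hX hc1)) (hcp ▸ one_mem _) hc'
  rw [c1, ← pow_succ] at c2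
  have e := eq_of_le_of_card_le (sup_le hX (zpowers_le.2 hc1)) (h4.trans c2.symm).le
  obtain ⟨f1⟩ := equiv_sup_prod (inf_eq_bot_of_card hcp hc') (le_cz_comm.1 (zpowers_le.2 (hn hX hc1)))
  obtain ⟨f2⟩ := equiv_sup_prod (inf_eq_bot_of_card hbp hb') (zpowers_le.2 (hn (zpowers_le.2 hb) ha))
  obtain ⟨g1⟩ := equiv_zpowers ho
  obtain ⟨g2⟩ := equiv_zpowers (orderOf_eq_prime hbp fun e => hb' (e ▸ one_mem _))
  obtain ⟨g3⟩ := equiv_zpowers (orderOf_eq_prime hcp fun e => hc' (e ▸ one_mem _))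
  exact ⟨(MulEquiv.subgroupCongr e.symm).trans (f1.trans (((f2.trans (g1.prodCongr g2)).prodCongr g3).trans
    (MulEquiv.prodAssoc.trans (((MulEquiv.refl _).prodCongr (MulEquiv.prodMultiplicative _ _).symm).trans
      (MulEquiv.prodMultiplicative _ _).symm))))⟩

theorem card_Zc {E : Subgroup G} (h4 : Nat.card E = p ^ 4) (hL : Nat.card (Ph E) = p) (hc : ¬ E ≤ cz E) :
    Ph E = ⁅E, E⁆ ∧ Ph E ≤ Zc E ∧ Nat.card (Zc E) = p ^ 2 := by
  have hE : IsPGroup p E := IsPGroup.of_card h4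
  have e1 := (eq_bot_or_eq_of_card hL (comm_le_Ph hE)).resolve_left fun e => hc (comm_eq_bot_iff.1 e)
  have e2 : Ph E ≤ Zc E := le_inf (Ph_le E) (le_cz_comm.1 fun s hs =>
    mem_cz_of_pg hL.dvd (nz_le_nz_Ph E (le_nz E hs)) (isPGroup_iff.1 hE s hs))
  refine ⟨e1.symm, e2, ?_⟩
  obtain ⟨a, ha, ha'⟩ := SetLike.not_le_iff_exists.1 hc
  have i1 : (E ⊓ cz (zpowers a)).relIndex E = p ^ 1 := by
    rw [inf_comm, inf_relIndex_right, pow_one]
    exact relIndex_eq_of_le hE (hL ▸ relIndex_cz_le fun x hx => comm_le_Ph hE (comm_mem hx ha))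
      fun e => ha' (zpowers_le.1 (le_cz_comm.1 e))
  have c1 := card_of_relIndex inf_le_left (a := 3) h4 i1
  have c2 := PGrp.card_sup_zpowers hp.out (nz_le_nz_Ph E (le_nz E ha)) (pow_mem_Ph hE ha) fun e => ha' (e2 e).2
  rw [hL, ← pow_two] at c2
  have hle : Ph E ⊔ zpowers a ≤ E ⊓ cz (zpowers a) := sup_le (e2.trans (inf_le_inf_left _ (cz_anti (zpowers_le.2 ha))))
    (zpowers_le.2 ⟨ha, mem_cz_zpowers.2 rfl⟩)
  obtain ⟨y, hy, hy'⟩ := exists_notMem_of_card (X := E ⊓ cz (zpowers a)) (Y := Ph E ⊔ zpowers a)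
    (by rw [c1, c2]; exact Nat.pow_lt_pow_right hp.out.one_lt (by omega))
  have e3 := PGrp.sup_zpowers_eq_of_relIndex_prime hp.out
    ((relIndex_of_card hle (b := 1) c1 c2).trans (pow_one p)) hle hy hy'
  have := relIndex_Zc hE hc inf_le_left (e3 ▸ sup_zpowers_le_cz
    (sup_zpowers_le_cz (e2.trans (inf_le_right.trans (cz_anti (Ph_le E)))) (le_cz_comm.1 (e2.trans inf_le_right) ha))
    (by rw [cz_sup]; exact ⟨le_cz_comm.1 (e2.trans inf_le_right) hy.1, hy.2⟩)) (i1.trans (pow_one p))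
  rw [e1, hL, ← pow_two] at this
  exact card_of_relIndex inf_le_left (b := 2) h4 this

theorem move {F : FS G} (hF : F.Sat p) {E : Subgroup G} (hE : F.Ess p E) (h4 : Nat.card E = p ^ 4)
    (hL : Nat.card (Ph E) = p) (hc : ¬ E ≤ cz E) {a : G} (ha : a ∈ E) (ha' : a ∉ Zc E) :
    ∃ d ∈ F.aut E, d * a * d⁻¹ ∉ Zc E ⊔ zpowers a := by
  obtain ⟨e1, e2, e3⟩ := card_Zc h4 hL hc
  have hp' := hF.pg_le hE.le
  by_contra hn
  push Not at hn
  have hZ := (F.aut_le_nz E).trans (nz_le_nz_Zc E)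
  have hM : F.aut E ≤ nz (Zc E ⊔ zpowers a) := fun d hd => mem_nz_of_le (by
    rw [cj_sup, cj_of_nz (hZ hd), cj_zpowers]; exact sup_le le_sup_left (zpowers_le.2 (hn d hd)))
  have hle : Zc E ⊔ zpowers a ≤ E := sup_le inf_le_left (zpowers_le.2 ha)
  have hnZ := (le_nz E).trans (nz_le_nz_Zc E)
  have i1 := PGrp.relIndex_sup_zpowers hp.out (hnZ ha) (e2 (pow_mem_Ph hp' ha)) ha'
  have c1 : Nat.card ↥(Zc E ⊔ zpowers a) = p ^ 3 := by rw [← card_mul_relIndex le_sup_left, i1, e3, pow_succ p 2]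
  obtain ⟨g, g1, g2, g3, -⟩ := ess_exists hF hE
  have gA := mem_aut_of_S hE.le g1 g3
  have gp := exists_pow_of_S hF g1
  have hP := (F.aut_le_nz E).trans (nz_le_nz_Ph E)
  have nP := (le_nz E).trans (nz_le_nz_Ph E)
  exact (rs_S hF hE).not_pmod g1 g3 g2 (pmod_trv_trans (hp'.to_le hle) (hle.trans nP)
    (pmod_ncl_prime gA gp (F.aut_le_nz E) hM hle (le_nz_of_comm_le (comm_le_Ph hp') (e2.trans le_sup_left) hle)
      ((relIndex_of_card hle (b := 1) h4 c1).trans (pow_one p)).dvd)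
    (pmod_trv_trans (hp'.to_le inf_le_left) (inf_le_left.trans nP)
      (pmod_ncl_prime gA gp hM hZ le_sup_left (hle.trans hnZ) i1.dvd)
      (pmod_ncl_prime gA gp hZ hP e2 (inf_le_left.trans nP)
        ((relIndex_of_card e2 (a := 1) (b := 1) e3 (hL.trans (pow_one p).symm)).trans (pow_one p)).dvd)))

theorem split {E : Subgroup G} (h4 : Nat.card E = p ^ 4) (hL : Nat.card (Ph E) = p) (hc : ¬ E ≤ cz E)
    (hZ : ∀ z ∈ Zc E, z ^ p = 1) {a b : G} (ha : a ∈ E) (ha' : a ∉ Zc E) (hb : b ∈ E) (hb' : b ∉ Zc E ⊔ zpowers a) :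
    a * b ≠ b * a ∧ ∃ X ≤ E, a ∈ X ∧ b ∈ X ∧ Nat.card X = p ^ 3 ∧ Nonempty (E ≃* X × Multiplicative (ZMod p)) := by
  obtain ⟨e1, e2, e3⟩ := card_Zc h4 hL hc
  have hE : IsPGroup p E := IsPGroup.of_card h4
  have hnZ := (le_nz E).trans (nz_le_nz_Zc E)
  have hle : Zc E ⊔ zpowers a ≤ E := sup_le inf_le_left (zpowers_le.2 ha)
  have c1 : Nat.card ↥(Zc E ⊔ zpowers a) = p ^ 3 := by
    rw [PGrp.card_sup_zpowers hp.out (hnZ ha) (e2 (pow_mem_Ph hE ha)) ha', e3, pow_succ p 2]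
  have e4 := PGrp.sup_zpowers_eq_of_relIndex_prime hp.out ((relIndex_of_card hle (b := 1) h4 c1).trans (pow_one p)) hle hb hb'
  refine ⟨fun e => hc (e4 ▸ sup_zpowers_le_cz (sup_zpowers_le_cz (inf_le_left.trans (le_cz_Zc E)) (le_cz_Zc E ha))
    (by rw [cz_sup]; exact ⟨le_cz_Zc E hb, mem_cz_zpowers.2 e⟩)), ?_⟩
  obtain ⟨c, hc1, hc2⟩ := exists_notMem_of_card (X := Zc E) (Y := Ph E) (by rw [hL, e3]; nlinarith [hp.out.one_lt])
  have e5 := PGrp.sup_zpowers_eq_of_relIndex_prime hp.out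
    ((relIndex_of_card e2 (a := 1) (b := 1) e3 (hL.trans (pow_one p).symm)).trans (pow_one p)) e2 hc1 hc2
  have hl2 : Ph E ⊔ zpowers a ≤ E := sup_le (Ph_le E) (zpowers_le.2 ha)
  have c2 : Nat.card ↥(Ph E ⊔ zpowers a ⊔ zpowers b) = p ^ 3 := by
    rw [PGrp.card_sup_zpowers hp.out (le_nz_of_comm_le (comm_le_Ph hE) le_sup_left hl2 hb) (mem_sup_left (pow_mem_Ph hE hb))
      fun e => hb' (sup_le_sup_right e2 _ e),
      PGrp.card_sup_zpowers hp.out (nz_le_nz_Ph E (le_nz E ha)) (pow_mem_Ph hE ha) fun e => ha' (e2 e), hL]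
    ring
  have e6 : Ph E ⊔ zpowers a ⊔ zpowers b ⊔ zpowers c = E := by
    conv_rhs => rw [← e4, ← e5]
    rw [sup_right_comm, sup_right_comm (Ph E)]
  have hX := sup_le hl2 (zpowers_le.2 hb)
  have hcX : c ∉ Ph E ⊔ zpowers a ⊔ zpowers b := fun e => by
    rw [sup_eq_left.2 (zpowers_le.2 e)] at e6
    rw [e6, h4] at c2
    exact absurd (Nat.pow_right_injective hp.out.two_le c2) (by omega)
  obtain ⟨f⟩ := equiv_sup_prod (inf_eq_bot_of_card (hZ c hc1) hcX) (le_cz_comm.1 (zpowers_le.2 (cz_anti hX hc1.2)))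
  obtain ⟨g⟩ := equiv_zpowers (orderOf_eq_prime (hZ c hc1) fun e => hc2 (e ▸ one_mem _))
  exact ⟨_, hX, mem_sup_left (mem_sup_right (mem_zpowers a)), mem_sup_right (mem_zpowers b), c2,
    ⟨(MulEquiv.subgroupCongr e6.symm).trans (f.trans ((MulEquiv.refl _).prodCongr g))⟩⟩

theorem main {F : FS G} (hF : F.Sat p) {E : Subgroup G} (hE : F.Ess p E) (h4 : Nat.card E = p ^ 4) :
    IsElementaryAbelian p E ∨ Nonempty (E ≃* Multiplicative (ZMod (p ^ 2) × ZMod p × ZMod p)) ∨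
      ((p = 2 ∨ p = 3) ∧ Nonempty (E ≃* Multiplicative (ZMod (p ^ 2) × ZMod (p ^ 2)))) ∨
      (p ≠ 2 ∧ ∃ X : Subgroup G, IsExtraspecial p X ∧ Nat.card X = p ^ 3 ∧
        (∀ x ∈ X, x ^ p = 1) ∧ Nonempty (E ≃* X × Multiplicative (ZMod p))) ∨
      (p = 2 ∧ Nonempty (E ≃* QuaternionGroup 2 × Multiplicative (ZMod 2))) ∨
      (¬ E ≤ cz E ∧ (∀ x ∈ E, x ^ (p ^ 2) = 1) ∧ IsCyclic (Zc E) ∧ Nat.card (Zc E) = p ^ 2) := by
  have hp' := hF.pg_le hE.le
  rcases Ph_cases hp' h4 with h | h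
  · exact .inl (elem_of_Ph hp' h)
  by_cases h2 : (Ph E).relIndex E ≤ p ^ 2
  · have I := ess_irr hF hE h2
    have hc := irr_four I h4
    obtain ⟨k, k1, k2, k3, e⟩ := I.abel hc
    obtain rfl : k = 1 := by have := Nat.pow_right_injective hp.out.two_le (h4.symm.trans k3); omega
    have h3 := ess_abel_le_three hF hE hc one_ne_zero k2 k3
    have := hp.out.two_le
    exact .inr (.inr (.inl ⟨by omega, e⟩))
  obtain ⟨k, hk⟩ := relIndex_pow (Y := Ph E) hp'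
  rw [hk, Nat.pow_le_pow_iff_right hp.out.one_lt] at h h2
  obtain rfl : k = 3 := by omega
  have hL := (card_of_relIndex (Ph_le E) (a := 1) h4 hk).trans (pow_one p)
  by_cases hc : E ≤ cz E
  · exact .inr (.inl (abel_case h4 hL hc))
  obtain ⟨e1, e2, e3⟩ := card_Zc h4 hL hc
  by_cases hZ : ∀ z ∈ Zc E, z ^ p = 1
  swap
  · push Not at hZ
    obtain ⟨z, hz, hz1⟩ := hZ
    refine .inr (.inr (.inr (.inr (.inr ⟨hc, fun x hx => by
      rw [pow_two, pow_mul]; exact pow_of_card hL (pow_mem_Ph hp' hx), PGrp.isCyclic_of_eq_zpowers (a := z)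
        (eq_of_le_of_card_le (zpowers_le.2 hz) ?_), e3⟩))))
    rw [Nat.card_zpowers, orderOf_eq_prime_pow (n := 1) (by rwa [pow_one]) (pow_of_card e3 hz), e3]
  by_cases hp2 : p = 2
  · subst hp2
    obtain ⟨a, ha, ha2⟩ := exists_sq_ne hc
    have ha' : a ∉ Zc E := fun e => ha2 (pow_two a ▸ hZ a e)
    obtain ⟨d, hd, hda⟩ := move hF hE h4 hL hc ha ha'
    obtain ⟨h1, X, -, x1, x2, x3, ⟨f⟩⟩ := split h4 hL hc hZ ha ha' (conj_mem_of_nz (F.aut_le_nz E hd) ha) hda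
    obtain ⟨g⟩ := equiv_q8 x3 x1 x2 ha2 (fun e => ha2 (by
      have : d * (a * a) * d⁻¹ = 1 := by rw [← e]; group
      simpa using this)) h1
    exact .inr (.inr (.inr (.inr (.inl ⟨rfl, ⟨f.trans (g.prodCongr (MulEquiv.refl _))⟩⟩))))
  have hcm : ∀ x ∈ E, ∀ y ∈ E, ∀ g ∈ E, Commute g ⁅x, y⁆ := fun x hx y hy g hg =>
    mem_cz.1 (e2 (comm_le_Ph hp' (commutator_mem_commutator hx hy))).2 g hg
  have hm : ∀ x ∈ E, ∀ y ∈ E, (x * y) ^ p = x ^ p * y ^ p := fun x hx y hy =>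
    PGrp.mul_pow_of_commute_of_odd (hp.out.odd_of_ne_two hp2) (hcm y hy x hx x hx) (hcm y hy x hx y hy)
      (pow_of_card hL (comm_le_Ph hp' (commutator_mem_commutator hy hx)))
  have hnZ := (le_nz E).trans (nz_le_nz_Zc E)
  obtain ⟨u, hu, hu', hup⟩ : ∃ u ∈ E, u ∉ Zc E ∧ u ^ p = 1 := by
    obtain ⟨a, ha, ha'⟩ := SetLike.not_le_iff_exists.1 hc
    by_cases h1 : a ^ p = 1
    · exact ⟨a, ha, fun e => ha' e.2, h1⟩
    obtain ⟨d, hd, hda⟩ := move hF hE h4 hL hc ha fun e => ha' e.2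
    have hy := conj_mem_of_nz (F.aut_le_nz E hd) ha
    obtain ⟨j, hj⟩ := exists_pow_mul hL hm (fun x hx => pow_mem_Ph hp' hx) ha h1 hy
    exact ⟨_, mul_mem hy (zpow_mem ha j), fun e => hda
      (mem_of_eq (mul_mem (mem_sup_left e) (mem_sup_right (inv_mem (zpow_mem_zpowers a j)))) (by group)), hj⟩
  obtain ⟨d, hd, hda⟩ := move hF hE h4 hL hc hu hu'
  have hy := conj_mem_of_nz (F.aut_le_nz E hd) hu
  obtain ⟨h1, X, x0, x1, x2, x3, f⟩ := split h4 hL hc hZ hu hu' hy hda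
  have hle : Zc E ⊔ zpowers u ≤ E := sup_le inf_le_left (zpowers_le.2 hu)
  have c1 : Nat.card ↥(Zc E ⊔ zpowers u) = p ^ 3 := by
    rw [PGrp.card_sup_zpowers hp.out (hnZ hu) (hup ▸ one_mem _) hu', e3, pow_succ p 2]
  have e4 := PGrp.sup_zpowers_eq_of_relIndex_prime hp.out ((relIndex_of_card hle (b := 1) h4 c1).trans (pow_one p)) hle hy hda
  have : Zc E ⊔ zpowers u ⊔ zpowers (d * u * d⁻¹) ≤ pwS E ⊥ p fun x hx y hy e1 e2 => by
      rw [mem_bot] at *; rw [hm x hx y hy, e1, e2, mul_one] :=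
    sup_le (sup_le (fun z hz => ⟨hz.1, hZ z hz⟩) (zpowers_le.2 ⟨hu, hup⟩))
      (zpowers_le.2 ⟨hy, by rw [mem_bot, conj_pow, hup]; simp⟩)
  exact .inr (.inr (.inr (.inl ⟨hp2, X, extraspecial_of_cube x3 fun e => h1 (mem_cz.1 (e x2) u x1), x3,
    fun x hx => (this (e4.ge (x0 hx))).2, f⟩)))

end

/-- Let F be a saturated fusion system over a finite p-group S and H an essential subgroup of order p⁴. Then H is isomorphic to one of: C_p⁴ or C_{p²} × C_p × C_p (any p); C_{p²} × C_{p²} with p ∈ {2, 3}; p^{1+2}_+ × C_p with p odd (the direct product of an extraspecial group of order p³ and exponent p with a group of order p); Q₈ × C₂ (p = 2); or the non-abelian group of order p⁴ of exponent p² whose centre is cyclic of order p² (the central product of an extraspecial group of order p³ with a cyclic group of order p²; for p = 2 this is D₈ ∘ C₄). -/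
theorem result {Ω : Type u} [Group Ω] {S : Subgroup Ω} [Finite S] (p : ℕ) [Fact p.Prime] (hS : IsPGroup p S)
    (F : Cfsg.FusionSystem S) (hF : F.IsSaturated p) (H : Subgroup Ω) (hH : F.IsEssential p H) (hcard : Nat.card H = p ^ 4) :
    Cfsg.IsElementaryAbelian p H ∨
      Nonempty (↥H ≃* Multiplicative (ZMod (p ^ 2) × ZMod p × ZMod p)) ∨
      ((p = 2 ∨ p = 3) ∧ Nonempty (↥H ≃* Multiplicative (ZMod (p ^ 2) × ZMod (p ^ 2)))) ∨
      (Odd p ∧ ∃ (E : Type) (_ : Group E) (_ : Finite E), Cfsg.IsExtraspecial p E ∧ Nat.card E = p ^ 3 ∧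
        (∀ x : E, x ^ p = 1) ∧ Nonempty (↥H ≃* E × Multiplicative (ZMod p))) ∨
      (p = 2 ∧ Nonempty (↥H ≃* QuaternionGroup 2 × Multiplicative (ZMod 2))) ∨
      (¬ IsMulCommutative ↥H ∧ (∀ x ∈ H, x ^ (p ^ 2) = 1) ∧ IsCyclic ↥(Subgroup.center ↥H) ∧
        Nat.card (Subgroup.center ↥H) = p ^ 2) := by
  obtain ⟨G, _, _, ι, F', r, -⟩ := Fusion.exists_rich_rep F
  have hHS : H ≤ S := hH.1.1
  have e := eta r.inj hHS
  rcases main (r.sat hS hF) ((r.ess_iff hHS).1 hH) ((card_im r.inj hHS).trans hcard) with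
    h | h | ⟨h1, h⟩ | ⟨h1, X, x1, x2, x3, ⟨f⟩⟩ | ⟨h1, h⟩ | ⟨h1, h2, h3, h4⟩
  · exact .inl (elem_of_equiv e h)
  · exact .inr (.inl (h.map e.trans))
  · exact .inr (.inr (.inl ⟨h1, h.map e.trans⟩))
  · have g : X ≃* Shrink.{0} X := Shrink.mulEquiv.symm
    exact .inr (.inr (.inr (.inl ⟨(Fact.out : p.Prime).odd_of_ne_two h1, Shrink.{0} X, inferInstance,
      Finite.of_equiv _ g.toEquiv, PGrp.isExtraspecial_of_equiv g x1, (Nat.card_congr g.symm.toEquiv).trans x2,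
      fun a => g.symm.injective (by rw [map_pow, map_one]; exact Subtype.ext (x3 _ (g.symm a).2)),
      ⟨e.trans (f.trans (g.prodCongr (MulEquiv.refl _)))⟩⟩)))
  · exact .inr (.inr (.inr (.inr (.inl ⟨h1, h.map e.trans⟩))))
  · obtain ⟨f⟩ := center_equiv e
    obtain ⟨g⟩ := center_equiv_inf (im ι H)
    exact .inr (.inr (.inr (.inr (.inr ⟨fun h => h1 (isMulCommutative_iff_le_cz.1 (comm_of_equiv e.symm h)),
      pow_of_equiv e h2, (f.trans g).isCyclic.2 h3, (Nat.card_congr (f.trans g).toEquiv).trans h4⟩))))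

end Cfsg.Agent.S5188
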