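import Cfsg.Statements.S5191
import Cfsg.Agent.Fusion.Free
-- import your own Cfsg.Agent.* helpers here

set_option autoImplicit false
open Cfsg

namespace Cfsg.Agent.S5191

open Cfsg.Agent.Fusion


/-- Fusion in a finite group G and in its quotient by O_{p'}(G) agree. Let S be a Sylow p-subgroup of G, N = O_{p'}(G) and P ≤ S. If an element of G/N conjugates the image of P into the image of S, then some element g of G conjugates P into S and induces the same map on P modulo N. (Together with the injectivity of S → G/N this says that g ↦ gN induces an isomorphism of the fusion system of G on S with that of G/N on SN/N.) -/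
theorem result {G : Type*} [Group G] [Finite G] {p : ℕ} [Fact p.Prime]
    [hN : (Cfsg.pPrimeCore p G).Normal] (S : Sylow p G) (P : Subgroup G) (hP : P ≤ (S : Subgroup G))
    (γ : G ⧸ Cfsg.pPrimeCore p G)
    (hγ : ∀ x ∈ P, γ * QuotientGroup.mk x * γ⁻¹ ∈ ((S : Subgroup G).map (QuotientGroup.mk' (Cfsg.pPrimeCore p G)))) :
    ∃ g : G, ∀ x ∈ P, g * x * g⁻¹ ∈ S ∧
      (QuotientGroup.mk (g * x * g⁻¹) : G ⧸ Cfsg.pPrimeCore p G) = γ * QuotientGroup.mk x * γ⁻¹ := by
  have q := FS.quo_ofGroup ((QuotientGroup.mk' (pPrimeCore p G)).comp (⊤ : Subgroup G).subtype)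
    (syl_top S)
  have e : ∀ x : G, fn ((QuotientGroup.mk' (pPrimeCore p G)).comp (⊤ : Subgroup G).subtype) x
      = QuotientGroup.mk x := fun x => fn_of_mem _ (Subgroup.mem_top x)
  obtain ⟨g, h1, h2⟩ := q.bwd'' (P := P) (g' := γ) hP (FS.ofGroup_M_of (im_mono _ hP)
    (cj_le_iff.2 ((forall_mem_im le_top).2 fun x hx => by
      obtain ⟨y, hy, h⟩ := hγ x hx
      rw [e, ← h]
      exact (mem_im le_top).2 ⟨y, hy, e y⟩)) (by
      obtain ⟨y, rfl⟩ := QuotientGroup.mk_surjective γ
      exact ⟨⟨y, trivial⟩, rfl⟩))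
  exact ⟨g, fun x hx => ⟨FS.conj_mem h1 hx, by rw [← e, ← e, h2 x hx]⟩⟩

end Cfsg.Agent.S5191
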