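import Cfsg.Statements.S5192
import Cfsg.Agent.Fusion.PInd2
-- import your own Cfsg.Agent.* helpers here

set_option autoImplicit false
open Cfsg

namespace Cfsg.Agent.S5192

open Cfsg.Agent.Fusion


/-- A Thompson-type transfer for saturated fusion systems. Let F be a saturated fusion system on a finite 2-group S, T a subgroup of S of index 2, and i an involution of S such that every fully normalized F-conjugate of i lies in S but outside T. Then i does not lie in the hyperfocal subgroup of F (the Sylow group of the 2-residual subsystem). -/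
theorem result {Ω : Type*} [Group Ω] [Finite Ω] {S : Subgroup Ω}
    (hS : IsPGroup 2 ↥S) (F : Cfsg.FusionSystem S) (hF : F.IsSaturated 2)
    (T : Subgroup Ω) (hTS : T ≤ S) (hT : T.relIndex S = 2)
    (i : Ω) (hi : i ∈ S) (hi2 : orderOf i = 2)
    (h : ∀ j : Ω, F.IsConjElt i j → F.IsFullyNormalized (Subgroup.zpowers j) → j ∉ T) :
    i ∉ F.hyperfocalSubgroup 2 := by
  obtain ⟨G, _, _, ι, F', r, -⟩ := exists_rich_rep F
  have hF' := r.sat hS hF
  haveI : (T.subgroupOf S).Normal := Subgroup.normal_of_index_eq_two hT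
  have h1 := r.im_le hTS
  haveI := (normal_subgroupOf_iff h1).2
    (r.S_eq.trans_le (im_le_nz ι le_rfl hTS ((normal_subgroupOf_iff hTS).1 this)))
  have hB : Nat.card (F'.S ⧸ (im ι T).subgroupOf F'.S) = 2 := by
    have h2 := card_mul_relIndex h1
    rw [card_im r.inj hTS, r.S_eq, card_im r.inj le_rfl, ← card_mul_relIndex hTS, hT, ← r.S_eq] at h2
    exact Nat.eq_of_mul_eq_mul_left Nat.card_pos h2
  haveI := isCyclic_of_prime_card hB
  letI := IsCyclic.commGroup (α := F'.S ⧸ (im ι T).subgroupOf F'.S)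
  obtain ⟨b, hb, hb'⟩ := (Nat.card_eq_two_iff' 1).1 hB
  have h2 : fn ι i ^ 2 = 1 := by rw [← fn_pow _ hi, ← hi2, pow_orderOf_eq_one]; simp
  refine fun h3 => hF'.not_mem_foc (QuotientGroup.mk' _) (fun b => hB ▸ pow_card_eq_one')
    (r.mem_S hi) h2 hb (fun g a c => hb' _ fun e => ?_) (F'.hyp_le_foc 2 (r.im_hyp.le (fn_mem_im ι h3)))
  have h4 := FS.conj_mem a (Subgroup.mem_zpowers _)
  obtain ⟨j, hj, e'⟩ := r.lift_mem h4
  rw [cj_zpowers] at c
  refine h j ((r.ce_iff hi hj).2 ⟨g, a, e'.symm⟩) ((r.fn_iff (Subgroup.zpowers_le.2 hj)).2 ?_)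
    ((fn_mem_im_iff r.inj hj).1 (e' ▸ (pre_mk' h1).le (mem_pre.2 ⟨h4, e⟩)))
  rw [im_zpowers ι hj, e']
  exact c.fn_of_sq (by rw [conj_pow, h2]; simp)

end Cfsg.Agent.S5192
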