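import Mathlib
import Cfsg.Statements.S5215
import Cfsg.Agent.Inv.Real9

set_option autoImplicit false
open Cfsg

namespace Cfsg.Agent.S5215

open Cfsg.Agent.Inv Cfsg.Agent.Fusion Subgroup

/-- Let S be a finite 2-group of 2-rank 2 (an elementary abelian subgroup of order 4, none of order 8) and F a simple saturated fusion system over S. Then S is dihedral, semidihedral or wreathed, and F is the fusion system of the projective special linear group PSL₂(q) for some odd prime power q ≡ ±1 (mod 8) or of PSL₃(q) for some odd prime power q: it is realized by an injective homomorphism of S into that group whose image is a Sylow 2-subgroup. -/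
theorem result {Ω : Type*} [Group Ω] {S : Subgroup Ω} [Finite S] (hS : IsPGroup 2 S) (F : Cfsg.FusionSystem S) (hF : F.IsSaturated 2) (hr : Cfsg.PRankAtLeast 2 2 ↥S ∧ ¬ Cfsg.PRankAtLeast 2 3 ↥S) (hsimple : F.IsSimple 2) : ((∃ m : ℕ, Nonempty (↥S ≃* DihedralGroup m)) ∨ Cfsg.IsQuasiDihedral ↥S ∨ Cfsg.IsWreathed ↥S) ∧ ∃ (K : Type) (_ : Field K) (_ : Fintype K) (q : ℕ), Fintype.card K = q ∧ Odd q ∧ (((q % 8 = 1 ∨ q % 8 = 7) ∧ ∃ ι : ↥S →* Matrix.ProjectiveSpecialLinearGroup (Fin 2) K, F.IsRealizedBy ι ∧ ∃ T : Sylow 2 (Matrix.ProjectiveSpecialLinearGroup (Fin 2) K), (T : Subgroup (Matrix.ProjectiveSpecialLinearGroup (Fin 2) K)) = ι.range) ∨ (∃ ι : ↥S →* Matrix.ProjectiveSpecialLinearGroup (Fin 3) K, F.IsRealizedBy ι ∧ ∃ T : Sylow 2 (Matrix.ProjectiveSpecialLinearGroup (Fin 3) K), (T : Subgroup (Matrix.ProjectiveSpecialLinearGroup (Fin 3) K)) = ι.range)) := by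
  haveI : Fact (Nat.Prime 2) := ⟨Nat.prime_two⟩
  obtain ⟨G, _, _, ι, F', r, -⟩ := exists_rich_rep F
  have hs := (r.simple_iff hS).1 hsimple
  obtain ⟨e⟩ := r.equivS
  have h4 := four_le_of_rank hr.1
  have key : ∀ Q, F'.Nor Q → Q = ⊥ := fun Q hQ => by
    by_contra h
    have := simple_nor hs hQ h
    rw [← Nat.card_congr e.toEquiv] at this
    omega
  rcases rank_two_res hS hF hr r (key _ F'.cen_center.nor) with ⟨h, H, _, _, L, κ, r', h1, h2⟩ | h
  · refine ⟨h, ?_⟩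
    obtain ⟨K, i1, i2, q, k1, k2, k3⟩ := h2.resolve_left fun h2 =>
      not_simple_of_ns h1 h2 ((r'.simple_iff hS).1 hsimple)
    refine ⟨K, i1, i2, q, k1, k2, ?_⟩
    rcases k3 with ⟨k3, ⟨f⟩⟩ | ⟨⟨f⟩⟩
    · exact .inl ⟨k3, _, realized_equiv f (r'.realizable_toSub h1 rfl)⟩
    · exact .inr ⟨_, realized_equiv f (r'.realizable_toSub h1 rfl)⟩
  · exact absurd (key _ h) hs.2.1

end Cfsg.Agent.S5215
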