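import Mathlib
import Cfsg.Statements.S5248
import Cfsg.Agent.Inv.Real8

set_option autoImplicit false
open Cfsg

namespace Cfsg.Agent.S5248

open Cfsg.Agent.Inv Cfsg.Agent.Fusion Subgroup

theorem exists_mc {Ω : Type*} [Group Ω] {S : Subgroup Ω} [Finite S] (hS : IsPGroup 2 S)
    (h : (∃ m : ℕ, 4 ≤ m ∧ Nonempty (↥S ≃* DihedralGroup m)) ∨
      (∃ m : ℕ, 2 ≤ m ∧ Nonempty (↥S ≃* QuaternionGroup m)) ∨ Cfsg.IsQuasiDihedral ↥S) :
    ∃ (x y : S) (n : ℕ), MC ⊤ x y n := by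
  rcases h with ⟨m, hm, ⟨e⟩⟩ | ⟨m, hm, ⟨e⟩⟩ | h
  · obtain ⟨x, y, n, h⟩ := exists_dih (S := ⊤) (hS.of_equiv topEquiv.symm) (by omega)
      (topEquiv.trans e)
    exact ⟨x, y, n, h.toMC⟩
  · obtain ⟨x, y, n, h, -⟩ := exists_quat' hS hm e
    exact ⟨x, y, _, h⟩
  · obtain ⟨x, y, n, h⟩ := exists_qd_top h
    exact ⟨x, y, _, h.toMC⟩

/-- Let S be a finite 2-group that is dihedral of order at least 8, generalized quaternion of order at least 8, semidihedral, or wreathed, and let F be a saturated fusion system over S. Then F has at most two F-conjugacy classes of F-essential subgroups (among any three essential subgroups two are joined by a map of F), and F is realizable: it is the fusion system of a finite group on a Sylow 2-subgroup. -/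
theorem result {Ω : Type*} [Group Ω] {S : Subgroup Ω} [Finite S] (hS : IsPGroup 2 S) (F : Cfsg.FusionSystem S) (hF : F.IsSaturated 2) (hshape : ((∃ m : ℕ, 4 ≤ m ∧ Nonempty (↥S ≃* DihedralGroup m)) ∨ (∃ m : ℕ, 2 ≤ m ∧ Nonempty (↥S ≃* QuaternionGroup m)) ∨ Cfsg.IsQuasiDihedral ↥S ∨ Cfsg.IsWreathed ↥S)) : (∀ E₁ E₂ E₃ : Subgroup Ω, F.IsEssential 2 E₁ → F.IsEssential 2 E₂ → F.IsEssential 2 E₃ → (∃ φ ∈ F.Hom E₁, φ.range = E₂) ∨ (∃ φ ∈ F.Hom E₁, φ.range = E₃) ∨ (∃ φ ∈ F.Hom E₂, φ.range = E₃)) ∧ F.IsRealizable 2 := by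
  haveI : Fact (Nat.Prime 2) := ⟨Nat.prime_two⟩
  constructor
  · obtain ⟨G, _, _, ι, F', r, -⟩ := exists_rich_rep F
    have hF' := r.sat hS hF
    obtain ⟨A, B, hAB⟩ : ∃ A B : Subgroup G, ∀ P, F'.Ess 2 P →
        ∃ s ∈ F'.S, cj s A = P ∨ cj s B = P := by
      rw [← or_assoc, ← or_assoc, or_assoc (c := IsQuasiDihedral S)] at hshape
      rcases hshape with h | h
      · obtain ⟨x, y, n, h⟩ := exists_mc hS h
        exact ⟨_, _, fun P hP => ess_mc hF' (r.S_eq_map ▸ h.map r.inj) hP⟩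
      · obtain ⟨x, y, t, n, h, tt⟩ := exists_wr_top h
        have h' : Wr F'.S (ι x) (ι y) (ι t) n := r.S_eq_map ▸ h.map r.inj
        exact ⟨_, _, fun P hP => ess_wr hF' h'.xt (h'.x1t_sq (by rw [← map_mul, tt, map_one])) hP⟩
    have key : ∀ {P Q : Subgroup Ω} {C : Subgroup G} {s t : G}, P ≤ S → Q ≤ S → s ∈ F'.S →
        t ∈ F'.S → cj s C = im ι P → cj t C = im ι Q → ∃ φ ∈ F.Hom P, φ.range = Q := by
      intro P Q C s t hP hQ hs ht e1 e2
      obtain ⟨φ, h1, h2⟩ := r.bwd hP (F'.inner (r.im_le hP) (mul_mem ht (inv_mem hs)))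
      refine ⟨φ, h1, (im_inj r.inj (hom_range_le h1) hQ).1 ?_⟩
      rw [r.im_range h1 h2, ← e1, cj_mul, cj_inv_cj, e2]
    intro E₁ E₂ E₃ h1 h2 h3
    obtain ⟨s₁, k1, e1⟩ := hAB _ ((r.ess_iff h1.1.1).1 h1)
    obtain ⟨s₂, k2, e2⟩ := hAB _ ((r.ess_iff h2.1.1).1 h2)
    obtain ⟨s₃, k3, e3⟩ := hAB _ ((r.ess_iff h3.1.1).1 h3)
    rcases e1 with e1 | e1 <;> rcases e2 with e2 | e2 <;> rcases e3 with e3 | e3 <;>
      first
      | exact .inl (key h1.1.1 h2.1.1 k1 k2 e1 e2)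
      | exact .inr (.inl (key h1.1.1 h3.1.1 k1 k3 e1 e3))
      | exact .inr (.inr (key h2.1.1 h3.1.1 k2 k3 e2 e3))
  · rcases hshape with ⟨m, hm, ⟨e⟩⟩ | ⟨m, hm, ⟨e⟩⟩ | h | h
    exacts [(res_dih hS hF hm e).realizable, (res_quat hS hF hm e).realizable,
      (res_qd hF h).realizable, (res_wr' hF h).realizable]

end Cfsg.Agent.S5248
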