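import Cfsg.Statements.S5259
import Cfsg.Agent.Fusion.L3
import Cfsg.Agent.S5090
import Cfsg.Agent.Classical.GLBasic
-- import your own Cfsg.Agent.* helpers here

set_option autoImplicit false
open Cfsg

namespace Cfsg.Agent.S5259

open Cfsg.Agent.Fusion

theorem hs_top {G : Type*} [Group G] {U : Subgroup G} (h : Hs U) : Hs (⊤ : Subgroup U) := by
  have hz : ∀ x : U, x ∈ cz (⊤ : Subgroup U) ↔ (x : G) ∈ cz U := by
    intro x
    simp only [mem_cz]
    exact ⟨fun k y hy => congrArg Subtype.val (k ⟨y, hy⟩ trivial),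
      fun k y _ => Subtype.ext (k y y.2)⟩
  refine ⟨fun x _ y _ => (hz _).2 (h.h1 x x.2 y y.2), fun x _ hn y _ z _ e1 e2 => ?_,
    fun x _ hn w _ hw => ?_⟩
  · exact Subtype.ext (h.h2 x x.2 (fun k => hn ((hz _).2 k)) y y.2 z z.2
      (congrArg Subtype.val e1) (congrArg Subtype.val e2))
  · obtain ⟨t, ht, e⟩ := h.h3 x x.2 (fun k => hn ((hz _).2 k)) w w.2 ((hz _).1 hw)
    exact ⟨⟨t, ht⟩, trivial, Subtype.ext e⟩

variable {K : Type*} [Field K]

/-- Upper unitriangular matrix. -/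
def ut (a b c : K) : Matrix.SpecialLinearGroup (Fin 3) K :=
  ⟨!![1, a, c; 0, 1, b; 0, 0, 1], by simp [Matrix.det_fin_three]⟩

theorem ut_mul (a b c a' b' c' : K) :
    ut a b c * ut a' b' c' = ut (a + a') (b + b') (c + c' + a * b') := by
  apply Subtype.ext
  rw [Matrix.SpecialLinearGroup.coe_mul]
  ext i j
  fin_cases i <;> fin_cases j <;> simp [ut, Matrix.mul_apply, Fin.sum_univ_three] <;> ring

theorem ut_zero : ut (0 : K) 0 0 = 1 := by
  ext i j
  fin_cases i <;> fin_cases j <;> simp [ut]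

theorem ut_inv (a b c : K) : (ut a b c)⁻¹ = ut (-a) (-b) (a * b - c) := by
  rw [inv_eq_iff_mul_eq_one, ut_mul, ← ut_zero]
  congr 1 <;> ring

theorem ut_inj {a b c a' b' c' : K} : ut a b c = ut a' b' c' ↔ a = a' ∧ b = b' ∧ c = c' := by
  refine ⟨fun h => ⟨?_, ?_, ?_⟩, by rintro ⟨rfl, rfl, rfl⟩; rfl⟩
  · simpa [ut] using congrArg (fun g => g 0 1) h
  · simpa [ut] using congrArg (fun g => g 1 2) h
  · simpa [ut] using congrArg (fun g => g 0 2) h

/-- The unitriangular group. -/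
def UU (K : Type*) [Field K] : Subgroup (Matrix.SpecialLinearGroup (Fin 3) K) where
  carrier := {g | ∃ a b c, ut a b c = g}
  one_mem' := ⟨0, 0, 0, ut_zero⟩
  mul_mem' := by
    rintro _ _ ⟨a, b, c, rfl⟩ ⟨a', b', c', rfl⟩
    exact ⟨_, _, _, (ut_mul ..).symm⟩
  inv_mem' := by
    rintro _ ⟨a, b, c, rfl⟩
    exact ⟨_, _, _, (ut_inv ..).symm⟩

theorem ut_mem (a b c : K) : ut a b c ∈ UU K := ⟨a, b, c, rfl⟩

theorem ut_comm {a b c a' b' c' : K} :
    ut a b c * ut a' b' c' = ut a' b' c' * ut a b c ↔ a * b' = a' * b := by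
  rw [ut_mul, ut_mul, ut_inj]
  exact ⟨fun h => by linear_combination h.2.2,
    fun h => ⟨by ring, by ring, by linear_combination h⟩⟩

theorem ut_cz {a b c : K} : ut a b c ∈ cz (UU K) ↔ a = 0 ∧ b = 0 := by
  rw [mem_cz]
  constructor
  · intro h
    have h1 := ut_comm.1 (h _ (ut_mem 1 0 0))
    have h2 := ut_comm.1 (h _ (ut_mem 0 1 0))
    exact ⟨by linear_combination -h2, by linear_combination h1⟩
  · rintro ⟨rfl, rfl⟩ _ ⟨a', b', c', rfl⟩
    exact ut_comm.2 (by ring)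

theorem hs_UU : Hs (UU K) := by
  refine ⟨?_, ?_, ?_⟩
  · rintro _ ⟨a, b, c, rfl⟩ _ ⟨a', b', c', rfl⟩
    simp only [ut_inv, ut_mul, ut_cz]
    constructor <;> ring
  · rintro _ ⟨a, b, c, rfl⟩ hn _ ⟨a', b', c', rfl⟩ _ ⟨a'', b'', c'', rfl⟩ e1 e2
    rw [ut_comm] at e1 e2 ⊢
    rw [ut_cz, not_and_or] at hn
    rcases hn with hn | hn
    · exact mul_left_cancel₀ hn (by linear_combination a' * e2 - a'' * e1)
    · exact mul_left_cancel₀ hn (by linear_combination b' * e2 - b'' * e1)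
  · rintro _ ⟨a, b, c, rfl⟩ hn _ ⟨a', b', c', rfl⟩ hw
    obtain ⟨rfl, rfl⟩ := ut_cz.1 hw
    rw [ut_cz, not_and_or] at hn
    rcases hn with hn | hn
    · refine ⟨_, ut_mem 0 (-c' / a) 0, ?_⟩
      simp only [ut_inv, ut_mul, ut_inj]
      refine ⟨by ring, by ring, by field_simp; ring⟩
    · refine ⟨_, ut_mem (c' / b) 0 0, ?_⟩
      simp only [ut_inv, ut_mul, ut_inj]
      refine ⟨by ring, by ring, by field_simp; ring⟩

theorem card_UU : Nat.card (UU K) = Nat.card K ^ 3 := by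
  have e : K × K × K ≃ UU K := Equiv.ofBijective (fun x => ⟨_, ut_mem x.1 x.2.1 x.2.2⟩)
    ⟨fun x y h => by
      obtain ⟨h1, h2, h3⟩ := ut_inj.1 (congrArg Subtype.val h)
      exact Prod.ext h1 (Prod.ext h2 h3),
    by rintro ⟨_, a, b, c, rfl⟩; exact ⟨(a, b, c), rfl⟩⟩
  rw [← Nat.card_congr e, Nat.card_prod, Nat.card_prod]
  ring


/-- Let p be a prime, K a finite field of characteristic p, and S a finite p-group isomorphic to a Sylow p-subgroup of SL₃(K). Then every exotic fusion system F over S (saturated but not the fusion system of a finite group on a Sylow p-subgroup) has no nontrivial normal subgroup: O_p(F) = 1. -/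
theorem result {Ω : Type*} [Group Ω] {S : Subgroup Ω} [Finite S] (p : ℕ) [Fact p.Prime] (hS : IsPGroup p S) (F : Cfsg.FusionSystem S) (hF : F.IsSaturated p) {K : Type*} [Field K] [Fintype K] [CharP K p] (T : Sylow p (Matrix.SpecialLinearGroup (Fin 3) K)) (e : ↥S ≃* ↥(T : Subgroup (Matrix.SpecialLinearGroup (Fin 3) K))) (hex : F.IsExotic p) : F.core = ⊥ := by
  by_contra hc
  have hU : Nat.card (UU K) =
      p ^ (Nat.card (Matrix.SpecialLinearGroup (Fin 3) K)).factorization p := by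
    rw [← T.card_eq_multiplicity, Classical.GLBasic.card_sylow_SL p 3 T, card_UU]
  let e' : UU K ≃* S := ((Sylow.ofCard (UU K) hU).equiv T).trans e.symm
  obtain ⟨G, _, _, ι, F', r, hr⟩ := exists_rich_rep F
  have h1 := (hs_top (hs_UU (K := K))).map (f := ι.comp e'.toMonoidHom) (r.inj.comp e'.injective)
  have h2 : (⊤ : Subgroup (UU K)).map (ι.comp e'.toMonoidHom) = F'.S := by
    rw [← Subgroup.map_map, Subgroup.map_top_of_surjective _ e'.surjective, r.S_eq, im,
      Subgroup.subgroupOf_self]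
  rw [h2] at h1
  have h3 := (r.sat hS hF).con_of_hs h1 (by
    rw [← r.im_core, Ne, im_eq_bot r.inj (core_le F)]; exact hc)
  obtain ⟨H, _, κ, h4⟩ := S5090.result p hS F ((r.con_iff hS).2 h3)
  exact hex.2 ⟨H, inferInstance, h4.1, κ, h4.2.1, h4.2.2.1⟩

end Cfsg.Agent.S5259
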