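import Mathlib
import Cfsg.Statements.S5265
import Cfsg.Agent.Inv.Ess6

set_option autoImplicit false
open Cfsg

namespace Cfsg.Agent.S5265

open Fusion Inv.Es

/-- Let p be a prime, S a nontrivial finite p-group whose centre has index at most p², and F a saturated fusion system over S with no nontrivial normal subgroup and with hyperfocal subgroup equal to S. Then S is extraspecial of order p³; for odd p it has exponent p, and for p = 2 it is dihedral of order 8. -/
theorem result {Ω : Type*} [Group Ω] {S : Subgroup Ω} [Finite S] (p : ℕ) [Fact p.Prime] (hS : IsPGroup p ↥S) (F : Cfsg.FusionSystem S) (hF : F.IsSaturated p) (hS1 : S ≠ ⊥) (hcore : F.core = ⊥) (hhyp : F.hyperfocalSubgroup p = S) (hZ : (Subgroup.center ↥S).index ≤ p ^ 2) : Cfsg.IsExtraspecial p ↥S ∧ Nat.card S = p ^ 3 ∧ (p ≠ 2 → Monoid.exponent ↥S = p) ∧ (p = 2 → Nonempty (↥S ≃* DihedralGroup 4)) := by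
  obtain ⟨G, _, _, ι, F', r, -⟩ := Fusion.exists_rich_rep F
  have hF' := r.sat hS hF
  obtain ⟨e⟩ := r.equivS
  have hc := r.core_eq_bot_iff.1 hcore
  have h1 : F'.S ≠ ⊥ := mt r.S_eq_bot_iff.1 hS1
  have hi : (Zc F'.S).relIndex F'.S ≤ p ^ 2 := by rwa [← index_center_eq, ← index_center_equiv e]
  obtain ⟨E, hE⟩ := exists_ess hF' hc h1
  have key : Nat.card F'.S = p ^ 3 ∧ (p ≠ 2 → ∀ x ∈ F'.S, x ^ p = 1) ∧ (p = 2 → Nonempty (F'.S ≃* DihedralGroup 4)) := by
    by_cases hp : p = 2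
    · subst hp
      obtain ⟨f⟩ := d8_of_index hF' hc h1 (by rw [← r.im_hyp, hhyp, r.S_eq]) hi
      exact ⟨by rw [Nat.card_congr f.toEquiv, DihedralGroup.nat_card]; rfl, fun h => absurd rfl h, fun _ => ⟨f⟩⟩
    · obtain ⟨h2, -, h3⟩ := cube_of_index_odd hF' hp hc h1 hi
      exact ⟨h2, fun _ => h3, fun h => absurd h hp⟩
  exact ⟨PGrp.isExtraspecial_of_equiv e.symm (extraspecial_of_cube key.1 (not_ab_of_ess hF' hE)),
    (Nat.card_congr e.toEquiv).trans key.1, fun h => exponent_eq_prime (pow_of_equiv e (key.2.1 h)) hS1,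
    fun h => (key.2.2 h).map e.trans⟩

end Cfsg.Agent.S5265
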