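import Mathlib
import Cfsg.Statements.S5270
import Cfsg.Agent.Inv.Ess5

set_option autoImplicit false
open Cfsg

namespace Cfsg.Agent.S5270

open Fusion Inv.Es Subgroup Fusion.FS

theorem card_Z2_le {G : Type*} [Group G] [Finite G] {p : ℕ} [hp : Fact p.Prime] {S : Subgroup G} {n : ℕ}
    (hn : Nat.card S = p ^ n) (h4 : 4 ≤ n) (hmax : S.lowerCentralSeries (n - 2) ≠ ⊥) : Nat.card (Z2 S) ≤ p ^ 2 := by
  have hS : IsPGroup p S := IsPGroup.of_card hn
  rw [← map_ucs_two, card_map_of_injective S.subtype_injective]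
  rw [← top_subtype_lowerCentralSeries, Ne, map_eq_bot_iff_of_injective _ S.subtype_injective] at hmax
  set N := Subgroup.upperCentralSeries S 2
  obtain ⟨r, hr⟩ := hS.index N
  have key : ∀ m, (⊤ : Subgroup S).lowerCentralSeries m ≤ N → (⊤ : Subgroup S).lowerCentralSeries (m + 2) = ⊥ :=
    fun m hm => by
      rw [eq_bot_iff, Subgroup.lowerCentralSeries_succ, Subgroup.lowerCentralSeries_succ]
      refine (commutator_mono ((commutator_mono hm le_rfl).trans PGrp.commutator_upperCentralSeries_two_le) le_rfl).trans ?_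
      rw [le_bot_iff, commutator_eq_bot_iff_le_centralizer, coe_top, centralizer_univ]
  have h2 : n - 2 ≤ r := by
    by_contra hlt
    by_cases h : 2 ≤ r
    · refine hmax (eq_bot_iff.2 ?_)
      rw [← key _ (PGrp.lowerCentralSeries_le_of_index N h hr)]
      exact Subgroup.lowerCentralSeries_antitone _ (by omega)
    · obtain ⟨x, hx⟩ : ∃ x, N ⊔ zpowers x = ⊤ := by
        refine PGrp.exists_sup_zpowers_eq_top_of_isCyclic_quotient N (isCyclic_of_card_dvd_prime (p := p) ?_)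
        rw [← index_eq_card, hr]
        calc p ^ r ∣ p ^ 1 := pow_dvd_pow _ (by omega)
          _ = p := pow_one p
      have hc : (⊤ : Subgroup S).lowerCentralSeries 1 ≤ center S := by
        rw [Subgroup.lowerCentralSeries_succ, Subgroup.lowerCentralSeries_zero]
        have h1 : ⁅(⊤ : Subgroup S), N⁆ ≤ center S := by
          rw [commutator_comm]; exact PGrp.commutator_upperCentralSeries_two_le
        nth_rewrite 2 [← hx]
        refine comm_sup_le (le_nz_of_normal _ _) (le_nz_of_normal _ _) h1 ?_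
        rw [commutator_comm, ← hx]
        exact comm_sup_le (le_nz_of_normal _ _) (le_nz_of_normal _ _) ((commutator_mono le_top le_rfl).trans h1)
          ((comm_eq_bot_iff.2 (zpowers_le.2 (mem_cz_zpowers.2 rfl))).le.trans bot_le)
      refine hmax (eq_bot_iff.2 ((Subgroup.lowerCentralSeries_antitone _ (show 2 ≤ n - 2 by omega)).trans ?_))
      rw [Subgroup.lowerCentralSeries_succ]
      refine (commutator_mono hc le_rfl).trans ?_
      rw [le_bot_iff, commutator_eq_bot_iff_le_centralizer, coe_top, centralizer_univ]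
  have h3 := N.card_mul_index
  rw [hr, hn, show n = 2 + (n - 2) by omega, pow_add] at h3
  have h5 := Nat.pow_le_pow_right hp.out.pos h2
  by_contra h6
  nlinarith [pow_pos hp.out.pos (n - 2)]

theorem main {G : Type*} [Group G] [Finite G] {p : ℕ} [hp : Fact p.Prime] {F : FS G} (hF : F.Sat p)
    (h : Nat.card (Z2 F.S) ≤ p ^ 2) {g z : G} (hg : g ∈ F.aut (Z2 F.S)) (hz : z ∈ F.S ⊓ cz F.S)
    (hz' : g * z * g⁻¹ ∉ F.S ⊓ cz F.S) : F.Ess p (F.S ⊓ cz (Z2 F.S)) := by
  have hle : Z2 F.S ≤ F.S := inf_le_left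
  have hn : nz F.S ≤ nz (Z2 F.S) := fun a ha => mem_nz_inf ha (mem_nz_trv ha (mem_nz_inf ha (nz_le_nz_cz _ ha)))
  have hZ : F.S ⊓ cz F.S ≤ Z2 F.S := fun x hx => mem_Z2.2 ⟨hx.1, fun y hy => by
    rw [conj_eq_of_cz hx.2 hy, inv_mul_cancel]; exact one_mem _⟩
  have hZC : F.S ⊓ cz F.S ≤ F.S ⊓ cz (Z2 F.S) := inf_le_inf_left _ (cz_anti hle)
  obtain ⟨a, ha⟩ := (hF.pg_le hle).exists_card_eq
  have hi := PGrp.relIndex_centralizer_le_pow_choose hF.pg a _ hle ((le_nz _).trans hn) ha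
  have ha2 : a ≤ 2 := (Nat.pow_le_pow_iff_right hp.out.one_lt).1 (ha ▸ h)
  have hi' : (cz (Z2 F.S)).relIndex F.S ≤ p := hi.trans (by interval_cases a <;> simp [hp.out.one_le])
  have hne : ¬ F.S ≤ cz (Z2 F.S) := fun e => hz' ⟨hle (conj_mem_of_nz (F.aut_le_nz _ hg) (hZ hz)),
    le_cz_comm.1 e (conj_mem_of_nz (F.aut_le_nz _ hg) (hZ hz))⟩
  have hi2 : (F.S ⊓ cz (Z2 F.S)).relIndex F.S = p := by
    rw [inf_comm, inf_relIndex_right]; exact relIndex_eq_of_le hF.pg hi' hne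
  obtain ⟨c, hc, hM⟩ := (hF.rc (FN.of_normal hle ((le_nz _).trans hn))).extend_cz (M_of_aut hle hg)
    (cj_of_nz (F.aut_le_nz _ hg))
  have hM' := F.mono hM le_sup_right
  have hgc : g * c ∈ nz (Z2 F.S) := mul_mem (F.aut_le_nz _ hg) (cz_le_nz _ hc)
  have hA : g * c ∈ F.aut (F.S ⊓ cz (Z2 F.S)) := mem_aut_of hM' (mem_nz_of_forall fun x hx =>
    ⟨conj_mem hM' hx, conj_mem_cz hgc hx.2⟩)
  by_contra he
  rw [← hF.extAut_eq (FN.of_normal inf_le_left fun s hs => mem_nz_inf (le_nz _ hs) (nz_le_nz_cz _ (hn (le_nz _ hs))))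
    (lt_of_le_of_ne inf_le_left fun e => hne (e.ge.trans inf_le_right)) he] at hA
  have := extAut_le_of (F := F) (H := nz (F.S ⊓ cz F.S)) ((cz_anti hZC).trans (cz_le_nz _)) (fun Q k hQ hk _ => by
    have e := (PGrp.eq_or_eq_of_relIndex_prime hp.out hi2 hQ.le (F.le_S hk)).resolve_left hQ.ne'
    have := mem_nz_of_M_S (e ▸ hk)
    exact mem_nz_inf this (nz_le_nz_cz _ this)) hA
  exact hz' (conj_mul_cz hc (hZ hz) ▸ conj_mem_of_nz this hz)

/-- Let p ≥ 5 be a prime, S a finite p-group of maximal class of order p^n with n ≥ 4, and F a saturated fusion system over S. If some map of F defined on the second centre Z₂(S) with image Z₂(S) does not carry Z(S) into itself, then the centralizer C_S(Z₂(S)) is an F-essential subgroup. -/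
theorem result {Ω : Type*} [Group Ω] {S : Subgroup Ω} [Finite S] (p : ℕ) [Fact p.Prime] (hS : IsPGroup p ↥S) (n : ℕ) (hn : Nat.card S = p ^ n) (h4 : 4 ≤ n) (hmax : Subgroup.lowerCentralSeries S (n - 2) ≠ ⊥) (F : Cfsg.FusionSystem S) (hF : F.IsSaturated p) (hp : 5 ≤ p) (φ : ↥((Subgroup.upperCentralSeries ↥S 2).map S.subtype) →* Ω) (hφ : φ ∈ F.Hom ((Subgroup.upperCentralSeries ↥S 2).map S.subtype)) (hφZ : φ.range = ((Subgroup.upperCentralSeries ↥S 2).map S.subtype)) (hmove : ∃ (z : Ω) (hz : z ∈ ((Subgroup.upperCentralSeries ↥S 2).map S.subtype)), z ∈ ((Subgroup.center ↥S).map S.subtype) ∧ φ ⟨z, hz⟩ ∉ ((Subgroup.center ↥S).map S.subtype)) : F.IsEssential p (S ⊓ Subgroup.centralizer (((Subgroup.upperCentralSeries ↥S 2).map S.subtype) : Set Ω)) := by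
  obtain ⟨G, _, _, ι, F', r, -⟩ := Fusion.exists_rich_rep F
  revert φ
  rw [map_ucs_two, map_center_subtype]
  intro φ hφ hφZ ⟨z, hz, h1, h2⟩
  have hle : Z2 S ≤ S := inf_le_left
  obtain ⟨g, hM, hg⟩ := r.fwd hφ
  have e : im ι (Z2 S) = Z2 F'.S := by rw [im_Z2 r.inj le_rfl, r.S_eq]
  rw [r.ess_iff inf_le_left, im_inf_cz r.inj le_rfl hle, e, ← r.S_eq]
  refine main (r.sat hS hF) (g := g) (z := fn ι z) (card_Z2_le (n := n) (by rw [r.S_eq, card_im r.inj le_rfl, hn]) h4 ?_)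
    (e ▸ mem_aut_of hM (mem_nz_iff.2 (by rw [← r.im_range hφ hg, hφZ]))) (r.im_Z ▸ fn_mem_im ι h1) ?_
  · rw [r.S_eq, ← im_lcs ι le_rfl, Ne, im_eq_bot r.inj (S.lowerCentralSeries_antitone (Nat.zero_le _))]
    exact hmax
  · rw [← r.im_Z, ← hg ⟨z, hz⟩, fn_mem_im_iff r.inj (r.memU hφ _)]
    exact h2

end Cfsg.Agent.S5270
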