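import Mathlib
import Cfsg.Statements.S5277
import Cfsg.Agent.Fv.H
import Cfsg.Agent.Fusion.Br3

set_option autoImplicit false
open Cfsg

namespace Cfsg.Agent.S5277

open Cfsg.Agent.Fusion Cfsg.Agent.Fusion.FS Subgroup

/-- Let p be an odd prime, F a saturated fusion system over a finite p-group S, and α an automorphism of S that fixes no non-identity element of S and preserves F (every map of F, transported along α, is again a map of F). Suppose the order of α is a prime r that does not divide the order of Aut_F(R) for any F-centric F-radical subgroup R of S. Then S is normal in F (F is the normalizer fusion system of S). -/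
theorem result {Ω : Type*} [Group Ω] {S : Subgroup Ω} [Finite S] (p : ℕ) [Fact p.Prime] (hS : IsPGroup p ↥S) (F : Cfsg.FusionSystem S) (hF : F.IsSaturated p) (hp : p ≠ 2) (α : ↥S ≃* ↥S) (hfix : ∀ x : ↥S, α x = x → x = 1) (hmor : F.IsMorphism F (S.subtype.comp α.toMonoidHom)) (r : ℕ) (hr : r.Prime) (hord : orderOf α = r) (hcr : ∀ R : Subgroup Ω, F.IsCentric R → F.IsRadical p R → ¬ r ∣ Nat.card ↥(F.autGroup R)) : F.IsNormal S := by
  obtain ⟨G, _, _, ι, F', s, hs⟩ := exists_rich_rep F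
  have hF' := s.sat hS hF
  have hR := s.rich hs
  haveI := Fact.mk hr
  by_cases hpr : r = p
  · subst hpr
    have h0 : S = ⊥ := by
      by_contra h0
      have h1 : IsPGroup r (zpowers α) := IsPGroup.of_card (n := 1) (by
        rw [Nat.card_zpowers, hord, pow_one])
      haveI := (nontrivial_iff_ne_bot S).2 h0
      obtain ⟨x, x1, x2⟩ := h1.exists_fixed_point_of_prime_dvd_card_of_fixed_point S
        (hS.card_eq_or_dvd.resolve_left Finite.one_lt_card.ne') (a := 1) fun g => map_one g.1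
      exact x2 (hfix x (x1 ⟨α, mem_zpowers α⟩)).symm
    rw [s.nor_S_iff, s.S_eq_bot_iff.2 h0]
    exact F'.nor_bot
  obtain ⟨θ, t⟩ := exists_tr (α := S.subtype.comp α.toMonoidHom) s.inj le_rfl ι fun x => (α x).2
  have m := (t.mor_iff s s).1 hmor
  have e1 : ∀ x : S, fn θ (ι x) = ι (α x) := fun x => by
    have := t.eq x x.2
    rwa [fn_coe, fn_coe, show (S.subtype.comp α.toMonoidHom) x = (α x : Ω) from rfl, fn_coe] at this
  have e0 : ∀ y ∈ F'.S, ∃ x : S, ι x = y := fun y hy => by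
    obtain ⟨x, hx, rfl⟩ := s.lift_mem hy
    exact ⟨⟨x, hx⟩, (fn_of_mem ι hx).symm⟩
  have e0' : ∀ x : S, ι x ∈ F'.S := fun x => fn_coe ι x ▸ s.mem_S x.2
  obtain ⟨a, ha⟩ := hR.full _ θ s.S_eq.ge (by
    refine (injective_iff_map_eq_one θ).2 fun y hy => ?_
    obtain ⟨x, hx⟩ := e0 y (s.S_eq.ge y.2)
    rw [← fn_coe θ, ← hx, e1, ← map_one ι] at hy
    rw [(map_eq_one_iff α α.injective).1 (s.inj hy), map_one] at hx
    exact Subtype.ext hx.symm) fun y => by
      obtain ⟨x, hx⟩ := e0 y (s.S_eq.ge y.2)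
      rw [← fn_coe θ, ← hx, e1]; exact e0' _
  have e2 : ∀ y ∈ F'.S, fn θ y = a * y * a⁻¹ := fun y hy => by
    rw [fn_of_mem θ (s.S_eq.le hy), ha]
  have e3 : ∀ x : S, a * ι x * a⁻¹ = ι (α x) := fun x => by rw [← e2 _ (e0' x), e1]
  have e4 : ∀ (n : ℕ) (x : S), a ^ n * ι x * (a ^ n)⁻¹ = ι ((α ^ n) x) := fun n => by
    induction n with
    | zero => simp
    | succ n ih => intro x; rw [pow_succ' α, MulAut.mul_apply, ← e3, ← ih, pow_succ']; group
  refine s.nor_S_iff.2 (Fv.hy_main hp hr _ G F' a rfl hR ⟨hF', mem_nz_of_forall fun y hy => ?_,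
    fun P g hg => ?_, fun y hy e => ?_, mem_cz'.2 fun y hy => ?_,
    Fv.cop_all hF' ((Nat.coprime_primes hr Fact.out).2 hpr) fun P p1 p2 g hg => ?_⟩)
  · obtain ⟨x, rfl⟩ := e0 y hy
    rw [e3]; exact e0' _
  · have e5 : im θ P = cj a P := by
      ext z
      rw [mem_im ((F'.le_S hg).trans m.le), mem_cj']
      exact exists_congr fun x => and_congr_right fun hx => by rw [e2 x (F'.le_S hg hx)]
    rw [← e5]
    refine m.M_of hg fun x hx => ?_
    rw [e2 _ (conj_mem hg hx), e2 _ (F'.le_S hg hx)]; group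
  · obtain ⟨x, rfl⟩ := e0 y hy
    rw [e3] at e
    rw [hfix x (s.inj e), map_one]
  · obtain ⟨x, rfl⟩ := e0 y hy
    rw [e4, ← hord, pow_orderOf_eq_one]; rfl
  · obtain ⟨R, hR, rfl⟩ := s.lift p1.1
    have := finite_of_inj s.inj hR
    have := finite_mulAut R
    obtain ⟨β, b1, b2⟩ := s.exists_mem_autGroup hR hg
    have b3 : ∀ (k : ℕ) (t : R), fn ι ((β ^ k) t) = g ^ k * fn ι t * (g ^ k)⁻¹ := fun k => by
      induction k with
      | zero => simp
      | succ k ih => intro t; rw [pow_succ', MulAut.mul_apply, b2, ih, pow_succ']; group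
    refine ⟨_, hr.coprime_iff_not_dvd.2 (hcr R ((s.cent_iff hR).2 p1) ((s.rad_iff hR).2 p2)),
      mem_cz'.2 fun z hz => ?_⟩
    obtain ⟨x, hx, rfl⟩ := (mem_im hR).1 hz
    rw [← b3 _ ⟨x, hx⟩, show β ^ Nat.card (F.autGroup R) = 1 from
      congrArg Subtype.val (pow_card_eq_one' (x := (⟨β, b1⟩ : F.autGroup R)))]
    rfl

end Cfsg.Agent.S5277
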