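import Mathlib
import Cfsg.Statements.S5287
import Cfsg.Agent.Inv.SSol2
import Cfsg.Agent.Inv.Real9
import Cfsg.Agent.Inv.Ess4
import Cfsg.Agent.PGrp.Metacyclic
import Cfsg.Agent.S1447
import Cfsg.Agent.S1896

set_option autoImplicit false
open Cfsg

namespace Cfsg.Agent.S5287

open Cfsg.Agent.Inv Cfsg.Agent.Fusion Subgroup
open scoped commutatorElement

theorem not_chain_mc {Ω : Type*} [Group Ω] {S : Subgroup Ω} [Finite S] {x y : S} {n : ℕ}
    (h : MC ⊤ x y n) {inv yy : Prop} (h1 : y * x * y⁻¹ = x⁻¹ ↔ inv) (h2 : y * y = 1 ↔ yy)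
    (hm : MCMod n inv yy False False) :
    ¬ ∀ F : FusionSystem S, F.IsSaturated 2 → Chain' F := by
  haveI : Fact (Nat.Prime 2) := ⟨Nat.prime_two⟩
  intro hc
  obtain ⟨H, _, _, L, T, x', y', k1, k2, k3, k4, k5, -⟩ := hm
  obtain ⟨κ, hκ, rfl, rfl, rfl⟩ := h.exists_hom k2 (h1.trans k3.symm) (h2.trans k4.symm)
  refine k5.1 ((oc_ofGroup k1.le k2.cand_le).1 fun g hg ho => ?_)
  simpa using ((exists_of_model hκ k1 hc).pmod k1.pg k2.cand_le).2 g hg
    (Nat.coprime_two_right.2 ho)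

theorem subsingleton_of_meta {p n : ℕ} [hp : Fact p.Prime] (h2 : p ≠ 2) (hn : 0 < n) {X H : Type*}
    [Group X] [Finite X] [CommGroup H] (hX : IsPGroup p X) (hm : IsMetacyclic X)
    (e : X ≃* (Multiplicative (ZMod (p ^ n)) × Multiplicative (ZMod (p ^ n))) × H) :
    Subsingleton H := by
  by_contra hH
  rw [not_subsingleton_iff_nontrivial] at hH
  haveI : Finite H := Finite.of_injective (fun h => e.symm (1, h)) fun a b h =>
    (Prod.ext_iff.1 (e.symm.injective h)).2
  haveI : Fact (1 < p ^ n) := ⟨Nat.one_lt_pow hn.ne' hp.out.one_lt⟩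
  have hY := hX.of_equiv e
  obtain ⟨k, hk, h⟩ := (hY.of_surjective (MonoidHom.snd _ _) Prod.snd_surjective).nontrivial_iff_card.1
    inferInstance
  obtain ⟨g, hg⟩ := exists_prime_orderOf_dvd_card' (G := H) p (h ▸ dvd_pow_self p hk.ne')
  obtain ⟨a, ha⟩ := exists_prime_orderOf_dvd_card' (G := Multiplicative (ZMod (p ^ n))) p
    (by simpa using dvd_pow_self p hn.ne')
  have k1 : ∀ {C : Type _} [CommGroup C] {c x : C}, orderOf c = p → x ∈ zpowers c → x ^ p = 1 :=
    fun hc hx => orderOf_dvd_iff_pow_eq_one.1 (hc ▸ orderOf_dvd_of_mem_zpowers hx)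
  have h3 : ((zpowers a).prod (zpowers a)).prod (zpowers g) ≤ omegaOne p ⊤ := fun x hx =>
    PGrp.mem_omegaOne (mem_top _) (Prod.ext (Prod.ext (k1 ha hx.1.1) (k1 ha hx.1.2))
      (orderOf_dvd_iff_pow_eq_one.1 ((orderOf_dvd_of_mem_zpowers hx.2).trans hg.dvd)))
  have h4 := (Subgroup.card_le_of_le h3).trans
    (PGrp.card_omegaOne_le_of_isMetacyclic h2 hY (Es.meta_of_equiv e hm))
  rw [Nat.card_congr (prodEquiv _ _).toEquiv, Nat.card_prod, Nat.card_congr (prodEquiv _ _).toEquiv,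
    Nat.card_prod, Nat.card_zpowers, Nat.card_zpowers, ha, hg] at h4
  have := hp.out.one_lt
  nlinarith [Nat.mul_pos hp.out.pos hp.out.pos]

open FGS in
theorem pAut_of_meta {p : ℕ} [hp : Fact p.Prime] (h2 : p ≠ 2) {X : Type*} [Group X] [Finite X]
    (hX : IsPGroup p X) (hm : IsMetacyclic X) (hc : ¬ IsMulCommutative X) : PAut p X := by
  refine pAut_of_sd fun H hH => ?_
  have h1 : IsPGroup p (sdG H.subtype) := hX.of_equiv (sdEquivG _)
  have hA : sdA H.subtype ≤ nz (sdG H.subtype) := le_normalizer_of_normal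
  by_cases h3 : sdA H.subtype ≤ cz (sdG H.subtype)
  · exact ⟨.of_le ((commutator_le_self _).trans h3), fun a ha _ => pow_mem (h3 ha) _⟩
  obtain ⟨-, k1, -, k2⟩ := S1447.result p h2 _ _ h1 (Es.meta_of_equiv (sdEquivG _) hm) hA hH
  obtain ⟨-, k3, -⟩ := k2 (fun h => hc ⟨⟨fun a b => (sdEquivG H.subtype).injective (by
    rw [map_mul, map_mul, h.is_comm.comm])⟩⟩) h3
  have k4 : sdA H.subtype ≤ nz ⁅sdG H.subtype, sdA H.subtype⁆ := fun g hg =>
    mem_nz_commutator (hA hg) (le_nz _ hg)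
  have k5 : ∀ g ∈ sdA H.subtype, g ∈ cz ⁅sdG H.subtype, sdA H.subtype⁆ →
      g ∈ cz (sdG H.subtype) := fun g hg h => by
    have : sdG H.subtype ≤ cz (zpowers g) := by
      rw [← k1]
      exact sup_le (le_centralizer_iff.1 (zpowers_le.2 h))
        (inf_le_right.trans (centralizer_le (zpowers_le.2 hg)))
    exact le_centralizer_iff.1 this (mem_zpowers g)
  exact ⟨.of_le fun g hg => k5 g (commutator_le_self _ hg) (BG.Amb.der_le_cent_of_cyclic k3 k4 hg),
    fun a ha h => k5 _ (pow_mem ha _) (pow_mem_cz_of_cyclic k3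
      (h1.to_le (commutator_le_left _ _)) (k4 ha) h)⟩

/-- Let S be a finite metacyclic p-group (an extension of a cyclic group by a cyclic group). Every saturated fusion system over S is supersoluble (S has a chain of F-strongly closed subgroups from 1 to S with cyclic steps) if and only if S is not homocyclic of rank two (isomorphic to Z/p^n × Z/p^n with n ≥ 1) and, when p = 2, S is not dihedral of order at least 4, not quasi-dihedral (semidihedral) and not generalized quaternion of order at least 8. -/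
theorem result {Ω : Type*} [Group Ω] {S : Subgroup Ω} [Finite S] (p : ℕ) [Fact p.Prime] (hS : IsPGroup p ↥S) (hm : Cfsg.IsMetacyclic ↥S) : (∀ F : Cfsg.FusionSystem S, F.IsSaturated p → (∃ (m : ℕ) (c : Fin (m + 1) → Subgroup Ω), c 0 = ⊥ ∧ c (Fin.last m) = S ∧ (∀ i : Fin (m + 1), F.StronglyClosed (c i)) ∧ ∀ i : Fin m, c i.castSucc ≤ c i.succ ∧ ∃ x ∈ S, c i.succ = c i.castSucc ⊔ Subgroup.zpowers x)) ↔ ¬ ((∃ n : ℕ, 0 < n ∧ Nonempty (↥S ≃* Multiplicative (ZMod (p ^ n)) × Multiplicative (ZMod (p ^ n)))) ∨ (p = 2 ∧ ((∃ n : ℕ, 2 ≤ n ∧ Nonempty (↥S ≃* DihedralGroup n)) ∨ Cfsg.IsQuasiDihedral ↥S ∨ (∃ n : ℕ, 2 ≤ n ∧ Nonempty (↥S ≃* QuaternionGroup n))))) := by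
  refine ⟨fun h => ?_, fun h => (ss_iff hS).2 ⟨fun F hF => ?_, ?_⟩⟩
  · have hsq : ∀ n : ℕ, 0 < n → ¬ Nonempty (S ≃* Multiplicative (ZMod (p ^ n)) ×
        Multiplicative (ZMod (p ^ n))) := fun n hn ⟨e⟩ =>
      (pAut_iff_of_comm hS ⟨⟨fun a b => e.injective (by rw [map_mul, map_mul, mul_comm])⟩⟩).1
        ((ss_iff hS).1 h).2 ⟨n, PUnit, inferInstance, hn, ⟨e.trans MulEquiv.prodUnique.symm⟩⟩
    rintro (⟨n, hn, e⟩ | ⟨rfl, ⟨m, hm, ⟨e⟩⟩ | h1 | ⟨m, hm, ⟨e⟩⟩⟩)
    · exact hsq n hn e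
    · obtain ⟨x, y, n, h1⟩ := exists_dih (S := ⊤) (hS.of_equiv topEquiv.symm) hm (topEquiv.trans e)
      rcases n with _ | n
      · have := h1.card
        rw [card_top, Nat.card_congr e.toEquiv, DihedralGroup.nat_card] at this
        obtain rfl : m = 2 := by omega
        obtain ⟨f⟩ := IsKleinFour.nonempty_mulEquiv (G₁ := DihedralGroup 2)
          (G₂ := Multiplicative (ZMod 2 × ZMod 2))
        exact hsq 1 one_pos ⟨(e.trans f).trans (MulEquiv.prodMultiplicative _ _)⟩
      · exact not_chain_mc h1.toMC (iff_true_intro h1.inv) (iff_true_intro h1.yy) (mcMod_dih n _ _) h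
    · obtain ⟨x, y, n, h1⟩ := exists_qd_top h1
      exact not_chain_mc h1.toMC (iff_false_intro h1.not_inv) (iff_true_intro h1.yy)
        (mcMod_sd n _ _) h
    · obtain ⟨x, y, n, h1, h2, h3⟩ := exists_quat' hS hm e
      exact not_chain_mc h1 (iff_true_intro h2) (iff_false_intro h3) (mcMod_quat_both n) h
  · obtain ⟨G, _, _, ι, F', r, -⟩ := exists_rich_rep F
    obtain ⟨e⟩ := r.equivS
    rw [r.nor_iff le_rfl, ← r.S_eq]
    by_cases hc : ∀ a b : F'.S, a * b = b * a
    · exact nor_of_comm (r.sat hS hF) hc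
    refine Es.nor_of_meta (r.sat hS hF) (sc_S _) (Es.meta_of_equiv e hm) fun h2 h3 => h (.inr ⟨h2, ?_⟩)
    rcases h3 with ⟨m, ⟨f⟩⟩ | ⟨m, ⟨f⟩⟩ | h3
    · refine .inl ⟨m, ?_, ⟨e.trans f⟩⟩
      by_contra h4
      obtain rfl | rfl : m = 0 ∨ m = 1 := by omega
      · haveI := Finite.of_equiv _ f.toEquiv
        exact not_finite (DihedralGroup 0)
      · refine hc fun a b => f.injective ?_
        rw [map_mul, map_mul]
        generalize f a = x
        generalize f b = y
        revert x y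
        decide
    · refine .inr (.inr ⟨m, ?_, ⟨e.trans f⟩⟩)
      by_contra h4
      obtain rfl | rfl : m = 0 ∨ m = 1 := by omega
      · haveI := Finite.of_equiv _ (f.trans QuaternionGroup.quaternionGroupZeroEquivDihedralGroupZero).toEquiv
        exact not_finite (DihedralGroup 0)
      · refine hc fun a b => f.injective ?_
        rw [map_mul, map_mul]
        generalize f a = x
        generalize f b = y
        revert x y
        decide
    · exact .inr (.inl (S5213.qd_of_equiv e h3))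
  · by_cases h2 : p = 2
    · subst h2
      have h3 : IsPGroup 2 (MulAut S) := by
        by_contra h3
        rcases S1896.result hS hm h3 with e | ⟨n, ⟨e⟩⟩
        · exact h (.inr ⟨rfl, .inr (.inr ⟨2, le_rfl, e⟩)⟩)
        · rcases n.eq_zero_or_pos with rfl | hn
          · haveI : Subsingleton (ZMod (2 ^ 0)) := inferInstanceAs (Subsingleton (ZMod 1))
            haveI := e.toEquiv.subsingleton
            exact h3 fun g => ⟨0, MulEquiv.ext fun _ => Subsingleton.elim _ _⟩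
          · exact h (.inl ⟨n, hn, ⟨e⟩⟩)
      intro H hH
      obtain ⟨k, hk⟩ := (h3.to_subgroup H).exists_card_eq
      obtain rfl : H = ⊥ := by
        rw [← card_eq_one]
        exact Nat.eq_one_of_dvd_coprimes (hH.pow_right k) dvd_rfl hk.dvd
      exact ⟨inferInstance, fun h hh => by rw [mem_bot.1 hh, one_pow]⟩
    · by_cases hc : IsMulCommutative S
      · refine (pAut_iff_of_comm hS hc).2 fun ⟨n, H, _, hn, ⟨e⟩⟩ => h (.inl ⟨n, hn, ?_⟩)
        haveI := subsingleton_of_meta h2 hn hS hm e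
        haveI : Unique H := uniqueOfSubsingleton 1
        exact ⟨e.trans MulEquiv.prodUnique⟩
      · exact pAut_of_meta h2 hS hm hc

end Cfsg.Agent.S5287
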