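import Mathlib
import Cfsg.Statements.S5289
import Cfsg.Agent.Inv.Ess9
import Cfsg.Agent.Inv.Equiv
import Cfsg.Agent.Fusion.Br3

set_option autoImplicit false
open Cfsg

namespace Cfsg.Agent.S5289

open Fusion Inv.Es Subgroup

/-- Let p ≥ 5 be a prime and S a finite p-group of p-rank two (it has an elementary abelian subgroup of order p² and none of order p³) which is not the extraspecial group of order p³ and exponent p. Then S is resistant: for every saturated fusion system F over S, S is normal in F, that is, every map of F extends to an F-automorphism of S. -/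
theorem result {Ω : Type*} [Group Ω] {S : Subgroup Ω} [Finite S] (p : ℕ) [Fact p.Prime] (hS : IsPGroup p S)
    (F : Cfsg.FusionSystem S) (hF : F.IsSaturated p)
    (hp : 5 ≤ p)
    (hrank2 : ∃ E : Subgroup Ω, E ≤ S ∧ Cfsg.IsElementaryAbelian p E ∧ Nat.card E = p ^ 2)
    (hrank3 : ∀ E : Subgroup Ω, E ≤ S → Cfsg.IsElementaryAbelian p E → Nat.card E ≤ p ^ 2)
    (hnotE : ¬ (Nat.card S = p ^ 3 ∧ Monoid.exponent ↥S = p)) : F.IsNormal S := by
  obtain ⟨G, _, _, ι, F', r, -⟩ := Fusion.exists_rich_rep F
  obtain ⟨e⟩ := r.equivS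
  refine r.nor_S_iff.2 (nor_of_rank_two (r.sat hS hF) hp ((BG.Rank.pRankLE_congr e).1 (BG.Rank.pRankLE_iff.2 hrank3))
    fun h => hnotE ⟨(Nat.card_congr e.toEquiv).trans h.1, exponent_eq_prime (pow_of_equiv e h.2) fun e' => ?_⟩)
  have := (Nat.card_congr e.toEquiv).trans h.1
  rw [e', card_bot] at this
  exact absurd this (Nat.one_lt_pow (by omega) (by omega)).ne

end Cfsg.Agent.S5289
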