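import Cfsg.Statements.S5299
import Cfsg.Agent.Fusion.QdF
-- import your own Cfsg.Agent.* helpers here

set_option autoImplicit false
universe u
open Cfsg

namespace Cfsg.Agent.S5299

open Cfsg.Agent.Fusion


/-- Let F be a saturated fusion system over a finite p-group S, H a finite group and Q a p-subgroup of H. If Q is not involved in S (no section of S is isomorphic to Q), then F is H-free: H is involved in no model of the normalizer system of a fully normalized centric subgroup. -/
theorem result {Ω : Type u} [Group Ω] {S : Subgroup Ω} [Finite S] (p : ℕ) [Fact p.Prime] (hS : IsPGroup p S)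
    (F : Cfsg.FusionSystem S) (hF : F.IsSaturated p) (H : Type*) [Group H] [Finite H] (Q : Subgroup H) (hQ : IsPGroup p Q)
    (hfree : ¬ Cfsg.Involves (↥Q) (↥S)) : F.IsSectionFree p H := by
  obtain ⟨G, _, _, ι, F', r, hr⟩ := exists_rich_rep F
  have hr' := r.rich hr
  refine (r.free_iff hr').2 fun R L h1 h2 h3 hi => hfree ?_
  rw [Transfer.involves_iff_isSectionOf] at hi ⊢
  refine ((section_of_inj (eta r.inj le_rfl).symm.toMonoidHom (MulEquiv.injective _)).trans
    (section_of_le ((FS.S_le (FS.normK_le F' R _)).trans r.S_eq.le))).trans
    (h3.syl.section hQ (hi.trans (PLocal.isSectionOf_subgroup Q)))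

end Cfsg.Agent.S5299
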