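import Cfsg.Statements.S5308
import Cfsg.Agent.Fusion.CP
-- import your own Cfsg.Agent.* helpers here

set_option autoImplicit false
open Cfsg

namespace Cfsg.Agent.S5308

open Cfsg.Agent.Fusion


/-- A saturated fusion system F over a finite p-group S has a generalized Fitting subsystem — a central product of the inner fusion system of O_p(F) (the largest subgroup of S normal in F) with a layer of F — and every generalized Fitting subsystem of F is a normal subsystem of F. -/
theorem result {Ω : Type*} [Group Ω] {S : Subgroup Ω} [Finite S] (p : ℕ) [Fact p.Prime] (hS : IsPGroup p S) (F : Cfsg.FusionSystem S) (hF : F.IsSaturated p) :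
    (∃ (U : Subgroup Ω) (D : Cfsg.FusionSystem U), D.IsGeneralizedFittingOf F p) ∧
      ∀ (U : Subgroup Ω) (D : Cfsg.FusionSystem U), D.IsGeneralizedFittingOf F p → D.IsNormalIn F p := by
  obtain ⟨G, _, _, ι, F', r, hr₀⟩ := exists_rich_rep F
  have hr := r.rich hr₀
  refine ⟨?_, fun U D h => ?_⟩
  · obtain ⟨L, h⟩ := (r.sat hS hF).exists_lay hr
    obtain ⟨D', c⟩ := h.exists_gf hr
    have g : FS.GF p D' F' := ⟨L, h, c⟩
    obtain ⟨U, -, D, d⟩ := r.exists_sub' (g.norIn hr).wn.invt.le
    exact ⟨U, D, r.gf_of d hS hr g⟩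
  · obtain ⟨-, D', d, g⟩ := r.exists_gf hS hr₀.full hr h
    exact r.norIn_of d (g.norIn hr)

end Cfsg.Agent.S5308
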