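import Cfsg.Statements.S5309
import Cfsg.Agent.Fusion.CP
-- import your own Cfsg.Agent.* helpers here

set_option autoImplicit false
open Cfsg

namespace Cfsg.Agent.S5309

open Cfsg.Agent.Fusion


/-- Self-centralizing property of the generalized Fitting subsystem. Let F be a saturated fusion system over a finite p-group S and D a generalized Fitting subsystem of F, over U. Then the centre of D is the largest subgroup Y of C_S(U) centralized by D in F, in the sense that every map of D extends to a map of F fixing Y elementwise: the centre of D is such a subgroup, and every such Y lies in the centre of D. -/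
theorem result {Ω : Type*} [Group Ω] {S : Subgroup Ω} [Finite S] (p : ℕ) [Fact p.Prime] (hS : IsPGroup p S) (F : Cfsg.FusionSystem S) (hF : F.IsSaturated p)
    {U : Subgroup Ω} (D : Cfsg.FusionSystem U) (hD : D.IsGeneralizedFittingOf F p) :
    (D.center ≤ Cfsg.FusionSystem.centralizerIn S U ∧ ∀ P : Subgroup Ω, D.Hom P ⊆ F.centralizerHom D.center P) ∧
      ∀ Y : Subgroup Ω, Y ≤ Cfsg.FusionSystem.centralizerIn S U →
        (∀ P : Subgroup Ω, D.Hom P ⊆ F.centralizerHom Y P) → Y ≤ D.center := by
  obtain ⟨G, _, _, ι, F', r, hr₀⟩ := exists_rich_rep F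
  have hr := r.rich hr₀
  obtain ⟨hU, D', d, g⟩ := r.exists_gf hS hr₀.full hr hD
  have hZ := (Fusion.center_le D).trans hU
  refine ⟨⟨le_inf hZ D.center_le_centralizer, (r.sub_centralizer_iff d hZ).2 ?_⟩, fun Y h1 h2 => ?_⟩
  · rw [d.im_center]
    exact ((FS.cen_iff_le_CF D'.center_le).1 D'.cen_center).trans
      (FS.normK_mono (g.norIn hr).wn.invt.le D'.center_le (cz_le_nz _))
  · have hY := h1.trans inf_le_left
    rw [← im_le_im r.inj hY, d.im_center]
    exact g.le_center hr (r.im_le hY) ((r.sub_centralizer_iff d hY).1 h2)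

end Cfsg.Agent.S5309
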