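import Mathlib
import Cfsg.Statements.S5316
import Cfsg.Agent.H23.MC6
import Cfsg.Agent.Inv.Ess8
import Cfsg.Agent.PGrp.Extra2
-- import your own Cfsg.Agent.* helpers here

set_option autoImplicit false
open Cfsg

namespace Cfsg.Agent.S5316

/-- Let p ≥ 5 be a prime, S a finite p-group of maximal class of order p^n with n ≥ 5 (nilpotency class n − 1), F a saturated fusion system over S, and E an F-essential subgroup that is not a pearl (not elementary abelian of order p² and not extraspecial of order p³ and exponent p). Then E has order at least p⁴. -/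
theorem result {Ω : Type*} [Group Ω] {S : Subgroup Ω} [Finite S] (p : ℕ) [Fact p.Prime] (hp : 5 ≤ p) (hS : IsPGroup p ↥S) (n : ℕ) (hn : Nat.card S = p ^ n) (h5 : 5 ≤ n)
    (hmax : Subgroup.lowerCentralSeries S (n - 2) ≠ ⊥) (F : Cfsg.FusionSystem S) (hF : F.IsSaturated p)
    (E : Subgroup Ω) (hE : F.IsEssential p E)
    (hnp : ¬ ((Nat.card ↥E = p ^ 2 ∧ Cfsg.IsElementaryAbelian p E) ∨ (Nat.card ↥E = p ^ 3 ∧ Cfsg.IsExtraspecial p ↥E ∧ Monoid.exponent ↥E = p))) :
    p ^ 4 ≤ Nat.card ↥E := by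

  by_contra hlt
  obtain ⟨G, _, _, ι, F', r, -⟩ := Fusion.exists_rich_rep F
  have hES : E ≤ S := hE.1.1
  obtain ⟨e⟩ := r.equivS
  have hpp : p.Prime := Fact.out
  have hF' := r.sat hS hF
  have hE' := (r.ess_iff hES).1 hE
  have hc := Fusion.card_im r.inj hES
  have hm : Inv.Rg.MCl p S n := ⟨hn, by omega, fun h => hmax (by
    rw [← Subgroup.top_subtype_lowerCentralSeries, Subgroup.map_eq_bot_iff_of_injective _ S.subtype_injective]
    exact h)⟩
  haveI : Finite E := Finite.of_injective _ (Subgroup.inclusion_injective hES)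
  obtain ⟨k, hk⟩ := (hS.to_le hES).exists_card_eq
  rw [hk, not_le, Nat.pow_lt_pow_iff_right hpp.one_lt] at hlt
  rw [hk] at hc
  have eta := Fusion.eta r.inj hES
  by_cases h3 : k = 3
  · subst h3
    rcases Inv.Es.ess_cube hF' hE' hc with h | ⟨h1, h | h⟩
    · exact H23.MCE.not_elem hF' hp (hm.of_equiv e.symm) h5 hE' hc (Fusion.isMulCommutative_iff_le_cz.1 h.1) h.2
    · refine hnp (.inr ⟨hk, ?_, Inv.Es.exponent_eq_prime (Inv.Es.pow_of_equiv eta h.2) fun e => ?_⟩)
      · exact PGrp.isExtraspecial_of_equiv eta.symm h1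
      · rw [e, Subgroup.card_bot] at hk
        exact (Nat.one_lt_pow (by omega) hpp.one_lt).ne hk
    · omega
  by_cases h2 : k = 2
  · subst h2
    exact hnp (.inl ⟨hk, Inv.Es.elem_of_equiv eta (Inv.Es.ess_sq hF' hE' hc)⟩)
  · have h1 := Inv.Rg.MCl.relIndex_le_card (Inv.Es.Ph (Fusion.im ι E)) (Fusion.im ι E)
    rw [hc] at h1
    have h4 := (Inv.Es.ess_irr hF' hE' (h1.trans (Nat.pow_le_pow_right hpp.pos (by omega)))).ind
    rw [h4, Nat.pow_le_pow_iff_right hpp.one_lt] at h1
    omega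

end Cfsg.Agent.S5316
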