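import Mathlib
import Cfsg.Statements.S5317
import Cfsg.Agent.Inv.PSL2Syl

set_option autoImplicit false
open Cfsg

namespace Cfsg.Agent.S5317

/-- Let F be a finite field of odd order q with q² ≡ 1 mod 16 (so that a Sylow 2-subgroup of PSL(2,q), dihedral of order the 2-part of (q²−1)/2, has order at least 8). Then the 2-fusion system of PSL(2,F) on a Sylow 2-subgroup is simple: saturated, over a nontrivial 2-group, with no normal subsystem other than the trivial one and itself. -/
theorem result {F : Type*} [Field F] [Fintype F] (hodd : Fintype.card F % 2 = 1) (h16 : 16 ∣ Fintype.card F ^ 2 - 1)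
    (S : Sylow 2 (Matrix.ProjectiveSpecialLinearGroup (Fin 2) F)) :
    (Cfsg.groupFusionSystem (S : Subgroup (Matrix.ProjectiveSpecialLinearGroup (Fin 2) F))).IsSimple 2 := by
  open Cfsg.Agent.Inv in
  haveI : Fact (Nat.Prime 2) := ⟨Nat.prime_two⟩
  have h1 : 1 < Fintype.card F := Fintype.one_lt_card
  have h4 : 4 ≤ Fintype.card F := by
    by_contra h
    have : Fintype.card F = 3 := by omega
    rw [this] at h16; norm_num at h16
  have h4' : 4 ≤ Nat.card F := by rwa [Nat.card_eq_fintype_card]
  haveI := Matrix.ProjectiveSpecialLinearGroup.rank_two_simple h4'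
  obtain ⟨m, hm, ⟨e⟩⟩ := Cfsg.Agent.Inv.sylow_two_psl2_dihedral hodd h4 S
  obtain ⟨x, y, n, h⟩ := Cfsg.Agent.Inv.exists_dih S.isPGroup' hm e
  rcases n with _ | n
  · exfalso
    have hc := h.toMC.card
    have h8 : 2 ^ 3 ∣ Nat.card (Matrix.ProjectiveSpecialLinearGroup (Fin 2) F) := by
      have h2 := Cfsg.Agent.Inv.card_psl2_odd hodd
      have : 2 * 2 ^ 3 ∣ 2 * Nat.card (Matrix.ProjectiveSpecialLinearGroup (Fin 2) F) := by
        rw [h2]; exact Dvd.dvd.mul_left h16 _
      exact Nat.dvd_of_mul_dvd_mul_left two_pos this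
    have := S.pow_dvd_card_of_pow_dvd_card h8
    rw [hc] at this
    norm_num at this
  · exact Cfsg.Agent.Inv.fusion_simple_of_dih (Cfsg.Agent.Inv.no_index_two_of_simple (Cfsg.Agent.Inv.psl2_not_comm h4')) S h

end Cfsg.Agent.S5317
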