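import Mathlib
import Cfsg.Statements.S5318
import Cfsg.Agent.Inv.SL3Rank
import Cfsg.Agent.S0249

set_option autoImplicit false
open Cfsg

namespace Cfsg.Agent.S5318

/-- For a finite field F of odd order, the 2-fusion system of PSL(3,F) on a Sylow 2-subgroup (semidihedral or wreathed according as |F| ≡ 3 or 1 mod 4) is simple. -/
theorem result {F : Type*} [Field F] [Fintype F] (hodd : Fintype.card F % 2 = 1) (S : Sylow 2 (Matrix.ProjectiveSpecialLinearGroup (Fin 3) F)) :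
    (Cfsg.groupFusionSystem (S : Subgroup (Matrix.ProjectiveSpecialLinearGroup (Fin 3) F))).IsSimple 2 := by
  haveI := Cfsg.Agent.S0249.result (F := F) 3 le_rfl
  exact Cfsg.Agent.Inv.fusion_simple_of_SL3 (Cfsg.Agent.Inv.two_ne_zero_of_odd_card hodd)
    (Cfsg.Agent.Inv.slMat (Fin 3) F) (fun x y h => Subtype.ext h) (fun x => x.2)
    (a := ⟨!![-1, 0, 0; 0, 1, 0; 0, 0, -1], by simp [Matrix.det_fin_three]⟩)
    (b := ⟨!![0, -1, 0; -1, 0, 0; 0, 0, -1], by simp [Matrix.det_fin_three]⟩)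
    (c := ⟨!![-1, 0, 0; 0, 0, -1; 0, -1, 0], by simp [Matrix.det_fin_three]⟩) rfl rfl rfl S

end Cfsg.Agent.S5318
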