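import Mathlib
import Cfsg.Statements.S5319
import Cfsg.Agent.Inv.SL3Rank
import Cfsg.Agent.S0283

set_option autoImplicit false
open Cfsg

namespace Cfsg.Agent.S5319

/-- Let q be an odd prime power and F a field with q² elements. Then the 2-fusion system of PSU(3,q) (realised as the special unitary group of the standard Hermitian form over F modulo its centre) on a Sylow 2-subgroup is simple. -/
theorem result {F : Type*} [Field F] [Fintype F] (q : ℕ) (hq : Fintype.card F = q ^ 2) (hodd : q % 2 = 1) (S : Sylow 2 (Cfsg.PSU 3 F q)) :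
    (Cfsg.groupFusionSystem (S : Subgroup (Cfsg.PSU 3 F q))).IsSimple 2 := by
  haveI := Cfsg.Agent.S0283.result hq 3 le_rfl (by omega)
  have ho : Odd q := Nat.odd_iff.mpr hodd
  have h2 : (2 : F) ≠ 0 := Cfsg.Agent.Inv.two_ne_zero_of_odd_card (by rw [hq]; exact Nat.odd_iff.mp ho.pow)
  exact Cfsg.Agent.Inv.fusion_simple_of_SL3 h2
    ((Cfsg.Agent.Inv.slMat (Fin 3) F).comp (Cfsg.SU 3 F q).subtype) (fun x y h => Subtype.ext (Subtype.ext h))
    (fun x => x.1.2)
    (a := ⟨⟨!![-1, 0, 0; 0, 1, 0; 0, 0, -1], by simp [Matrix.det_fin_three]⟩, fun u v => by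
      change Cfsg.hermForm 3 F q (Matrix.mulVec !![-1, 0, 0; 0, 1, 0; 0, 0, -1] u)
        (Matrix.mulVec !![-1, 0, 0; 0, 1, 0; 0, 0, -1] v) = _
      simp [Cfsg.hermForm, Fin.sum_univ_three, Matrix.mulVec, dotProduct, ho.neg_pow]⟩)
    (b := ⟨⟨!![0, -1, 0; -1, 0, 0; 0, 0, -1], by simp [Matrix.det_fin_three]⟩, fun u v => by
      change Cfsg.hermForm 3 F q (Matrix.mulVec !![0, -1, 0; -1, 0, 0; 0, 0, -1] u)
        (Matrix.mulVec !![0, -1, 0; -1, 0, 0; 0, 0, -1] v) = _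
      simp [Cfsg.hermForm, Fin.sum_univ_three, Matrix.mulVec, dotProduct, ho.neg_pow]; ring⟩)
    (c := ⟨⟨!![-1, 0, 0; 0, 0, -1; 0, -1, 0], by simp [Matrix.det_fin_three]⟩, fun u v => by
      change Cfsg.hermForm 3 F q (Matrix.mulVec !![-1, 0, 0; 0, 0, -1; 0, -1, 0] u)
        (Matrix.mulVec !![-1, 0, 0; 0, 0, -1; 0, -1, 0] v) = _
      simp [Cfsg.hermForm, Fin.sum_univ_three, Matrix.mulVec, dotProduct, ho.neg_pow]; ring⟩) rfl rfl rfl S

end Cfsg.Agent.S5319
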