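import Cfsg.Statements.S5343
import Cfsg.Agent.Fusion.GrpF
-- import your own Cfsg.Agent.* helpers here

set_option autoImplicit false
universe u
open Cfsg

namespace Cfsg.Agent.S5343

open Cfsg.Agent.Fusion


/-- Let F be a simple saturated fusion system over a finite p-group S that is realized by some finite group on a Sylow p-subgroup. Then F is realized by a finite simple group on a Sylow p-subgroup. -/
theorem result {Ω : Type u} [Group Ω] {S : Subgroup Ω} [Finite S] (p : ℕ) [Fact p.Prime] (hS : IsPGroup p S) (F : Cfsg.FusionSystem S) (hsimple : F.IsSimple p) (hreal : F.IsRealizable p) : ∃ (G : Type u) (_ : Group G) (_ : Finite G) (_ : IsSimpleGroup G) (ι : ↥S →* G), F.IsRealizedBy ι ∧ ∃ T : Sylow p G, (T : Subgroup G) = ι.range := by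
  obtain ⟨G, _, _, ι, h1, T, h2⟩ := hreal
  induction hn : Nat.card G using Nat.strong_induction_on generalizing G with
  | _ n ih =>
  by_cases hG : IsSimpleGroup G
  · exact ⟨G, inferInstance, inferInstance, hG, ι, h1, T, h2⟩
  have r := rep_ofGroup_iff.1 h1
  have h := (r.simple_iff hS).1 hsimple
  have hT := h2 ▸ syl_top T
  haveI : Nontrivial G := by
    by_contra hc
    haveI := not_nontrivial_iff_subsingleton.1 hc
    exact h.2.1 (Subsingleton.elim _ _)
  obtain ⟨N, hN, h3⟩ : ∃ N : Subgroup G, N.Normal ∧ ¬ (N = ⊥ ∨ N = ⊤) := by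
    by_contra hc
    exact hG ⟨fun N hN => by_contra fun e => hc ⟨N, hN, e⟩⟩
  have hsyl := hT.inf_of_nz le_top (le_nz_of_normal _ N)
  rcases h.ofGroup_cases hT le_top (le_nz_of_normal _ N) with h4 | ⟨h4, h5⟩
  · have q := FS.quo_ofGroup ((QuotientGroup.mk' N).comp (tp G)) hT
    rw [im_comp_tp, (MonoidHom.range_eq_top (f := (QuotientGroup.mk' N).comp (tp G))).2
      ((QuotientGroup.mk'_surjective N).comp (Subgroup.topEquiv (G := G)).surjective),
      ← MonoidHom.range_comp] at q
    obtain ⟨T', h6⟩ := syl_top_iff.1 (by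
      have := hT.map (QuotientGroup.mk' N)
      rwa [Subgroup.map_top_of_surjective _ (QuotientGroup.mk'_surjective _),
        ← MonoidHom.range_comp] at this)
    refine ih _ (hn ▸ Core.card_quotient_lt N fun e => h3 (Or.inl e)) (G ⧸ N) _ inferInstance _
      (rep_ofGroup_iff.2 (r.of_quo q (eq_bot_iff.2 fun x hx => h4.le ⟨hx.1, ?_⟩) _
        ((injective_iff_map_eq_one _).2 fun x hx => r.inj ?_) le_rfl fun x hx => ?_)) T' h6 rfl
    · have := (mem_pre.1 hx.2).2
      rwa [fn_comp_tp, Subgroup.mem_bot, QuotientGroup.mk'_apply, QuotientGroup.eq_one_iff] at this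
    · rw [map_one]
      exact h4.le ⟨⟨x, rfl⟩, (QuotientGroup.eq_one_iff _).1 hx⟩
    · rw [fn_comp_tp, fn_of_mem _ hx, fn_of_mem _ hx]; rfl
  · rw [inf_eq_left.2 h4] at hsyl
    obtain ⟨h6, T', h7⟩ := r.realizable_toSub (H := N) hsyl h5
    exact ih _ (hn ▸ Core.card_lt_of_ne_top N fun e => h3 (Or.inr e)) N _ inferInstance _ h6 T' h7 rfl

end Cfsg.Agent.S5343
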