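import Mathlib
import Cfsg.Statements.S5373
import Cfsg.Agent.FiC.F22.T

set_option autoImplicit false
open scoped Pointwise commutatorElement
open Cfsg

namespace Cfsg.Agent.S5373

open Cfsg.Agent.Comp Cfsg.Agent.FiC Cfsg.Agent.FiC.F22
set_option maxRecDepth 100000
set_option linter.unusedSectionVars false
set_option linter.unusedVariables false

section
variable {G : Type*} [Group G] [Finite G] {D : Set G} {τ s : ℕ → G}

theorem wid (b : Base D τ s d0 64561751654400) : Cfsg.commutingWidth D = 22 :=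
  b.width [] .all subset_rfl (fun _ hj => iff_of_true (b.tau_mem hj) trivial) (CT.node [[nat_lit 2], [nat_lit 18], [nat_lit 20], [nat_lit 22], [nat_lit 24], [nat_lit 26], [nat_lit 28], [nat_lit 32], [nat_lit 36], [nat_lit 50], [nat_lit 56]] [nat_lit 0] [nat_lit 0, nat_lit 1, nat_lit 2, nat_lit 3, nat_lit 4, nat_lit 5, nat_lit 7, nat_lit 8, nat_lit 1, nat_lit 6, nat_lit 9, nat_lit 10, nat_lit 3, nat_lit 7, nat_lit 1] CT.leaf (CT.node [[nat_lit 6], [nat_lit 10], [nat_lit 24], [nat_lit 26], [nat_lit 28], [nat_lit 32], [nat_lit 34], [nat_lit 38], [nat_lit 40], [nat_lit 50], [nat_lit 54]] [nat_lit 8] [nat_lit 0, nat_lit 1, nat_lit 2, nat_lit 4, nat_lit 5, nat_lit 9, nat_lit 3, nat_lit 6, nat_lit 7, nat_lit 8, nat_lit 10, nat_lit 2] CT.leaf (CT.node [[nat_lit 4], [nat_lit 14], [nat_lit 34], [nat_lit 36], [nat_lit 38], [nat_lit 42], [nat_lit 44], [nat_lit 54], [nat_lit 56]] [nat_lit 16] [nat_lit 1, nat_lit 2, nat_lit 4, nat_lit 7, nat_lit 8, nat_lit 5,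 nat_lit 2, nat_lit 3, nat_lit 4, nat_lit 0, nat_lit 6] CT.leaf (CT.node [[nat_lit 4], [nat_lit 12], [nat_lit 17, nat_lit 39, nat_lit 40, nat_lit 36, nat_lit 56, nat_lit 34]] [nat_lit 12] [nat_lit 2, nat_lit 0, nat_lit 1, nat_lit 2, nat_lit 0, nat_lit 1, nat_lit 2, nat_lit 0, nat_lit 1, nat_lit 2, nat_lit 0, nat_lit 2] CT.leaf CT.leaf)))) [[nat_lit 0], [nat_lit 44], [nat_lit 8], [nat_lit 46, nat_lit 6, nat_lit 47], [nat_lit 19, nat_lit 0, nat_lit 18], [nat_lit 55, nat_lit 12, nat_lit 54], [nat_lit 19, nat_lit 10, nat_lit 18], [nat_lit 55, nat_lit 4, nat_lit 54], [nat_lit 26, nat_lit 16, nat_lit 27], [nat_lit 32, nat_lit 44, nat_lit 33], [nat_lit 37, nat_lit 44, nat_lit 36], [nat_lit 28, nat_lit 8, nat_lit 29], [nat_lit 6, nat_lit 18, nat_lit 2, nat_lit 19, nat_lit 7], [nat_lit 31, nat_lit 57, nat_lit 4, nat_lit 56, nat_lit 30], [nat_lit 10, nat_lit 49, nat_lit 8, nat_lit 48, nat_lit 11], [nat_lit 20, nat_lit 44, nat_lit 4, nat_lit 45, nat_lit 21],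 [nat_lit 6, nat_lit 49, nat_lit 8, nat_lit 48, nat_lit 7], [nat_lit 16, nat_lit 56, nat_lit 4, nat_lit 57, nat_lit 17], [nat_lit 35, nat_lit 54, nat_lit 4, nat_lit 55, nat_lit 34], [nat_lit 48, nat_lit 6, nat_lit 4, nat_lit 7, nat_lit 49], [nat_lit 41, nat_lit 25, nat_lit 6, nat_lit 24, nat_lit 40], [nat_lit 19, nat_lit 29, nat_lit 4, nat_lit 28, nat_lit 18]] 22 (by decide +kernel)

end

/-- Let G be a finite group with trivial centre generated by a conjugation-invariant set D of 3-transpositions on which it acts primitively, of type M(22), and suppose some finite primitive 3-transposition group of type M(24) exists. Then D has exactly 3510 members, G has order 2^17 · 3^9 · 5^2 · 7 · 11 · 13, the width of D (largest number of pairwise commuting members) is 22, and for every d in D the centralizer of d is generated by the members of D other than d commuting with d. -/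
theorem result {G : Type*} [Group G] [Finite G] {D : Set G} (hD : Cfsg.IsThreeTranspositionGroup D) (hprim : Cfsg.IsPrimitiveUnderConj D) (ht : Cfsg.IsOfTypeM22 G D) (hex : ∃ (X : Type) (_ : Group X) (_ : Finite X) (E : Set X), Cfsg.IsThreeTranspositionClass E ∧ Cfsg.IsPrimitiveUnderConj E ∧ Cfsg.IsOfTypeM24 X E) : D.ncard = 3510 ∧ Nat.card G = 2 ^ 17 * 3 ^ 9 * 5 ^ 2 * 7 * 11 * 13 ∧ Cfsg.commutingWidth D = 22 ∧ ∀ d ∈ D, Subgroup.closure {y : G | y ∈ D ∧ y ≠ d ∧ Commute d y} = Subgroup.centralizer ({d} : Set G) := by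
  obtain ⟨τ, s, b⟩ := exists_base hD ht
  refine ⟨b.ncard, b.card.trans (by norm_num), wid b, fun a ha => ?_⟩
  obtain ⟨τ', s', b', rfl⟩ := b.wlog1 (tr1 b) ha
  rw [cla b', ← (ca b').1, Cen_top1]

end Cfsg.Agent.S5373
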