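import Mathlib
import Cfsg.Statements.S5405
import Cfsg.Agent.ULT.H1

set_option autoImplicit false
open scoped MatrixGroups
open Cfsg

namespace Cfsg.Agent.S5405


/-- Vanishing of first cohomology on the natural module for three small orthogonal groups over the field with two elements: for the commutator subgroup of the isometry group of the elliptic quadratic form in dimension 4, of the elliptic form in dimension 6, and of the hyperbolic form in dimension 8, every crossed homomorphism into the natural module (a map f with f(gh) = f(g) + g·f(h)) is principal (of the form g ↦ g·v − v). -/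
theorem result : (∀ f : ↥(Cfsg.Omega (ZMod 2) (Cfsg.quadFormMinus 1 (ZMod 2) 1 1)) → ((Fin 1 ⊕ Fin 1) ⊕ Fin 2 → ZMod 2), (∀ g h : ↥(Cfsg.Omega (ZMod 2) (Cfsg.quadFormMinus 1 (ZMod 2) 1 1)), f (g * h) = f g + Matrix.mulVec (((g : ↥(Cfsg.isometryGroup (ZMod 2) (Cfsg.quadFormMinus 1 (ZMod 2) 1 1))) : GL ((Fin 1 ⊕ Fin 1) ⊕ Fin 2) (ZMod 2)) : Matrix ((Fin 1 ⊕ Fin 1) ⊕ Fin 2) ((Fin 1 ⊕ Fin 1) ⊕ Fin 2) (ZMod 2)) (f h)) → ∃ v : (Fin 1 ⊕ Fin 1) ⊕ Fin 2 → ZMod 2, ∀ g : ↥(Cfsg.Omega (ZMod 2) (Cfsg.quadFormMinus 1 (ZMod 2) 1 1)), f g = Matrix.mulVec (((g : ↥(Cfsg.isometryGroup (ZMod 2) (Cfsg.quadFormMinus 1 (ZMod 2) 1 1))) : GL ((Fin 1 ⊕ Fin 1) ⊕ Fin 2) (ZMod 2)) : Matrix ((Fin 1 ⊕ Fin 1) ⊕ Fin 2) ((Fin 1 ⊕ Fin 1) ⊕ Fin 2) (ZMod 2)) v - v) ∧ (∀ f : ↥(Cfsg.Omega (ZMod 2) (Cfsg.quadFormMinus 2 (ZMod 2) 1 1)) → ((Fin 2 ⊕ Fin 2) ⊕ Fin 2 → ZMod 2), (∀ g h : ↥(Cfsg.Omega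 (ZMod 2) (Cfsg.quadFormMinus 2 (ZMod 2) 1 1)), f (g * h) = f g + Matrix.mulVec (((g : ↥(Cfsg.isometryGroup (ZMod 2) (Cfsg.quadFormMinus 2 (ZMod 2) 1 1))) : GL ((Fin 2 ⊕ Fin 2) ⊕ Fin 2) (ZMod 2)) : Matrix ((Fin 2 ⊕ Fin 2) ⊕ Fin 2) ((Fin 2 ⊕ Fin 2) ⊕ Fin 2) (ZMod 2)) (f h)) → ∃ v : (Fin 2 ⊕ Fin 2) ⊕ Fin 2 → ZMod 2, ∀ g : ↥(Cfsg.Omega (ZMod 2) (Cfsg.quadFormMinus 2 (ZMod 2) 1 1)), f g = Matrix.mulVec (((g : ↥(Cfsg.isometryGroup (ZMod 2) (Cfsg.quadFormMinus 2 (ZMod 2) 1 1))) : GL ((Fin 2 ⊕ Fin 2) ⊕ Fin 2) (ZMod 2)) : Matrix ((Fin 2 ⊕ Fin 2) ⊕ Fin 2) ((Fin 2 ⊕ Fin 2) ⊕ Fin 2) (ZMod 2)) v - v) ∧ (∀ f : ↥(Cfsg.Omega (ZMod 2) (Cfsg.quadFormPlus 4 (ZMod 2))) → (Fin 4 ⊕ Fin 4 → ZMod 2), (∀ g h : ↥(Cfsg.Omega (ZMod 2) (Cfsg.quadFormPlus 4 (ZMod 2))), f (g * h) = f g + Matrix.mulVec (((g : ↥(Cfsg.isometryGroup (ZMod 2) (Cfsg.quadFormPlus 4 (ZMod 2)))) : GL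 (Fin 4 ⊕ Fin 4) (ZMod 2)) : Matrix (Fin 4 ⊕ Fin 4) (Fin 4 ⊕ Fin 4) (ZMod 2)) (f h)) → ∃ v : Fin 4 ⊕ Fin 4 → ZMod 2, ∀ g : ↥(Cfsg.Omega (ZMod 2) (Cfsg.quadFormPlus 4 (ZMod 2))), f g = Matrix.mulVec (((g : ↥(Cfsg.isometryGroup (ZMod 2) (Cfsg.quadFormPlus 4 (ZMod 2)))) : GL (Fin 4 ⊕ Fin 4) (ZMod 2)) : Matrix (Fin 4 ⊕ Fin 4) (Fin 4 ⊕ Fin 4) (ZMod 2)) v - v) := by
  refine ⟨Cfsg.Agent.ULT.H1.main (e := Sum.elim (Sum.elim ![0] ![1]) ![2, 3]) (k := 4) (by decide)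
    (Cfsg.Agent.Orth.minusQ 1 (ZMod 2) 1 1) Cfsg.Agent.ULT.H1.gen4 ![8, 4, 10, 3] ![7, 8, 3, 2]
    ![1, 0, 1, 2] 1255531553703476592640 (by decide +kernel) (by decide +kernel) (by decide +kernel)
    (by decide +kernel),
    Cfsg.Agent.ULT.H1.main (e := Sum.elim (Sum.elim ![0, 1] ![2, 3]) ![4, 5]) (k := 6) (by decide)
    (Cfsg.Agent.Orth.minusQ 2 (ZMod 2) 1 1)
    ((Cfsg.Agent.Orth.nd_minusQ 2 (by decide)).top_of_refl (Or.inr (by simp)))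
    ![32, 16, 40, 10, 13, 14] ![30, 32, 14, 13, 4, 5] ![1, 0, 1, 2, 3, 2]
    200254896100453223830023917162245288961257902040314394041003996708271744056483161819816621244416
    (by decide +kernel) (by decide +kernel) (by decide +kernel) (by decide +kernel),
    Cfsg.Agent.ULT.H1.main (e := Sum.elim ![0, 1, 2, 3] ![4, 5, 6, 7]) (k := 8) (by decide)
    (Cfsg.Agent.Orth.plusQ 4 (ZMod 2))
    ((Cfsg.Agent.Orth.nd_plusQ 4).top_of_refl (Or.inr (by simp)))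
    ![136, 196, 168, 34, 232, 68, 216, 119] ![179, 136, 119, 48, 85, 216, 17, 16]
    ![1, 0, 1, 2, 3, 4, 5, 2]
    82588673687090403314355938100190334868487576178128536433153132063489189779084487537371597653532706042081122958620634849588827704249017846796433746273600909543134675776113559982014684703264405022718664804752857319145155198528776956588841728330181965000440046263933287083479218194361865542227484523742183872491697944362409554671348511432570027976814498893969542309643102800843554947072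
    (by decide +kernel) (by decide +kernel) (by decide +kernel) (by decide +kernel)⟩

end Cfsg.Agent.S5405
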