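import Mathlib
import Cfsg.Statements.S5435
import Cfsg.Agent.DxD.A
import Cfsg.Agent.Inv.ZStar
import Cfsg.Agent.Inv.FusSimple
import Cfsg.Agent.PGrp.Frattini
-- import your own Cfsg.Agent.* helpers here

set_option autoImplicit false
open Cfsg

namespace Cfsg.Agent.S5435

/-- Let L be a finite non-abelian simple group with an involution z whose centralizer R is a Sylow 2-subgroup of L whose Frattini subgroup is the subgroup generated by z. Then R is dihedral of order 8. -/
theorem result {L : Type*} [Group L] [Finite L] [IsSimpleGroup L] (hL : ¬ IsMulCommutative L) (z : L) (hz : orderOf z = 2) (R : Sylow 2 L) (hR : (R : Subgroup L) = Subgroup.centralizer ({z} : Set L)) (hΦ : (frattini ↥(R : Subgroup L)).map (R : Subgroup L).subtype = Subgroup.zpowers z) : Nonempty (↥(R : Subgroup L) ≃* DihedralGroup 4) := by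
  open Subgroup Cfsg.Agent.Inv in
  haveI : Fact (Nat.Prime 2) := ⟨Nat.prime_two⟩
  have hmem : ∀ a, a ∈ (R : Subgroup L) ↔ a * z = z * a := fun a => by
    rw [hR, mem_centralizer_singleton_iff]
  have hzR : z ∈ (R : Subgroup L) := (hmem z).2 rfl
  have hzz := mul_self_of_two hz
  have hz1 := ne_one_of_two hz
  have hzp : ∀ a ∈ zpowers z, a = 1 ∨ a = z := by
    rintro _ ⟨k, rfl⟩
    rcases Int.even_or_odd' k with ⟨m, rfl | rfl⟩
    · left; simp only [zpow_mul]; rw [zpow_two, hzz, one_zpow]
    · right; simp only [zpow_add, zpow_mul]; rw [zpow_two, hzz, one_zpow, one_mul, zpow_one]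
  have hsq : ∀ a ∈ (R : Subgroup L), a * a = 1 ∨ a * a = z := fun a ha => hzp _ (by
    rw [← hΦ, ← pow_two]; exact PGrp.pow_mem_map_frattini R.isPGroup' ha)
  have hcm : ∀ a ∈ (R : Subgroup L), ∀ b ∈ (R : Subgroup L),
      a * b = b * a ∨ a * b * a⁻¹ = z * b := fun a ha b hb => by
    have := hzp _ (hΦ ▸ PGrp.commutator_le_map_frattini R.isPGroup'
      (commutator_mem_commutator ha hb))
    rw [commutatorElement_def] at this
    rcases this with h | h
    · left; rw [mul_inv_eq_one, mul_inv_eq_iff_eq_mul] at h; exact h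
    · right; rw [← h]; group
  have hA : ∀ a ∈ (R : Subgroup L), (∀ b ∈ (R : Subgroup L), b * a = a * b) → a * a = 1 →
      a = 1 ∨ a = z := by
    intro a ha hc h2
    refine hzp a ?_
    rw [← hΦ]
    refine ⟨⟨a, ha⟩, PGrp.mem_frattini_iff.2 fun M hM => ?_, rfl⟩
    have hi : (M.map (R : Subgroup L).subtype).relIndex R = 2 := by
      rw [relIndex, subgroupOf, comap_map_eq_self_of_injective (subtype_injective _)]
      exact PGrp.index_eq_of_isCoatom R.isPGroup' hM
    obtain ⟨g, hg, hgR⟩ := DxD.thompson_ext (fun N _ => no_index_two_of_simple hL N) R hi h2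
      R.isPGroup' hc
    have hn : g ∈ normalizer ((R : Subgroup L) : Set L) :=
      mem_normalizer_fintype (S := ((R : Subgroup L) : Set L)) hgR
    have hn' := Core.normalizer_le_normalizer_map_subtype (R : Subgroup L) (frattini _) hn
    rw [hΦ] at hn'
    have h3 := (hzp _ ((mem_normalizer_iff.1 hn' z).1 (mem_zpowers z))).resolve_left
      (ne_one_of_two (two_conj hz g))
    have h4 := hc g ((hmem g).2 (mul_inv_eq_iff_eq_mul.1 h3))
    rw [h4, mul_inv_cancel_right] at hg
    obtain ⟨b, hb, e⟩ := hg
    rwa [← show b = ⟨a, ha⟩ from Subtype.ext e]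
  obtain ⟨g, htR, htz⟩ : ∃ g : L, g * z * g⁻¹ ∈ (R : Subgroup L) ∧ g * z * g⁻¹ ≠ z := by
    by_contra hcon
    push Not at hcon
    have hO : oddCore L = ⊥ := by
      refine (IsSimpleGroup.eq_bot_or_eq_top_of_normal _ inferInstance).resolve_right fun h => ?_
      have h1 := Core.not_dvd_card_pPrimeCore (G := L) Nat.prime_two
      have h2 := Subgroup.orderOf_dvd_natCard _ (show z ∈ oddCore L by rw [h]; trivial)
      rw [hz] at h2
      exact h1 h2
    have h1 : z ∈ center L := mem_center_iff.2 fun g =>
      (zstar_commute hO (isolated_of_sylow R hz hcon) g).symm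
    rcases IsSimpleGroup.eq_bot_or_eq_top_of_normal (center L) inferInstance with h | h
    · rw [h] at h1; exact hz1 h1
    · exact hL ⟨⟨fun a b => (mem_center_iff.1 (show b ∈ center L by rw [h]; trivial) a)⟩⟩
  obtain ⟨t, ht⟩ : ∃ t, t = g * z * g⁻¹ := ⟨_, rfl⟩
  rw [← ht] at htR htz
  have ht2 : orderOf t = 2 := ht ▸ two_conj hz g
  have htt := mul_self_of_two ht2
  have hE : ∀ e ∈ (R : Subgroup L), e * t = t * e → e * e = 1 := by
    intro e he hc
    refine (hsq e he).resolve_right fun h => ?_
    have h1 : g⁻¹ * e * g ∈ (R : Subgroup L) := (hmem _).2 (by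
      calc g⁻¹ * e * g * z = g⁻¹ * (e * t) * g := by rw [ht]; group
        _ = _ := by rw [hc, ht]; group)
    have h2 : g⁻¹ * e * g * (g⁻¹ * e * g) = g⁻¹ * z * g := by rw [← h]; group
    rcases hsq _ h1 with h3 | h3 <;> rw [h2] at h3
    · exact ne_one_of_two (by rw [orderOf_conj']; exact hz) h3
    · apply htz
      rw [ht]
      conv_lhs => rw [← h3]
      group
  obtain ⟨x, hx, hxt⟩ : ∃ x ∈ (R : Subgroup L), x * t ≠ t * x := by
    by_contra hcon
    push Not at hcon
    rcases hA t htR hcon htt with h | h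
    · exact ne_one_of_two ht2 h
    · exact htz h
  have hzc : ∀ a ∈ (R : Subgroup L), a * z = z * a := fun a ha => (hmem a).1 ha
  obtain ⟨y, hy, hyt, hyy⟩ : ∃ y ∈ (R : Subgroup L), y * t ≠ t * y ∧ y * y = z := by
    rcases hsq x hx with h | h
    · refine ⟨x * t, mul_mem hx htR, fun e => hxt ?_, ?_⟩
      · rw [mul_assoc, htt, mul_one] at e
        calc x * t = t * (x * t) * t := by rw [← e]
          _ = t * x := by rw [mul_assoc, mul_assoc, htt, mul_one]
      · have := (hcm x hx t htR).resolve_left hxt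
        calc x * t * (x * t) = x * t * x⁻¹ * (x * x) * t := by group
          _ = z := by rw [this, h, mul_one, mul_assoc, htt, mul_one]
    · exact ⟨x, hx, hxt, h⟩
  have hyt' := (hcm y hy t htR).resolve_left hyt
  have hcoset : ∀ r ∈ (R : Subgroup L), r * t = t * r ∨ y * r * t = t * (y * r) := by
    intro r hr
    refine (hcm r hr t htR).imp_right fun h => ?_
    have : y * r * t * (y * r)⁻¹ = t := by
      calc y * r * t * (y * r)⁻¹ = y * (r * t * r⁻¹) * y⁻¹ := by group
        _ = (y * z) * t * y⁻¹ := by rw [h]; group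
        _ = z * (y * t * y⁻¹) := by rw [hzc y hy]; group
        _ = t := by rw [hyt', ← mul_assoc, hzz, one_mul]
    exact mul_inv_eq_iff_eq_mul.1 this
  have hcen : ∀ e ∈ (R : Subgroup L), e * t = t * e → y * e = e * y → e = 1 ∨ e = z := by
    intro e he h1 h2
    have hEc : ∀ b ∈ (R : Subgroup L), b * t = t * b → b * e = e * b := by
      intro b hb h3
      have h4 := hE _ (mul_mem hb he) (by rw [mul_assoc, h1, ← mul_assoc, h3, mul_assoc])
      calc b * e = (b * e)⁻¹ := (inv_eq_of_mul_eq_one_right h4).symm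
        _ = e * b := by
          rw [mul_inv_rev, inv_eq_of_mul_eq_one_right (hE e he h1),
            inv_eq_of_mul_eq_one_right (hE b hb h3)]
    refine hA e he (fun b hb => ?_) (hE e he h1)
    rcases hcoset b hb with h | h
    · exact hEc b hb h
    · have := hEc _ (mul_mem hy hb) h
      rw [← mul_assoc, ← h2, mul_assoc, mul_assoc] at this
      exact mul_left_cancel this
  set D := closure ({y, t} : Set L) with hD
  have hyD : y ∈ D := subset_closure (by simp)
  have htD : t ∈ D := subset_closure (by simp)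
  have hzD : z ∈ D := hyy ▸ mul_mem hyD hyD
  have hED : ∀ e ∈ (R : Subgroup L), e * t = t * e → e ∈ D := by
    intro e he h1
    rcases hcm y hy e he with h | h
    · rcases hcen e he h1 h with h2 | h2 <;> rw [h2]
      exacts [one_mem _, hzD]
    · have h2 : y * (e * t) = e * t * y := by
        have : y * (e * t) * y⁻¹ = e * t := by
          calc y * (e * t) * y⁻¹ = (y * e * y⁻¹) * (y * t * y⁻¹) := by group
            _ = z * (e * z) * t := by rw [h, hyt']; group
            _ = e * t := by rw [hzc e he, ← mul_assoc z z, hzz, one_mul]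
        exact mul_inv_eq_iff_eq_mul.1 this
      have h3 : e * t ∈ D := by
        rcases hcen _ (mul_mem he htR) (by rw [← mul_assoc, h1, mul_assoc, h1]) h2 with h4 | h4 <;> rw [h4]
        exacts [one_mem _, hzD]
      exact (mul_mem_cancel_right htD).1 h3
  have hDR : D = R := by
    refine le_antisymm ((closure_le _).2 (Set.pair_subset hy htR)) fun r hr => ?_
    rcases hcoset r hr with h | h
    · exact hED r hr h
    · exact (mul_mem_cancel_left hyD).1 (hED _ (mul_mem hy hr) h)
  have hy4 : orderOf y = 4 := by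
    refine orderOf_eq_prime_pow (p := 2) (n := 1) ?_ ?_
    · rw [pow_one, pow_two, hyy]; exact hz1
    · rw [show 2 ^ (1 + 1) = 2 * 2 by rfl, pow_mul, pow_two, pow_two, hyy, hzz]
  rw [← hDR, ← hy4]
  refine nonempty_dihedral htt ?_ fun h => hyt ?_
  · have := (hcm t htR y hy).resolve_left fun h => hyt h.symm
    rw [this, eq_inv_iff_mul_eq_one, mul_assoc, hyy, hzz]
  · obtain ⟨k, hk⟩ := h
    rw [← hk]
    exact (Commute.refl y).zpow_right k

end Cfsg.Agent.S5435
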