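import Cfsg.Statements.S5472
import Mathlib
import Cfsg.Agent.Fischer.I22
import Cfsg.Agent.Fischer.A22C
import Cfsg.Agent.FiC.F22.Iso
import Cfsg.Agent.SchurG.S62.Iso

set_option autoImplicit false
open Cfsg

namespace Cfsg.Agent.S5472

open Fischer Comp FiC FiC.F22 Subgroup
set_option maxRecDepth 100000
set_option linter.unusedSectionVars false
set_option linter.unusedVariables false

section
variable {G : Type*} [Group G] [Finite G] {D : Set G} {τ s : ℕ → G}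

noncomputable def sU : List (List Nat) := [[nat_lit 36, nat_lit 14, nat_lit 16, nat_lit 34, nat_lit 16, nat_lit 39, nat_lit 43, nat_lit 16, nat_lit 12], [nat_lit 40, nat_lit 38, nat_lit 43, nat_lit 12], [nat_lit 36, nat_lit 14, nat_lit 34, nat_lit 38, nat_lit 14, nat_lit 38, nat_lit 43, nat_lit 12], [nat_lit 51, nat_lit 33, nat_lit 2, nat_lit 32, nat_lit 50, nat_lit 36, nat_lit 14, nat_lit 16, nat_lit 34, nat_lit 39, nat_lit 43, nat_lit 16, nat_lit 12], [nat_lit 10, nat_lit 21, nat_lit 18, nat_lit 25, nat_lit 30, nat_lit 6, nat_lit 12, nat_lit 10, nat_lit 38, nat_lit 37, nat_lit 0, nat_lit 43, nat_lit 16], [nat_lit 38, nat_lit 35, nat_lit 23, nat_lit 8, nat_lit 27, nat_lit 41, nat_lit 31, nat_lit 40, nat_lit 38, nat_lit 34, nat_lit 16, nat_lit 38, nat_lit 12], [nat_lit 38, nat_lit 27, nat_lit 31, nat_lit 21, nat_lit 57, nat_lit 6, nat_lit 16, nat_lit 14, nat_lit 30, nat_lit 36, nat_lit 34, nat_lit 40,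 nat_lit 8, nat_lit 42, nat_lit 16, nat_lit 12], [nat_lit 19, nat_lit 21, nat_lit 57, nat_lit 37, nat_lit 6, nat_lit 35, nat_lit 33, nat_lit 39, nat_lit 14, nat_lit 35, nat_lit 38], [nat_lit 0, nat_lit 12]]

theorem tge1 (b : Base D τ s d0 64561751654400) : GE s [[nat_lit 42, nat_lit 16, nat_lit 23, nat_lit 20, nat_lit 37, nat_lit 35, nat_lit 0, nat_lit 14, nat_lit 39, nat_lit 42, nat_lit 16, nat_lit 12]] 2 :=
  GE.step b.x (GE.base []) _ [] (nat_lit 0) [nat_lit 0] (nat_lit 2) 2 (by decide +kernel)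

theorem tge2 (b : Base D τ s d0 64561751654400) : GE s [[nat_lit 57, nat_lit 52, nat_lit 21, nat_lit 52, nat_lit 24, nat_lit 37, nat_lit 30, nat_lit 38, nat_lit 34, nat_lit 4, nat_lit 16, nat_lit 38], [nat_lit 53, nat_lit 46, nat_lit 20, nat_lit 8, nat_lit 52, nat_lit 38, nat_lit 37, nat_lit 10, nat_lit 37, nat_lit 14, nat_lit 42, nat_lit 16, nat_lit 12], [nat_lit 42, nat_lit 16, nat_lit 23, nat_lit 20, nat_lit 37, nat_lit 35, nat_lit 0, nat_lit 14, nat_lit 39, nat_lit 42, nat_lit 16, nat_lit 12]] 576 :=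
  GE.step b.x (tge1 b) _ [] (nat_lit 1110) [nat_lit 0, nat_lit 1, nat_lit 0, nat_lit 2, nat_lit 1, nat_lit 0, nat_lit 2, nat_lit 1, nat_lit 0, nat_lit 1, nat_lit 0, nat_lit 2, nat_lit 1] (nat_lit 288) 576 (by decide +kernel)

theorem tge3 (b : Base D τ s d0 64561751654400) : GE s [[nat_lit 13, nat_lit 17, nat_lit 43, nat_lit 15, nat_lit 36, nat_lit 11, nat_lit 36, nat_lit 39, nat_lit 53, nat_lit 9, nat_lit 21, nat_lit 47, nat_lit 52], [nat_lit 5, nat_lit 26, nat_lit 31, nat_lit 2, nat_lit 30, nat_lit 27, nat_lit 37, nat_lit 35, nat_lit 4, nat_lit 14, nat_lit 39, nat_lit 12]] 576 :=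
  GE.sub b.x (tge2 b) _ [([nat_lit 57, nat_lit 52, nat_lit 21, nat_lit 52, nat_lit 24, nat_lit 37, nat_lit 30, nat_lit 38, nat_lit 34, nat_lit 4, nat_lit 16, nat_lit 38], [nat_lit 0, nat_lit 0, nat_lit 2, nat_lit 1, nat_lit 3, nat_lit 2, nat_lit 1, nat_lit 1, nat_lit 2, nat_lit 3, nat_lit 2]), ([nat_lit 53, nat_lit 46, nat_lit 20, nat_lit 8, nat_lit 52, nat_lit 38, nat_lit 37, nat_lit 10, nat_lit 37, nat_lit 14, nat_lit 42, nat_lit 16, nat_lit 12], [nat_lit 5, nat_lit 4, nat_lit 5, nat_lit 4, nat_lit 2, nat_lit 2, nat_lit 2, nat_lit 4, nat_lit 5, nat_lit 2, nat_lit 2]), ([nat_lit 42, nat_lit 16, nat_lit 23, nat_lit 20, nat_lit 37, nat_lit 35, nat_lit 0, nat_lit 14, nat_lit 39, nat_lit 42, nat_lit 16, nat_lit 12], [nat_lit 7, nat_lit 7, nat_lit 6, nat_lit 6, nat_lit 7, nat_lit 6, nat_lit 6, nat_lit 5, nat_lit 4, nat_lit 6, nat_lit 7])] (by decide +kernel)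

theorem tge4 (b : Base D τ s d0 64561751654400) : GE s [[nat_lit 13, nat_lit 17, nat_lit 43, nat_lit 15, nat_lit 36, nat_lit 11, nat_lit 36, nat_lit 39, nat_lit 53, nat_lit 9, nat_lit 21, nat_lit 47, nat_lit 52], [nat_lit 33, nat_lit 6, nat_lit 19, nat_lit 39, nat_lit 51, nat_lit 6, nat_lit 32, nat_lit 31, nat_lit 35, nat_lit 43, nat_lit 39, nat_lit 43, nat_lit 16], [nat_lit 17, nat_lit 38, nat_lit 40, nat_lit 37, nat_lit 17, nat_lit 38, nat_lit 31, nat_lit 7, nat_lit 19, nat_lit 20, nat_lit 32]] 1451520 :=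
  GE.step b.x (tge3 b) _ [([nat_lit 5, nat_lit 26, nat_lit 31, nat_lit 2, nat_lit 30, nat_lit 27, nat_lit 37, nat_lit 35, nat_lit 4, nat_lit 14, nat_lit 39, nat_lit 12], [nat_lit 5, nat_lit 3, nat_lit 5, nat_lit 5, nat_lit 5, nat_lit 2])] (nat_lit 1019) [nat_lit 2, nat_lit 1, nat_lit 2, nat_lit 0, nat_lit 1, nat_lit 2, nat_lit 0, nat_lit 1, nat_lit 2, nat_lit 0, nat_lit 1, nat_lit 2, nat_lit 0, nat_lit 1, nat_lit 2, nat_lit 0, nat_lit 2] (nat_lit 2520) 1451520 (by decide +kernel)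

theorem tge5 (b : Base D τ s d0 64561751654400) : GE s [[nat_lit 36, nat_lit 14, nat_lit 16, nat_lit 34, nat_lit 16, nat_lit 39, nat_lit 43, nat_lit 16, nat_lit 12], [nat_lit 40, nat_lit 38, nat_lit 43, nat_lit 12], [nat_lit 36, nat_lit 14, nat_lit 34, nat_lit 38, nat_lit 14, nat_lit 38, nat_lit 43, nat_lit 12], [nat_lit 51, nat_lit 33, nat_lit 2, nat_lit 32, nat_lit 50, nat_lit 36, nat_lit 14, nat_lit 16, nat_lit 34, nat_lit 39, nat_lit 43, nat_lit 16, nat_lit 12], [nat_lit 10, nat_lit 21, nat_lit 18, nat_lit 25, nat_lit 30, nat_lit 6, nat_lit 12, nat_lit 10, nat_lit 38, nat_lit 37, nat_lit 0, nat_lit 43, nat_lit 16], [nat_lit 38, nat_lit 35, nat_lit 23, nat_lit 8, nat_lit 27, nat_lit 41, nat_lit 31, nat_lit 40, nat_lit 38, nat_lit 34, nat_lit 16, nat_lit 38, nat_lit 12], [nat_lit 38, nat_lit 27, nat_lit 31, nat_lit 21, nat_lit 57, nat_lit 6, nat_lit 16, nat_lit 14, nat_lit 30, nat_lit 36, nat_lit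 34, nat_lit 40, nat_lit 8, nat_lit 42, nat_lit 16, nat_lit 12], [nat_lit 19, nat_lit 21, nat_lit 57, nat_lit 37, nat_lit 6, nat_lit 35, nat_lit 33, nat_lit 39, nat_lit 14, nat_lit 35, nat_lit 38], [nat_lit 0, nat_lit 12]] 1451520 :=
  GE.sub b.x (tge4 b) _ [([nat_lit 13, nat_lit 17, nat_lit 43, nat_lit 15, nat_lit 36, nat_lit 11, nat_lit 36, nat_lit 39, nat_lit 53, nat_lit 9, nat_lit 21, nat_lit 47, nat_lit 52], [nat_lit 5, nat_lit 12, nat_lit 9, nat_lit 11, nat_lit 15, nat_lit 1]), ([nat_lit 33, nat_lit 6, nat_lit 19, nat_lit 39, nat_lit 51, nat_lit 6, nat_lit 32, nat_lit 31, nat_lit 35, nat_lit 43, nat_lit 39, nat_lit 43, nat_lit 16], [nat_lit 10, nat_lit 6, nat_lit 15, nat_lit 8, nat_lit 19, nat_lit 15]), ([nat_lit 17, nat_lit 38, nat_lit 40, nat_lit 37, nat_lit 17, nat_lit 38, nat_lit 31, nat_lit 7, nat_lit 19, nat_lit 20, nat_lit 32], [nat_lit 15, nat_lit 7, nat_lit 10, nat_lit 17, nat_lit 12, nat_lit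 11])] (by decide +kernel)

theorem sUiso (b : Base D τ s d0 64561751654400) : Nat.card (genW (sv s) sU) = 1451520 ∧ Nonempty (genW (sv s) sU ≃* SchurG.S62.G) :=
  b.x.iso (IsPres.univ' SchurG.S62.pres) SchurG.S62.card.2.1 (by norm_num) (tge5 b) (by decide +kernel)

theorem tge6 (b : Base D τ s d0 64561751654400) : GE s [[nat_lit 39, nat_lit 14, nat_lit 38], [nat_lit 37, nat_lit 35, nat_lit 14, nat_lit 39, nat_lit 12]] 4 :=
  GE.step b.x (GE.base []) _ [] (nat_lit 1) [nat_lit 0, nat_lit 1] (nat_lit 4) 4 (by decide +kernel)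

theorem tge7 (b : Base D τ s d0 64561751654400) : GE s [[nat_lit 38, nat_lit 43, nat_lit 5, nat_lit 36, nat_lit 13, nat_lit 42, nat_lit 31, nat_lit 13, nat_lit 31, nat_lit 45, nat_lit 26, nat_lit 21, nat_lit 17, nat_lit 22], [nat_lit 55, nat_lit 37, nat_lit 10, nat_lit 21, nat_lit 57, nat_lit 27, nat_lit 10, nat_lit 31, nat_lit 10, nat_lit 43, nat_lit 37, nat_lit 41, nat_lit 38, nat_lit 16]] 1152 :=
  GE.step b.x (tge6 b) _ [([nat_lit 39, nat_lit 14, nat_lit 38], [nat_lit 3, nat_lit 3, nat_lit 1, nat_lit 3, nat_lit 0, nat_lit 2, nat_lit 1, nat_lit 3, nat_lit 0]), ([nat_lit 37, nat_lit 35, nat_lit 14, nat_lit 39, nat_lit 12], [nat_lit 2, nat_lit 5, nat_lit 3, nat_lit 4, nat_lit 4, nat_lit 4, nat_lit 2, nat_lit 5, nat_lit 2])] (nat_lit 0) [nat_lit 0, nat_lit 1, nat_lit 0, nat_lit 1, nat_lit 0, nat_lit 1, nat_lit 0, nat_lit 1, nat_lit 0, nat_lit 1, nat_lit 0, nat_lit 1, nat_lit 0] (nat_lit 288) 1152 (by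 decide +kernel)

theorem tge8 (b : Base D τ s d0 64561751654400) : GE s [[nat_lit 38, nat_lit 43, nat_lit 5, nat_lit 36, nat_lit 13, nat_lit 42, nat_lit 31, nat_lit 13, nat_lit 31, nat_lit 45, nat_lit 26, nat_lit 21, nat_lit 17, nat_lit 22], [nat_lit 17, nat_lit 42, nat_lit 15, nat_lit 35, nat_lit 15, nat_lit 38, nat_lit 40, nat_lit 11, nat_lit 31, nat_lit 17, nat_lit 24, nat_lit 38, nat_lit 21, nat_lit 34, nat_lit 28], [nat_lit 20, nat_lit 40, nat_lit 21, nat_lit 50, nat_lit 52, nat_lit 41, nat_lit 10, nat_lit 42, nat_lit 12, nat_lit 37, nat_lit 0, nat_lit 38, nat_lit 16]] 2903040 :=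
  GE.step b.x (tge7 b) _ [([nat_lit 55, nat_lit 37, nat_lit 10, nat_lit 21, nat_lit 57, nat_lit 27, nat_lit 10, nat_lit 31, nat_lit 10, nat_lit 43, nat_lit 37, nat_lit 41, nat_lit 38, nat_lit 16], [nat_lit 4, nat_lit 2, nat_lit 5, nat_lit 0, nat_lit 4])] (nat_lit 1265) [nat_lit 2, nat_lit 1, nat_lit 2, nat_lit 0, nat_lit 1, nat_lit 2, nat_lit 0, nat_lit 1, nat_lit 2, nat_lit 0, nat_lit 1, nat_lit 2, nat_lit 0, nat_lit 2, nat_lit 1, nat_lit 2, nat_lit 0] (nat_lit 2520) 2903040 (by decide +kernel)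

theorem tge9 (b : Base D τ s d0 64561751654400) : GE s [[nat_lit 14], [nat_lit 36, nat_lit 14, nat_lit 16, nat_lit 34, nat_lit 16, nat_lit 39, nat_lit 43, nat_lit 16, nat_lit 12], [nat_lit 40, nat_lit 38, nat_lit 43, nat_lit 12], [nat_lit 36, nat_lit 14, nat_lit 34, nat_lit 38, nat_lit 14, nat_lit 38, nat_lit 43, nat_lit 12], [nat_lit 51, nat_lit 33, nat_lit 2, nat_lit 32, nat_lit 50, nat_lit 36, nat_lit 14, nat_lit 16, nat_lit 34, nat_lit 39, nat_lit 43, nat_lit 16, nat_lit 12], [nat_lit 10, nat_lit 21, nat_lit 18, nat_lit 25, nat_lit 30, nat_lit 6, nat_lit 12, nat_lit 10, nat_lit 38, nat_lit 37, nat_lit 0, nat_lit 43, nat_lit 16], [nat_lit 38, nat_lit 35, nat_lit 23, nat_lit 8, nat_lit 27, nat_lit 41, nat_lit 31, nat_lit 40, nat_lit 38, nat_lit 34, nat_lit 16, nat_lit 38, nat_lit 12], [nat_lit 38, nat_lit 27, nat_lit 31, nat_lit 21, nat_lit 57, nat_lit 6, nat_lit 16, nat_lit 14, nat_lit 30, nat_lit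 36, nat_lit 34, nat_lit 40, nat_lit 8, nat_lit 42, nat_lit 16, nat_lit 12], [nat_lit 19, nat_lit 21, nat_lit 57, nat_lit 37, nat_lit 6, nat_lit 35, nat_lit 33, nat_lit 39, nat_lit 14, nat_lit 35, nat_lit 38], [nat_lit 0, nat_lit 12]] 2903040 :=
  GE.sub b.x (tge8 b) _ [([nat_lit 38, nat_lit 43, nat_lit 5, nat_lit 36, nat_lit 13, nat_lit 42, nat_lit 31, nat_lit 13, nat_lit 31, nat_lit 45, nat_lit 26, nat_lit 21, nat_lit 17, nat_lit 22], [nat_lit 10, nat_lit 4, nat_lit 7, nat_lit 13, nat_lit 16, nat_lit 13, nat_lit 18, nat_lit 16, nat_lit 7, nat_lit 12, nat_lit 0, nat_lit 16, nat_lit 3]), ([nat_lit 17, nat_lit 42, nat_lit 15, nat_lit 35, nat_lit 15, nat_lit 38, nat_lit 40, nat_lit 11, nat_lit 31, nat_lit 17, nat_lit 24, nat_lit 38, nat_lit 21, nat_lit 34, nat_lit 28], [nat_lit 18, nat_lit 18, nat_lit 8, nat_lit 21, nat_lit 2, nat_lit 5, nat_lit 5, nat_lit 8, nat_lit 20, nat_lit 2, nat_lit 14, nat_lit 6,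 nat_lit 16]), ([nat_lit 20, nat_lit 40, nat_lit 21, nat_lit 50, nat_lit 52, nat_lit 41, nat_lit 10, nat_lit 42, nat_lit 12, nat_lit 37, nat_lit 0, nat_lit 38, nat_lit 16], [nat_lit 16, nat_lit 18, nat_lit 12, nat_lit 14, nat_lit 13, nat_lit 6, nat_lit 21, nat_lit 18, nat_lit 18, nat_lit 17, nat_lit 6, nat_lit 19, nat_lit 22])] (by decide +kernel)

theorem sge (b : Base D τ s d0 64561751654400) : GE s ([nat_lit 14] :: sU) 2903040 :=
  (tge9 b)

noncomputable def oU : List (List Nat) := [[nat_lit 21, nat_lit 2, nat_lit 20], [nat_lit 53, nat_lit 30, nat_lit 2, nat_lit 31, nat_lit 52], [nat_lit 28, nat_lit 44, nat_lit 2, nat_lit 45, nat_lit 29], [nat_lit 14], [nat_lit 57, nat_lit 23, nat_lit 44, nat_lit 22, nat_lit 56], [nat_lit 16, nat_lit 44, nat_lit 2, nat_lit 45, nat_lit 17]]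

noncomputable def oV : List (List Nat) := [[nat_lit 42, nat_lit 28, nat_lit 19, nat_lit 28, nat_lit 25, nat_lit 30, nat_lit 40, nat_lit 37, nat_lit 8, nat_lit 16], [nat_lit 5, nat_lit 47, nat_lit 4, nat_lit 19, nat_lit 4, nat_lit 6, nat_lit 4, nat_lit 38, nat_lit 16, nat_lit 12], [nat_lit 27, nat_lit 44, nat_lit 30, nat_lit 12, nat_lit 30, nat_lit 35, nat_lit 16, nat_lit 36, nat_lit 42, nat_lit 40], [nat_lit 4, nat_lit 47, nat_lit 4, nat_lit 19, nat_lit 8, nat_lit 6, nat_lit 4, nat_lit 0, nat_lit 38, nat_lit 16], [nat_lit 6, nat_lit 26, nat_lit 52, nat_lit 32, nat_lit 41, nat_lit 31, nat_lit 14, nat_lit 38, nat_lit 43, nat_lit 16], [nat_lit 57, nat_lit 30, nat_lit 39, nat_lit 19, nat_lit 52, nat_lit 52, nat_lit 10, nat_lit 32, nat_lit 37, nat_lit 34, nat_lit 39]]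

theorem oel (b : Base D τ s d0 64561751654400) : IsElementaryAbelian 2 (genW (sv s) oV) :=
  b.x.elem _ _ (by decide +kernel)

theorem tge10 (b : Base D τ s d0 64561751654400) : GE s [[nat_lit 42, nat_lit 28, nat_lit 19, nat_lit 28, nat_lit 25, nat_lit 30, nat_lit 40, nat_lit 37, nat_lit 8, nat_lit 16], [nat_lit 5, nat_lit 47, nat_lit 4, nat_lit 19, nat_lit 4, nat_lit 6, nat_lit 4, nat_lit 38, nat_lit 16, nat_lit 12], [nat_lit 27, nat_lit 44, nat_lit 30, nat_lit 12, nat_lit 30, nat_lit 35, nat_lit 16, nat_lit 36, nat_lit 42, nat_lit 40], [nat_lit 4, nat_lit 47, nat_lit 4, nat_lit 19, nat_lit 8, nat_lit 6, nat_lit 4, nat_lit 0, nat_lit 38, nat_lit 16], [nat_lit 6, nat_lit 26, nat_lit 52, nat_lit 32, nat_lit 41, nat_lit 31, nat_lit 14, nat_lit 38, nat_lit 43, nat_lit 16], [nat_lit 57, nat_lit 30, nat_lit 39, nat_lit 19, nat_lit 52, nat_lit 52, nat_lit 10, nat_lit 32, nat_lit 37, nat_lit 34, nat_lit 39]]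 64 :=
  GE.step b.x (GE.base []) _ [] (nat_lit 2) [nat_lit 0, nat_lit 1, nat_lit 2, nat_lit 3, nat_lit 4, nat_lit 5] (nat_lit 64) 64 (by decide +kernel)

theorem ocard (b : Base D τ s d0 64561751654400) : Nat.card (genW (sv s) oV) = 64 :=
  card_of_elem two_pos (oel b) (tge10 b)

theorem tge11 (b : Base D τ s d0 64561751654400) : GE s [[nat_lit 23, nat_lit 27, nat_lit 2, nat_lit 30, nat_lit 36, nat_lit 6, nat_lit 31, nat_lit 32, nat_lit 35, nat_lit 12, nat_lit 34, nat_lit 0, nat_lit 43], [nat_lit 46, nat_lit 31, nat_lit 2, nat_lit 30, nat_lit 47]] 4 :=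
  GE.step b.x (GE.base []) _ [] (nat_lit 0) [nat_lit 1, nat_lit 0] (nat_lit 4) 4 (by decide +kernel)

theorem tge12 (b : Base D τ s d0 64561751654400) : GE s [[nat_lit 19, nat_lit 26, nat_lit 2, nat_lit 27, nat_lit 53, nat_lit 32, nat_lit 12, nat_lit 10, nat_lit 34, nat_lit 36, nat_lit 38, nat_lit 43, nat_lit 16, nat_lit 12], [nat_lit 23, nat_lit 27, nat_lit 2, nat_lit 30, nat_lit 36, nat_lit 6, nat_lit 31, nat_lit 32, nat_lit 35, nat_lit 12, nat_lit 34, nat_lit 0, nat_lit 43], [nat_lit 34, nat_lit 8, nat_lit 21, nat_lit 51, nat_lit 29, nat_lit 41, nat_lit 33, nat_lit 10, nat_lit 16, nat_lit 37, nat_lit 0, nat_lit 14, nat_lit 42, nat_lit 16, nat_lit 12], [nat_lit 19, nat_lit 48, nat_lit 36, nat_lit 20, nat_lit 56, nat_lit 33, nat_lit 41, nat_lit 39, nat_lit 34, nat_lit 42, nat_lit 16], [nat_lit 13, nat_lit 41, nat_lit 34, nat_lit 41, nat_lit 31, nat_lit 39, nat_lit 46, nat_lit 7, nat_lit 22, nat_lit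 35]] 1440 :=
  GE.step b.x (tge11 b) _ [([nat_lit 46, nat_lit 31, nat_lit 2, nat_lit 30, nat_lit 47], [nat_lit 9, nat_lit 9, nat_lit 9])] (nat_lit 2527) [nat_lit 4, nat_lit 3, nat_lit 4, nat_lit 0, nat_lit 2, nat_lit 3, nat_lit 4, nat_lit 3, nat_lit 4, nat_lit 3, nat_lit 4, nat_lit 1, nat_lit 3, nat_lit 4] (nat_lit 360) 1440 (by decide +kernel)

theorem tge13 (b : Base D τ s d0 64561751654400) : GE s [[nat_lit 39, nat_lit 24, nat_lit 19, nat_lit 8, nat_lit 25, nat_lit 34, nat_lit 31, nat_lit 39, nat_lit 14, nat_lit 36, nat_lit 39, nat_lit 40, nat_lit 42, nat_lit 16], [nat_lit 23, nat_lit 27, nat_lit 20, nat_lit 44, nat_lit 27, nat_lit 16, nat_lit 32, nat_lit 14, nat_lit 34, nat_lit 34, nat_lit 4, nat_lit 16, nat_lit 38, nat_lit 43, nat_lit 12], [nat_lit 19, nat_lit 26, nat_lit 2, nat_lit 27, nat_lit 53, nat_lit 32, nat_lit 12, nat_lit 10, nat_lit 34, nat_lit 36, nat_lit 38, nat_lit 43, nat_lit 16, nat_lit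 12]] 3317760 :=
  GE.step b.x (tge12 b) _ [([nat_lit 23, nat_lit 27, nat_lit 2, nat_lit 30, nat_lit 36, nat_lit 6, nat_lit 31, nat_lit 32, nat_lit 35, nat_lit 12, nat_lit 34, nat_lit 0, nat_lit 43], [nat_lit 0, nat_lit 2, nat_lit 0, nat_lit 0, nat_lit 3]), ([nat_lit 34, nat_lit 8, nat_lit 21, nat_lit 51, nat_lit 29, nat_lit 41, nat_lit 33, nat_lit 10, nat_lit 16, nat_lit 37, nat_lit 0, nat_lit 14, nat_lit 42, nat_lit 16, nat_lit 12], [nat_lit 5, nat_lit 2, nat_lit 7, nat_lit 4, nat_lit 6, nat_lit 3, nat_lit 5]), ([nat_lit 19, nat_lit 48, nat_lit 36, nat_lit 20, nat_lit 56, nat_lit 33, nat_lit 41, nat_lit 39, nat_lit 34, nat_lit 42, nat_lit 16], [nat_lit 5, nat_lit 7, nat_lit 9, nat_lit 6, nat_lit 6, nat_lit 8, nat_lit 6, nat_lit 4]), ([nat_lit 13, nat_lit 41, nat_lit 34, nat_lit 41, nat_lit 31, nat_lit 39, nat_lit 46, nat_lit 7, nat_lit 22, nat_lit 35], [nat_lit 6, nat_lit 8, nat_lit 11, nat_lit 9, nat_lit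 10, nat_lit 6, nat_lit 8, nat_lit 10, nat_lit 9])] (nat_lit 2042) [nat_lit 0, nat_lit 1, nat_lit 0, nat_lit 2, nat_lit 1, nat_lit 0, nat_lit 2, nat_lit 1, nat_lit 0, nat_lit 2, nat_lit 1, nat_lit 0, nat_lit 2, nat_lit 1, nat_lit 0, nat_lit 1, nat_lit 2, nat_lit 0, nat_lit 1, nat_lit 0] (nat_lit 2304) 3317760 (by decide +kernel)

theorem tge14 (b : Base D τ s d0 64561751654400) : GE s [[nat_lit 21, nat_lit 2, nat_lit 20], [nat_lit 53, nat_lit 30, nat_lit 2, nat_lit 31, nat_lit 52], [nat_lit 28, nat_lit 44, nat_lit 2, nat_lit 45, nat_lit 29], [nat_lit 14], [nat_lit 57, nat_lit 23, nat_lit 44, nat_lit 22, nat_lit 56], [nat_lit 16, nat_lit 44, nat_lit 2, nat_lit 45, nat_lit 17], [nat_lit 42, nat_lit 28, nat_lit 19, nat_lit 28, nat_lit 25, nat_lit 30, nat_lit 40, nat_lit 37, nat_lit 8, nat_lit 16], [nat_lit 5, nat_lit 47, nat_lit 4, nat_lit 19, nat_lit 4, nat_lit 6, nat_lit 4, nat_lit 38, nat_lit 16, nat_lit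 12], [nat_lit 27, nat_lit 44, nat_lit 30, nat_lit 12, nat_lit 30, nat_lit 35, nat_lit 16, nat_lit 36, nat_lit 42, nat_lit 40], [nat_lit 4, nat_lit 47, nat_lit 4, nat_lit 19, nat_lit 8, nat_lit 6, nat_lit 4, nat_lit 0, nat_lit 38, nat_lit 16], [nat_lit 6, nat_lit 26, nat_lit 52, nat_lit 32, nat_lit 41, nat_lit 31, nat_lit 14, nat_lit 38, nat_lit 43, nat_lit 16], [nat_lit 57, nat_lit 30, nat_lit 39, nat_lit 19, nat_lit 52, nat_lit 52, nat_lit 10, nat_lit 32, nat_lit 37, nat_lit 34, nat_lit 39]] 3317760 :=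
  GE.sub b.x (tge13 b) _ [([nat_lit 39, nat_lit 24, nat_lit 19, nat_lit 8, nat_lit 25, nat_lit 34, nat_lit 31, nat_lit 39, nat_lit 14, nat_lit 36, nat_lit 39, nat_lit 40, nat_lit 42, nat_lit 16], [nat_lit 16, nat_lit 12, nat_lit 18, nat_lit 12, nat_lit 18, nat_lit 10, nat_lit 4, nat_lit 18]), ([nat_lit 23, nat_lit 27, nat_lit 20, nat_lit 44, nat_lit 27, nat_lit 16, nat_lit 32, nat_lit 14, nat_lit 34, nat_lit 34, nat_lit 4, nat_lit 16, nat_lit 38, nat_lit 43, nat_lit 12], [nat_lit 19, nat_lit 2, nat_lit 11, nat_lit 18, nat_lit 24, nat_lit 14, nat_lit 8, nat_lit 21]), ([nat_lit 19, nat_lit 26, nat_lit 2, nat_lit 27, nat_lit 53, nat_lit 32, nat_lit 12, nat_lit 10, nat_lit 34, nat_lit 36, nat_lit 38, nat_lit 43, nat_lit 16, nat_lit 12], [nat_lit 7, nat_lit 18, nat_lit 14, nat_lit 23, nat_lit 21, nat_lit 8, nat_lit 20, nat_lit 22])] (by decide +kernel)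

theorem oge (b : Base D τ s d0 64561751654400) : GE s (oU ++ oV) 3317760 :=
  (tge14 b)

theorem onz (b : Base D τ s d0 64561751654400) : genW (sv s) (oU ++ oV) ≤ Subgroup.normalizer (genW (sv s) oV : Set G) :=
  b.x.nz _ _ [[[nat_lit 0], [nat_lit 2], [nat_lit 4, nat_lit 6], [nat_lit 6], [nat_lit 6, nat_lit 8], [nat_lit 10]], [[nat_lit 0], [nat_lit 2], [nat_lit 4], [nat_lit 6], [nat_lit 0, nat_lit 8, nat_lit 10], [nat_lit 10]], [[nat_lit 0, nat_lit 4, nat_lit 10], [nat_lit 2], [nat_lit 10], [nat_lit 4, nat_lit 6, nat_lit 10], [nat_lit 4, nat_lit 8, nat_lit 10], [nat_lit 4]], [[nat_lit 0], [nat_lit 2], [nat_lit 4], [nat_lit 6], [nat_lit 8], [nat_lit 2, nat_lit 4, nat_lit 6, nat_lit 8, nat_lit 10]], [[nat_lit 0, nat_lit 2, nat_lit 6, nat_lit 10], [nat_lit 6, nat_lit 10], [nat_lit 2, nat_lit 4, nat_lit 6, nat_lit 10], [nat_lit 6], [nat_lit 2, nat_lit 6, nat_lit 8, nat_lit 10], [nat_lit 2, nat_lit 6]],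 [[nat_lit 0, nat_lit 2], [nat_lit 2], [nat_lit 2, nat_lit 4], [nat_lit 6], [nat_lit 2, nat_lit 8], [nat_lit 2, nat_lit 10]], [[nat_lit 0], [nat_lit 2], [nat_lit 4], [nat_lit 6], [nat_lit 8], [nat_lit 10]], [[nat_lit 0], [nat_lit 2], [nat_lit 4], [nat_lit 6], [nat_lit 8], [nat_lit 10]], [[nat_lit 0], [nat_lit 2], [nat_lit 4], [nat_lit 6], [nat_lit 8], [nat_lit 10]], [[nat_lit 0], [nat_lit 2], [nat_lit 4], [nat_lit 6], [nat_lit 8], [nat_lit 10]], [[nat_lit 0], [nat_lit 2], [nat_lit 4], [nat_lit 6], [nat_lit 8], [nat_lit 10]], [[nat_lit 0], [nat_lit 2], [nat_lit 4], [nat_lit 6], [nat_lit 8], [nat_lit 10]]] (by decide +kernel)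

theorem ucu1 (b : Base D τ s da 129123503308800) : CU ⊤ s [[nat_lit 12]] 36787322880 :=
  CU.down b.x le_rfl b.cu (nat_lit 0) [[nat_lit 0], [nat_lit 10], [nat_lit 18], [nat_lit 20], [nat_lit 22], [nat_lit 26], [nat_lit 28], [nat_lit 36], [nat_lit 38], [nat_lit 46], [nat_lit 48], [nat_lit 52]] [nat_lit 12] [nat_lit 1, nat_lit 2, nat_lit 3, nat_lit 5, nat_lit 6, nat_lit 9, nat_lit 4, nat_lit 8, nat_lit 3, nat_lit 11, nat_lit 2, nat_lit 6, nat_lit 7, nat_lit 10, nat_lit 0] (nat_lit 3510) 36787322880 (by decide +kernel)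

theorem ucu2 (b : Base D τ s da 129123503308800) : CU ⊤ s [[nat_lit 44], [nat_lit 12]] 13063680 :=
  CU.down b.x le_rfl (ucu1 b) (nat_lit 1) [[nat_lit 0], [nat_lit 2], [nat_lit 4], [nat_lit 6], [nat_lit 8], [nat_lit 12], [nat_lit 16], [nat_lit 38], [nat_lit 40], [nat_lit 42]] [nat_lit 44] [nat_lit 1, nat_lit 3, nat_lit 5, nat_lit 6, nat_lit 7, nat_lit 8, nat_lit 9, nat_lit 0, nat_lit 3, nat_lit 4, nat_lit 7, nat_lit 2, nat_lit 3, nat_lit 8, nat_lit 7, nat_lit 1, nat_lit 2, nat_lit 4, nat_lit 8, nat_lit 1] (nat_lit 2816) 13063680 (by decide +kernel)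

theorem ucu3 (b : Base D τ s da 129123503308800) : CU ⊤ s [[nat_lit 18, nat_lit 4, nat_lit 19], [nat_lit 44], [nat_lit 12]] 103680 :=
  CU.down b.x le_rfl (ucu2 b) (nat_lit 3) [[nat_lit 0], [nat_lit 8], [nat_lit 43, nat_lit 38, nat_lit 1, nat_lit 35, nat_lit 15, nat_lit 33, nat_lit 34, nat_lit 45, nat_lit 30, nat_lit 3, nat_lit 35, nat_lit 55], [nat_lit 20, nat_lit 38, nat_lit 19, nat_lit 37, nat_lit 24, nat_lit 6, nat_lit 36, nat_lit 34, nat_lit 4, nat_lit 0, nat_lit 38, nat_lit 40]] [nat_lit 18, nat_lit 4, nat_lit 19] [nat_lit 0, nat_lit 1, nat_lit 3, nat_lit 1, nat_lit 0, nat_lit 2, nat_lit 0, nat_lit 1, nat_lit 3, nat_lit 0, nat_lit 1, nat_lit 2, nat_lit 0, nat_lit 1, nat_lit 3] (nat_lit 126) 103680 (by decide +kernel)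

theorem ucu4 (b : Base D τ s da 129123503308800) : CU ⊤ s [[nat_lit 0], [nat_lit 18, nat_lit 4, nat_lit 19], [nat_lit 44], [nat_lit 12]] 1296 :=
  CU.down b.x le_rfl (ucu3 b) (nat_lit 7) [[nat_lit 25, nat_lit 37, nat_lit 20, nat_lit 27, nat_lit 39, nat_lit 35, nat_lit 4, nat_lit 42, nat_lit 39, nat_lit 42], [nat_lit 58, nat_lit 25, nat_lit 19, nat_lit 49, nat_lit 46, nat_lit 10, nat_lit 33, nat_lit 10, nat_lit 35, nat_lit 39, nat_lit 34, nat_lit 38, nat_lit 12]] [nat_lit 0] [nat_lit 0, nat_lit 1, nat_lit 0, nat_lit 1, nat_lit 0, nat_lit 1, nat_lit 0, nat_lit 0, nat_lit 1, nat_lit 0, nat_lit 1, nat_lit 0] (nat_lit 80) 1296 (by decide +kernel)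

theorem ucu5 (b : Base D τ s da 129123503308800) : CU ⊤ s [[nat_lit 12], [nat_lit 18, nat_lit 4, nat_lit 19], [nat_lit 44], [nat_lit 0]] 1296 :=
  CU.sub (ucu4 b) [[nat_lit 12], [nat_lit 18, nat_lit 4, nat_lit 19], [nat_lit 44], [nat_lit 0]] (by decide +kernel)

theorem ucu6 (b : Base D τ s da 129123503308800) : CU ⊤ s [[nat_lit 44], [nat_lit 0], [nat_lit 58]] 1296 :=
  CU.clo b.x [[nat_lit 44], [nat_lit 0], [nat_lit 58]] [[nat_lit 12], [nat_lit 18, nat_lit 4, nat_lit 19]] (CU.sub (ucu5 b) _ (by decide +kernel)) [nat_lit 0, nat_lit 1] [[nat_lit 0], [nat_lit 2], [nat_lit 4]] [nat_lit 2, nat_lit 0, nat_lit 1] (by decide +kernel)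

theorem ucu7 (b : Base D τ s da 129123503308800) : CU ⊤ s [[nat_lit 0], [nat_lit 58]] 663552 :=
  CU.up b.x le_rfl b.ns (ucu6 b) (nat_lit 1) [] (SE.diff (SE.fx [nat_lit 0]) (SE.fx [nat_lit 2, nat_lit 0, nat_lit 3])) [] (nat_lit 512) 663552 NCs.nil (by decide +kernel)

theorem ucu8 (b : Base D τ s da 129123503308800) : CU ⊤ s [[nat_lit 58]] 2090188800 :=
  CU.up b.x le_rfl b.ns (ucu7 b) (nat_lit 0) [] (SE.diff SE.all (SE.fx [nat_lit 0])) [] (nat_lit 3150) 2090188800 NCs.nil (by decide +kernel)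

theorem ucu9 (b : Base D τ s da 129123503308800) : CU ⊤ s [[nat_lit 19, nat_lit 48, nat_lit 6, nat_lit 49, nat_lit 18], [nat_lit 18, nat_lit 4, nat_lit 19], [nat_lit 44], [nat_lit 12]] 240 :=
  CU.down b.x le_rfl (ucu3 b) (nat_lit 7) [[nat_lit 38, nat_lit 40, nat_lit 37, nat_lit 34, nat_lit 31, nat_lit 40, nat_lit 11, nat_lit 45, nat_lit 42, nat_lit 19, nat_lit 25, nat_lit 35, nat_lit 59], [nat_lit 13, nat_lit 43, nat_lit 39, nat_lit 43, nat_lit 35, nat_lit 37, nat_lit 15, nat_lit 17, nat_lit 7, nat_lit 41, nat_lit 43, nat_lit 3, nat_lit 5], [nat_lit 36, nat_lit 22, nat_lit 29, nat_lit 19, nat_lit 37, nat_lit 52, nat_lit 14, nat_lit 33, nat_lit 40, nat_lit 35, nat_lit 0, nat_lit 16, nat_lit 12]] [nat_lit 19, nat_lit 48, nat_lit 6, nat_lit 49, nat_lit 18] [nat_lit 0, nat_lit 1, nat_lit 2, nat_lit 0, nat_lit 1, nat_lit 2, nat_lit 0, nat_lit 1, nat_lit 2, nat_lit 0, nat_lit 1, nat_lit 2, nat_lit 0] (nat_lit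 432) 240 (by decide +kernel)

theorem ucu10 (b : Base D τ s da 129123503308800) : CU ⊤ s [[nat_lit 27, nat_lit 30, nat_lit 2, nat_lit 31, nat_lit 26], [nat_lit 19, nat_lit 48, nat_lit 6, nat_lit 49, nat_lit 18], [nat_lit 18, nat_lit 4, nat_lit 19], [nat_lit 44], [nat_lit 12]] 2 :=
  CU.down b.x le_rfl (ucu9 b) (nat_lit 15) [[nat_lit 37, nat_lit 31, nat_lit 54, nat_lit 21, nat_lit 36, nat_lit 27, nat_lit 16, nat_lit 31, nat_lit 37, nat_lit 4, nat_lit 0, nat_lit 42], [nat_lit 40, nat_lit 37, nat_lit 34, nat_lit 13, nat_lit 32, nat_lit 38, nat_lit 47, nat_lit 5, nat_lit 20, nat_lit 22, nat_lit 51, nat_lit 59]] [nat_lit 27, nat_lit 30, nat_lit 2, nat_lit 31, nat_lit 26] [nat_lit 0, nat_lit 1, nat_lit 0, nat_lit 1, nat_lit 0, nat_lit 1, nat_lit 0, nat_lit 1, nat_lit 0, nat_lit 1, nat_lit 0, nat_lit 1, nat_lit 1, nat_lit 0, nat_lit 0] (nat_lit 120) 2 (by decide +kernel)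

theorem ucu11 (b : Base D τ s da 129123503308800) : CU ⊤ s [[nat_lit 36, nat_lit 18, nat_lit 6, nat_lit 19, nat_lit 37], [nat_lit 27, nat_lit 48, nat_lit 4, nat_lit 49, nat_lit 26], [nat_lit 20, nat_lit 8, nat_lit 21], [nat_lit 52, nat_lit 44, nat_lit 53], [nat_lit 21, nat_lit 2, nat_lit 20]] 2 :=
  CU.mono b.x le_rfl (ucu10 b) [[nat_lit 36, nat_lit 18, nat_lit 6, nat_lit 19, nat_lit 37], [nat_lit 27, nat_lit 48, nat_lit 4, nat_lit 49, nat_lit 26], [nat_lit 20, nat_lit 8, nat_lit 21], [nat_lit 52, nat_lit 44, nat_lit 53], [nat_lit 21, nat_lit 2, nat_lit 20]] [nat_lit 56, nat_lit 18, nat_lit 34, nat_lit 50, nat_lit 10, nat_lit 40, nat_lit 10, nat_lit 36, nat_lit 43, nat_lit 36, nat_lit 42, nat_lit 16, nat_lit 12] [[nat_lit 6], [nat_lit 4], [nat_lit 8], [nat_lit 2], [nat_lit 0]] (by decide +kernel)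

theorem ucu12 (b : Base D τ s da 129123503308800) : CU ⊤ s [[nat_lit 36, nat_lit 18, nat_lit 6, nat_lit 19, nat_lit 37], [nat_lit 27, nat_lit 48, nat_lit 4, nat_lit 49, nat_lit 26], [nat_lit 20, nat_lit 8, nat_lit 21], [nat_lit 52, nat_lit 44, nat_lit 53], [nat_lit 21, nat_lit 2, nat_lit 20], [nat_lit 58, nat_lit 14]] 2 :=
  CU.clo b.x [[nat_lit 36, nat_lit 18, nat_lit 6, nat_lit 19, nat_lit 37], [nat_lit 27, nat_lit 48, nat_lit 4, nat_lit 49, nat_lit 26], [nat_lit 20, nat_lit 8, nat_lit 21], [nat_lit 52, nat_lit 44, nat_lit 53], [nat_lit 21, nat_lit 2, nat_lit 20], [nat_lit 58, nat_lit 14]] [] (CU.sub (ucu11 b) _ (by decide +kernel)) [nat_lit 0, nat_lit 1, nat_lit 2, nat_lit 3, nat_lit 4] [[nat_lit 0], [nat_lit 2], [nat_lit 4], [nat_lit 6], [nat_lit 8], [nat_lit 10]] [] (by decide +kernel)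

theorem ucu13 (b : Base D τ s da 129123503308800) : CU ⊤ s [[nat_lit 27, nat_lit 48, nat_lit 4, nat_lit 49, nat_lit 26], [nat_lit 20, nat_lit 8, nat_lit 21], [nat_lit 52, nat_lit 44, nat_lit 53], [nat_lit 21, nat_lit 2, nat_lit 20], [nat_lit 58, nat_lit 14]] 8 :=
  CU.up b.x le_rfl b.ns (ucu12 b) (nat_lit 15) [] (SE.diff (SE.diff (SE.and (SE.diff (SE.fx [nat_lit 8]) (SE.fx [nat_lit 2])) (SE.fx [nat_lit 6])) (SE.fx [nat_lit 0])) (SE.fx [nat_lit 4])) [] (nat_lit 4) 8 NCs.nil (by decide +kernel)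

theorem ucu14 (b : Base D τ s da 129123503308800) : CU ⊤ s [[nat_lit 20, nat_lit 8, nat_lit 21], [nat_lit 52, nat_lit 44, nat_lit 53], [nat_lit 21, nat_lit 2, nat_lit 20], [nat_lit 58, nat_lit 14]] 72 :=
  CU.up b.x le_rfl b.ns (ucu13 b) (nat_lit 7) [] (SE.diff (SE.diff (SE.and (SE.diff (SE.fx [nat_lit 6]) (SE.fx [nat_lit 0])) (SE.fx [nat_lit 4])) (SE.fx [nat_lit 2])) (SE.tp (nat_lit 2))) [] (nat_lit 9) 72 NCs.nil (by decide +kernel)

theorem ucu15 (b : Base D τ s da 129123503308800) : CU ⊤ s [[nat_lit 52, nat_lit 44, nat_lit 53], [nat_lit 21, nat_lit 2, nat_lit 20], [nat_lit 58, nat_lit 14]] 2304 :=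
  CU.up b.x le_rfl b.ns (ucu14 b) (nat_lit 3) [] (SE.diff (SE.fx [nat_lit 4]) (SE.fx [nat_lit 2])) [] (nat_lit 32) 2304 NCs.nil (by decide +kernel)

theorem ucu16 (b : Base D τ s da 129123503308800) : CU ⊤ s [[nat_lit 21, nat_lit 2, nat_lit 20], [nat_lit 58, nat_lit 14]] 92160 :=
  CU.up b.x le_rfl b.ns (ucu15 b) (nat_lit 1) [] (SE.diff (SE.fx [nat_lit 2, nat_lit 0]) (SE.fx [nat_lit 0])) [] (nat_lit 40) 92160 NCs.nil (by decide +kernel)

theorem unc17 (b : Base D τ s da 129123503308800) : NC ⊤ s [[nat_lit 21, nat_lit 2, nat_lit 20], [nat_lit 58, nat_lit 14]] [[nat_lit 14], [nat_lit 58, nat_lit 14]] :=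
  NC.pc b.x b.ns _ _ (SE.and (SE.fx [nat_lit 0]) (SE.fx [nat_lit 2])) (by decide +kernel)

theorem ucu18 (b : Base D τ s da 129123503308800) : CU ⊤ s [[nat_lit 58, nat_lit 14]] 5806080 :=
  CU.up b.x le_rfl b.ns (ucu16 b) (nat_lit 0) [] (SE.fx [nat_lit 0]) [([nat_lit 14], [])] (nat_lit 63) 5806080 (NCs.cons (unc17 b) NCs.nil) (by decide +kernel)

theorem ucu19 (b : Base D τ s da 129123503308800) : CU ⊤ s [[nat_lit 14, nat_lit 29, nat_lit 21, nat_lit 0, nat_lit 20, nat_lit 28, nat_lit 15], [nat_lit 44], [nat_lit 12]] 7776 :=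
  CU.down b.x le_rfl (ucu2 b) (nat_lit 3) [[nat_lit 0], [nat_lit 8], [nat_lit 17, nat_lit 35, nat_lit 15, nat_lit 39, nat_lit 11, nat_lit 38, nat_lit 24, nat_lit 28, nat_lit 24, nat_lit 19, nat_lit 19], [nat_lit 58, nat_lit 31, nat_lit 19, nat_lit 39, nat_lit 28, nat_lit 42, nat_lit 32, nat_lit 10, nat_lit 34, nat_lit 42, nat_lit 16, nat_lit 12]] [nat_lit 14, nat_lit 29, nat_lit 21, nat_lit 0, nat_lit 20, nat_lit 28, nat_lit 15] [nat_lit 0, nat_lit 1, nat_lit 2, nat_lit 0, nat_lit 1, nat_lit 3, nat_lit 1, nat_lit 0, nat_lit 2, nat_lit 1, nat_lit 0, nat_lit 3, nat_lit 1, nat_lit 0, nat_lit 2, nat_lit 1, nat_lit 0, nat_lit 2, nat_lit 1, nat_lit 0, nat_lit 2] (nat_lit 1680) 7776 (by decide +kernel)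

theorem ucu20 (b : Base D τ s da 129123503308800) : CU ⊤ s [[nat_lit 23, nat_lit 20, nat_lit 4, nat_lit 21, nat_lit 22], [nat_lit 14, nat_lit 29, nat_lit 21, nat_lit 0, nat_lit 20, nat_lit 28, nat_lit 15], [nat_lit 44], [nat_lit 12]] 32 :=
  CU.down b.x le_rfl (ucu19 b) (nat_lit 7) [[nat_lit 38, nat_lit 28, nat_lit 19, nat_lit 36, nat_lit 25, nat_lit 12, nat_lit 10, nat_lit 0, nat_lit 41, nat_lit 39, nat_lit 42], [nat_lit 15, nat_lit 36, nat_lit 38, nat_lit 40, nat_lit 11, nat_lit 13, nat_lit 27, nat_lit 39, nat_lit 18, nat_lit 28, nat_lit 49, nat_lit 59], [nat_lit 13, nat_lit 38, nat_lit 17, nat_lit 1, nat_lit 35, nat_lit 42, nat_lit 11, nat_lit 37, nat_lit 32, nat_lit 29, nat_lit 52, nat_lit 18, nat_lit 55]] [nat_lit 23, nat_lit 20, nat_lit 4, nat_lit 21, nat_lit 22] [nat_lit 0, nat_lit 1, nat_lit 2, nat_lit 0, nat_lit 1, nat_lit 2, nat_lit 0, nat_lit 1, nat_lit 2, nat_lit 0, nat_lit 2, nat_lit 0]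 (nat_lit 243) 32 (by decide +kernel)

theorem ucu21 (b : Base D τ s da 129123503308800) : CU ⊤ s [[nat_lit 48, nat_lit 25, nat_lit 21, nat_lit 2, nat_lit 20, nat_lit 24, nat_lit 49], [nat_lit 23, nat_lit 20, nat_lit 4, nat_lit 21, nat_lit 22], [nat_lit 14, nat_lit 29, nat_lit 21, nat_lit 0, nat_lit 20, nat_lit 28, nat_lit 15], [nat_lit 44], [nat_lit 12]] 2 :=
  CU.down b.x le_rfl (ucu20 b) (nat_lit 15) [[nat_lit 29, nat_lit 14, nat_lit 54, nat_lit 12, nat_lit 10, nat_lit 36, nat_lit 35, nat_lit 43, nat_lit 39, nat_lit 43], [nat_lit 13, nat_lit 17, nat_lit 41, nat_lit 38, nat_lit 37, nat_lit 13, nat_lit 11, nat_lit 31, nat_lit 42, nat_lit 49, nat_lit 3, nat_lit 28, nat_lit 28], [nat_lit 33, nat_lit 2, nat_lit 23, nat_lit 31, nat_lit 27, nat_lit 8, nat_lit 10, nat_lit 34, nat_lit 4, nat_lit 40, nat_lit 8, nat_lit 43, nat_lit 16], [nat_lit 58, nat_lit 19, nat_lit 20, nat_lit 2, nat_lit 55, nat_lit 29, nat_lit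 37, nat_lit 39, nat_lit 10, nat_lit 43, nat_lit 38, nat_lit 42, nat_lit 16, nat_lit 12]] [nat_lit 48, nat_lit 25, nat_lit 21, nat_lit 2, nat_lit 20, nat_lit 24, nat_lit 49] [nat_lit 0, nat_lit 1, nat_lit 2, nat_lit 3] (nat_lit 16) 2 (by decide +kernel)

theorem ucu22 (b : Base D τ s da 129123503308800) : CU ⊤ s [[nat_lit 51, nat_lit 8, nat_lit 50], [nat_lit 54, nat_lit 29, nat_lit 2, nat_lit 28, nat_lit 55], [nat_lit 36, nat_lit 2, nat_lit 37], [nat_lit 54, nat_lit 23, nat_lit 2, nat_lit 22, nat_lit 55], [nat_lit 14]] 2 :=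
  CU.mono b.x le_rfl (ucu21 b) [[nat_lit 51, nat_lit 8, nat_lit 50], [nat_lit 54, nat_lit 29, nat_lit 2, nat_lit 28, nat_lit 55], [nat_lit 36, nat_lit 2, nat_lit 37], [nat_lit 54, nat_lit 23, nat_lit 2, nat_lit 22, nat_lit 55], [nat_lit 14]] [nat_lit 17, nat_lit 43, nat_lit 39, nat_lit 15, nat_lit 35, nat_lit 17, nat_lit 31, nat_lit 9, nat_lit 52, nat_lit 51, nat_lit 18, nat_lit 13, nat_lit 49, nat_lit 59] [[nat_lit 6], [nat_lit 4], [nat_lit 8], [nat_lit 2], [nat_lit 0]] (by decide +kernel)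

theorem ucu23 (b : Base D τ s da 129123503308800) : CU ⊤ s [[nat_lit 51, nat_lit 8, nat_lit 50], [nat_lit 54, nat_lit 29, nat_lit 2, nat_lit 28, nat_lit 55], [nat_lit 36, nat_lit 2, nat_lit 37], [nat_lit 54, nat_lit 23, nat_lit 2, nat_lit 22, nat_lit 55], [nat_lit 14], [nat_lit 58, nat_lit 14, nat_lit 21, nat_lit 6, nat_lit 20]] 2 :=
  CU.clo b.x [[nat_lit 51, nat_lit 8, nat_lit 50], [nat_lit 54, nat_lit 29, nat_lit 2, nat_lit 28, nat_lit 55], [nat_lit 36, nat_lit 2, nat_lit 37], [nat_lit 54, nat_lit 23, nat_lit 2, nat_lit 22, nat_lit 55], [nat_lit 14], [nat_lit 58, nat_lit 14, nat_lit 21, nat_lit 6, nat_lit 20]] [] (CU.sub (ucu22 b) _ (by decide +kernel)) [nat_lit 0, nat_lit 1, nat_lit 2, nat_lit 3, nat_lit 4] [[nat_lit 0], [nat_lit 2], [nat_lit 4], [nat_lit 6], [nat_lit 8], [nat_lit 10]] [] (by decide +kernel)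

theorem ucu24 (b : Base D τ s da 129123503308800) : CU ⊤ s [[nat_lit 54, nat_lit 29, nat_lit 2, nat_lit 28, nat_lit 55], [nat_lit 36, nat_lit 2, nat_lit 37], [nat_lit 54, nat_lit 23, nat_lit 2, nat_lit 22, nat_lit 55], [nat_lit 14], [nat_lit 58, nat_lit 14, nat_lit 21, nat_lit 6, nat_lit 20]] 8 :=
  CU.up b.x le_rfl b.ns (ucu23 b) (nat_lit 15) [] (SE.diff (SE.and (SE.diff (SE.fx [nat_lit 8, nat_lit 6]) (SE.fx [nat_lit 6])) (SE.fx [nat_lit 0, nat_lit 2, nat_lit 0])) (SE.fx [nat_lit 8, nat_lit 2, nat_lit 9])) [] (nat_lit 4) 8 NCs.nil (by decide +kernel)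

theorem ucu25 (b : Base D τ s da 129123503308800) : CU ⊤ s [[nat_lit 36, nat_lit 2, nat_lit 37], [nat_lit 54, nat_lit 23, nat_lit 2, nat_lit 22, nat_lit 55], [nat_lit 14], [nat_lit 58, nat_lit 14, nat_lit 21, nat_lit 6, nat_lit 20]] 72 :=
  CU.up b.x le_rfl b.ns (ucu24 b) (nat_lit 7) [] (SE.diff (SE.diff (SE.diff (SE.and (SE.fx [nat_lit 6]) (SE.fx [nat_lit 2])) (SE.fx [nat_lit 0])) (SE.fx [nat_lit 4])) (SE.tp (nat_lit 1))) [] (nat_lit 9) 72 NCs.nil (by decide +kernel)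

theorem ucu26 (b : Base D τ s da 129123503308800) : CU ⊤ s [[nat_lit 54, nat_lit 23, nat_lit 2, nat_lit 22, nat_lit 55], [nat_lit 14], [nat_lit 58, nat_lit 14, nat_lit 21, nat_lit 6, nat_lit 20]] 2304 :=
  CU.up b.x le_rfl b.ns (ucu25 b) (nat_lit 3) [] (SE.diff (SE.fx [nat_lit 4, nat_lit 0]) (SE.fx [nat_lit 0])) [] (nat_lit 32) 2304 NCs.nil (by decide +kernel)

theorem ucu27 (b : Base D τ s da 129123503308800) : CU ⊤ s [[nat_lit 14], [nat_lit 58, nat_lit 14, nat_lit 21, nat_lit 6, nat_lit 20]] 92160 :=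
  CU.up b.x le_rfl b.ns (ucu26 b) (nat_lit 1) [] (SE.diff (SE.fx [nat_lit 2]) (SE.fx [nat_lit 0])) [] (nat_lit 40) 92160 NCs.nil (by decide +kernel)

theorem ucu28 (b : Base D τ s da 129123503308800) : CU ⊤ s [[nat_lit 58, nat_lit 14, nat_lit 21, nat_lit 6, nat_lit 20]] 6635520 :=
  CU.up b.x le_rfl b.ns (ucu27 b) (nat_lit 0) [] (SE.fx [nat_lit 0]) [] (nat_lit 72) 6635520 NCs.nil (by decide +kernel)

theorem cs (b : Base D τ s da 129123503308800) : CU ⊤ s [[nat_lit 58]] (2 * 1045094400) :=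
  (ucu8 b)

theorem csa (b : Base D τ s da 129123503308800) : CU ⊤ s [[nat_lit 58, nat_lit 14]] (2 * 2903040) :=
  (ucu18 b)

theorem csab (b : Base D τ s da 129123503308800) : CU ⊤ s [[nat_lit 58, nat_lit 14, nat_lit 21, nat_lit 6, nat_lit 20]] (2 * 3317760) :=
  (ucu28 b)

theorem unc29 (b : Base D τ s da 129123503308800) : NC ⊤ s [[nat_lit 58]] [[nat_lit 58, nat_lit 14]] :=
  NC.pc b.x b.ns _ _ (SE.fx [nat_lit 0]) (by decide +kernel)

theorem n1 (b : Base D τ s da 129123503308800) : NC ⊤ s [[nat_lit 58]] [[nat_lit 58, nat_lit 14]] :=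
  (unc29 b)

theorem unc30 (b : Base D τ s da 129123503308800) : NC ⊤ s [[nat_lit 58]] [[nat_lit 58, nat_lit 14, nat_lit 21, nat_lit 6, nat_lit 20]] :=
  NC.pc b.x b.ns _ _ (SE.fx [nat_lit 0]) (by decide +kernel)

theorem n2 (b : Base D τ s da 129123503308800) : NC ⊤ s [[nat_lit 58]] [[nat_lit 58, nat_lit 14, nat_lit 21, nat_lit 6, nat_lit 20]] :=
  (unc30 b)

theorem unc31 (b : Base D τ s da 129123503308800) : NC ⊤ s [[nat_lit 58, nat_lit 14]] [[nat_lit 58, nat_lit 14, nat_lit 21, nat_lit 6, nat_lit 20]] :=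
  NC.pc b.x b.ns _ _ (SE.fx [nat_lit 0]) (by decide +kernel)

theorem n3 (b : Base D τ s da 129123503308800) : NC ⊤ s [[nat_lit 58, nat_lit 14]] [[nat_lit 58, nat_lit 14, nat_lit 21, nat_lit 6, nat_lit 20]] :=
  (unc31 b)

end

/-- Let G be a finite group with trivial centre generated by a conjugation-invariant set D of 3-transpositions on which it acts primitively, such that for some d in D the subgroup generated by the members of D other than d commuting with d has central largest normal 2- and 3-subgroups, and suppose G with D is of type M(22). Then G has a non-inner automorphism s of order 2 whose fixed-point subgroup is isomorphic to the full automorphism group of Ω⁺(8, 2) (the commutator subgroup of the isometry group of the hyperbolic quadratic form in dimension 8 over the field with two elements), together with distinct commuting members a, b of D fixed by s such that: s, s composed with conjugation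 by a, and s composed with conjugation by a b represent the three classes (under the automorphism group) of non-inner automorphisms of order 2; the elements fixed by the automorphism s composed with conjugation by a are exactly those fixed by s and commuting with a, and they form a group isomorphic to the direct product of a group of order 2 and the symplectic group of dimension 6 over the field with two elements; and the elements fixed by the automorphism s composed with conjugation by a b form a group whose largest normal 2-subgroup is elementary abelian of order 64 with quotient isomorphic to the full isometry group of the elliptic quadratic form in dimension 6 over the field with two elements. -/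
theorem result {G : Type*} [Group G] [Finite G] {D : Set G} (hD : Cfsg.IsThreeTranspositionGroup D) (hprim : Cfsg.IsPrimitiveUnderConj D) (d₀ : G) (hd₀ : d₀ ∈ D) (h3 : Cfsg.pCore 3 ↥(Subgroup.closure {y : G | y ∈ D ∧ y ≠ d₀ ∧ Commute d₀ y}) ≤ Subgroup.center ↥(Subgroup.closure {y : G | y ∈ D ∧ y ≠ d₀ ∧ Commute d₀ y})) (h2 : Cfsg.pCore 2 ↥(Subgroup.closure {y : G | y ∈ D ∧ y ≠ d₀ ∧ Commute d₀ y}) ≤ Subgroup.center ↥(Subgroup.closure {y : G | y ∈ D ∧ y ≠ d₀ ∧ Commute d₀ y})) (h22 : Cfsg.IsOfTypeM22 G D) : ∃ (s : MulAut G) (a b : G) (Cs : Subgroup G), orderOf s = 2 ∧ s ∉ (MulAut.conj : G →* MulAut G).range ∧ (∀ g : G, g ∈ Cs ↔ s g = g) ∧ Nonempty (↥Cs ≃* MulAut (Cfsg.Omega (ZMod 2) (Cfsg.quadFormPlus 4 (ZMod 2)))) ∧ a ∈ D ∧ b ∈ D ∧ a ≠ b ∧ Commute a b ∧ s a = a ∧ s b = b ∧ (∀ t : MulAut G, orderOf t = 2 → t ∉ (MulAut.conj : G →* MulAut G).range → (IsConj t s ∨ IsConj t (s * MulAut.conj a) ∨ IsConj t (s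 * MulAut.conj (a * b)))) ∧ ¬ IsConj s (s * MulAut.conj a) ∧ ¬ IsConj s (s * MulAut.conj (a * b)) ∧ ¬ IsConj (s * MulAut.conj a) (s * MulAut.conj (a * b)) ∧ (∀ g : G, (s * MulAut.conj a) g = g ↔ g ∈ Cs ⊓ Subgroup.centralizer ({a} : Set G)) ∧ Nonempty (↥(Cs ⊓ Subgroup.centralizer ({a} : Set G)) ≃* Multiplicative (ZMod 2) × Cfsg.PSp 3 (ZMod 2)) ∧ ∃ Csab O : Subgroup G, (∀ g : G, g ∈ Csab ↔ (s * MulAut.conj (a * b)) g = g) ∧ O = (Cfsg.pCore 2 ↥Csab).map Csab.subtype ∧ Cfsg.IsElementaryAbelian 2 O ∧ Nat.card O = 64 ∧ ∃ _ : (O.subgroupOf Csab).Normal, Nonempty (↥Csab ⧸ O.subgroupOf Csab ≃* Cfsg.isometryGroup (ZMod 2) (Cfsg.quadFormMinus 2 (ZMod 2) 1 1)) := by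
  obtain ⟨τ, s, b⟩ := exists_base hD h22
  have hz := h22.1
  obtain ⟨s', b', hs, hn⟩ := aut_base b (class_of_group hD ⟨_, hd₀⟩ hprim.1) hz
  have : Finite (MulAut G) := Finite.of_injective _ DFunLike.coe_injective
  have e0 : E s' [nat_lit 58] = s' 29 := by simp [E, sv]
  have ew : ∀ w, ltB 29 [w] = true → E s' (nat_lit 58 :: w) = E s' [nat_lit 58] * MulAut.conj (E s w) :=
    fun w hw => by rw [← hs w hw]; simp [E]
  have e1 := ew [nat_lit 14] (by decide +kernel)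
  have e2 := ew [nat_lit 14, nat_lit 21, nat_lit 6, nat_lit 20] (by decide +kernel)
  rw [show E s [nat_lit 14, nat_lit 21, nat_lit 6, nat_lit 20] = E s [nat_lit 14] * E s [nat_lit 21, nat_lit 6, nat_lit 20] by simp [E]] at e2
  have hn' : ∀ g, E s' [nat_lit 58] * MulAut.conj g ∉ Inn G := fun g h =>
    hn (e0 ▸ ((Inn G).mul_mem_cancel_right ⟨g, rfl⟩).1 h)
  have f0 := fix_eq hz hs (e0 ▸ hn) (cs b') (by decide +kernel) (iWge b)
    (b'.x.com_le le_rfl (F := nat_lit 0) (by decide +kernel))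
  have f1 := fix_eq hz hs (e1 ▸ hn' _) (csa b') (by decide +kernel) (sge b)
    (b'.x.com_le le_rfl (F := nat_lit 0) (by decide +kernel))
  have f2 := fix_eq hz hs (e2 ▸ hn' _) (csab b') (by decide +kernel) (oge b)
    (b'.x.com_le le_rfl (F := nat_lit 0) (by decide +kernel))
  have fx : ∀ W, ltB 29 W = true → da.com W [[nat_lit 58]] (nat_lit 0) = true → genW (sv s) W ≤ genW (sv s) iW :=
    fun W h1 h2 => genW_le_iff.2 fun w hw => (f0.1 _).2 ((aut_comm_iff hz _ _).1 (by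
      rw [← hs w (ltB_iff.2 (by simpa using ltB_iff.1 h1 w hw))]
      exact (b'.x.com h2 _ (by simp) w hw).symm))
  have hab := genW_le_iff.1 (fx [[nat_lit 14], [nat_lit 21, nat_lit 6, nat_lit 20]] (by decide +kernel) (by decide +kernel))
  have hq := b.clq_facts [[nat_lit 14], [nat_lit 21, nat_lit 6, nat_lit 20]] (by decide +kernel) 1
  simp only [List.map_cons, List.map_nil, one_mul, inv_one, mul_one, List.forall_mem_cons,
    List.nodup_cons, List.mem_singleton, forall_eq] at hq hab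
  have hc : genW (sv s) ([nat_lit 14] :: sU) = genW (sv s) iW ⊓ centralizer {E s [nat_lit 14]} := by
    refine le_antisymm (le_inf (fx _ (by decide +kernel) (by decide +kernel)) ?_) fun g hg => (f1.1 g).2 ?_
    · rw [← Cen_top1]
      exact b.x.com_le le_rfl (F := nat_lit 1) (by decide +kernel)
    · rw [e1, MulAut.mul_apply, MulAut.conj_apply, (mem_cent1.1 hg.2).eq, mul_inv_cancel_right]
      exact (f0.1 g).1 hg.1
  have hle : genW (sv s) sU ≤ genW (sv s) ([nat_lit 14] :: sU) :=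
    genW_le_iff.2 fun _ hw => ev_mem_genW (List.mem_cons_of_mem _ hw)
  have hN : ((genW (sv s) oV).subgroupOf (genW (sv s) (oU ++ oV))).Normal :=
    normal_subgroupOf_of_le_normalizer (onz b)
  obtain ⟨q⟩ := b.x.quot univ_o6 oU oV [[], [], [], [], [], [], [], [], [], [], [], [], [], [], [], [], [], [], [], [], [], [], [], [], [], [], [], [], [], [], [], [], [], [], [], []] rfl rfl (by rw [f2.2, ocard b, card_o6]) (by decide +kernel)
  refine ⟨E s' [nat_lit 58], E s [nat_lit 14], E s [nat_lit 21, nat_lit 6, nat_lit 20], _, ?_, e0 ▸ hn, f0.1, (iWiso b).2, hq.2.1.1, hq.2.1.2, hq.1.1,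
    hq.2.2.1.2, (f0.1 _).1 hab.1, (f0.1 _).1 hab.2, fun t ht hi => ?_, e1 ▸ (n1 b').not_isConj,
    e2 ▸ (n2 b').not_isConj, e1 ▸ e2 ▸ (n3 b').not_isConj, fun g => by rw [← hc, f1.1, e1], ?_,
    _, genW (sv s) oV, e2 ▸ f2.1, ?_, oel b, ocard b, hN,
    ⟨q.trans ((Orth.toOG _).symm.trans (MulEquiv.subgroupCongr (by rw [Orth.coe_minusQ])))⟩⟩
  · rw [← Nat.card_zpowers]
    exact b'.x.card1 _ 2 (nat_lit 0) Nat.prime_two (by decide +kernel)
  · rcases clsA b' (ht ▸ pow_orderOf_eq_one t) with rfl | ⟨r, hr, g, e⟩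
    · simp at ht
    have h1 : ltB 29 [r] = true → False := fun h => hi (by
      rw [show t = g⁻¹ * E s' r * g⁻¹⁻¹ by rw [← e]; group, hs r h, aut_cj]
      exact ⟨_, rfl⟩)
    have h2 : IsConj t (E s' r) := isConj_iff.2 ⟨g, e⟩
    simp only [List.mem_cons, List.not_mem_nil, or_false] at hr
    rcases hr with rfl | rfl | rfl | rfl | rfl | rfl
    exacts [(h1 (by decide +kernel)).elim, (h1 (by decide +kernel)).elim,
      (h1 (by decide +kernel)).elim, .inl h2, .inr (.inl (e1 ▸ h2)), .inr (.inr (e2 ▸ h2))]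
  · obtain ⟨e⟩ := (sUiso b).2
    obtain ⟨e'⟩ := SchurG.S62.exists_iso (ZMod 2) (ZMod.card 2)
    have h2 : E s [nat_lit 14] * E s [nat_lit 14] = 1 := by
      rw [← pow_two, ← (hD.1.1 _ hq.2.1.1), pow_orderOf_eq_one]
    obtain ⟨p⟩ := prod_two h2 (ev_mem_genW List.mem_cons_self) hle
      (fun y hy => mem_cent1.1 (hc.le (hle hy)).2) (fun h => by
        have := card_le_of_le (genW_le_iff.2 (List.forall_mem_cons.2 ⟨h, genW_le_iff.1 le_rfl⟩))
        rw [f1.2, (sUiso b).1] at this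
        omega) (by rw [f1.2, (sUiso b).1])
    exact hc ▸ ⟨p.trans ((MulEquiv.refl _).prodCongr (e.trans e'))⟩
  · rw [core_eq (IsPGroup.of_card (n := 6) (ocard b)) q o6_core, subgroupOf_map_subtype,
      genW_append, inf_eq_left.2 le_sup_right]

end Cfsg.Agent.S5472
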