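import Cfsg.Statements.S5473
import Mathlib
import Cfsg.Agent.Fischer.QB
import Cfsg.Agent.Fischer.QC
import Cfsg.Agent.Fischer.A22

set_option autoImplicit false
open Cfsg

namespace Cfsg.Agent.S5473

open Fischer Comp FiC FiC.F22 Subgroup
set_option maxRecDepth 100000
set_option linter.unusedSectionVars false
set_option linter.unusedVariables false

section
variable {G : Type*} [Group G] [Finite G] {D : Set G} {τ s : ℕ → G}

noncomputable def aU : List (List Nat) := [[nat_lit 18, nat_lit 14, nat_lit 44, nat_lit 38, nat_lit 31, nat_lit 37, nat_lit 40, nat_lit 38, nat_lit 42, nat_lit 16, nat_lit 12], [nat_lit 18, nat_lit 14, nat_lit 44, nat_lit 8, nat_lit 10, nat_lit 34, nat_lit 4, nat_lit 0, nat_lit 40, nat_lit 39], [nat_lit 18, nat_lit 14, nat_lit 44, nat_lit 43, nat_lit 10, nat_lit 16, nat_lit 12], [nat_lit 18, nat_lit 14, nat_lit 44, nat_lit 8, nat_lit 10, nat_lit 14, nat_lit 43], [nat_lit 18, nat_lit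 14, nat_lit 44, nat_lit 43, nat_lit 10, nat_lit 8, nat_lit 42, nat_lit 12], [nat_lit 18, nat_lit 14, nat_lit 44, nat_lit 38, nat_lit 31, nat_lit 41, nat_lit 39, nat_lit 37, nat_lit 42, nat_lit 38]]

noncomputable def aV : List (List Nat) := [[nat_lit 27, nat_lit 58, nat_lit 2, nat_lit 10, nat_lit 26, nat_lit 0], [nat_lit 32, nat_lit 16, nat_lit 30, nat_lit 14, nat_lit 35, nat_lit 42], [nat_lit 30, nat_lit 43, nat_lit 30, nat_lit 0, nat_lit 43], [nat_lit 35, nat_lit 37, nat_lit 16, nat_lit 39, nat_lit 16], [nat_lit 40, nat_lit 39, nat_lit 43, nat_lit 12], [nat_lit 36, nat_lit 40, nat_lit 37, nat_lit 40], [nat_lit 39, nat_lit 14, nat_lit 42, nat_lit 16], [nat_lit 34, nat_lit 12, nat_lit 35, nat_lit 12], [nat_lit 8, nat_lit 12], [nat_lit 0], [nat_lit 4, nat_lit 0]]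

theorem aVpc (b : Base D τ s da 129123503308800) : PC s 2 aV :=
  Cx.pcs b.x _ _ [[[nat_lit 18]], [[nat_lit 16], [nat_lit 16]], [[], [], []], [[nat_lit 12], [nat_lit 12], [], []], [[], [], [], [nat_lit 10], []], [[nat_lit 8], [], [], [], [], []], [[nat_lit 6], [], [], [nat_lit 6], [], [nat_lit 6], []], [[], [], [nat_lit 4], [], [], [], [], []], [[nat_lit 2], [nat_lit 2], [nat_lit 2], [], [], [], [], [], []], [[nat_lit 0], [], [], [], [], [], [], [], [], []], [[], [], [], [], [], [], [], [], [], [], []]] (by decide +kernel)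

theorem wge1 (b : Base D τ s da 129123503308800) : GE s [[nat_lit 0]] 2 :=
  GE.step b.x (GE.base []) _ [] (nat_lit 694) [nat_lit 0] (nat_lit 2) 2 (by decide +kernel)

theorem wge2 (b : Base D τ s da 129123503308800) : GE s [[nat_lit 27, nat_lit 58, nat_lit 2, nat_lit 10, nat_lit 26, nat_lit 0], [nat_lit 32, nat_lit 16, nat_lit 30, nat_lit 14, nat_lit 35, nat_lit 42], [nat_lit 30, nat_lit 43, nat_lit 30, nat_lit 0, nat_lit 43], [nat_lit 35, nat_lit 37, nat_lit 16, nat_lit 39, nat_lit 16], [nat_lit 40, nat_lit 39, nat_lit 43, nat_lit 12], [nat_lit 36, nat_lit 40, nat_lit 37, nat_lit 40], [nat_lit 39, nat_lit 14, nat_lit 42, nat_lit 16], [nat_lit 34, nat_lit 12, nat_lit 35, nat_lit 12], [nat_lit 8, nat_lit 12], [nat_lit 0], [nat_lit 4, nat_lit 0]] 2048 :=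
  GE.step b.x (wge1 b) _ [] (nat_lit 1) [nat_lit 8, nat_lit 10, nat_lit 4, nat_lit 5, nat_lit 6, nat_lit 7, nat_lit 2, nat_lit 3, nat_lit 0, nat_lit 1] (nat_lit 1024) 2048 (by decide +kernel)

theorem aVge (b : Base D τ s da 129123503308800) : GE s aV (2 ^ aV.length) :=
  (wge2 b)

theorem aVcard (b : Base D τ s da 129123503308800) : Nat.card (genW (sv s) aV) = 2048 :=
  (aVpc b).card0 (by norm_num) (aVge b)

theorem wcu3 (b : Base D τ s da 129123503308800) : CU ⊤ s [[nat_lit 8]] 36787322880 :=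
  CU.down b.x le_rfl b.cu (nat_lit 0) [[nat_lit 6], [nat_lit 10], [nat_lit 18], [nat_lit 20], [nat_lit 22], [nat_lit 24], [nat_lit 26], [nat_lit 28], [nat_lit 32], [nat_lit 34], [nat_lit 46], [nat_lit 48], [nat_lit 52]] [nat_lit 8] [nat_lit 0, nat_lit 1, nat_lit 2, nat_lit 6, nat_lit 7, nat_lit 10, nat_lit 3, nat_lit 8, nat_lit 12, nat_lit 4, nat_lit 2, nat_lit 5, nat_lit 11, nat_lit 9, nat_lit 2] (nat_lit 3510) 36787322880 (by decide +kernel)

theorem wcu4 (b : Base D τ s da 129123503308800) : CU ⊤ s [[nat_lit 28, nat_lit 4, nat_lit 29], [nat_lit 8]] 13063680 :=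
  CU.down b.x le_rfl (wcu3 b) (nat_lit 1) [[nat_lit 0], [nat_lit 2], [nat_lit 8], [nat_lit 12], [nat_lit 14], [nat_lit 16], [nat_lit 34], [nat_lit 36], [nat_lit 38], [nat_lit 40], [nat_lit 54], [nat_lit 56]] [nat_lit 28, nat_lit 4, nat_lit 29] [nat_lit 1, nat_lit 2, nat_lit 3, nat_lit 4, nat_lit 5, nat_lit 8, nat_lit 11, nat_lit 7, nat_lit 10, nat_lit 6, nat_lit 9, nat_lit 11, nat_lit 8, nat_lit 10, nat_lit 7, nat_lit 0] (nat_lit 2816) 13063680 (by decide +kernel)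

theorem wcu5 (b : Base D τ s da 129123503308800) : CU ⊤ s [[nat_lit 36, nat_lit 16, nat_lit 37], [nat_lit 28, nat_lit 4, nat_lit 29], [nat_lit 8]] 23040 :=
  CU.down b.x le_rfl (wcu4 b) (nat_lit 3) [[nat_lit 0], [nat_lit 4], [nat_lit 13, nat_lit 17, nat_lit 43, nat_lit 36, nat_lit 13, nat_lit 30, nat_lit 29, nat_lit 25, nat_lit 3, nat_lit 34, nat_lit 56]] [nat_lit 36, nat_lit 16, nat_lit 37] [nat_lit 2, nat_lit 0, nat_lit 1, nat_lit 2, nat_lit 0, nat_lit 1, nat_lit 2, nat_lit 0, nat_lit 1, nat_lit 2, nat_lit 0, nat_lit 1, nat_lit 2, nat_lit 1, nat_lit 0, nat_lit 2, nat_lit 1, nat_lit 0, nat_lit 2, nat_lit 0, nat_lit 2, nat_lit 1, nat_lit 2, nat_lit 2] (nat_lit 567) 23040 (by decide +kernel)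

theorem wcu6 (b : Base D τ s da 129123503308800) : CU ⊤ s [[nat_lit 14], [nat_lit 36, nat_lit 16, nat_lit 37], [nat_lit 28, nat_lit 4, nat_lit 29], [nat_lit 8]] 72 :=
  CU.down b.x le_rfl (wcu5 b) (nat_lit 7) [[nat_lit 0], [nat_lit 4], [nat_lit 36, nat_lit 34, nat_lit 43, nat_lit 30, nat_lit 39, nat_lit 7, nat_lit 46, nat_lit 19, nat_lit 45, nat_lit 22, nat_lit 59]] [nat_lit 14] [nat_lit 2, nat_lit 0, nat_lit 1, nat_lit 2, nat_lit 0, nat_lit 1, nat_lit 2, nat_lit 1, nat_lit 0, nat_lit 2, nat_lit 0, nat_lit 1, nat_lit 2, nat_lit 0, nat_lit 1, nat_lit 2, nat_lit 0, nat_lit 1, nat_lit 2] (nat_lit 320) 72 (by decide +kernel)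

theorem wcu7 (b : Base D τ s da 129123503308800) : CU ⊤ s [[nat_lit 16], [nat_lit 14], [nat_lit 36, nat_lit 16, nat_lit 37], [nat_lit 28, nat_lit 4, nat_lit 29], [nat_lit 8]] 4 :=
  CU.down b.x le_rfl (wcu6 b) (nat_lit 15) [[nat_lit 0], [nat_lit 4], [nat_lit 16, nat_lit 22, nat_lit 2, nat_lit 26, nat_lit 0, nat_lit 14, nat_lit 16, nat_lit 12], [nat_lit 23, nat_lit 36, nat_lit 22, nat_lit 8, nat_lit 6, nat_lit 41, nat_lit 10, nat_lit 12, nat_lit 35, nat_lit 14, nat_lit 36, nat_lit 16, nat_lit 12], [nat_lit 38, nat_lit 43, nat_lit 35, nat_lit 37, nat_lit 11, nat_lit 32, nat_lit 40, nat_lit 24, nat_lit 46, nat_lit 46, nat_lit 21, nat_lit 23, nat_lit 59]] [nat_lit 16] [nat_lit 2, nat_lit 0, nat_lit 3, nat_lit 1, nat_lit 4] (nat_lit 18) 4 (by decide +kernel)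

theorem wcu8 (b : Base D τ s da 129123503308800) : CU ⊤ s [[nat_lit 2], [nat_lit 16], [nat_lit 14], [nat_lit 36, nat_lit 16, nat_lit 37], [nat_lit 28, nat_lit 4, nat_lit 29], [nat_lit 8]] 1 :=
  CU.down b.x le_rfl (wcu7 b) (nat_lit 31) [[nat_lit 0], [nat_lit 4]] [nat_lit 2] [nat_lit 0, nat_lit 1] (nat_lit 4) 1 (by decide +kernel)

theorem wcu9 (b : Base D τ s da 129123503308800) : CU ⊤ s [[nat_lit 8], [nat_lit 36, nat_lit 16, nat_lit 37], [nat_lit 28, nat_lit 4, nat_lit 29], [nat_lit 16], [nat_lit 14], [nat_lit 2]] 1 :=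
  CU.sub (wcu8 b) [[nat_lit 8], [nat_lit 36, nat_lit 16, nat_lit 37], [nat_lit 28, nat_lit 4, nat_lit 29], [nat_lit 16], [nat_lit 14], [nat_lit 2]] (by decide +kernel)

theorem wcu10 (b : Base D τ s da 129123503308800) : CU ⊤ s [[nat_lit 36, nat_lit 16, nat_lit 37], [nat_lit 28, nat_lit 4, nat_lit 29], [nat_lit 16], [nat_lit 14], [nat_lit 2], [nat_lit 4, nat_lit 0]] 1 :=
  CU.clo b.x [[nat_lit 36, nat_lit 16, nat_lit 37], [nat_lit 28, nat_lit 4, nat_lit 29], [nat_lit 16], [nat_lit 14], [nat_lit 2], [nat_lit 4, nat_lit 0]] [[nat_lit 8]] (CU.sub (wcu9 b) _ (by decide +kernel)) [nat_lit 0, nat_lit 1, nat_lit 2, nat_lit 3, nat_lit 4] [[nat_lit 0], [nat_lit 2], [nat_lit 4], [nat_lit 6], [nat_lit 8], [nat_lit 10]] [nat_lit 3, nat_lit 4, nat_lit 2, nat_lit 3, nat_lit 5, nat_lit 4, nat_lit 0, nat_lit 3, nat_lit 4, nat_lit 1] (by decide +kernel)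

theorem wcu11 (b : Base D τ s da 129123503308800) : CU ⊤ s [[nat_lit 28, nat_lit 4, nat_lit 29], [nat_lit 16], [nat_lit 14], [nat_lit 2], [nat_lit 4, nat_lit 0]] 2 :=
  CU.up b.x le_rfl b.ns (wcu10 b) (nat_lit 15) [] (SE.diff (SE.diff (SE.and (SE.fx [nat_lit 8, nat_lit 2]) (SE.fx [nat_lit 0, nat_lit 6, nat_lit 0])) (SE.fx [nat_lit 6])) (SE.fx [nat_lit 0, nat_lit 4, nat_lit 0])) [] (nat_lit 2) 2 NCs.nil (by decide +kernel)

theorem wcu12 (b : Base D τ s da 129123503308800) : CU ⊤ s [[nat_lit 16], [nat_lit 14], [nat_lit 2], [nat_lit 4, nat_lit 0]] 96 :=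
  CU.up b.x le_rfl b.ns (wcu11 b) (nat_lit 7) [] (SE.diff (SE.diff (SE.diff (SE.fx [nat_lit 6]) (SE.fx [nat_lit 0])) (SE.fx [nat_lit 2])) (SE.fx [nat_lit 0, nat_lit 2, nat_lit 0])) [] (nat_lit 48) 96 NCs.nil (by decide +kernel)

theorem wcu13 (b : Base D τ s da 129123503308800) : CU ⊤ s [[nat_lit 14], [nat_lit 2], [nat_lit 4, nat_lit 0]] 1536 :=
  CU.up b.x le_rfl b.ns (wcu12 b) (nat_lit 3) [] (SE.diff (SE.fx [nat_lit 4, nat_lit 2]) (SE.fx [nat_lit 0])) [] (nat_lit 16) 1536 NCs.nil (by decide +kernel)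

theorem wcu14 (b : Base D τ s da 129123503308800) : CU ⊤ s [[nat_lit 2], [nat_lit 4, nat_lit 0]] 46080 :=
  CU.up b.x le_rfl b.ns (wcu13 b) (nat_lit 1) [] (SE.fx [nat_lit 2, nat_lit 0]) [] (nat_lit 30) 46080 NCs.nil (by decide +kernel)

theorem wnc15 (b : Base D τ s da 129123503308800) : NC ⊤ s [[nat_lit 2], [nat_lit 4, nat_lit 0]] [[nat_lit 44], [nat_lit 4, nat_lit 0]] :=
  NC.pc b.x b.ns _ _ (SE.and (SE.fx [nat_lit 0]) (SE.pre [nat_lit 2] (SE.tp (nat_lit 0)))) (by decide +kernel)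

theorem wcu16 (b : Base D τ s da 129123503308800) : CU ⊤ s [[nat_lit 4, nat_lit 0]] 106168320 :=
  CU.up b.x le_rfl b.ns (wcu14 b) (nat_lit 0) [[nat_lit 4], [nat_lit 10], [nat_lit 14], [nat_lit 30], [nat_lit 32], [nat_lit 36], [nat_lit 38], [nat_lit 40], [nat_lit 17, nat_lit 38, nat_lit 34, nat_lit 38, nat_lit 11, nat_lit 34, nat_lit 45, nat_lit 15, nat_lit 19]] (SE.diff SE.all (SE.fx [nat_lit 0])) [([nat_lit 44], [nat_lit 0, nat_lit 1, nat_lit 2, nat_lit 3, nat_lit 5, nat_lit 6, nat_lit 7, nat_lit 3, nat_lit 6, nat_lit 4, nat_lit 7, nat_lit 8, nat_lit 1])] (nat_lit 2304) 106168320 (NCs.cons (wnc15 b) NCs.nil) (by decide +kernel)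

theorem wge17 (b : Base D τ s da 129123503308800) : GE s [[nat_lit 12]] 2 :=
  GE.step b.x (GE.base []) _ [] (nat_lit 5) [nat_lit 0] (nat_lit 2) 2 (by decide +kernel)

theorem wge18 (b : Base D τ s da 129123503308800) : GE s [[nat_lit 18, nat_lit 14, nat_lit 44, nat_lit 8, nat_lit 10, nat_lit 4, nat_lit 0, nat_lit 39, nat_lit 40, nat_lit 42, nat_lit 16], [nat_lit 42, nat_lit 39, nat_lit 43], [nat_lit 58, nat_lit 22, nat_lit 20, nat_lit 25, nat_lit 6, nat_lit 30, nat_lit 12, nat_lit 30, nat_lit 36, nat_lit 43, nat_lit 37, nat_lit 4, nat_lit 39, nat_lit 14, nat_lit 42, nat_lit 12], [nat_lit 58, nat_lit 10, nat_lit 21, nat_lit 18, nat_lit 6, nat_lit 8, nat_lit 10, nat_lit 36, nat_lit 39, nat_lit 34, nat_lit 40, nat_lit 38], [nat_lit 18, nat_lit 14, nat_lit 44, nat_lit 8, nat_lit 10, nat_lit 4, nat_lit 0, nat_lit 41, nat_lit 16, nat_lit 12]] 64 :=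
  GE.step b.x (wge17 b) _ [([nat_lit 12], [nat_lit 3, nat_lit 5, nat_lit 9, nat_lit 7])] (nat_lit 1) [nat_lit 1, nat_lit 1, nat_lit 1, nat_lit 4, nat_lit 0, nat_lit 3] (nat_lit 32) 64 (by decide +kernel)

theorem wge19 (b : Base D τ s da 129123503308800) : GE s [[nat_lit 21, nat_lit 58, nat_lit 44, nat_lit 18, nat_lit 46, nat_lit 25, nat_lit 41, nat_lit 32, nat_lit 41, nat_lit 39, nat_lit 37, nat_lit 8, nat_lit 12], [nat_lit 40, nat_lit 10, nat_lit 14, nat_lit 38, nat_lit 42, nat_lit 12], [nat_lit 38, nat_lit 10, nat_lit 16, nat_lit 39], [nat_lit 18, nat_lit 14, nat_lit 44, nat_lit 14, nat_lit 30, nat_lit 10, nat_lit 41, nat_lit 34, nat_lit 34, nat_lit 42, nat_lit 40, nat_lit 42, nat_lit 12], [nat_lit 38, nat_lit 41, nat_lit 11, nat_lit 41, nat_lit 39]] 46080 :=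
  GE.step b.x (wge18 b) _ [([nat_lit 18, nat_lit 14, nat_lit 44, nat_lit 8, nat_lit 10, nat_lit 4, nat_lit 0, nat_lit 39, nat_lit 40, nat_lit 42, nat_lit 16], [nat_lit 8, nat_lit 5, nat_lit 3, nat_lit 6, nat_lit 4]), ([nat_lit 42, nat_lit 39, nat_lit 43], [nat_lit 7, nat_lit 11, nat_lit 7, nat_lit 5, nat_lit 10, nat_lit 4, nat_lit 6]), ([nat_lit 58, nat_lit 22, nat_lit 20, nat_lit 25, nat_lit 6, nat_lit 30, nat_lit 12, nat_lit 30, nat_lit 36, nat_lit 43, nat_lit 37, nat_lit 4, nat_lit 39, nat_lit 14, nat_lit 42, nat_lit 12], [nat_lit 9, nat_lit 10, nat_lit 8, nat_lit 5]), ([nat_lit 58, nat_lit 10, nat_lit 21, nat_lit 18, nat_lit 6, nat_lit 8, nat_lit 10, nat_lit 36, nat_lit 39, nat_lit 34, nat_lit 40, nat_lit 38], [nat_lit 11, nat_lit 9, nat_lit 9, nat_lit 6, nat_lit 15]), ([nat_lit 18, nat_lit 14, nat_lit 44, nat_lit 8, nat_lit 10, nat_lit 4, nat_lit 0, nat_lit 41, nat_lit 16, nat_lit 12], [nat_lit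 10, nat_lit 17, nat_lit 15, nat_lit 11, nat_lit 17])] (nat_lit 1398) [nat_lit 2, nat_lit 4, nat_lit 1, nat_lit 2, nat_lit 4, nat_lit 1, nat_lit 2, nat_lit 4, nat_lit 2, nat_lit 1, nat_lit 4, nat_lit 2, nat_lit 4, nat_lit 2, nat_lit 4] (nat_lit 720) 46080 (by decide +kernel)

theorem wge20 (b : Base D τ s da 129123503308800) : GE s [[nat_lit 58, nat_lit 22, nat_lit 20, nat_lit 25, nat_lit 6, nat_lit 41, nat_lit 30, nat_lit 41, nat_lit 37, nat_lit 39, nat_lit 35, nat_lit 39, nat_lit 40, nat_lit 12], [nat_lit 18, nat_lit 14, nat_lit 44, nat_lit 43, nat_lit 10, nat_lit 16, nat_lit 34, nat_lit 4, nat_lit 0, nat_lit 39, nat_lit 40, nat_lit 16], [nat_lit 42, nat_lit 9, nat_lit 41, nat_lit 35, nat_lit 13, nat_lit 31, nat_lit 36, nat_lit 41]] 106168320 :=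
  GE.step b.x (wge19 b) _ [([nat_lit 21, nat_lit 58, nat_lit 44, nat_lit 18, nat_lit 46, nat_lit 25, nat_lit 41, nat_lit 32, nat_lit 41, nat_lit 39, nat_lit 37, nat_lit 8, nat_lit 12], [nat_lit 3, nat_lit 1, nat_lit 5, nat_lit 5, nat_lit 5]), ([nat_lit 40, nat_lit 10, nat_lit 14, nat_lit 38, nat_lit 42, nat_lit 12], [nat_lit 7, nat_lit 4, nat_lit 2, nat_lit 2, nat_lit 4, nat_lit 7]), ([nat_lit 38, nat_lit 10, nat_lit 16, nat_lit 39], [nat_lit 4, nat_lit 8, nat_lit 4, nat_lit 8]), ([nat_lit 18, nat_lit 14, nat_lit 44, nat_lit 14, nat_lit 30, nat_lit 10, nat_lit 41, nat_lit 34, nat_lit 34, nat_lit 42, nat_lit 40, nat_lit 42, nat_lit 12], [nat_lit 7, nat_lit 11, nat_lit 6, nat_lit 10, nat_lit 10, nat_lit 8]), ([nat_lit 38, nat_lit 41, nat_lit 11, nat_lit 41, nat_lit 39], [nat_lit 12, nat_lit 11, nat_lit 12, nat_lit 11, nat_lit 11, nat_lit 12, nat_lit 11])] (nat_lit 694) [nat_lit 2, nat_lit 1, nat_lit 2,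 nat_lit 0, nat_lit 2, nat_lit 1, nat_lit 2, nat_lit 0, nat_lit 2, nat_lit 1, nat_lit 2, nat_lit 0, nat_lit 2, nat_lit 1, nat_lit 2, nat_lit 2, nat_lit 2, nat_lit 1] (nat_lit 2304) 106168320 (by decide +kernel)

theorem wge21 (b : Base D τ s da 129123503308800) : GE s [[nat_lit 18, nat_lit 14, nat_lit 44, nat_lit 38, nat_lit 31, nat_lit 37, nat_lit 40, nat_lit 38, nat_lit 42, nat_lit 16, nat_lit 12], [nat_lit 18, nat_lit 14, nat_lit 44, nat_lit 8, nat_lit 10, nat_lit 34, nat_lit 4, nat_lit 0, nat_lit 40, nat_lit 39], [nat_lit 18, nat_lit 14, nat_lit 44, nat_lit 43, nat_lit 10, nat_lit 16, nat_lit 12], [nat_lit 18, nat_lit 14, nat_lit 44, nat_lit 8, nat_lit 10, nat_lit 14, nat_lit 43], [nat_lit 18, nat_lit 14, nat_lit 44, nat_lit 43, nat_lit 10, nat_lit 8, nat_lit 42, nat_lit 12], [nat_lit 18, nat_lit 14, nat_lit 44, nat_lit 38, nat_lit 31, nat_lit 41, nat_lit 39, nat_lit 37, nat_lit 42, nat_lit 38],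 [nat_lit 27, nat_lit 58, nat_lit 2, nat_lit 10, nat_lit 26, nat_lit 0], [nat_lit 32, nat_lit 16, nat_lit 30, nat_lit 14, nat_lit 35, nat_lit 42], [nat_lit 30, nat_lit 43, nat_lit 30, nat_lit 0, nat_lit 43], [nat_lit 35, nat_lit 37, nat_lit 16, nat_lit 39, nat_lit 16], [nat_lit 40, nat_lit 39, nat_lit 43, nat_lit 12], [nat_lit 36, nat_lit 40, nat_lit 37, nat_lit 40], [nat_lit 39, nat_lit 14, nat_lit 42, nat_lit 16], [nat_lit 34, nat_lit 12, nat_lit 35, nat_lit 12], [nat_lit 8, nat_lit 12], [nat_lit 0], [nat_lit 4, nat_lit 0]] 106168320 :=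
  GE.sub b.x (wge20 b) _ [([nat_lit 58, nat_lit 22, nat_lit 20, nat_lit 25, nat_lit 6, nat_lit 41, nat_lit 30, nat_lit 41, nat_lit 37, nat_lit 39, nat_lit 35, nat_lit 39, nat_lit 40, nat_lit 12], [nat_lit 27, nat_lit 32, nat_lit 23, nat_lit 1, nat_lit 18, nat_lit 3, nat_lit 26, nat_lit 33, nat_lit 17, nat_lit 31, nat_lit 27, nat_lit 12, nat_lit 23, nat_lit 18, nat_lit 20]), ([nat_lit 18, nat_lit 14, nat_lit 44, nat_lit 43, nat_lit 10, nat_lit 16, nat_lit 34, nat_lit 4, nat_lit 0, nat_lit 39, nat_lit 40, nat_lit 16], [nat_lit 16, nat_lit 35, nat_lit 18, nat_lit 11, nat_lit 28, nat_lit 23, nat_lit 2, nat_lit 33, nat_lit 13, nat_lit 23, nat_lit 9, nat_lit 4, nat_lit 15, nat_lit 15, nat_lit 28]), ([nat_lit 42, nat_lit 9, nat_lit 41, nat_lit 35, nat_lit 13, nat_lit 31, nat_lit 36, nat_lit 41], [nat_lit 37, nat_lit 19, nat_lit 29, nat_lit 11, nat_lit 7, nat_lit 9, nat_lit 14, nat_lit 25, nat_lit 21, nat_lit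 13, nat_lit 13, nat_lit 20, nat_lit 32, nat_lit 28, nat_lit 22])] (by decide +kernel)

theorem aC (b : Base D τ s da 129123503308800) : Cen ⊤ s [[nat_lit 4, nat_lit 0]] = genW (sv s) (aU ++ aV) ∧ Nat.card (genW (sv s) (aU ++ aV)) = 106168320 :=
  CU.eq b.x le_rfl (wcu16 b) (wge21 b) (nat_lit 0) (by decide +kernel)

theorem anz (b : Base D τ s da 129123503308800) : genW (sv s) (aU ++ aV) ≤ Subgroup.normalizer (genW (sv s) aV : Set _) :=
  Cx.nz b.x _ _ [[[nat_lit 0, nat_lit 2, nat_lit 8, nat_lit 10, nat_lit 12, nat_lit 14, nat_lit 18], [nat_lit 2, nat_lit 4, nat_lit 6, nat_lit 12, nat_lit 16, nat_lit 18, nat_lit 20], [nat_lit 2, nat_lit 6, nat_lit 10, nat_lit 12, nat_lit 18, nat_lit 20], [nat_lit 6, nat_lit 8, nat_lit 12, nat_lit 14, nat_lit 16, nat_lit 18], [nat_lit 2, nat_lit 4, nat_lit 8, nat_lit 10, nat_lit 12, nat_lit 16, nat_lit 20], [nat_lit 4, nat_lit 6, nat_lit 8, nat_lit 10, nat_lit 14, nat_lit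 20], [nat_lit 2, nat_lit 4, nat_lit 6, nat_lit 10, nat_lit 18, nat_lit 20], [nat_lit 6, nat_lit 8, nat_lit 12], [nat_lit 8, nat_lit 12, nat_lit 14, nat_lit 18, nat_lit 20], [nat_lit 18, nat_lit 20], [nat_lit 20]], [[nat_lit 0, nat_lit 4, nat_lit 10, nat_lit 12, nat_lit 16, nat_lit 18, nat_lit 20], [nat_lit 2, nat_lit 4, nat_lit 12, nat_lit 20], [nat_lit 4, nat_lit 6, nat_lit 10, nat_lit 14, nat_lit 16, nat_lit 20], [nat_lit 6, nat_lit 14, nat_lit 16], [nat_lit 8, nat_lit 10, nat_lit 14, nat_lit 18], [nat_lit 10, nat_lit 14, nat_lit 16], [nat_lit 6, nat_lit 10, nat_lit 12, nat_lit 14, nat_lit 16, nat_lit 20], [nat_lit 16, nat_lit 20], [nat_lit 14, nat_lit 20], [nat_lit 18, nat_lit 20], [nat_lit 20]], [[nat_lit 0, nat_lit 6, nat_lit 10, nat_lit 12, nat_lit 16, nat_lit 20], [nat_lit 6, nat_lit 8, nat_lit 16, nat_lit 18, nat_lit 20], [nat_lit 10, nat_lit 14, nat_lit 16, nat_lit 18, nat_lit 20], [nat_lit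 4, nat_lit 14, nat_lit 16, nat_lit 18], [nat_lit 2, nat_lit 4, nat_lit 12, nat_lit 14, nat_lit 16, nat_lit 20], [nat_lit 4, nat_lit 6, nat_lit 10, nat_lit 14, nat_lit 16, nat_lit 18], [nat_lit 16], [nat_lit 6, nat_lit 10, nat_lit 12, nat_lit 14, nat_lit 16], [nat_lit 12], [nat_lit 18, nat_lit 20], [nat_lit 20]], [[nat_lit 0, nat_lit 2, nat_lit 4, nat_lit 8, nat_lit 10, nat_lit 12, nat_lit 16], [nat_lit 4, nat_lit 8, nat_lit 10, nat_lit 12], [nat_lit 2, nat_lit 10, nat_lit 12], [nat_lit 6, nat_lit 8, nat_lit 12, nat_lit 14, nat_lit 16, nat_lit 18], [nat_lit 8], [nat_lit 8, nat_lit 10, nat_lit 16, nat_lit 20], [nat_lit 12, nat_lit 16], [nat_lit 14, nat_lit 16, nat_lit 20], [nat_lit 16], [nat_lit 18, nat_lit 20], [nat_lit 20]], [[nat_lit 0, nat_lit 20], [nat_lit 8, nat_lit 10, nat_lit 12, nat_lit 14, nat_lit 18, nat_lit 20], [nat_lit 6, nat_lit 18, nat_lit 20], [nat_lit 4, nat_lit 18], [nat_lit 2, nat_lit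 4, nat_lit 12, nat_lit 14, nat_lit 20], [nat_lit 4, nat_lit 6, nat_lit 10, nat_lit 18], [nat_lit 16], [nat_lit 6, nat_lit 10, nat_lit 12, nat_lit 14, nat_lit 16], [nat_lit 12], [nat_lit 18, nat_lit 20], [nat_lit 20]], [[nat_lit 0, nat_lit 2, nat_lit 6, nat_lit 10, nat_lit 14, nat_lit 18, nat_lit 20], [nat_lit 2, nat_lit 4, nat_lit 8, nat_lit 18, nat_lit 20], [nat_lit 2, nat_lit 10, nat_lit 12], [nat_lit 6, nat_lit 8, nat_lit 12, nat_lit 14, nat_lit 16, nat_lit 18], [nat_lit 2, nat_lit 4, nat_lit 8, nat_lit 10, nat_lit 12, nat_lit 20], [nat_lit 4, nat_lit 6, nat_lit 8, nat_lit 10, nat_lit 16, nat_lit 20], [nat_lit 2, nat_lit 4, nat_lit 6, nat_lit 10, nat_lit 16, nat_lit 18, nat_lit 20], [nat_lit 6, nat_lit 8, nat_lit 12], [nat_lit 8, nat_lit 12, nat_lit 14, nat_lit 18, nat_lit 20], [nat_lit 18, nat_lit 20], [nat_lit 20]], [[nat_lit 0], [nat_lit 2, nat_lit 20], [nat_lit 4], [nat_lit 6, nat_lit 20], [nat_lit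 8], [nat_lit 10, nat_lit 20], [nat_lit 12, nat_lit 20], [nat_lit 14], [nat_lit 16, nat_lit 20], [nat_lit 18, nat_lit 20], [nat_lit 20]], [[nat_lit 0, nat_lit 20], [nat_lit 2], [nat_lit 4], [nat_lit 6, nat_lit 20], [nat_lit 8], [nat_lit 10], [nat_lit 12], [nat_lit 14], [nat_lit 16, nat_lit 20], [nat_lit 18], [nat_lit 20]], [[nat_lit 0], [nat_lit 2], [nat_lit 4], [nat_lit 6], [nat_lit 8], [nat_lit 10], [nat_lit 12], [nat_lit 14, nat_lit 20], [nat_lit 16, nat_lit 20], [nat_lit 18], [nat_lit 20]], [[nat_lit 0, nat_lit 20], [nat_lit 2, nat_lit 20], [nat_lit 4], [nat_lit 6], [nat_lit 8, nat_lit 20], [nat_lit 10], [nat_lit 12, nat_lit 20], [nat_lit 14], [nat_lit 16], [nat_lit 18], [nat_lit 20]], [[nat_lit 0], [nat_lit 2], [nat_lit 4], [nat_lit 6, nat_lit 20], [nat_lit 8], [nat_lit 10], [nat_lit 12], [nat_lit 14], [nat_lit 16], [nat_lit 18], [nat_lit 20]], [[nat_lit 0, nat_lit 20], [nat_lit 2], [nat_lit 4],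 [nat_lit 6], [nat_lit 8], [nat_lit 10], [nat_lit 12, nat_lit 20], [nat_lit 14], [nat_lit 16], [nat_lit 18], [nat_lit 20]], [[nat_lit 0, nat_lit 20], [nat_lit 2], [nat_lit 4], [nat_lit 6, nat_lit 20], [nat_lit 8], [nat_lit 10, nat_lit 20], [nat_lit 12], [nat_lit 14], [nat_lit 16], [nat_lit 18], [nat_lit 20]], [[nat_lit 0], [nat_lit 2], [nat_lit 4, nat_lit 20], [nat_lit 6], [nat_lit 8], [nat_lit 10], [nat_lit 12], [nat_lit 14], [nat_lit 16], [nat_lit 18], [nat_lit 20]], [[nat_lit 0, nat_lit 20], [nat_lit 2, nat_lit 20], [nat_lit 4, nat_lit 20], [nat_lit 6], [nat_lit 8], [nat_lit 10], [nat_lit 12], [nat_lit 14], [nat_lit 16], [nat_lit 18], [nat_lit 20]], [[nat_lit 0, nat_lit 20], [nat_lit 2], [nat_lit 4], [nat_lit 6], [nat_lit 8], [nat_lit 10], [nat_lit 12], [nat_lit 14], [nat_lit 16], [nat_lit 18], [nat_lit 20]], [[nat_lit 0], [nat_lit 2], [nat_lit 4], [nat_lit 6], [nat_lit 8], [nat_lit 10], [nat_lit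 12], [nat_lit 14], [nat_lit 16], [nat_lit 18], [nat_lit 20]]] (by decide +kernel)

theorem wcu22 (b : Base D τ s da 129123503308800) : CU ⊤ s [[nat_lit 31, nat_lit 34, nat_lit 2, nat_lit 0, nat_lit 3, nat_lit 35, nat_lit 30], [nat_lit 36, nat_lit 16, nat_lit 37], [nat_lit 28, nat_lit 4, nat_lit 29], [nat_lit 8]] 192 :=
  CU.down b.x le_rfl (wcu5 b) (nat_lit 7) [[nat_lit 0], [nat_lit 4], [nat_lit 42, nat_lit 15, nat_lit 1, nat_lit 5, nat_lit 50, nat_lit 53], [nat_lit 57, nat_lit 37, nat_lit 2, nat_lit 32, nat_lit 57, nat_lit 35, nat_lit 39, nat_lit 10, nat_lit 4, nat_lit 39, nat_lit 14, nat_lit 38]] [nat_lit 31, nat_lit 34, nat_lit 2, nat_lit 0, nat_lit 3, nat_lit 35, nat_lit 30] [nat_lit 0, nat_lit 1, nat_lit 2, nat_lit 1, nat_lit 2, nat_lit 1, nat_lit 3, nat_lit 0, nat_lit 1, nat_lit 2, nat_lit 1, nat_lit 2] (nat_lit 120) 192 (by decide +kernel)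

theorem wcu23 (b : Base D τ s da 129123503308800) : CU ⊤ s [[nat_lit 25, nat_lit 54, nat_lit 4, nat_lit 55, nat_lit 24], [nat_lit 31, nat_lit 34, nat_lit 2, nat_lit 0, nat_lit 3, nat_lit 35, nat_lit 30], [nat_lit 36, nat_lit 16, nat_lit 37], [nat_lit 28, nat_lit 4, nat_lit 29], [nat_lit 8]] 8 :=
  CU.down b.x le_rfl (wcu22 b) (nat_lit 15) [[nat_lit 14, nat_lit 55, nat_lit 40, nat_lit 8, nat_lit 42, nat_lit 16], [nat_lit 24, nat_lit 58, nat_lit 29, nat_lit 29, nat_lit 2, nat_lit 39, nat_lit 54, nat_lit 32, nat_lit 36, nat_lit 40, nat_lit 37], [nat_lit 13, nat_lit 43, nat_lit 15, nat_lit 5, nat_lit 37, nat_lit 34, nat_lit 26, nat_lit 25, nat_lit 19, nat_lit 19, nat_lit 35, nat_lit 59]] [nat_lit 25, nat_lit 54, nat_lit 4, nat_lit 55, nat_lit 24] [nat_lit 0, nat_lit 1, nat_lit 2, nat_lit 1, nat_lit 2, nat_lit 1] (nat_lit 24) 8 (by decide +kernel)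

theorem wcu24 (b : Base D τ s da 129123503308800) : CU ⊤ s [[nat_lit 40, nat_lit 36, nat_lit 20, nat_lit 0, nat_lit 21, nat_lit 37, nat_lit 41], [nat_lit 25, nat_lit 54, nat_lit 4, nat_lit 55, nat_lit 24], [nat_lit 31, nat_lit 34, nat_lit 2, nat_lit 0, nat_lit 3, nat_lit 35, nat_lit 30], [nat_lit 36, nat_lit 16, nat_lit 37], [nat_lit 28, nat_lit 4, nat_lit 29], [nat_lit 8]] 2 :=
  CU.down b.x le_rfl (wcu23 b) (nat_lit 31) [[nat_lit 10, nat_lit 37, nat_lit 23, nat_lit 20, nat_lit 36, nat_lit 10, nat_lit 0], [nat_lit 38, nat_lit 54, nat_lit 4, nat_lit 2, nat_lit 4, nat_lit 55, nat_lit 39]] [nat_lit 40, nat_lit 36, nat_lit 20, nat_lit 0, nat_lit 21, nat_lit 37, nat_lit 41] [nat_lit 0, nat_lit 1] (nat_lit 4) 2 (by decide +kernel)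

theorem wcu25 (b : Base D τ s da 129123503308800) : CU ⊤ s [[nat_lit 19, nat_lit 52, nat_lit 4, nat_lit 53, nat_lit 18], [nat_lit 40, nat_lit 36, nat_lit 20, nat_lit 0, nat_lit 21, nat_lit 37, nat_lit 41], [nat_lit 25, nat_lit 54, nat_lit 4, nat_lit 55, nat_lit 24], [nat_lit 31, nat_lit 34, nat_lit 2, nat_lit 0, nat_lit 3, nat_lit 35, nat_lit 30], [nat_lit 36, nat_lit 16, nat_lit 37], [nat_lit 28, nat_lit 4, nat_lit 29], [nat_lit 8]] 1 :=
  CU.down b.x le_rfl (wcu24 b) (nat_lit 63) [[nat_lit 16, nat_lit 58, nat_lit 10, nat_lit 21, nat_lit 18, nat_lit 34, nat_lit 24, nat_lit 6, nat_lit 39, nat_lit 33, nat_lit 38, nat_lit 35, nat_lit 39]] [nat_lit 19, nat_lit 52, nat_lit 4, nat_lit 53, nat_lit 18] [nat_lit 0] (nat_lit 2) 1 (by decide +kernel)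

theorem wcu26 (b : Base D τ s da 129123503308800) : CU ⊤ s [[nat_lit 8], [nat_lit 40, nat_lit 14, nat_lit 41], [nat_lit 14], [nat_lit 28, nat_lit 4, nat_lit 29], [nat_lit 12], [nat_lit 23, nat_lit 27, nat_lit 10, nat_lit 26, nat_lit 22], [nat_lit 0]] 1 :=
  CU.mono b.x le_rfl (wcu25 b) [[nat_lit 8], [nat_lit 40, nat_lit 14, nat_lit 41], [nat_lit 14], [nat_lit 28, nat_lit 4, nat_lit 29], [nat_lit 12], [nat_lit 23, nat_lit 27, nat_lit 10, nat_lit 26, nat_lit 22], [nat_lit 0]] [nat_lit 27, nat_lit 25, nat_lit 32, nat_lit 2, nat_lit 30, nat_lit 24, nat_lit 34, nat_lit 31, nat_lit 10, nat_lit 36, nat_lit 39, nat_lit 14, nat_lit 42] [[nat_lit 12], [nat_lit 10], [nat_lit 2], [nat_lit 8], [nat_lit 4], [nat_lit 6], [nat_lit 0]] (by decide +kernel)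

theorem wcu27 (b : Base D τ s da 129123503308800) : CU ⊤ s [[nat_lit 23, nat_lit 27, nat_lit 10, nat_lit 26, nat_lit 22], [nat_lit 27, nat_lit 58, nat_lit 2, nat_lit 10, nat_lit 26, nat_lit 0], [nat_lit 32, nat_lit 16, nat_lit 30, nat_lit 14, nat_lit 35, nat_lit 42], [nat_lit 30, nat_lit 43, nat_lit 30, nat_lit 0, nat_lit 43], [nat_lit 35, nat_lit 37, nat_lit 16, nat_lit 39, nat_lit 16], [nat_lit 40, nat_lit 39, nat_lit 43, nat_lit 12], [nat_lit 36, nat_lit 40, nat_lit 37, nat_lit 40], [nat_lit 39, nat_lit 14, nat_lit 42, nat_lit 16], [nat_lit 34, nat_lit 12, nat_lit 35, nat_lit 12], [nat_lit 8, nat_lit 12], [nat_lit 0], [nat_lit 4, nat_lit 0]] 1 :=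
  CU.clo b.x [[nat_lit 23, nat_lit 27, nat_lit 10, nat_lit 26, nat_lit 22], [nat_lit 27, nat_lit 58, nat_lit 2, nat_lit 10, nat_lit 26, nat_lit 0], [nat_lit 32, nat_lit 16, nat_lit 30, nat_lit 14, nat_lit 35, nat_lit 42], [nat_lit 30, nat_lit 43, nat_lit 30, nat_lit 0, nat_lit 43], [nat_lit 35, nat_lit 37, nat_lit 16, nat_lit 39, nat_lit 16], [nat_lit 40, nat_lit 39, nat_lit 43, nat_lit 12], [nat_lit 36, nat_lit 40, nat_lit 37, nat_lit 40], [nat_lit 39, nat_lit 14, nat_lit 42, nat_lit 16], [nat_lit 34, nat_lit 12, nat_lit 35, nat_lit 12], [nat_lit 8, nat_lit 12], [nat_lit 0], [nat_lit 4, nat_lit 0]] [[nat_lit 8], [nat_lit 40, nat_lit 14, nat_lit 41], [nat_lit 14], [nat_lit 28, nat_lit 4, nat_lit 29], [nat_lit 12]] (CU.sub (wcu26 b) _ (by decide +kernel)) [nat_lit 0, nat_lit 10] [[nat_lit 0], [nat_lit 2], [nat_lit 4], [nat_lit 6], [nat_lit 8], [nat_lit 10], [nat_lit 12], [nat_lit 14], [nat_lit 16], [nat_lit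 18], [nat_lit 20], [nat_lit 22]] [nat_lit 10, nat_lit 9, nat_lit 11, nat_lit 5, nat_lit 7, nat_lit 1, nat_lit 0, nat_lit 9, nat_lit 5, nat_lit 7, nat_lit 1] (by decide +kernel)

theorem wnc28 (b : Base D τ s da 129123503308800) : NC ⊤ s [[nat_lit 23, nat_lit 27, nat_lit 10, nat_lit 26, nat_lit 22], [nat_lit 27, nat_lit 58, nat_lit 2, nat_lit 10, nat_lit 26, nat_lit 0], [nat_lit 32, nat_lit 16, nat_lit 30, nat_lit 14, nat_lit 35, nat_lit 42], [nat_lit 30, nat_lit 43, nat_lit 30, nat_lit 0, nat_lit 43], [nat_lit 35, nat_lit 37, nat_lit 16, nat_lit 39, nat_lit 16], [nat_lit 40, nat_lit 39, nat_lit 43, nat_lit 12], [nat_lit 36, nat_lit 40, nat_lit 37, nat_lit 40], [nat_lit 39, nat_lit 14, nat_lit 42, nat_lit 16], [nat_lit 34, nat_lit 12, nat_lit 35, nat_lit 12], [nat_lit 8, nat_lit 12], [nat_lit 0], [nat_lit 4, nat_lit 0]] [[nat_lit 20, nat_lit 40, nat_lit 10, nat_lit 41, nat_lit 21], [nat_lit 27, nat_lit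 58, nat_lit 2, nat_lit 10, nat_lit 26, nat_lit 0], [nat_lit 32, nat_lit 16, nat_lit 30, nat_lit 14, nat_lit 35, nat_lit 42], [nat_lit 30, nat_lit 43, nat_lit 30, nat_lit 0, nat_lit 43], [nat_lit 35, nat_lit 37, nat_lit 16, nat_lit 39, nat_lit 16], [nat_lit 40, nat_lit 39, nat_lit 43, nat_lit 12], [nat_lit 36, nat_lit 40, nat_lit 37, nat_lit 40], [nat_lit 39, nat_lit 14, nat_lit 42, nat_lit 16], [nat_lit 34, nat_lit 12, nat_lit 35, nat_lit 12], [nat_lit 8, nat_lit 12], [nat_lit 0], [nat_lit 4, nat_lit 0]] :=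
  NC.pc b.x b.ns _ _ (SE.and (SE.and (SE.diff (SE.diff (SE.diff (SE.diff (SE.diff (SE.diff (SE.and (SE.diff (SE.diff (SE.diff (SE.diff (SE.diff (SE.diff (SE.diff (SE.diff SE.all (SE.tp (nat_lit 10))) (SE.tp (nat_lit 0))) (SE.fx [nat_lit 20])) (SE.pre [nat_lit 18] (SE.tp (nat_lit 0)))) (SE.pre [nat_lit 22] (SE.tp (nat_lit 0)))) (SE.fx [nat_lit 0])) (SE.pre [nat_lit 14] (SE.tp (nat_lit 0)))) (SE.pre [nat_lit 16] (SE.tp (nat_lit 0)))) (SE.fx [nat_lit 18])) (SE.fx [nat_lit 22, nat_lit 0, nat_lit 23])) (SE.fx [nat_lit 10, nat_lit 0, nat_lit 11])) (SE.fx [nat_lit 14, nat_lit 0, nat_lit 15])) (SE.fx [nat_lit 6, nat_lit 0, nat_lit 7])) (SE.fx [nat_lit 2, nat_lit 0, nat_lit 3])) (SE.fx [nat_lit 4, nat_lit 0, nat_lit 5])) (SE.fx [nat_lit 10])) (SE.fx [nat_lit 14])) (by decide +kernel)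

theorem wcu29 (b : Base D τ s da 129123503308800) : CU ⊤ s [[nat_lit 27, nat_lit 58, nat_lit 2, nat_lit 10, nat_lit 26, nat_lit 0], [nat_lit 32, nat_lit 16, nat_lit 30, nat_lit 14, nat_lit 35, nat_lit 42], [nat_lit 30, nat_lit 43, nat_lit 30, nat_lit 0, nat_lit 43], [nat_lit 35, nat_lit 37, nat_lit 16, nat_lit 39, nat_lit 16], [nat_lit 40, nat_lit 39, nat_lit 43, nat_lit 12], [nat_lit 36, nat_lit 40, nat_lit 37, nat_lit 40], [nat_lit 39, nat_lit 14, nat_lit 42, nat_lit 16], [nat_lit 34, nat_lit 12, nat_lit 35, nat_lit 12], [nat_lit 8, nat_lit 12], [nat_lit 0], [nat_lit 4, nat_lit 0]] 2 :=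
  CU.up b.x le_rfl b.ns (wcu27 b) (nat_lit 512) [[nat_lit 4, nat_lit 0]] (SE.diff (SE.diff (SE.diff (SE.and (SE.fx [nat_lit 10]) (SE.fx [nat_lit 6])) (SE.fx [nat_lit 18])) (SE.fx [nat_lit 4, nat_lit 18])) (SE.fx [nat_lit 14, nat_lit 16])) [([nat_lit 20, nat_lit 40, nat_lit 10, nat_lit 41, nat_lit 21], [nat_lit 0])] (nat_lit 2) 2 (NCs.cons (wnc28 b) NCs.nil) (by decide +kernel)

theorem wge30 (b : Base D τ s da 129123503308800) : GE s [[nat_lit 4, nat_lit 0]] 2 :=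
  GE.step b.x (GE.base []) _ [] (nat_lit 1) [nat_lit 0] (nat_lit 2) 2 (by decide +kernel)

theorem aZ (b : Base D τ s da 129123503308800) : Cen ⊤ s aV = genW (sv s) [[nat_lit 4, nat_lit 0]] ∧ Nat.card (genW (sv s) [[nat_lit 4, nat_lit 0]]) = 2 :=
  CU.eq b.x le_rfl (wcu29 b) (wge30 b) (nat_lit 512) (by decide +kernel)

theorem aES (b : Base D τ s da 129123503308800) : Fischer.ES (genW (sv s) aV) (E s [nat_lit 4, nat_lit 0]) :=
  b.x.es aV _ [nat_lit 20] [[nat_lit 0], [], [nat_lit 0], [], [nat_lit 0], [], [nat_lit 0], [nat_lit 0], [], [nat_lit 0], [nat_lit 0], [], [nat_lit 0], [nat_lit 0], [], [], [nat_lit 0], [], [], [], [], [nat_lit 0], [], [], [], [], [], [], [], [], [], [], [nat_lit 0], [nat_lit 0], [], [], [], [nat_lit 0], [nat_lit 0], [], [], [nat_lit 0], [], [nat_lit 0], [], [], [], [], [], [], [], [], [nat_lit 0], [], [], [], [], [], [], [], [], [nat_lit 0], [], [], [], [], [], [nat_lit 0], [],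 [], [], [], [], [nat_lit 0], [], [], [nat_lit 0], [], [nat_lit 0], [], [], [], [], [], [], [], [], [nat_lit 0], [], [], [], [], [], [], [], [], [], [nat_lit 0], [nat_lit 0], [nat_lit 0], [], [], [], [], [], [], [], [], [], [nat_lit 0], [], [], [], [], [], [], [], [], [], [], [], [], [], [], [], [], [], [], [], [], [], []] (nat_lit 1) (by rw [(aZ b).1, genW1]; exact inf_le_right)
    (by rw [aVcard b]; norm_num) (by decide +kernel)

theorem aLS (b : Base D τ s da 129123503308800) : Fischer.LS (genW (sv s) aV) (E s [nat_lit 4, nat_lit 0]) := by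
  refine ⟨aES b, fun g hg => ?_, fun g hg x hx => ?_⟩
  · have : g ∈ Subgroup.centralizer (genW (sv s) aV : Set G) := fun y hy => (hg y hy).symm
    rw [centralizer_genW, (aZ b).1, genW1] at this
    exact Subgroup.zpowers_le.2 (aES b).mem this
  · have : g ∈ Cen ⊤ s [[nat_lit 4, nat_lit 0]] := mem_Cen.2 ⟨trivial, by simpa using hg⟩
    rw [(aC b).1] at this
    exact (Subgroup.mem_normalizer_iff.1 (anz b this) x).1 hx

theorem aLarge (b : Base D τ s da 129123503308800) : IsLargeExtraspecial (genW (sv s) aV) := by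
  have h := b.x.inW [[nat_lit 10, nat_lit 21, nat_lit 18, nat_lit 6, nat_lit 16, nat_lit 30, nat_lit 10, nat_lit 39, nat_lit 14, nat_lit 34, nat_lit 41, nat_lit 39, nat_lit 42, nat_lit 12] ++ [nat_lit 4, nat_lit 0] ++ iw [nat_lit 10, nat_lit 21, nat_lit 18, nat_lit 6, nat_lit 16, nat_lit 30, nat_lit 10, nat_lit 39, nat_lit 14, nat_lit 34, nat_lit 41, nat_lit 39, nat_lit 42, nat_lit 12]] aV [[nat_lit 16]] (by decide +kernel) _ (List.mem_singleton_self _)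
  have h1 := b.x.ne_one ([nat_lit 10, nat_lit 21, nat_lit 18, nat_lit 6, nat_lit 16, nat_lit 30, nat_lit 10, nat_lit 39, nat_lit 14, nat_lit 34, nat_lit 41, nat_lit 39, nat_lit 42, nat_lit 12] ++ [nat_lit 4, nat_lit 0] ++ iw [nat_lit 10, nat_lit 21, nat_lit 18, nat_lit 6, nat_lit 16, nat_lit 30, nat_lit 10, nat_lit 39, nat_lit 14, nat_lit 34, nat_lit 41, nat_lit 39, nat_lit 42, nat_lit 12] ++ iw [nat_lit 4, nat_lit 0]) (nat_lit 1) (by decide +kernel)
  simp only [E, ev_append] at h h1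
  simp only [← E.eq_1, E_iw] at h h1
  exact (aLS b).large_of_conj h fun e => h1 (by rw [e, mul_inv_cancel])

theorem aquot (b : Base D τ s da 129123503308800) {C Q : Subgroup G} (hC : C = genW (sv s) (aU ++ aV)) (hQ : Q = genW (sv s) aV)
    [(Q.subgroupOf C).Normal] : Nonempty (C ⧸ Q.subgroupOf C ≃* O6m) :=
  b.x.quot univ_o6 aU aV [] hC hQ (by rw [hC, hQ, (aC b).2, aVcard b, card_o6]) (by decide +kernel)

end

/-- Let G be a finite group with trivial centre generated by a conjugation-invariant set D of 3-transpositions on which it acts primitively, such that for some d in D the subgroup generated by the members of D other than d commuting with d has central largest normal 2- and 3-subgroups, and suppose G with D is of type M(22), and let A be the automorphism group of G. Let d₁, d₂ be distinct commuting members of D and j the inner automorphism of their product. Then the generalized Fitting subgroup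 Q of the centralizer of j in A is a large extraspecial 2-subgroup of A of order 2^11 (extraspecial; centralizer equal to its centre; normal in the centralizer of its centre; normalizing no non-trivial odd-order subgroup), and the centralizer of j modulo Q is isomorphic to the full automorphism group of the projective special unitary group of dimension 4 over the field with four elements. -/
theorem result {G : Type*} [Group G] [Finite G] {D : Set G} (hD : Cfsg.IsThreeTranspositionGroup D) (hprim : Cfsg.IsPrimitiveUnderConj D) (d₀ : G) (hd₀ : d₀ ∈ D) (h3 : Cfsg.pCore 3 ↥(Subgroup.closure {y : G | y ∈ D ∧ y ≠ d₀ ∧ Commute d₀ y}) ≤ Subgroup.center ↥(Subgroup.closure {y : G | y ∈ D ∧ y ≠ d₀ ∧ Commute d₀ y})) (h2 : Cfsg.pCore 2 ↥(Subgroup.closure {y : G | y ∈ D ∧ y ≠ d₀ ∧ Commute d₀ y}) ≤ Subgroup.center ↥(Subgroup.closure {y : G | y ∈ D ∧ y ≠ d₀ ∧ Commute d₀ y})) (h22 : Cfsg.IsOfTypeM22 G D) (d₁ d₂ : G)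 (h₁ : d₁ ∈ D) (h₂ : d₂ ∈ D) (hne : d₁ ≠ d₂) (hc : Commute d₁ d₂) (j : MulAut G) (hj : j = MulAut.conj (d₁ * d₂)) (Q : Subgroup (MulAut G)) (hQ : Q = (Cfsg.generalizedFittingSubgroup ↥(Subgroup.centralizer ({j} : Set (MulAut G)))).map (Subgroup.centralizer ({j} : Set (MulAut G))).subtype) : Cfsg.IsLargeExtraspecial Q ∧ Nat.card Q = 2 ^ 11 ∧ Q ≤ Subgroup.centralizer ({j} : Set (MulAut G)) ∧ ∃ (_ : (Q.subgroupOf (Subgroup.centralizer ({j} : Set (MulAut G)))).Normal) (F : Type) (_ : Field F) (_ : Fintype F), Fintype.card F = 4 ∧ Nonempty (↥(Subgroup.centralizer ({j} : Set (MulAut G))) ⧸ Q.subgroupOf (Subgroup.centralizer ({j} : Set (MulAut G))) ≃* MulAut (Cfsg.PSU 4 F 2)) := by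
  obtain ⟨τ₀, s₀, b₀⟩ := exists_base hD h22
  obtain ⟨τ, s, b₁, rfl, rfl⟩ := b₀.wlog2 (tr2 b₀) h₁ h₂ hne hc
  obtain ⟨s', b, hs, -⟩ := aut_base b₁ (class_of_group hD ⟨_, h₁⟩ hprim.1) h22.1
  have e : j = E s' [nat_lit 4, nat_lit 0] := by
    rw [hj, hs _ (by decide +kernel)]; simp [E]
  have hC' : centralizer {j} = genW (sv s') (aU ++ aV) := by rw [e, ← Cen_top1, (aC b).1]
  have hQC : genW (sv s') aV ≤ centralizer {j} := by rw [hC', genW_append]; exact le_sup_right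
  have hN : ((genW (sv s') aV).subgroupOf (centralizer {j})).Normal :=
    normal_subgroupOf_of_le_normalizer (hC' ▸ anz b)
  obtain ⟨f⟩ := aquot b hC' rfl
  have hF := fstar_eq hQC ((aVpc b).pgrp two_pos)
    (by rw [centralizer_genW, (aZ b).1, genW1]
        exact inf_le_right.trans (zpowers_le.2 (aES b).mem)) f o6_core
  rw [hF, subgroupOf_map_subtype, inf_eq_left.2 hQC] at hQ
  subst hQ
  obtain ⟨_, h4⟩ := card_gf4
  obtain ⟨g⟩ := o6_aut h4
  exact ⟨aLarge b, aVcard b, hQC, hN, _, _, _, h4, ⟨f.trans g⟩⟩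

end Cfsg.Agent.S5473
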