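import Mathlib
import Cfsg.Statements.S5522
import Cfsg.Agent.Golay.Six

set_option autoImplicit false
open Cfsg

namespace Cfsg.Agent.S5522

open Cfsg.Agent.Golay

/-- The Mathieu group M₁₁, realised as the stabiliser of one point of the dodecad of squares inside the stabiliser M₁₂ of that dodecad in M₂₄, acts on the twelve coordinate positions outside the dodecad of squares (its 3-transitive action of degree 12); in this action every element of prime order fixes a point, i.e. the action is elusive. -/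
theorem result (g : Equiv.Perm Cfsg.GolayPt) (hg : g ∈ Cfsg.Spor.M11) (hord : (orderOf g).Prime) :
    ∃ x : Cfsg.GolayPt, x ∉ Cfsg.Spor.squareDodecad ∧ g x = x := by
  rw [squareDodecad_eq]
  have h0 : (Fx g).Nonempty := ⟨some 0, mem_Fx.2 hg.2⟩
  have h1 : ¬ Fx g ⊆ um 340831 → ∃ x, x ∉ um 340831 ∧ g x = x := fun h => by
    obtain ⟨x, hx, hx'⟩ := Finset.not_subset.1 h
    exact ⟨x, hx', mem_Fx.1 hx⟩
  by_cases h2 : orderOf g = 2
  · exact h1 (not_octad_subset_dodecad (Fx_involution hg.1.1 h2 h0) dod0_mem)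
  by_cases h3 : orderOf g = 3
  · refine h1 fun h => ?_
    rw [eq_one_of_fix_dod dod0_mem h (by rw [card_Fx_three hg.1.1 h3 h0]; norm_num) hg.1.1
      (smul_M12 g hg.1) fun a => mem_Fx.1, orderOf_one] at h3
    cases h3
  obtain ⟨a, ha, e⟩ := exists_fix_of_not_dvd hord (pow_orderOf_eq_one g) (smul_M12' g hg.1) (by
    rw [show (um 16436384).card = 2 ^ 2 * 3 by decide +kernel, hord.dvd_mul, not_or]
    exact ⟨fun h => h2 ((Nat.prime_dvd_prime_iff_eq hord Nat.prime_two).1 (hord.dvd_of_dvd_pow h)),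
      fun h => h3 ((Nat.prime_dvd_prime_iff_eq hord Nat.prime_three).1 h)⟩)
  exact ⟨a, by rwa [um_compl_d0, Finset.mem_compl] at ha, e⟩

end Cfsg.Agent.S5522
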