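import Mathlib
import Cfsg.Statements.S5594
import Cfsg.Agent.Leech.Pairs

set_option autoImplicit false
open Cfsg

namespace Cfsg.Agent.S5594

/-- an element with square `-1` -/
def hC : ℕ := 0x82108421084210842108421084210800000004410842108421084210842108421080000000421084210842108821084210842108000000042108421088210842108421084210800000004210842208421084210842108421080000000421084210842108420084210842108000000042108821084210842108421084210800000004210842108420084210842108421080000000421104210842108421084210842108000000042108421084210842108422084210800000004210842100421084210842108421080000000421084210842108421084210840108000000042208421084210842108421084210800000004210842108421084210882108421080000000421084010842108421084210842108000000042108421084210842108421080210800000004210842108421084410842108421080000000421084210842108421084210042108000000042108421084410842108421084210800000004210842108421084210840108421080000000421084210842108421004210842108000000042108421084210042108421084210800000004210842108421084210842108420080000000421084210842108421084210842100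

/-- The automorphism group of the Leech lattice contains the negation map, and the subgroup of order 2 it generates has no complement: the automorphism group is a non-split extension of its quotient by that subgroup (it is not the direct product of a group of order 2 with the first Conway group). -/
theorem result :
    ∃ n : ↥Cfsg.Co0, (∀ v : ↥Cfsg.leechLattice, ((n • v : ↥Cfsg.leechLattice) : Cfsg.GolayPt → ℤ) = -(v : Cfsg.GolayPt → ℤ)) ∧
    ∀ K : Subgroup ↥Cfsg.Co0, ¬ (Subgroup.zpowers n).IsComplement' K := by
  refine ⟨Leech.negCo, fun v => by rw [Leech.negCo_smul]; rfl, fun K hK => ?_⟩
  have h1 : Leech.errM hC = 0 := by decide +kernel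
  have h2 : Leech.tg hC * Leech.tg hC = Leech.negCo := by
    apply Leech.gc_injective
    rw [← Leech.gmul_gc, Leech.gc_tg h1, Leech.gc_negCo]
    decide +kernel
  obtain ⟨⟨⟨a, ha⟩, ⟨k, hk⟩⟩, e⟩ := hK.2 (Leech.tg hC)
  have e' : a * k = Leech.tg hC := e
  have h3 : a ∈ Subgroup.center Co0 := (Subgroup.zpowers_le.2 Leech.negCo_central) ha
  have h4 : a * a = 1 := by
    rcases (Leech.mem_center_iff a).1 h3 with rfl | rfl
    · simp
    · exact Leech.negCo_sq
  have h5 : k * k = Leech.negCo := by
    rw [← h2, ← e', mul_assoc, ← mul_assoc k a, Subgroup.mem_center_iff.1 h3 k, mul_assoc,
      ← mul_assoc a a, h4, one_mul]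
  have h6 : Leech.negCo ∈ Subgroup.zpowers Leech.negCo ⊓ K :=
    ⟨Subgroup.mem_zpowers _, h5 ▸ K.mul_mem hk hk⟩
  rw [hK.disjoint.eq_bot] at h6
  exact Leech.negCo_ne_one h6

end Cfsg.Agent.S5594
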