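import Mathlib
import Cfsg.Statements.S5712
import Cfsg.Agent.Max.SpU
import Cfsg.Agent.Max.SymIdx
import Cfsg.Agent.S0247

set_option autoImplicit false
open Cfsg

namespace Cfsg.Agent.S5712

/-- Let F be a finite field of characteristic two, n ≥ 2, V = F^{2n} with the non-degenerate alternating form f(u, v) = Σ (u_i v_{n+i} + u_{n+i} v_i), and G the group of invertible matrices preserving f. Let a ≠ 0 be a vector, H its stabilizer in G, and X a subgroup of O₂(H) of order |F|^{2n−2} no element of which is a transvection (no element g has g − 1 of rank one). If L is a subgroup of G containing X that acts irreducibly on V (no proper non-zero L-invariant subspace), then L = G, or, for some quadratic form Q on V whose polar form is f, L is the isometry group of Q or its subgroup of the isometries g for which g − 1 has even rank, or |F| = 2, n = 2 and L is isomorphic to the alternating group of degree 6 or to the symmetric group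 of degree 5. -/
theorem result {F : Type*} [Field F] [Fintype F] [CharP F 2] {n : ℕ} (hn : 2 ≤ n) (a : (Fin n ⊕ Fin n → F)) (ha : a ≠ 0)
    (X : Subgroup (GL (Fin n ⊕ Fin n) F)) (hXG : X ≤ Cfsg.preserving (Units.coeHom (Matrix (Fin n ⊕ Fin n) (Fin n ⊕ Fin n) F)) (fun u v : (Fin n ⊕ Fin n → F) => ∑ i : Fin n, (u (Sum.inl i) * v (Sum.inr i) + u (Sum.inr i) * v (Sum.inl i))))
    (hXO : ∀ H : Subgroup (GL (Fin n ⊕ Fin n) F),
      (∀ g : GL (Fin n ⊕ Fin n) F, g ∈ H ↔ (g ∈ Cfsg.preserving (Units.coeHom (Matrix (Fin n ⊕ Fin n) (Fin n ⊕ Fin n) F)) (fun u v : (Fin n ⊕ Fin n → F) => ∑ i : Fin n, (u (Sum.inl i) * v (Sum.inr i) + u (Sum.inr i) * v (Sum.inl i))) ∧ Matrix.mulVec (g : Matrix (Fin n ⊕ Fin n) (Fin n ⊕ Fin n) F) a = a)) →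
      X ≤ (Cfsg.pCore 2 ↥H).map H.subtype)
    (hcard : Nat.card ↥X = Fintype.card F ^ (2 * n - 2))
    (hntv : ∀ x ∈ X, ((x : Matrix (Fin n ⊕ Fin n) (Fin n ⊕ Fin n) F) - 1).rank ≠ 1)
    (L : Subgroup (GL (Fin n ⊕ Fin n) F)) (hXL : X ≤ L) (hLG : L ≤ Cfsg.preserving (Units.coeHom (Matrix (Fin n ⊕ Fin n) (Fin n ⊕ Fin n) F)) (fun u v : (Fin n ⊕ Fin n → F) => ∑ i : Fin n, (u (Sum.inl i) * v (Sum.inr i) + u (Sum.inr i) * v (Sum.inl i))))
    (hirr : ∀ W : Submodule F (Fin n ⊕ Fin n → F), (∀ g ∈ L, ∀ w ∈ W, Matrix.mulVec (g : Matrix (Fin n ⊕ Fin n) (Fin n ⊕ Fin n) F) w ∈ W) → W = ⊥ ∨ W = ⊤) :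
    L = Cfsg.preserving (Units.coeHom (Matrix (Fin n ⊕ Fin n) (Fin n ⊕ Fin n) F)) (fun u v : (Fin n ⊕ Fin n → F) => ∑ i : Fin n, (u (Sum.inl i) * v (Sum.inr i) + u (Sum.inr i) * v (Sum.inl i))) ∨
    (∃ Q : QuadraticForm F (Fin n ⊕ Fin n → F), (∀ u v, QuadraticMap.polar ⇑Q u v = (fun u v : (Fin n ⊕ Fin n → F) => ∑ i : Fin n, (u (Sum.inl i) * v (Sum.inr i) + u (Sum.inr i) * v (Sum.inl i))) u v) ∧
      (L = Cfsg.isometryGroup F ⇑Q ∨
        ∀ g : GL (Fin n ⊕ Fin n) F, g ∈ L ↔ (g ∈ Cfsg.isometryGroup F ⇑Q ∧ Even ((g : Matrix (Fin n ⊕ Fin n) (Fin n ⊕ Fin n) F) - 1).rank))) ∨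
    (Fintype.card F = 2 ∧ n = 2 ∧ (Nonempty (↥L ≃* ↥(alternatingGroup (Fin 6))) ∨ Nonempty (↥L ≃* Equiv.Perm (Fin 5)))) := by
  classical
  let B := Classical.SpMat.sB (Fin n) F
  have hB : B.Nondegenerate := Classical.SpMat.sB_nondeg
  have hA : B.IsAlt := Classical.SpMat.sB_alt
  have hf : ∀ u v : Fin n ⊕ Fin n → F, ∑ i : Fin n, (u (Sum.inl i) * v (Sum.inr i) +
      u (Sum.inr i) * v (Sum.inl i)) = B u v := fun u v => by
    rw [Classical.SpMat.sB_eq_sum]
    exact Finset.sum_congr rfl fun i _ => by rw [CharTwo.sub_eq_add, add_comm]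
  simp only [hf] at hXG hXO hLG ⊢
  let ρ := Orth.glEquiv (Fin n ⊕ Fin n) F
  have hG : ∀ g, g ∈ Cfsg.preserving (Units.coeHom (Matrix (Fin n ⊕ Fin n) (Fin n ⊕ Fin n) F))
      (fun u v => B u v) ↔ ρ g ∈ Classical.SpWitt.SG B := fun g => Iff.rfl
  generalize Cfsg.preserving (Units.coeHom (Matrix (Fin n ⊕ Fin n) (Fin n ⊕ Fin n) F))
      (fun u v => B u v) = G at *
  have hd : Module.finrank F (Fin n ⊕ Fin n → F) = 2 * n := by
    rw [Classical.SpMat.finrank_eq, Fintype.card_fin]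
  have hm : ∀ (K : Subgroup (GL (Fin n ⊕ Fin n) F)) g, ρ g ∈ K.map ρ.toMonoidHom ↔ g ∈ K :=
    fun K g => Subgroup.mem_map_iff_mem ρ.injective
  have hS : Max.SU B (L.map ρ.toMonoidHom) := ⟨hB, hA, by
    rintro _ ⟨g, hg, rfl⟩
    exact (hG g).mp (hLG hg), fun U hU => hirr U fun g hg w hw => hU _ ((hm L g).mpr hg) w hw⟩
  let H : Subgroup (GL (Fin n ⊕ Fin n) F) := G ⊓ (MulAction.stabilizer _ a).comap ρ.toMonoidHom
  have hXH := hXO H fun g => Iff.rfl
  have hP : Max.PUq B (L.map ρ.toMonoidHom) a := Max.su_start hB hA ha (X := X.map ρ.toMonoidHom)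
    (by
      rintro _ ⟨g, hg, rfl⟩
      exact (hG g).mp (hXG hg))
    (by
      rintro _ ⟨g, hg, rfl⟩
      obtain ⟨γ, -, rfl⟩ := hXH hg
      exact γ.2.2)
    (by
      rintro _ ⟨g, hg, rfl⟩
      obtain ⟨γ, hγ, rfl⟩ := hXH hg
      refine Max.su_core hB hA (by omega) (ρ.toMonoidHom.comp H.subtype)
        (fun γ => (hG _).mp γ.2.1) (fun γ => γ.2.2) (fun w hw => ?_) hγ
      have h1 := Max.tv_mem_SG hA w 1 (by simp [hA.self_eq_zero])
      refine ⟨⟨ρ.symm _, (hG _).mpr (by rwa [ρ.apply_symm_apply]), ?_⟩, fun v => ?_⟩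
      · change ρ (ρ.symm _) a = a
        rw [ρ.apply_symm_apply]
        simp [hA.isRefl _ _ hw]
      · change ρ (ρ.symm _) v = _
        rw [ρ.apply_symm_apply]
        simp)
    (by rw [Subgroup.card_map_of_injective ρ.injective, hcard, hd, Nat.card_eq_fintype_card])
    (by
      rintro _ ⟨g, hg, rfl⟩
      rw [← Orth.rank_sub_one g.1 _ fun x => rfl]
      exact hntv g hg)
    (Subgroup.map_mono hXL)
  have hLG' : Classical.SpWitt.SG B ≤ L.map ρ.toMonoidHom → L = G := fun h =>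
    le_antisymm hLG fun g hg => (hm L g).mp (h ((hG g).mp hg))
  rcases hS.main (by omega) (hd ▸ even_two_mul n) hP with h | ⟨Q, h1, h2⟩ | ⟨h1, h2, h3⟩
  · exact Or.inl (hLG' h)
  · refine Or.inr (Or.inl ⟨Q, h1, h2.imp (fun h => ?_) fun h g => ?_⟩)
    · ext g
      rw [← hm, h, Orth.mem_isometryGroup]
      rfl
    · rw [← hm, h, ← Orth.rank_sub_one g.1 _ fun x => rfl, Orth.mem_isometryGroup]
      rfl
  · obtain rfl : n = 2 := by omega
    rw [Nat.card_eq_fintype_card] at h1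
    obtain ⟨e⟩ := Cfsg.Agent.S0247.result h1
    let e' := (Classical.SpMat.spEquiv (Fin 2) F).symm.trans e
    let K := ((L.map ρ.toMonoidHom).subgroupOf (Classical.SpWitt.SG B)).map e'.toMonoidHom
    have e1 : L ≃* K := (ρ.subgroupMap L).trans
      ((Subgroup.subgroupOfEquivOfLe hS.le).symm.trans (e'.subgroupMap _))
    by_cases h4 : K = ⊤
    · refine Or.inl (hLG' fun g hg => ?_)
      exact (Subgroup.mem_map_iff_mem (f := e'.toMonoidHom) e'.injective).mp
        (show e' ⟨g, hg⟩ ∈ K from h4 ▸ Subgroup.mem_top _)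
    refine Or.inr (Or.inr ⟨h1, rfl, ?_⟩)
    by_cases h5 : K = alternatingGroup (Fin 6)
    · exact Or.inl ⟨e1.trans (MulEquiv.subgroupCongr h5)⟩
    have h6 := Max.le_index_sym (by simp) h4 h5
    have h7 := K.index_mul_card
    rw [Subgroup.card_map_of_injective ρ.injective, Nat.card_congr e1.toEquiv] at h3
    rw [Nat.card_perm, Nat.card_fin] at h7
    rw [Nat.card_fin] at h6
    have h8 : K.index = Nat.card (Fin 6) := by
      rw [Nat.card_fin]
      have : Nat.factorial 6 = 720 := rfl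
      nlinarith
    have h9 := Max.sym_iso (by simp) h8
    rw [Nat.card_fin] at h9
    exact Or.inr ⟨e1.trans h9.some⟩

end Cfsg.Agent.S5712
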