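import Mathlib
import Cfsg.Statements.S5726
import Cfsg.Agent.Perm.PermModule
import Cfsg.Agent.Perm.TwoTransMin

set_option autoImplicit false
open Cfsg

namespace Cfsg.Agent.S5726

open MulAction

/-- If a finite group acts faithfully and transitively on a set with p^k elements, p a prime and k ≥ 1, then some element of order p fixes no point. -/
theorem result {G Ω : Type*} [Group G] [Finite G] [MulAction G Ω] [FaithfulSMul G Ω] [Fintype Ω] (htr : MulAction.IsPretransitive G Ω)
    (p k : ℕ) (hp : p.Prime) (hk : 1 ≤ k) (hΩ : Fintype.card Ω = p ^ k) :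
    ∃ g : G, orderOf g = p ∧ ∀ ω : Ω, g • ω ≠ ω := by
  haveI := Fact.mk hp
  obtain ⟨P⟩ : Nonempty (Sylow p G) := inferInstance
  rw [← Nat.card_eq_fintype_card] at hΩ
  have hP := Perm.sylow_transitive_of_prime_pow hΩ P
  haveI : Nontrivial Ω := Finite.one_lt_card_iff_nontrivial.mp (hΩ ▸ Nat.one_lt_pow (by omega) hp.one_lt)
  haveI : Nontrivial (P : Subgroup G) := by
    obtain ⟨a, b, hab⟩ := exists_pair_ne Ω
    obtain ⟨g, hg⟩ := exists_smul_eq (P : Subgroup G) a b
    exact ⟨g, 1, by rintro rfl; exact hab (by simpa using hg)⟩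
  haveI := P.2.center_nontrivial
  have hZ : IsPGroup p (Subgroup.center (P : Subgroup G)) := P.2.to_subgroup _
  obtain ⟨z, hz⟩ := exists_prime_orderOf_dvd_card' (G := Subgroup.center (P : Subgroup G)) p
    (hZ.card_eq_or_dvd.resolve_left Finite.one_lt_card.ne')
  refine ⟨z.1.1, by rw [Subgroup.orderOf_coe, Subgroup.orderOf_coe, hz], fun ω h => ?_⟩
  have : z.1.1 = 1 := Perm.eq_one_of_commute_transitive h fun b => by
    obtain ⟨u, hu⟩ := exists_smul_eq (P : Subgroup G) ω b
    exact ⟨u.1, hu, congrArg Subtype.val (Subgroup.mem_center_iff.mp z.2 u).symm⟩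
  rw [show z = 1 from Subtype.ext (Subtype.ext this), orderOf_one] at hz
  exact hp.one_lt.ne hz

end Cfsg.Agent.S5726
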