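import Mathlib
import Cfsg.Statements.S5727
import Cfsg.Agent.Perm.Count
import Cfsg.Agent.S5726

set_option autoImplicit false
open Cfsg

namespace Cfsg.Agent.S5727

open MulAction

/-- If a finite group acts faithfully and transitively on a set with m·p elements, where p is a prime and 1 ≤ m ≤ p, then some element of order p fixes no point. -/
theorem result {G Ω : Type*} [Group G] [Finite G] [MulAction G Ω] [FaithfulSMul G Ω] [Fintype Ω] (htr : MulAction.IsPretransitive G Ω)
    (p m : ℕ) (hp : p.Prime) (hm : 1 ≤ m) (hmp : m ≤ p) (hΩ : Fintype.card Ω = m * p) :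
    ∃ g : G, orderOf g = p ∧ ∀ ω : Ω, g • ω ≠ ω := by
  classical
  rcases hmp.eq_or_lt with rfl | hlt
  · exact S5726.result htr m 2 hp (by omega) (by rw [hΩ, pow_two])
  haveI := Fact.mk hp
  obtain ⟨P⟩ : Nonempty (Sylow p G) := inferInstance
  haveI := Fintype.ofFinite (P : Subgroup G)
  rw [← Nat.card_eq_fintype_card] at hΩ
  have hidx : ∀ a : Ω, (stabilizer (P : Subgroup G) a).index = p := fun a => by
    have h1 := Perm.dvd_index_sylow_stabilizer (hΩ ▸ Dvd.intro_left _ rfl) P a
    obtain ⟨k, hk⟩ := P.2.index (stabilizer (P : Subgroup G) a)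
    have h2 : (stabilizer (P : Subgroup G) a).index ≤ m * p := by
      rw [index_stabilizer, ← hΩ]; exact Set.ncard_le_card _
    rw [hk] at h1 h2 ⊢
    have h3 : p ^ k < p ^ 2 := h2.trans_lt (by rw [pow_two]; exact Nat.mul_lt_mul_of_pos_right hlt hp.pos)
    have := (Nat.pow_lt_pow_iff_right hp.one_lt).mp h3
    rcases (show k = 0 ∨ k = 1 by omega) with rfl | rfl
    · exact absurd (Nat.dvd_one.mp h1) hp.one_lt.ne'
    · exact pow_one p
  have hn : ∀ a : Ω, (stabilizer (P : Subgroup G) a).Normal := fun a => by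
    apply Subgroup.normal_of_index_eq_minFac_card
    obtain ⟨k, hk⟩ := IsPGroup.iff_card.mp P.2
    have hk0 : k ≠ 0 := by
      rintro rfl
      have := (stabilizer (P : Subgroup G) a).index_dvd_card
      rw [hidx, hk, pow_zero] at this
      exact hp.one_lt.ne' (Nat.dvd_one.mp this)
    rw [hidx, hk, hp.pow_minFac hk0]
  obtain ⟨g, hg⟩ : ∃ g : (P : Subgroup G), ∀ ω : Ω, g • ω ≠ ω := by
    by_contra hc
    push Not at hc
    have h1 : ∀ g : (P : Subgroup G), p ≤ Nat.card (fixedBy Ω g) := fun g => by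
      obtain ⟨a, ha⟩ := hc g
      refine (hidx a).symm.le.trans ?_
      rw [index_stabilizer]
      refine Set.ncard_le_ncard ?_
      rintro _ ⟨u, rfl⟩
      have := (hn a).conj_mem g ha u⁻¹
      rw [mem_stabilizer_iff, inv_inv, mul_smul, mul_smul, inv_smul_eq_iff] at this
      exact this
    have h2 := Perm.sum_card_fixedBy_eq_sum_stabilizer (G := (P : Subgroup G)) (α := Ω)
    have h3 : ∀ a : Ω, p * Nat.card (stabilizer (P : Subgroup G) a) = Nat.card (P : Subgroup G) :=
      fun a => by rw [← (stabilizer (P : Subgroup G) a).index_mul_card, hidx]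
    have h4 : p * ∑ a : Ω, Nat.card (stabilizer (P : Subgroup G) a) = m * p * Nat.card (P : Subgroup G) := by
      rw [Finset.mul_sum, Finset.sum_congr rfl fun a _ => h3 a, Finset.sum_const, Finset.card_univ,
        ← Nat.card_eq_fintype_card, hΩ, smul_eq_mul]
    have h5 := Finset.card_nsmul_le_sum Finset.univ _ p fun g _ => h1 g
    rw [h2, Finset.card_univ, ← Nat.card_eq_fintype_card, smul_eq_mul] at h5
    have h6 : 0 < Nat.card (P : Subgroup G) := Nat.card_pos
    have := Nat.mul_le_mul_left p h5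
    rw [h4] at this
    have h7 : p * Nat.card (P : Subgroup G) * p ≤ p * Nat.card (P : Subgroup G) * m := by
      nlinarith
    exact absurd (Nat.le_of_mul_le_mul_left h7 (Nat.mul_pos hp.pos h6)) (by omega)
  obtain ⟨a⟩ : Nonempty Ω := (Nat.card_ne_zero.mp (hΩ ▸ Nat.mul_ne_zero (by omega) hp.ne_zero)).1
  refine ⟨g.1, orderOf_eq_prime ?_ ?_, hg⟩
  · apply Perm.eq_one_of_forall_smul (α := Ω)
    intro x
    haveI := hn x
    have := (stabilizer (P : Subgroup G) x).pow_index_mem g
    rwa [hidx] at this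
  · intro h
    exact hg a (by change g.1 • a = a; rw [h, one_smul])

end Cfsg.Agent.S5727
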