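import Mathlib
import Cfsg.Statements.S5728


set_option autoImplicit false
open Cfsg

namespace Cfsg.Agent.S5728

/-- An elusive transitive action. Let p = 2^s − 1 be a prime and let F be the field with p² elements. Inside the group of affine maps x ↦ a·x + b of F (a ≠ 0), consider the subgroup of maps with both coefficients in the prime field. Then every element of prime order of the affine group is conjugate, within the affine group, to an element of that subgroup; equivalently, in the transitive action of the affine group on the cosets of that subgroup (of degree p(p + 1)) every element of prime order fixes a point. -/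
theorem result (p s : ℕ) [Fact p.Prime] (hs : p = 2 ^ s - 1)
    (g : Equiv.Perm (GaloisField p 2)) (hg : g ∈ Cfsg.affineGroup (GaloisField p 2)) (hord : (orderOf g).Prime) :
    ∃ x ∈ Cfsg.affineGroup (GaloisField p 2), ∃ a b : ZMod p, a ≠ 0 ∧
      ∀ y : GaloisField p 2, (x * g * x⁻¹) y = algebraMap (ZMod p) (GaloisField p 2) a * y + algebraMap (ZMod p) (GaloisField p 2) b := by
  obtain ⟨a, b, hg⟩ := hg
  have hp : p.Prime := Fact.out
  by_cases ha : a = 1
  · by_cases hb : b = 0
    · exact ⟨1, one_mem _, 1, 0, one_ne_zero, fun y => by simp [hg, ha, hb]⟩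
    · refine ⟨MulAction.toPerm (Units.mk0 b hb)⁻¹, ⟨(Units.mk0 b hb)⁻¹, 0, fun x => by
        simp [Units.smul_def]⟩, 1, 1, one_ne_zero, fun y => ?_⟩
      change (Units.mk0 b hb)⁻¹ • g ((Units.mk0 b hb)⁻¹⁻¹ • y) = _
      simp [hg, ha, Units.smul_def, mul_add, hb]
  have h1 : (a : GaloisField p 2) - 1 ≠ 0 := fun e => ha (Units.ext (sub_eq_zero.mp e))
  have h2 : ∀ k : ℕ, ∀ y, (g ^ k) (y - b / (a - 1)) = a ^ k * y - b / (a - 1) := fun k => by
    induction k with
    | zero => simp
    | succ k ih =>
      intro y
      rw [pow_succ', Equiv.Perm.mul_apply, ih, hg]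
      field_simp
      ring
  have h3 : orderOf a = orderOf g := by
    refine orderOf_eq_orderOf_iff.mpr fun k => ⟨fun h => Equiv.ext fun y => ?_, fun h => ?_⟩
    · simpa [← Units.val_pow_eq_pow_val, h] using h2 k (y + b / (a - 1))
    · exact Units.ext (by simpa [h] using (h2 k 1).symm)
  have h4 : orderOf a ∣ p - 1 := by
    have h4 := orderOf_dvd_natCard a
    rw [Nat.card_units, GaloisField.card p 2 two_ne_zero, Nat.sq_sub_sq p 1] at h4
    rw [← h3] at hord
    rcases (Nat.Prime.dvd_mul hord).mp h4 with h5 | h5
    · have h6 : p + 1 = 2 ^ s := by have := Nat.one_le_two_pow (n := s); omega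
      rw [h6] at h5
      rw [(Nat.prime_dvd_prime_iff_eq hord Nat.prime_two).mp (hord.dvd_of_dvd_pow h5)]
      obtain _ | s := s
      · have := hp.pos
        omega
      · rw [pow_succ] at h6
        omega
    · exact h5
  obtain ⟨c, hc⟩ : ∃ c : ZMod p, algebraMap _ _ c = (a : GaloisField p 2) := by
    have h5 : (a : GaloisField p 2) ^ p = a := by
      have := congrArg (fun u : (GaloisField p 2)ˣ => u.1 * a) (orderOf_dvd_iff_pow_eq_one.mp h4)
      simpa [← pow_succ, Nat.sub_add_cancel hp.one_le] using this
    exact (bot_le (a := (algebraMap (ZMod p) (GaloisField p 2)).fieldRange)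
      ((Subfield.mem_bot_iff_pow_eq_self _ p).mpr h5) :)
  refine ⟨Equiv.addRight (b / (a - 1)), ⟨1, b / (a - 1), fun x => by simp⟩, c, 0, ?_, fun y => ?_⟩
  · rintro rfl
    exact a.ne_zero (by simpa using hc.symm)
  · have := h2 1 y
    simp only [pow_one] at this
    simp [hc, ← sub_eq_add_neg, this]

end Cfsg.Agent.S5728
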