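import Cfsg.Statements.S5740
import Mathlib
import Cfsg.Agent.DCE.L6.Fin
import Cfsg.Agent.DCE.E6.Fin

set_option autoImplicit false
open Cfsg

namespace Cfsg.Agent.S5740

/-- In the simple group ²E₆(2) (the twisted group of type E₆ over the field with 4 elements), for every prime p > 5 no p-local subgroup is maximal: the normaliser of a non-trivial p-subgroup is never a maximal subgroup. -/
theorem result {K : Type*} [Field K] [Fintype K] (hK : Fintype.card K = 4) (p : ℕ) (hp : p.Prime) (h5 : 5 < p)
    (P : Subgroup (Cfsg.Lie.twistedE6 K 2)) (hP : IsPGroup p P) (hP1 : P ≠ ⊥) :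
    ¬ IsCoatom (Subgroup.normalizer (P : Set (Cfsg.Lie.twistedE6 K 2))) := by
  obtain ⟨ρ, hρ⟩ := DCE.L6.exists_act hK
  exact DCE.L6.main hρ (DCE.E6.card_G hK) hp h5 hP hP1

end Cfsg.Agent.S5740
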