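import Cfsg.Statements.S5743
import Mathlib
import Cfsg.Agent.Chev.Nrm
import Cfsg.Agent.Chev.Fix
import Cfsg.Agent.Chev.AutK2
import Cfsg.Agent.Chev.Lang3

set_option autoImplicit false
open Cfsg

namespace Cfsg.Agent.S5743
open Cfsg.Lie Cfsg.Agent.Chev StSys Matrix Tw

attribute [local instance] good2E6 good2F4

theorem exists_L {K : Type*} [Field K] [CharP K 2] (C : CE6 K 2) :
    ∃ L ≤ twistedE6 K 2, Nonempty (L ≃* chevF4.group (ZMod 2)) ∧
      (∀ i, ∃ u ∈ (glSys chevE6 K).U ⊓ L, lc i u ≠ 0) ∧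
      (∃ n ∈ L, n ∈ (glSys chevE6 K).N ∧ (glSys chevE6 K).Mono n (w0 Set.univ)) ∧
      ∀ z ∈ L, GeneralLinearGroup.map (frobenius K 2) z = z := by
  let ι := ZMod.castHom (dvd_refl 2) K
  obtain ⟨T, hT⟩ := exists_twE6 (RingHom.id (ZMod 2))
  let C0 : CE6 (ZMod 2) 1 := ⟨RingHom.id _, T, fun t => (pow_one t).symm, fun _ => rfl, hT⟩
  obtain ⟨f, h1, h2⟩ := exists_F4E6 (ZMod 2)
  have h3 := range_F4E6 C0 h2
  have hψ : ∀ t, C.ψ (ι t) = ι t := DFunLike.congr_fun (RingHom.ext_zmod (C.ψ.comp ι) ι)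
  have hx : ∀ r t, GeneralLinearGroup.map ι ((glSys chevE6 _).x r t) = (glSys chevE6 K).x r (ι t) :=
    (fieldGL chevE6 ι).f_x
  refine ⟨f.range.map (GeneralLinearGroup.map ι), Subgroup.map_le_iff_le_comap.mpr
    (emb_F4E6.range_le h2 (fun (i : Fin 4) t => ?_) fun (i : Fin 4) t => ?_),
    ⟨(Subgroup.equivMapOfInjective _ _ (GL_map_inj ι)).symm.trans (MonoidHom.ofInjective h1).symm⟩,
    fun i => ?_, ?_, ?_⟩
  · rw [nod_F4E6 i, Subgroup.mem_comap]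
    fin_cases i
    · simpa [hψ, hx, -glSys_x] using C.two_mem (r := sim (nE6 0)) (s := sim (nE6 5))
        (by decide +kernel) (ι t)
    · simpa [hψ, hx, -glSys_x] using C.two_mem (r := sim (nE6 2)) (s := sim (nE6 4))
        (by decide +kernel) (ι t)
    · simpa [hx, -glSys_x] using C.one_mem (r := sim (nE6 3)) (by decide +kernel) (hψ t)
    · simpa [hx, -glSys_x] using C.one_mem (r := sim (nE6 1)) (by decide +kernel) (hψ t)
  · rw [nod_F4E6 i, Subgroup.mem_comap]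
    fin_cases i
    · simpa [hψ, hx, -glSys_x] using C.two_mem (r := ng (sim (nE6 0))) (s := ng (sim (nE6 5)))
        (by decide +kernel) (ι t)
    · simpa [hψ, hx, -glSys_x] using C.two_mem (r := ng (sim (nE6 2))) (s := ng (sim (nE6 4)))
        (by decide +kernel) (ι t)
    · simpa [hx, -glSys_x] using C.one_mem (r := ng (sim (nE6 3))) (by decide +kernel) (hψ t)
    · simpa [hx, -glSys_x] using C.one_mem (r := ng (sim (nE6 1))) (by decide +kernel) (hψ t)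
  · obtain ⟨y, h4, h5, h6⟩ := C0.twK.one' (orbE6.o i)
    refine ⟨_, ⟨(fieldGL chevE6 ι).mem_U (Xp_le_U _ h5), y, h3.ge h4, rfl⟩, ?_⟩
    change ι (lc i y) ≠ 0
    rw [h6 i rfl, map_one]
    exact one_ne_zero
  · obtain ⟨n, h4, h5, h6⟩ := C0.isTw.exists_n0
    exact ⟨_, ⟨n, h3.ge h4, rfl⟩, (fieldGL chevE6 ι).mem_N h5,
      by simpa [fieldGL] using (fieldGL chevE6 ι).mono h5 h6⟩
  · rintro _ ⟨z, -, rfl⟩
    exact Units.ext (Matrix.ext fun i j =>
      DFunLike.congr_fun (RingHom.ext_zmod ((frobenius K 2).comp ι) ι) _)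

theorem aux1 {G : Type*} [Group G] {a b g y z : G} (h : b * y * b⁻¹ = g * (a * z * a⁻¹) * g⁻¹) :
    b⁻¹ * g * a * z * (b⁻¹ * g * a)⁻¹ = y := by
  rw [show y = b⁻¹ * (b * y * b⁻¹) * b by group, h]; group

theorem aux2 {G : Type*} [Group G] {a b g y : G} (h : (b * b)⁻¹ * y * (a * a) = b⁻¹ * g * a) :
    b⁻¹ * a = g * (a⁻¹ * y⁻¹ * a⁻¹⁻¹) := by
  rw [show g = b * (b⁻¹ * g * a) * a⁻¹ by group, ← h]; group

theorem lam {M : Type*} [CommGroup M] (h : ∀ x : M, x ^ 3 = 1) (a : Ix chevE6 → M) :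
    pw M (cartanM chevE6) a (nE6 0) * pw M (cartanM chevE6) a (nE6 4) =
      pw M (cartanM chevE6) a (nE6 2) * pw M (cartanM chevE6) a (nE6 5) := by
  simp only [pw_apply, ← Finset.prod_mul_distrib, ← _root_.zpow_add]
  refine Finset.prod_congr rfl fun i _ => ?_
  rw [zpow_eq_zpow_iff_modEq]
  refine Int.ModEq.of_dvd (n := 3) (by exact_mod_cast orderOf_dvd_of_pow_eq_one (h _)) ?_
  revert i; decide +kernel

/-- The simple group ²E₆(2) (the twisted group of type E₆ over the field with 4 elements) contains at least three pairwise non-conjugate subgroups isomorphic to the Chevalley group F₄(2). -/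
theorem result {K : Type*} [Field K] [Fintype K] (hK : Fintype.card K = 4) :
    ∃ H : Fin 3 → Subgroup (Cfsg.Lie.twistedE6 K 2),
      (∀ i, Nonempty ((H i) ≃* Cfsg.Lie.chevF4.group (ZMod 2))) ∧
      (∀ i j, i ≠ j → ∀ g : (Cfsg.Lie.twistedE6 K 2), (H i).map (MulAut.conj g).toMonoidHom ≠ H j) := by
  haveI : CharP K 2 := charP_of_card_eq_prime_pow (p := 2) (f := 2) hK
  obtain ⟨C⟩ := exists_CE6 (K := K) (q := 2) Nat.prime_two.isPrimePow hK
  obtain ⟨L, h1, ⟨e⟩, hx, hn, hL⟩ := exists_L C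
  have h3 : ∀ x : Kˣ, x ^ 3 = 1 := fun x => by
    have := pow_card_eq_one' (x := x)
    rwa [Nat.card_units, Nat.card_eq_fintype_card, hK] at this
  obtain ⟨ω, h0, hω⟩ := exists_ne_zero_one (F := K) (by omega)
  lift ω to Kˣ using h0.isUnit
  have ho : orderOf ω = 3 := orderOf_eq_prime (h3 ω) (by rintro rfl; exact hω rfl)
  let c : Tσ (F := K) symE6 fun _ => 2 := ⟨(![ω, 1, 1, 1, 1, ω ^ 2] : Fin 6 → Kˣ),
    (mem_Tσ_E6 _).mpr (by simp [← pow_mul, show 2 * 2 = 3 + 1 from rfl, pow_succ _ 3, h3])⟩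
  refine ⟨fun i => (L.subgroupOf _).map (C.twK.diag (c ^ i.1)).toMonoidHom, fun i =>
    ⟨(Subgroup.equivMapOfInjective _ _ (MulEquiv.injective _)).symm.trans
      ((Subgroup.subgroupOfEquivOfLe h1).trans e)⟩, fun i j hij g hg => ?_⟩
  have hg' := C.isTw.le_grp g.2
  have h4 := fix_of_norm hx hn _ hL hL (y := (dgU (c ^ j.1).1)⁻¹ * g * dgU (c ^ i.1).1)
    (mul_mem (mul_mem (inv_mem (dgU_mem_GD _)) (mem_GD_of_grp hg')) (dgU_mem_GD _)) fun z hz => by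
      obtain ⟨y, h5, h6⟩ := hg.le ⟨_, ⟨⟨z, h1 hz⟩, hz, rfl⟩, rfl⟩
      have h7 : dgU (c ^ j.1).1 * y.1 * (dgU (c ^ j.1).1)⁻¹ =
        g.1 * (dgU (c ^ i.1).1 * z * (dgU (c ^ i.1).1)⁻¹) * g.1⁻¹ := congrArg Subtype.val h6
      have h8 : y.1 ∈ L := h5
      convert h8 using 1
      exact aux1 h7
  have h5 : ∀ d : Ix chevE6 → Kˣ, GeneralLinearGroup.map (frobenius K 2) (dgU (D := chevE6) d) =
      dgU (D := chevE6) d * dgU (D := chevE6) d := fun d => by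
    rw [map_dgU, ← dgU_mul]
    exact congrArg dgU (funext fun i => Units.ext (pow_two _))
  rw [map_mul, map_mul, map_inv, h5, h5] at h4
  have h6 : dgU ((c ^ j.1).1⁻¹ * (c ^ i.1).1) ∈ (glSys chevE6 K).grp := by
    have := mul_mem hg' (dgU_conj_mem (c ^ i.1).1⁻¹ (inv_mem ((fieldGL chevE6 (frobenius K 2)).mem_grp hg')))
    convert this using 1
    simp only [← dgH_apply, map_mul, map_inv] at h4 ⊢
    change _ = g.1 * (_ * (GeneralLinearGroup.map (frobenius K 2) g.1)⁻¹ * _)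
    exact aux2 h4
  obtain ⟨a, ha⟩ := exists_pw_of_mem h6
  have h7 := lam h3 a
  rw [← ha] at h7
  have h8 : (ω ^ j.1)⁻¹ * ω ^ i.1 * ((1 ^ j.1)⁻¹ * 1 ^ i.1) =
    (1 ^ j.1)⁻¹ * 1 ^ i.1 * (((ω ^ 2) ^ j.1)⁻¹ * (ω ^ 2) ^ i.1) := h7
  have h9 : ω ^ i.1 = ω ^ j.1 := by
    simp only [one_pow, inv_one, mul_one, one_mul, pow_two, mul_pow] at h8
    rw [mul_inv, mul_mul_mul_comm, left_eq_mul, inv_mul_eq_one] at h8
    exact h8.symm
  rw [pow_inj_mod, ho, Nat.mod_eq_of_lt i.2, Nat.mod_eq_of_lt j.2] at h9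
  exact hij (Fin.ext h9)

end Cfsg.Agent.S5743
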