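import Mathlib
import Cfsg.Statements.S5744
import Cfsg.Agent.FE6.Main
import Cfsg.Agent.S2604
import Cfsg.Agent.S1686

set_option autoImplicit false
open Cfsg

namespace Cfsg.Agent.S5744


theorem center_odd {F : Type*} [Field F] [Finite F] {m : ℕ} (h2 : (2 : F) ≠ 0) (hm : 1 ≤ m) :
    Subgroup.center (Omega F (quadFormOdd m F)) = ⊥ := by
  have e : Omega F (Orth.oddQ m F) ≃* commutator (Orth.OG (Orth.oddQ m F)) :=
    ((Orth.toOG _).subgroupMap _).trans (MulEquiv.subgroupCongr Orth.map_Omega)
  change Subgroup.center (Omega F (Orth.oddQ m F)) = ⊥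
  have hd : Module.finrank F (Unit ⊕ (Fin m ⊕ Fin m) → F) = 2 * m + 1 := by simp; ring
  refine eq_bot_iff.2 fun z hz => ?_
  rcases ((Orth.nd_oddQ m h2).mem_center_commutator_iff (Orth.good_of_two_ne_zero h2)
    (by omega) (e z)).1 ((Orth.mem_center_equiv e z).2 hz) with h | h
  · exact e.injective ((Subtype.ext h).trans (map_one e).symm)
  · have h1 := Abelianization.commutator_subset_ker
      (LinearEquiv.det.comp (Orth.OG (Orth.oddQ m F)).subtype) (e z).2
    rw [h] at h1
    have h3 : LinearMap.det ((-1 : F) • (LinearMap.id :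
        (Unit ⊕ (Fin m ⊕ Fin m) → F) →ₗ[F] _)) = 1 := by
      have := congrArg Units.val (MonoidHom.mem_ker.1 h1)
      rw [MonoidHom.comp_apply, LinearEquiv.coe_det] at this
      refine Eq.trans (congrArg _ (LinearMap.ext fun x => ?_)) this
      exact neg_one_smul F x
    rw [LinearMap.det_smul, LinearMap.det_id, hd, pow_succ, pow_mul] at h3
    exact absurd (by linear_combination -h3) h2

/-- The simple group ²E₆(2) (the twisted group of type E₆ over the field with 4 elements) contains at least three pairwise non-conjugate subgroups isomorphic to the orthogonal group Ω₇(3) (the commutator subgroup of the isometry group of x₀² + x₁y₁ + x₂y₂ + x₃y₃ over the field with 3 elements). -/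
theorem result {K : Type*} [Field K] [Fintype K] (hK : Fintype.card K = 4) :
    ∃ H : Fin 3 → Subgroup (Cfsg.Lie.twistedE6 K 2),
      (∀ i, Nonempty ((H i) ≃* Cfsg.Omega (ZMod 3) (Cfsg.quadFormOdd 3 (ZMod 3)))) ∧
      (∀ i j, i ≠ j → ∀ g : (Cfsg.Lie.twistedE6 K 2), (H i).map (MulAut.conj g).toMonoidHom ≠ H j) := by
  have hz := center_odd (F := ZMod 3) (m := 3) (by decide) (by norm_num)
  have q := (QuotientGroup.quotientMulEquivOfEq hz).trans QuotientGroup.quotientBot
  obtain ⟨a⟩ := S2604.result (F := ZMod 3) (p := 3) (f := 1) (m := 3) le_rfl (by simp) (by norm_num) le_rfl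
  obtain ⟨e⟩ := Fischer.F22.K7_iso
  obtain ⟨H, h1, h3⟩ := FE6.main hK (by rw [Nat.card_congr a.toEquiv]; simp) (fun k k1 k2 =>
    Comp.letter_mem_genW (by interval_cases k <;> simp)) e
  exact ⟨H, fun i => (h1 i).map (·.trans q), h3⟩

end Cfsg.Agent.S5744
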