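import Cfsg.Statements.S5748
import Mathlib
import Cfsg.Agent.Ben.AbC
import Cfsg.Agent.GL2.Cent
import Cfsg.Agent.Classical.PSL2Basic
import Cfsg.Agent.RankOne.FieldTwo

set_option autoImplicit false
open Cfsg

namespace Cfsg.Agent.S5748

/-- A finite non-abelian simple group in which commuting is a transitive relation on the non-identity elements (equivalently, every non-identity element has abelian centraliser) is isomorphic to PSL₂ over a field with 2^f elements for some f ≥ 2; conversely these groups have that property. -/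
theorem result {G : Type*} [Group G] [Finite G] [IsSimpleGroup G] (hG : ¬ IsMulCommutative G) :
    (∀ a b c : G, a ≠ 1 → b ≠ 1 → c ≠ 1 → Commute a b → Commute b c → Commute a c) ↔
    ∃ (F : Type) (_ : Field F) (_ : Fintype F) (f : ℕ), 2 ≤ f ∧ Fintype.card F = 2 ^ f ∧ Nonempty (G ≃* Matrix.ProjectiveSpecialLinearGroup (Fin 2) F) := by
  have : Fact (Nat.Prime 2) := ⟨Nat.prime_two⟩
  constructor
  · intro h
    have hA : Ben.AbC G := fun u h1 _ x y hx hy => by
      by_cases hx1 : x = 1
      · rw [hx1, one_mul, mul_one]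
      by_cases hy1 : y = 1
      · rw [hy1, one_mul, mul_one]
      exact h x u y hx1 h1 hy1 hx hy.symm
    have he := Ben.even_of_simple hG
    obtain ⟨P⟩ : Nonempty (Sylow 2 G) := inferInstance
    have hP1 : (P : Subgroup G) ≠ ⊥ := P.ne_bot_of_dvd_card he.two_dvd
    have hP2 : (P : Subgroup G) ≠ ⊤ := fun e =>
      hG ⟨⟨fun x y => hA.sylow_comm he P x (e.ge (Subgroup.mem_top x)) y (e.ge (Subgroup.mem_top y))⟩⟩
    rcases hA.main he with h1 | h1 | ⟨F, _, _, _, O, h4, -, hc, ⟨e⟩⟩
    · have h2 := (h1 P).isComplement' ((Nat.minFac_eq_two_iff _).mpr he.two_dvd)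
      have h3 : ∀ N : Subgroup G, N.Normal → ¬ N.IsComplement' P := fun N hN h2 => by
        rcases hN.eq_bot_or_eq_top with rfl | rfl
        · exact hP2 (Subgroup.isComplement'_bot_left.mp h2)
        · exact hP1 (Subgroup.isComplement'_top_left.mp h2)
      exact absurd h2 (h3 _ (MonoidHom.normal_ker _))
    · exact absurd (h1 P).eq_bot_or_eq_top (not_or.mpr ⟨hP1, hP2⟩)
    · have hO : O = ⊥ := by
        rcases (inferInstance : (Subgroup.center G).Normal).eq_bot_or_eq_top with h3 | h3
        · exact eq_bot_iff.mpr (h3 ▸ hc)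
        · exact absurd ⟨⟨fun x y => Subgroup.mem_center_iff.mp (h3.ge (Subgroup.mem_top y)) x⟩⟩ hG
      subst hO
      obtain ⟨n, -, hn⟩ := FiniteField.card F 2
      refine ⟨F, inferInstance, inferInstance, n, ?_, hn, ⟨(e.trans MulEquiv.prodUnique).trans
        (Classical.PSL2Basic.slEquivPSL CharTwo.two_eq_zero)⟩⟩
      by_contra h5
      have h6 : 2 ^ (n : ℕ) ≤ 2 ^ 1 := Nat.pow_le_pow_right two_pos (by omega)
      omega
  · rintro ⟨F, _, _, f, -, hF, ⟨e⟩⟩ a b c - hb - hab hbc
    have : CharP F 2 := RankOne.charP_of_card_pow Nat.prime_two (by rw [Nat.card_eq_fintype_card, hF])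
    let e' := e.trans (Classical.PSL2Basic.slEquivPSL (F := F) CharTwo.two_eq_zero).symm
    have h1 : ¬ GL2.Sc ((e' b : Matrix.SpecialLinearGroup (Fin 2) F) : Matrix (Fin 2) (Fin 2) F) := by
      intro h
      have h2 := (e' b).det_coe
      rw [Matrix.det_fin_two, h.1, zero_mul, sub_zero, ← h.2.2, mul_self_eq_one_iff, CharTwo.neg_eq,
        or_self] at h2
      refine hb (e'.injective (Subtype.ext ?_))
      rw [h.eq, h2, map_one]
      exact Matrix.one_fin_two.symm
    refine e'.injective (Subtype.ext ?_)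
    rw [map_mul, map_mul]
    exact GL2.comm_comm h1 (congrArg Subtype.val (hab.map e').eq) (congrArg Subtype.val (hbc.symm.map e').eq)

end Cfsg.Agent.S5748
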