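import Mathlib
import Cfsg.Statements.S5847
import Cfsg.Agent.Asch.OMax

set_option autoImplicit false
open Cfsg

namespace Cfsg.Agent.S5847

/-- Every maximal subgroup of Ω_10^+(q) is of one of the listed geometric types or lies in the residual class. Let F be a finite field with q elements (characteristic p), Q a non-degenerate quadratic form on F^10 of plus type (Witt index 5: some totally singular 5-space), Ω the commutator subgroup of its isometry group, and H a maximal subgroup of Ω (inside GL_10(F)). Then H is the intersection with Ω of one of: the stabiliser of a non-zero totally singular subspace of dimension ≠ 4; for q odd, the stabiliser of a non-degenerate subspace of odd dimension ≠ 5; the stabiliser of a non-degenerate 2-space of minus type; for q ≥ 4, the stabiliser of a non-degenerate 2-space of plus type; the stabiliser of a non-degenerate 4-space; for q even, the stabiliser of the span of a non-singular vector; for q = p prime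 with p ≡ 1 mod 4, the stabiliser of a decomposition into 10 pairwise orthogonal, pairwise isometric non-degenerate 1-spaces; for q ≥ 7, the stabiliser of a decomposition into 5 pairwise orthogonal, pairwise isometric non-degenerate 2-spaces; for q ≡ 1 mod 4, the stabiliser of a decomposition into 2 pairwise orthogonal, pairwise isometric non-degenerate 5-spaces; for q ≡ 3 mod 4, the stabiliser of a decomposition into two orthogonal, non-isometric non-degenerate 5-spaces; for q odd, the normaliser of a degree-2 subfield of the matrix algebra, self-adjoint for the polar form; a subfield group (|F| = |F₀|^r, r prime) whose F₀-structure carries a non-zero multiple of Q — or else H lies in the residual class of the orthogonal case (modulo scalars H is almost simple, with absolutely irreducible perfect socle preimage realisable over no proper subfield and fixing no non-degenerate unitary form). -/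
theorem result {F : Type*} [Field F] [Fintype F] (Q : (Fin 10 → F) → F) (hQ : Cfsg.Geo.IsNondegenerateQuadraticForm Q) (hplus : Cfsg.Geo.IsPlusTypeOn Q ⊤) (H : Subgroup (Matrix.GeneralLinearGroup (Fin 10) F)) (hH : Cfsg.Geo.IsMaximalIn (Cfsg.Geo.omegaGL Q) H) :
    (∃ W : Submodule F (Fin 10 → F), W ≠ ⊥ ∧ Cfsg.Geo.IsTotallySingularQuad Q W ∧ Module.finrank F W ≠ 4 ∧ H = Cfsg.Geo.subspaceStabilizer W ⊓ Cfsg.Geo.omegaGL Q) ∨
    (Odd (Fintype.card F) ∧ ∃ W : Submodule F (Fin 10 → F), W ≠ ⊥ ∧ W ≠ ⊤ ∧ Odd (Module.finrank F W) ∧ 2 * Module.finrank F W ≠ 10 ∧ Cfsg.Geo.IsNondegenerateOn (QuadraticMap.polar Q) W ∧ H = Cfsg.Geo.subspaceStabilizer W ⊓ Cfsg.Geo.omegaGL Q) ∨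
    (∃ W : Submodule F (Fin 10 → F), Module.finrank F W = 2 ∧ Cfsg.Geo.IsNondegenerateOn (QuadraticMap.polar Q) W ∧ ¬ Cfsg.Geo.IsPlusTypeOn Q W ∧ H = Cfsg.Geo.subspaceStabilizer W ⊓ Cfsg.Geo.omegaGL Q) ∨
    (4 ≤ Fintype.card F ∧ ∃ W : Submodule F (Fin 10 → F), Module.finrank F W = 2 ∧ Cfsg.Geo.IsNondegenerateOn (QuadraticMap.polar Q) W ∧ Cfsg.Geo.IsPlusTypeOn Q W ∧ H = Cfsg.Geo.subspaceStabilizer W ⊓ Cfsg.Geo.omegaGL Q) ∨
    (∃ W : Submodule F (Fin 10 → F), Module.finrank F W = 4 ∧ Cfsg.Geo.IsNondegenerateOn (QuadraticMap.polar Q) W ∧ H = Cfsg.Geo.subspaceStabilizer W ⊓ Cfsg.Geo.omegaGL Q) ∨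
    (¬ Odd (Fintype.card F) ∧ ∃ v : (Fin 10 → F), Q v ≠ 0 ∧ H = Cfsg.Geo.subspaceStabilizer (Submodule.span F {v}) ⊓ Cfsg.Geo.omegaGL Q) ∨
    ((∃ p : ℕ, p.Prime ∧ Fintype.card F = p ∧ (p % 4 = 1)) ∧ ∃ D : Fin 10 → Submodule F (Fin 10 → F), Cfsg.Geo.IsOrthogonalMDecomposition Q 1 D ∧ H = Cfsg.Geo.decompositionStabilizer D ⊓ Cfsg.Geo.omegaGL Q) ∨
    (7 ≤ Fintype.card F ∧ ∃ D : Fin 5 → Submodule F (Fin 10 → F), Cfsg.Geo.IsOrthogonalMDecomposition Q 2 D ∧ H = Cfsg.Geo.decompositionStabilizer D ⊓ Cfsg.Geo.omegaGL Q) ∨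
    (Fintype.card F % 4 = 1 ∧ ∃ D : Fin 2 → Submodule F (Fin 10 → F), Cfsg.Geo.IsOrthogonalMDecomposition Q 5 D ∧ H = Cfsg.Geo.decompositionStabilizer D ⊓ Cfsg.Geo.omegaGL Q) ∨
    (Fintype.card F % 4 = 3 ∧ ∃ D : Fin 2 → Submodule F (Fin 10 → F), Cfsg.Geo.IsNondegenerateMDecomposition (QuadraticMap.polar Q) 5 D ∧ ¬ Cfsg.Geo.AreIsometricFor Q (D 0) (D 1) ∧ H = Cfsg.Geo.decompositionStabilizer D ⊓ Cfsg.Geo.omegaGL Q) ∨
    (Odd (Fintype.card F) ∧ ∃ K : Subalgebra F (Matrix (Fin 10) (Fin 10) F), Cfsg.Geo.IsFieldSubalgebra 2 K ∧ Cfsg.Geo.IsSelfAdjointFor (QuadraticMap.polar Q) K ∧ H = Cfsg.Geo.subalgebraNormalizer K ⊓ Cfsg.Geo.omegaGL Q) ∨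
    (∃ (F₀ : Subfield F) (r : ℕ) (P : Matrix.GeneralLinearGroup (Fin 10) F) (ζ : F), r.Prime ∧ Fintype.card F = Nat.card F₀ ^ r ∧ ζ ≠ 0 ∧ Cfsg.Geo.IsQuadFormRationalStructure (fun v : Fin 10 → F => ζ * Q v) F₀ P ∧ H = Cfsg.Geo.subfieldSubgroup F₀ P ⊓ Cfsg.Geo.omegaGL Q) ∨
    Cfsg.Geo.InOrthogonalResidualClass H := by
  obtain ⟨J, hJ⟩ := Asch.exists_QJ hQ
  have hn : Fintype.card (Fin 10) = 2 * 5 := by simp
  have hq := Asch.two_le_card (F := F)
  rcases Asch.o_max hJ (by omega) hH with ⟨M, h, rfl⟩ | ⟨k, t, h1, h2, h3, h4⟩ | h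
  rotate_left
  · obtain ⟨j, rfl⟩ := h1
    rcases h2.eq_or_lt with rfl | h2
    · have := Nat.le_of_dvd (by omega) (h3 ▸ dvd_pow_self (j + j) two_ne_zero)
      have : j ≤ 5 := by omega
      interval_cases j <;> omega
    · have hj : j ≠ 0 := by rintro rfl; simp [show t ≠ 0 by omega] at h3
      have := Asch.pow_eq_le_twelve' (by omega) h2 h3 (by omega)
      omega
  · exact .inr <| .inr <| .inr <| .inr <| .inr <| .inr <| .inr <| .inr <| .inr <| .inr <| .inr <| .inr <| h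
  rw [hJ.polar_eq]
  simp only [Asch.OCls, hn] at h
  rcases h with ⟨W, h1, h2, rfl⟩ | ⟨W, h1, h2, h3, h4, rfl⟩ | ⟨v, h1, h2, rfl⟩ |
    ⟨t, D, h1, h2, h3, rfl⟩ | ⟨t, k, D, h1, h2, h3, h4, h5, h6, rfl⟩ | ⟨k, D, h1, h2, rfl⟩ |
    ⟨r, K, h1, h2, h3, h4, h5, h6, rfl⟩ | ⟨K, h1, h2, h3, h4, rfl⟩ |
    ⟨a, b, e, P, f₁, f₂, h1, h2, h3, h4, h5, h6, h7, h8, h9, rfl⟩ |
    ⟨a, b, e, P, f₁, f₂, h1, h2, h3, h4, h5, h6, h7, h8, h9, h10, rfl⟩ |
    ⟨F₀, r, P, ζ, h1, h2, h3, h4, rfl⟩ | ⟨k, t, e, P, f₁, h1, h2, h3, h4, h5, h6, rfl⟩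
  · exact .inl ⟨W, h1, h2, fun e => hJ.not_parab (by omega) hplus hH h2 (by omega), rfl⟩
  · have h5 := (Submodule.finrank_eq_zero (R := F)).not.2 h1
    have h6 : W ≠ ⊤ := by rintro rfl; simp at h3
    rcases Nat.even_or_odd (Module.finrank F W) with he | he
    · obtain h7 | h7 : Module.finrank F W = 2 ∨ Module.finrank F W = 4 := by
        obtain ⟨j, hj⟩ := he; omega
      · by_cases h8 : Geo.IsPlusTypeOn Q W
        · exact .inr <| .inr <| .inr <| .inl ⟨hJ.four_le (by omega) hH h7 (hJ.polar_eq ▸ h2) h8, W, h7, h2, h8, rfl⟩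
        · exact .inr <| .inr <| .inl ⟨W, h7, h2, h8, rfl⟩
      · exact .inr <| .inr <| .inr <| .inr <| .inl ⟨W, h7, h2, rfl⟩
    · have ho := hJ.odd_of_nd h2 he
      by_cases h7 : Module.finrank F W = 5
      swap
      · exact .inr <| .inl ⟨ho, W, h1, h6, he, by omega, h2, rfl⟩
      obtain ⟨h8, h9⟩ := hJ.half (by omega) hH h1 h2 h7 hn.symm
      have := hJ.plus_iff_mod ho hn
      rw [← hJ.isometric_iff_disc (Asch.odd_card_iff.1 ho) h8] at this
      have h10 := h4 (by omega)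
      refine .inr <| .inr <| .inr <| .inr <| .inr <| .inr <| .inr <| .inr <| .inr <| .inl ⟨?_, _, h8, h10, h9⟩
      obtain ⟨j, hj⟩ := ho
      simp [hplus, h10, (by decide : ¬ Even 5)] at this
      omega
  · exact .inr <| .inr <| .inr <| .inr <| .inr <| .inl ⟨h1, v, h2, rfl⟩
  · obtain rfl : t = 10 := by
      have := Asch.IsMDecomposition.card_eq h3.decomp.decomp; omega
    have := hJ.plus_iff_mod h2 hn
    simp [hplus, hJ.isSquare_dec h3 (by decide), (by decide : ¬ Even 5)] at this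
    exact .inr <| .inr <| .inr <| .inr <| .inr <| .inr <| .inl ⟨⟨_, h1, rfl, by obtain ⟨j, hj⟩ := h2; omega⟩, D, h3, rfl⟩
  · have hc := Asch.IsMDecomposition.card_eq h2.decomp.decomp
    have := h2.decomp.decomp.two_le
    have := Nat.le_of_dvd (by omega) (Dvd.intro t hc.symm)
    rw [hn] at hc this
    obtain ⟨rfl, rfl⟩ | ⟨rfl, rfl⟩ : (k = 2 ∧ t = 5) ∨ (k = 5 ∧ t = 2) := by
      interval_cases k <;> omega
    · have h7 := hJ.plus_dec h2 (by decide)
      simp only [hplus, (by decide : ¬ Even 5), or_false, true_iff] at h7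
      exact .inr <| .inr <| .inr <| .inr <| .inr <| .inr <| .inr <| .inl ⟨h3 rfl h7, D, h2, rfl⟩
    · have ho := hJ.odd_of_dec h2 (by decide)
      have := hJ.plus_iff_mod ho hn
      simp [hplus, hJ.isSquare_dec h2 (by decide), (by decide : ¬ Even 5)] at this
      exact .inr <| .inr <| .inr <| .inr <| .inr <| .inr <| .inr <| .inr <| .inl ⟨by obtain ⟨j, hj⟩ := ho; omega, D, h2, rfl⟩
  · obtain rfl : k = 5 := by have := Asch.IsMDecomposition.card_eq h1; omega
    exact absurd hH (Asch.not_max_of_between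
      (Max.not_max_om_lag hJ.nd le_rfl hn.symm (by decide) h1 h2))
  · have h7 := Asch.IsFieldSubalgebra.dvd_card h2
    rw [hn] at h7
    have := Nat.le_of_dvd (by omega) h7
    obtain rfl : r = 2 := by
      interval_cases r <;> first | omega | exact absurd h1 (by norm_num)
    · exact .inr <| .inr <| .inr <| .inr <| .inr <| .inr <| .inr <| .inr <| .inr <| .inr <| .inl ⟨by_contra fun e => absurd (h6 e) (by decide), K, h2, h3, rfl⟩
  · exact absurd (hJ.even_of_field h1 h4 hplus) (by decide)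
  · have hc : 10 = a * b := by simpa using Fintype.card_congr e
    have := Nat.le_of_dvd (by omega) (Dvd.intro b hc.symm)
    interval_cases a <;> omega
  · have hc : 10 = a * b := by simpa using Fintype.card_congr e
    have := Nat.le_of_dvd (by omega) (Dvd.intro b hc.symm)
    obtain ⟨rfl, rfl⟩ : a = 2 ∧ b = 5 := by
      obtain ⟨j, hj⟩ := h3
      interval_cases a <;> omega
    exact absurd h4 (by decide)
  · exact .inr <| .inr <| .inr <| .inr <| .inr <| .inr <| .inr <| .inr <| .inr <| .inr <| .inr <| .inl ⟨F₀, r, P, ζ, h1, h2, h3, h4, rfl⟩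
  · obtain ⟨rfl, rfl, h7⟩ := Asch.pow_eq_le_twelve h2 h3 (n := 10) (by
      simpa using Fintype.card_congr e) (by norm_num)
    omega

end Cfsg.Agent.S5847
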