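import Mathlib
import Cfsg.Statements.S5895


set_option autoImplicit false
open Cfsg

namespace Cfsg.Agent.S5895

theorem not_isCoatom {G : Type*} [Group G] {H L K : Subgroup G} (h1 : H < L) (h2 : L < K) :
    ¬ IsCoatom (H.subgroupOf K) := fun h => by
  obtain ⟨g, hg, hg'⟩ := SetLike.exists_of_lt h1
  exact h2.not_ge (Subgroup.subgroupOf_eq_top.mp (h.2 _ (lt_of_le_of_ne
    (Subgroup.comap_mono h1.le) fun e => hg' ((SetLike.ext_iff.mp e ⟨g, h2.le hg⟩).mpr hg))))

theorem aux (F V : Type) [Field F] [AddCommGroup V] [Module F V] [Finite V]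
    (hV : 2 ≤ Module.finrank F V) :
    ∃ (G : Type) (_ : Group G) (_ : Finite G) (M H K : Subgroup G), IsCoatom M ∧
      M.index = Nat.card V ∧ H ≤ M ∧ IsCoatom (H.subgroupOf M) ∧ IsCoatom K ∧ H ≤ K ∧
      ¬ IsCoatom (H.subgroupOf K) := by
  have : Nontrivial V := Module.nontrivial_of_finrank_pos (R := F) (by omega)
  obtain ⟨w, hw⟩ := exists_ne (0 : V)
  obtain ⟨v, hv⟩ : ∃ v, v ∉ F ∙ w := by
    by_contra h
    push Not at h
    have := finrank_span_singleton (K := F) hw
    rw [Submodule.eq_top_iff'.mpr h, finrank_top] at this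
    omega
  have hv0 : v ≠ 0 := by
    rintro rfl
    simp at hv
  have : Nontrivial (Projectivization F V) := ⟨.mk F w hw, .mk F v hv0, fun e => by
    obtain ⟨a, ha⟩ := (Projectivization.mk_eq_mk_iff' F _ _ _ _).mp e.symm
    exact hv (Submodule.mem_span_singleton.mpr ⟨a, ha⟩)⟩
  have := MulAction.isPreprimitive_of_is_two_pretransitive
    (Projectivization.linearEquiv_is_two_pretransitive (K := F) (V := V))
  have hS := MulAction.IsPreprimitive.isCoatom_stabilizer_of_isPreprimitive (V ≃ₗ[F] V)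
    (Projectivization.mk F w hw)
  generalize hS' : MulAction.stabilizer (V ≃ₗ[F] V) (Projectivization.mk F w hw) = S at hS
  have hS2 : ∀ g ∈ S, g w ∈ F ∙ w := fun g hg => by
    rw [← hS', MulAction.mem_stabilizer_iff, Projectivization.smul_mk] at hg
    obtain ⟨a, ha⟩ := (Projectivization.mk_eq_mk_iff' F _ _ _ _).mp hg
    exact Submodule.mem_span_singleton.mpr ⟨a, ha⟩
  letI : MulAction (V ≃ᵃ[F] V) V := { smul g v := g v, one_smul _ := rfl, mul_smul _ _ _ := rfl }
  have hs : ∀ (g : V ≃ᵃ[F] V) (v : V), g • v = g v := fun _ _ => rfl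
  have key : ∀ (g : V ≃ᵃ[F] V) (v : V), g v = g.linear v + g 0 := fun g v => by
    simpa using g.map_vadd 0 v
  have : MulAction.IsPretransitive (V ≃ᵃ[F] V) V :=
    ⟨fun x y => ⟨AffineEquiv.constVAdd F V (y - x), by simp [hs]⟩⟩
  let L : Subgroup (V ≃ᵃ[F] V) :=
    { carrier := {g | g.linear ∈ S ∧ g 0 ∈ F ∙ w}
      one_mem' := ⟨one_mem S, zero_mem _⟩
      mul_mem' := fun {g h} hg hh => ⟨mul_mem hg.1 hh.1, by
        obtain ⟨a, ha⟩ := Submodule.mem_span_singleton.mp hh.2
        change g (h 0) ∈ _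
        rw [key, ← ha, map_smul]
        exact add_mem (Submodule.smul_mem _ _ (hS2 _ hg.1)) hg.2⟩
      inv_mem' := fun {g} hg => ⟨inv_mem hg.1, by
        obtain ⟨a, ha⟩ := Submodule.mem_span_singleton.mp hg.2
        have := key g⁻¹ (g 0)
        rw [show g⁻¹ (g 0) = 0 from g.symm_apply_apply 0, eq_comm, add_eq_zero_iff_neg_eq,
          ← ha, map_smul] at this
        exact this ▸ neg_mem (Submodule.smul_mem _ _ (hS2 _ (inv_mem hg.1)))⟩ }
  refine ⟨V ≃ᵃ[F] V, inferInstance, Finite.of_injective _ DFunLike.coe_injective,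
    MulAction.stabilizer _ (0 : V), MulAction.stabilizer _ (0 : V) ⊓ S.comap AffineEquiv.linearHom,
    S.comap AffineEquiv.linearHom, ⟨fun e => hw ?_, fun N hN => eq_top_iff.mpr fun g _ => ?_⟩,
    MulAction.index_stabilizer_of_transitive _ _, inf_le_left, ?_,
    Subgroup.isCoatom_comap_of_surjective (fun g => ⟨g.toAffineEquiv, rfl⟩) hS, inf_le_right,
    not_isCoatom (L := L) (lt_of_le_of_ne (fun g hg => ⟨hg.2, ?_⟩) fun e => hw ?_)
      (lt_of_le_of_ne (fun g hg => hg.1) fun e => hv ?_)⟩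
  · simpa [hs] using (SetLike.ext_iff.mp e (AffineEquiv.constVAdd F V w)).mpr trivial
  · obtain ⟨k, hk, hk'⟩ := SetLike.exists_of_lt hN
    replace hk' : k 0 ≠ 0 := hk'
    by_cases hg : g 0 = 0
    · exact hN.le hg
    obtain ⟨l, hl⟩ := MulAction.exists_smul_eq (V ≃ₗ[F] V) (Projectivization.mk F (k 0) hk')
      (Projectivization.mk F (g 0) hg)
    rw [Projectivization.smul_mk] at hl
    obtain ⟨a, ha⟩ := (Projectivization.mk_eq_mk_iff F _ _ _ _).mp hl.symm
    have h1 : (l.trans (LinearEquiv.smulOfUnit a)).toAffineEquiv ∈ N := hN.le (by simp [hs])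
    have h2 : ((l.trans (LinearEquiv.smulOfUnit a)).toAffineEquiv * k)⁻¹ * g ∈ N := hN.le (by
      change ((l.trans (LinearEquiv.smulOfUnit a)).toAffineEquiv * k).symm (g 0) = (0 : V)
      rw [← ha]
      exact AffineEquiv.symm_apply_apply _ 0)
    exact (mul_mem_cancel_left (inv_mem (mul_mem h1 hk))).mp h2
  · rw [Subgroup.inf_subgroupOf_left, Subgroup.subgroupOf, Subgroup.comap_comap]
    exact Subgroup.isCoatom_comap_of_surjective
      (fun g => ⟨⟨g.toAffineEquiv, by simp [hs]⟩, rfl⟩) hS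
  · exact (show g 0 = 0 from hg.1).symm ▸ zero_mem _
  · simpa [hs] using ((SetLike.ext_iff.mp e (AffineEquiv.constVAdd F V w)).mpr
      (And.intro (one_mem S) (by simp))).1
  · simpa using ((SetLike.ext_iff.mp e (AffineEquiv.constVAdd F V v)).mpr (one_mem S)).2

/-- For every prime p and every d ≥ 2 there is a finite group G with a maximal subgroup M of index p^d and a maximal subgroup H of M that is not second maximal in G: some maximal subgroup K of G contains H without H being maximal in K. (One may take G the affine group V ⋊ GL(V) of V = 𝔽_p^d, M = GL(V), H the stabiliser in M of a line W of V, and K = V ⋊ H, with H < W ⋊ H < K.) So the prime-index hypothesis in the second-maximality criterion cannot be relaxed to prime-power index. -/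
theorem result (p d : ℕ) (hp : p.Prime)
    (hd : 2 ≤ d) :
    ∃ (G : Type) (_ : Group G) (_ : Finite G) (M H K : Subgroup G), IsCoatom M ∧ M.index = p ^ d ∧ H ≤ M ∧
      IsCoatom (H.subgroupOf M) ∧ IsCoatom K ∧ H ≤ K ∧ ¬ IsCoatom (H.subgroupOf K) := by
  have : Fact p.Prime := ⟨hp⟩
  simpa using aux (ZMod p) (Fin d → ZMod p) (by simpa using hd)

end Cfsg.Agent.S5895
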