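import Mathlib
import Cfsg.Statements.S5910
import Cfsg.Agent.Max.Wr
import Cfsg.Agent.S5895

set_option autoImplicit false
open Cfsg

namespace Cfsg.Agent.S5910

open Equiv Equiv.Perm

/-- The affine group of an elementary abelian `2`-group. -/
def Aff (A : Type) [AddCommGroup A] : Subgroup (Perm A) where
  carrier := {g | ∀ x y z, g (x + y + z) = g x + g y + g z}
  one_mem' := fun _ _ _ => rfl
  mul_mem' := fun {g h} hg hh x y z => by simp only [Perm.mul_apply, hh x, hg (h x)]
  inv_mem' := fun {g} hg x y z => g.injective (by rw [hg]; simp)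

theorem mem_Aff {g : Perm ((ZMod 2 × ZMod 2) × ZMod 2)} (h : g ∈ Max.PS Prod.fst)
    (h' : sign g = 1) : g ∈ Aff _ := by
  have h1 : Function.Injective fun i => (g (i, 0)).1 := fun i j e => (h (i, 0) (j, 0)).mpr e
  have h2 : ∀ x, g x = ((g (x.1, 0)).1, x.2 + (g (x.1, 0)).2) := fun ⟨i, c⟩ => by
    have h3 : (g (i, c)).1 = (g (i, 0)).1 := (h (i, c) (i, 0)).mp rfl
    have h4 : (g (i, c)).2 = (g (i, 0)).2 → c = 0 := fun e =>
      congrArg Prod.snd (g.injective (Prod.ext h3 e))
    have h5 : ∀ c x y : ZMod 2, (x = y → c = 0) → c ≠ 0 → x = c + y := by decide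
    by_cases hc : c = 0
    · simp [hc]
    · exact Prod.ext h3 (h5 _ _ _ h4 hc)
  have h3 : g = (prodCongrLeft fun _ => Equiv.ofBijective _ h1.bijective_of_finite) *
      prodCongrRight fun i => Equiv.addRight (g (i, 0)).2 := Equiv.ext fun x => h2 x
  rw [h3, map_mul, sign_prodCongrLeft, sign_prodCongrRight, Finset.prod_const,
    show (Finset.univ : Finset (ZMod 2)).card = 2 from rfl, Int.units_sq, one_mul] at h'
  have h4 : ∀ ε : ZMod 2 × ZMod 2 → ZMod 2, ∏ i, sign (Equiv.addRight (ε i)) = 1 →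
      ∀ x y z, ε (x + y + z) = ε x + ε y + ε z := by decide +kernel
  have h5 : ∀ σ : ZMod 2 × ZMod 2 → ZMod 2 × ZMod 2, Function.Injective σ →
      ∀ x y z, σ (x + y + z) = σ x + σ y + σ z := by decide +kernel
  intro x y z
  rw [h2, h2 x, h2 y, h2 z]
  refine Prod.ext (h5 _ h1 _ _ _) ?_
  simp only [Prod.fst_add, Prod.snd_add, h4 _ h' x.1]
  ring

/-- Let Ω be a set with 8 elements and f : Ω → Fin 4 a labelling whose four fibres all have size 2 (a partition of the 8 points into 4 pairs). Then the group of even permutations preserving this partition, (S₂ ≀ S₄) ∩ A₈, is not a maximal subgroup of the alternating group A₈ (it lies in a subgroup isomorphic to the affine group AGL₃(2)). -/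
theorem result {Ω : Type*} [Fintype Ω] [DecidableEq Ω] (h8 : Fintype.card Ω = 8)
    (f : Ω → Fin 4) (hf : ∀ i : Fin 4, Nat.card {x : Ω // f x = i} = 2) :
    ¬ IsCoatom ((Subgroup.closure {g : Equiv.Perm Ω | ∀ x y : Ω, f x = f y ↔ f (g x) = f (g y)} ⊓ alternatingGroup Ω).subgroupOf (alternatingGroup Ω)) := by
  obtain ⟨φ⟩ : Nonempty (ZMod 2 × ZMod 2 ≃ Fin 4) := ⟨Fintype.equivFinOfCardEq rfl⟩
  have h1 : ∀ i, Nonempty ({x // f x = i} ≃ {x : (ZMod 2 × ZMod 2) × ZMod 2 // φ x.1 = i}) :=
    fun i => Finite.card_eq.mp (by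
      obtain ⟨i, rfl⟩ := φ.surjective i
      simp only [hf, φ.apply_eq_iff_eq, Nat.card_eq_fintype_card]
      revert i
      decide)
  let e := Equiv.ofFiberEquiv (g := fun x : (ZMod 2 × ZMod 2) × ZMod 2 => φ x.1) fun i => (h1 i).some
  have he : ∀ x, φ (e x).1 = f x := Equiv.ofFiberEquiv_map fun i => (h1 i).some
  have h2 : ∀ g, g ∈ Max.PS f ↔ e.permCongr g ∈ Max.PS Prod.fst := fun g => by
    refine e.forall₂_congr e fun {x y} => ?_
    simp [← he]
  rw [Max.closure_PS]
  refine S5895.not_isCoatom (L := (Aff _).comap e.permCongrHom.toMonoidHom ⊓ alternatingGroup Ω)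
    (lt_of_le_of_ne (fun g hg => ⟨mem_Aff ((h2 g).mp hg.1) (by simpa using hg.2), hg.2⟩) fun h => ?_)
    (lt_of_le_of_ne inf_le_right fun h => ?_)
  · have := ((SetLike.ext_iff.mp h (e.symm.permCongr (swap ((0, 1), 0) ((0, 0), 1) *
      swap ((1, 1), 0) ((1, 0), 1)))).mpr ⟨?_, ?_⟩).1
    · replace this := (h2 _).mp this
      rw [← Equiv.permCongr_symm, Equiv.apply_symm_apply] at this
      exact absurd (this ((0, 0), 0) ((0, 0), 1)) (by decide)
    · change e.permCongr _ ∈ Aff _
      rw [← Equiv.permCongr_symm, Equiv.apply_symm_apply]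
      change ∀ x y z, _
      decide +kernel
    · refine mem_alternatingGroup.mpr ?_
      rw [sign_permCongr]
      decide
  · have := ((SetLike.ext_iff.mp h (e.symm.permCongr (swap ((0, 0), 0) ((0, 0), 1) *
      swap ((0, 0), 0) ((0, 1), 0)))).mpr ?_).1
    · change e.permCongr _ ∈ Aff _ at this
      rw [← Equiv.permCongr_symm, Equiv.apply_symm_apply] at this
      exact absurd (this ((1, 0), 0) ((1, 0), 1) ((0, 0), 0)) (by decide)
    · rw [mem_alternatingGroup, sign_permCongr]
      decide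

end Cfsg.Agent.S5910
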