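import Mathlib
import Cfsg.Statements.S5912
import Cfsg.Agent.Max.SymIdx

set_option autoImplicit false
open Cfsg

namespace Cfsg.Agent.S5912

theorem map_conj_stab {Ω : Type*} (g : Equiv.Perm Ω) (x : Ω) :
    (MulAction.stabilizer (Equiv.Perm Ω) x).map (MulAut.conj g).toMonoidHom =
      MulAction.stabilizer (Equiv.Perm Ω) (g x) :=
  (MulAction.stabilizer_smul_eq_stabilizer_map_conj g x).symm

theorem map_conj_map {G G' : Type*} [Group G] [Group G'] (e : G ≃* G') (g : G) (H : Subgroup G) :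
    (H.map (e : G →* G')).map (MulAut.conj (e g)).toMonoidHom =
      (H.map (MulAut.conj g).toMonoidHom).map (e : G →* G') := by
  rw [Subgroup.map_map, Subgroup.map_map]
  congr 1
  ext x
  simp

/-- The symmetric group on a 6-element set Ω has exactly two conjugacy classes of subgroups of index 6: there are two non-conjugate subgroups of index 6 (a point stabilizer and a transitive subgroup isomorphic to S₅), and every subgroup of index 6 is conjugate to one of them. -/
theorem result {Ω : Type*} [Fintype Ω] [DecidableEq Ω] (h6 : Fintype.card Ω = 6) :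
    ∃ H₁ H₂ : Subgroup (Equiv.Perm Ω), H₁.index = 6 ∧ H₂.index = 6 ∧
      (¬ ∃ g : Equiv.Perm Ω, Subgroup.map (MulAut.conj g).toMonoidHom H₁ = H₂) ∧
      ∀ H : Subgroup (Equiv.Perm Ω), H.index = 6 →
        ∃ g : Equiv.Perm Ω, Subgroup.map (MulAut.conj g).toMonoidHom H₁ = H ∨ Subgroup.map (MulAut.conj g).toMonoidHom H₂ = H := by
  obtain ⟨α, h1, h2⟩ := Max.exists_outer
  obtain ⟨e⟩ : Nonempty (Equiv.Perm (Fin 6) ≃* Equiv.Perm Ω) :=
    ⟨(Fintype.equivFinOfCardEq h6).symm.permCongrHom⟩
  have h3 : ∀ x : Fin 6, (MulAction.stabilizer (Equiv.Perm (Fin 6)) x).index = 6 := fun x => by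
    simp [MulAction.index_stabilizer_of_transitive]
  refine ⟨(MulAction.stabilizer (Equiv.Perm (Fin 6)) (0 : Fin 6)).map (e : Equiv.Perm (Fin 6) →* Equiv.Perm Ω),
    ((MulAction.stabilizer (Equiv.Perm (Fin 6)) (0 : Fin 6)).map (α : Equiv.Perm (Fin 6) →* Equiv.Perm (Fin 6))).map (e : Equiv.Perm (Fin 6) →* Equiv.Perm Ω),
    (Subgroup.index_map_equiv _ e).trans (h3 0), (Subgroup.index_map_equiv _ e).trans
      ((Subgroup.index_map_equiv _ α).trans (h3 0)), fun ⟨g, hg⟩ => ?_, fun H hH => ?_⟩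
  · obtain ⟨g, rfl⟩ := e.surjective g
    rw [map_conj_map, map_conj_stab] at hg
    exact Max.map_stab_ne h1 h2 _ _ (Subgroup.map_injective e.injective hg).symm
  · obtain ⟨x, h⟩ := Max.index_six h1 (H := H.comap (e : Equiv.Perm (Fin 6) →* Equiv.Perm Ω))
      (by rwa [Subgroup.index_comap_of_surjective _ e.surjective])
    rw [← Subgroup.map_comap_eq_self_of_surjective (f := (e : Equiv.Perm (Fin 6) →* Equiv.Perm Ω)) e.surjective H]
    rcases h with h | h
    · exact ⟨e (Equiv.swap 0 x), Or.inl (by rw [map_conj_map, map_conj_stab, h]; simp)⟩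
    · exact ⟨e (α (Equiv.swap 0 x)), Or.inr (by
        rw [map_conj_map, map_conj_map, map_conj_stab, h]; simp)⟩

end Cfsg.Agent.S5912
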